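import Mathlib
import Cfsg.Prelude.Def_Transfer

set_option autoImplicit false

namespace Cfsg.Agent.Helper9

open Subgroup

variable {G : Type*} [Group G]

/-- elements of order prime to `p` lie in `O^p(G)`. -/
theorem mem_pResidual_of_coprime (p : ℕ) {g : G} (hg : Nat.Coprime (orderOf g) p) :
    g ∈ Cfsg.pResidual p G :=
  Subgroup.subset_closure hg

/-- `O^p(G)` is a characteristic subgroup. -/
instance pResidual_characteristic (p : ℕ) : (Cfsg.pResidual p G).Characteristic := by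
  rw [characteristic_iff_map_le]
  intro ϕ
  unfold Cfsg.pResidual
  rw [MonoidHom.map_closure]
  apply Subgroup.closure_mono
  rintro _ ⟨g, hg, rfl⟩
  change Nat.Coprime (orderOf (ϕ g)) p
  have h1 : orderOf (ϕ g) = orderOf g := MulEquiv.orderOf_eq ϕ g
  rw [h1]
  exact hg

instance pResidual_normal (p : ℕ) : (Cfsg.pResidual p G).Normal := inferInstance

/-- `O^p(G)` is contained in every normal subgroup with `p`-group quotient. -/
theorem pResidual_le_of_isPGroup_quotient {p : ℕ} [Fact p.Prime] (N : Subgroup G) [N.Normal]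
    (hN : IsPGroup p (G ⧸ N)) : Cfsg.pResidual p G ≤ N := by
  unfold Cfsg.pResidual
  rw [Subgroup.closure_le]
  intro g hg
  change Nat.Coprime (orderOf g) p at hg
  obtain ⟨k, hk⟩ := hN (g : G ⧸ N)
  have h1 : orderOf (g : G ⧸ N) ∣ p ^ k := orderOf_dvd_of_pow_eq_one hk
  have h2 : orderOf (g : G ⧸ N) ∣ orderOf g := orderOf_map_dvd (QuotientGroup.mk' N) g
  have h3 : orderOf (g : G ⧸ N) = 1 :=
    Nat.eq_one_of_dvd_coprimes (Nat.Coprime.pow_right k hg) h2 h1
  rw [orderOf_eq_one_iff, QuotientGroup.eq_one_iff] at h3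
  exact h3

/-- `G / O^p(G)` is a `p`-group (elements of finite order). -/
theorem isPGroup_quotient_pResidual [Finite G] (p : ℕ) [Fact p.Prime] :
    IsPGroup p (G ⧸ Cfsg.pResidual p G) := by
  intro x
  obtain ⟨g, rfl⟩ := QuotientGroup.mk_surjective x
  have hpos : 0 < orderOf g := orderOf_pos g
  obtain ⟨k, m, hm, hkm⟩ := Nat.exists_eq_pow_mul_and_not_dvd hpos.ne' p (Fact.out : p.Prime).ne_one
  refine ⟨k, ?_⟩
  rw [← QuotientGroup.mk_pow, QuotientGroup.eq_one_iff]
  apply mem_pResidual_of_coprime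
  have h1 : orderOf (g ^ p ^ k) = m := by
    rw [orderOf_pow' g (pow_ne_zero k (Fact.out : p.Prime).ne_zero), hkm,
      Nat.gcd_eq_right (Dvd.intro _ rfl), Nat.mul_div_cancel_left _ (pow_pos (Fact.out : p.Prime).pos k)]
  rw [h1]
  exact ((Fact.out : p.Prime).coprime_iff_not_dvd.mpr hm).symm

/-- A Sylow `p`-subgroup together with `O^p(G)` generates `G`. -/
theorem sylow_sup_pResidual [Finite G] {p : ℕ} [Fact p.Prime] (P : Sylow p G) :
    (P : Subgroup G) ⊔ Cfsg.pResidual p G = ⊤ := by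
  rw [← Subgroup.index_eq_one]
  have h1 : ((P : Subgroup G) ⊔ Cfsg.pResidual p G).index ∣ (P : Subgroup G).index :=
    Subgroup.index_dvd_of_le le_sup_left
  have h2 : ((P : Subgroup G) ⊔ Cfsg.pResidual p G).index ∣ (Cfsg.pResidual p G).index :=
    Subgroup.index_dvd_of_le le_sup_right
  obtain ⟨k, hk⟩ := IsPGroup.iff_card.mp (isPGroup_quotient_pResidual (G := G) p)
  rw [← Subgroup.index_eq_card] at hk
  rw [hk] at h2
  have h3 : Nat.Coprime ((P : Subgroup G).index) (p ^ k) :=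
    Nat.Coprime.pow_right k ((Fact.out : p.Prime).coprime_iff_not_dvd.mpr P.not_dvd_index).symm
  exact Nat.eq_one_of_dvd_coprimes h3 h1 h2

/-- If `G = H ⊔ N` with `N` normal and `H` commutative then `G' ≤ N`. -/
theorem commutator_le_of_sup_eq_top_of_comm (H N : Subgroup G) [N.Normal]
    (hH : ∀ a ∈ H, ∀ b ∈ H, a * b = b * a) (hHN : H ⊔ N = ⊤) : commutator G ≤ N := by
  rw [← Subgroup.Normal.quotient_commutative_iff_commutator_le]
  have hsurj : ∀ x : G ⧸ N, ∃ h ∈ H, (h : G ⧸ N) = x := by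
    intro x
    obtain ⟨g, rfl⟩ := QuotientGroup.mk_surjective x
    have hg : g ∈ H ⊔ N := by rw [hHN]; trivial
    rw [← SetLike.mem_coe, Subgroup.mul_normal, Set.mem_mul] at hg
    obtain ⟨h, hh, n, hn, rfl⟩ := hg
    refine ⟨h, hh, ?_⟩
    rw [QuotientGroup.mk_mul, (QuotientGroup.eq_one_iff n).mpr hn, mul_one]
  refine ⟨⟨fun x y => ?_⟩⟩
  obtain ⟨a, ha, rfl⟩ := hsurj x
  obtain ⟨b, hb, rfl⟩ := hsurj y
  rw [← QuotientGroup.mk_mul, ← QuotientGroup.mk_mul, hH a ha b hb]

/-- With abelian Sylow `p`-subgroup, `G' ≤ O^p(G)`. -/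
theorem commutator_le_pResidual_of_comm_sylow [Finite G] {p : ℕ} [Fact p.Prime] (P : Sylow p G)
    (hP : IsMulCommutative P) : commutator G ≤ Cfsg.pResidual p G := by
  apply commutator_le_of_sup_eq_top_of_comm (P : Subgroup G) _ _ (sylow_sup_pResidual P)
  intro a ha b hb
  have := hP.is_comm.comm ⟨a, ha⟩ ⟨b, hb⟩
  exact congrArg Subtype.val this

end Cfsg.Agent.Helper9
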