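import Mathlib
import Cfsg.Prelude.Def_Transfer
import Cfsg.Agent.Helper9.PResidual
import Cfsg.Agent.Lead.Compl

set_option autoImplicit false

namespace Cfsg.Agent.Helper9

open Subgroup
open scoped Pointwise

variable {G : Type*} [Group G]

/-- `HasNormalPComplement` may be tested on any given Sylow `p`-subgroup. -/
theorem hasNormalPComplement_iff [Finite G] {p : ℕ} [Fact p.Prime] (P : Sylow p G) :
    Cfsg.HasNormalPComplement p G ↔
      ∃ N : Subgroup G, N.Normal ∧ N.IsComplement' (P : Subgroup G) := by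
  constructor
  · rintro ⟨P', N, hN, hc⟩
    obtain ⟨g, rfl⟩ := MulAction.exists_smul_eq G P' P
    refine ⟨N, hN, ?_⟩
    rw [Sylow.coe_subgroup_smul]
    exact Cfsg.Agent.Lead.isComplement'_conj_smul hc g
  · rintro ⟨N, hN, hc⟩
    exact ⟨P, N, hN, hc⟩

/-- A normal `p`-complement is `O^p(G)`. -/
theorem normal_complement_eq_pResidual [Finite G] {p : ℕ} [Fact p.Prime] (P : Sylow p G)
    (N : Subgroup G) [N.Normal] (h : N.IsComplement' (P : Subgroup G)) :
    N = Cfsg.pResidual p G := by
  apply le_antisymm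
  · intro n hn
    apply mem_pResidual_of_coprime
    have h1 : orderOf n ∣ Nat.card N := by
      have := orderOf_dvd_natCard (⟨n, hn⟩ : N)
      rwa [Subgroup.orderOf_mk] at this
    have h2 : Nat.card N = (P : Subgroup G).index := h.index_eq_card.symm
    rw [h2] at h1
    have h3 : Nat.Coprime (P : Subgroup G).index p :=
      ((Fact.out : p.Prime).coprime_iff_not_dvd.mpr P.not_dvd_index).symm
    exact Nat.Coprime.coprime_dvd_left h1 h3
  · apply pResidual_le_of_isPGroup_quotient
    obtain ⟨k, hk⟩ := IsPGroup.iff_card.mp P.2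
    apply IsPGroup.of_card (n := k)
    rw [← Subgroup.index_eq_card, h.symm.index_eq_card, hk]

/-- `G` has a normal `p`-complement iff `P ∩ O^p(G) = 1`. -/
theorem hasNormalPComplement_iff_inf_pResidual [Finite G] {p : ℕ} [Fact p.Prime] (P : Sylow p G) :
    Cfsg.HasNormalPComplement p G ↔ (P : Subgroup G) ⊓ Cfsg.pResidual p G = ⊥ := by
  rw [hasNormalPComplement_iff P]
  constructor
  · rintro ⟨N, hN, hc⟩
    rw [← normal_complement_eq_pResidual P N hc, inf_comm]
    exact hc.disjoint.eq_bot
  · intro h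
    refine ⟨Cfsg.pResidual p G, inferInstance, ?_⟩
    apply isComplement'_of_disjoint_and_mul_eq_univ
    · rw [disjoint_iff, inf_comm]; exact h
    · rw [← Subgroup.normal_mul, sup_comm, sylow_sup_pResidual P]; rfl

/-- If `G` has no normal `p`-complement... contrapositive helper: `P ≤ O^p(G)` forces
`O^p(G) = ⊤`. -/
theorem pResidual_eq_top_of_sylow_le [Finite G] {p : ℕ} [Fact p.Prime] (P : Sylow p G)
    (h : (P : Subgroup G) ≤ Cfsg.pResidual p G) : Cfsg.pResidual p G = ⊤ := by
  rw [← sylow_sup_pResidual P]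
  exact (sup_eq_right.mpr h).symm

end Cfsg.Agent.Helper9
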