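import Mathlib
import Cfsg.Prelude.Def_Transfer
import Cfsg.Agent.Helper9.NPC

set_option autoImplicit false

namespace Cfsg.Agent.Helper9

open Subgroup

variable {G : Type*} [Group G]

/-- `O^p(M)` maps into `O^p(G)` for a subgroup `M`. -/
theorem map_pResidual_subtype_le (p : ℕ) (M : Subgroup G) :
    (Cfsg.pResidual p M).map M.subtype ≤ Cfsg.pResidual p G := by
  unfold Cfsg.pResidual
  rw [MonoidHom.map_closure, Subgroup.closure_le]
  rintro _ ⟨g, hg, rfl⟩
  apply Subgroup.subset_closure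
  have hg' : Nat.Coprime (orderOf g) p := hg
  show Nat.Coprime (orderOf (M.subtype g)) p
  rwa [Subgroup.coe_subtype, Subgroup.orderOf_coe]

/-- If `G` has a normal `p`-complement `N` then an element of `N` of `p`-power order is trivial. -/
theorem eq_one_of_mem_complement_of_pow [Finite G] {p : ℕ} [Fact p.Prime] (P : Sylow p G)
    (N : Subgroup G) (hc : N.IsComplement' (P : Subgroup G)) {x : G} (hxN : x ∈ N) {k : ℕ}
    (hxk : x ^ p ^ k = 1) : x = 1 := by
  have h1 : orderOf x ∣ p ^ k := orderOf_dvd_of_pow_eq_one hxk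
  have h2 : orderOf x ∣ Nat.card N := by
    have := orderOf_dvd_natCard (⟨x, hxN⟩ : N)
    rwa [Subgroup.orderOf_mk] at this
  have h3 : Nat.card N = (P : Subgroup G).index := hc.index_eq_card.symm
  rw [h3] at h2
  have hcop : Nat.Coprime (p ^ k) (P : Subgroup G).index :=
    Nat.Coprime.pow_left k ((Fact.out : p.Prime).coprime_iff_not_dvd.mpr P.not_dvd_index)
  have := Nat.eq_one_of_dvd_coprimes hcop h1 h2
  exact orderOf_eq_one_iff.mp this

/-- Subgroups of `p`-nilpotent groups are `p`-nilpotent. -/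
theorem hasNormalPComplement_subgroup [Finite G] {p : ℕ} [Fact p.Prime]
    (h : Cfsg.HasNormalPComplement p G) (M : Subgroup G) : Cfsg.HasNormalPComplement p M := by
  obtain ⟨P, N, hN, hc⟩ := h
  have := hN
  have hNeq : N = Cfsg.pResidual p G := normal_complement_eq_pResidual P N hc
  obtain ⟨S⟩ : Nonempty (Sylow p M) := inferInstance
  rw [hasNormalPComplement_iff_inf_pResidual S, eq_bot_iff]
  intro x hx
  rw [Subgroup.mem_bot]
  obtain ⟨k, hk⟩ := S.2 ⟨x, hx.1⟩
  have hk' : (x : G) ^ p ^ k = 1 := by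
    have := congrArg (fun z : S => ((z : M) : G)) hk
    simpa using this
  have hxN : (x : G) ∈ N := by
    rw [hNeq]
    exact map_pResidual_subtype_le p M ⟨x, hx.2, rfl⟩
  have := eq_one_of_mem_complement_of_pow P N hc hxN hk'
  exact Subtype.ext this

/-- In a `p`-nilpotent group, elements of order prime to `p` centralize normal `p`-subgroups. -/
theorem commute_of_hasNormalPComplement [Finite G] {p : ℕ} [Fact p.Prime]
    (h : Cfsg.HasNormalPComplement p G) (D : Subgroup G) [hD : D.Normal] (hDp : IsPGroup p D)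
    (g : G) (hg : Nat.Coprime (orderOf g) p) (x : G) (hx : x ∈ D) : g * x = x * g := by
  obtain ⟨P, N, hN, hc⟩ := h
  have := hN
  have hNeq : N = Cfsg.pResidual p G := normal_complement_eq_pResidual P N hc
  have hgN : g ∈ N := by rw [hNeq]; exact mem_pResidual_of_coprime p hg
  have h1 : g * x * g⁻¹ * x⁻¹ ∈ D := D.mul_mem (hD.conj_mem x hx g) (D.inv_mem hx)
  have h2 : g * x * g⁻¹ * x⁻¹ ∈ N := by
    have : x * g⁻¹ * x⁻¹ ∈ N := hN.conj_mem g⁻¹ (N.inv_mem hgN) x
    have e : g * x * g⁻¹ * x⁻¹ = g * (x * g⁻¹ * x⁻¹) := by group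
    rw [e]
    exact N.mul_mem hgN this
  obtain ⟨k, hk⟩ := hDp ⟨_, h1⟩
  have hk' : (g * x * g⁻¹ * x⁻¹) ^ p ^ k = 1 := by
    have := congrArg (fun z : D => (z : G)) hk
    simpa using this
  have h3 := eq_one_of_mem_complement_of_pow P N hc h2 hk'
  have e : g * x = (g * x * g⁻¹ * x⁻¹) * (x * g) := by group
  rw [e, h3, one_mul]

end Cfsg.Agent.Helper9
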