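import Mathlib
import Cfsg.Prelude.Def_Transfer
import Cfsg.Agent.Helper9.PResidual

set_option autoImplicit false

namespace Cfsg.Agent.Helper9

open Subgroup
open scoped commutatorElement

variable {G : Type*} [Group G]

/-- For an abelian Sylow `p`-subgroup the focal subgroup is `[P, N_G(P)]`. -/
theorem focalSubgroup_eq_commutator_normalizer [Finite G] {p : ℕ} [Fact p.Prime] (P : Sylow p G)
    (hP : IsMulCommutative P) :
    focalSubgroup (P : Subgroup G) = ⁅(P : Subgroup G), normalizer (P : Set G)⁆ := by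
  apply le_antisymm
  · rw [focalSubgroup_def, closure_le]
    rintro g ⟨hg, x, hx, u, rfl⟩
    have h1 : u * x⁻¹ * u⁻¹ ∈ (P : Subgroup G) := by
      have h2 := (P : Subgroup G).mul_mem ((P : Subgroup G).inv_mem hx) hg
      have h3 : x⁻¹ * ⁅x, u⁆ = u * x⁻¹ * u⁻¹ := by
        rw [commutatorElement_def]; group
      rwa [h3] at h2
    have h1' : (u⁻¹)⁻¹ * x⁻¹ * u⁻¹ ∈ (P : Subgroup G) := by rwa [inv_inv]
    obtain ⟨n, hn, hnx⟩ := P.conj_eq_normalizer_conj_of_mem x⁻¹ u⁻¹ (inv_mem hx) h1'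
    rw [inv_inv] at hnx
    have h4 : ⁅x, u⁆ = ⁅x, n⁻¹⁆ := by
      rw [commutatorElement_def, commutatorElement_def]
      have e1 : x * u * x⁻¹ * u⁻¹ = x * (u * x⁻¹ * u⁻¹) := by group
      have e2 : x * n⁻¹ * x⁻¹ * n⁻¹⁻¹ = x * (n⁻¹ * x⁻¹ * n) := by group
      rw [e1, e2, hnx]
    rw [h4]
    exact Subgroup.commutator_mem_commutator hx (inv_mem hn)
  · rw [Subgroup.commutator_le]
    intro x hx n hn
    apply Subgroup.subset_closure
    refine ⟨?_, x, hx, n, rfl⟩
    rw [commutatorElement_def]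
    have h1 : n * x⁻¹ * n⁻¹ ∈ (P : Subgroup G) :=
      (Subgroup.mem_normalizer_iff.mp hn x⁻¹).mp (inv_mem hx)
    have e1 : x * n * x⁻¹ * n⁻¹ = x * (n * x⁻¹ * n⁻¹) := by group
    rw [e1]
    exact mul_mem hx h1

/-- For an abelian Sylow `p`-subgroup, `G' ∩ P = [P, N_G(P)]`. -/
theorem commutator_inf_eq_commutator_normalizer [Finite G] {p : ℕ} [Fact p.Prime] (P : Sylow p G)
    (hP : IsMulCommutative P) :
    commutator G ⊓ (P : Subgroup G) = ⁅(P : Subgroup G), normalizer (P : Set G)⁆ := by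
  rw [Subgroup.commutator_inf_eq_focalSubgroup P, focalSubgroup_eq_commutator_normalizer P hP]

/-- The transfer into `P/P*` kills `O^p(G)`. -/
theorem pResidual_le_ker_transferFocal [Finite G] {p : ℕ} [Fact p.Prime] (P : Sylow p G) :
    Cfsg.pResidual p G ≤ (transferFocal (P : Subgroup G)).ker := by
  unfold Cfsg.pResidual
  rw [closure_le]
  intro g hg
  change Nat.Coprime (orderOf g) p at hg
  rw [SetLike.mem_coe, MonoidHom.mem_ker]
  have hQ : IsPGroup p ((P : Subgroup G) ⧸ (P : Subgroup G).focalSubgroupOf) :=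
    P.2.to_quotient _
  obtain ⟨k, hk⟩ := hQ (transferFocal (P : Subgroup G) g)
  have h1 : orderOf (transferFocal (P : Subgroup G) g) ∣ p ^ k := orderOf_dvd_of_pow_eq_one hk
  have h2 : orderOf (transferFocal (P : Subgroup G) g) ∣ orderOf g := orderOf_map_dvd _ g
  have h3 := Nat.eq_one_of_dvd_coprimes (Nat.Coprime.pow_right k hg) h2 h1
  rwa [orderOf_eq_one_iff] at h3

/-- `P ∩ O^p(G) ≤ P*` for a Sylow `p`-subgroup `P`. -/
theorem sylow_inf_pResidual_le_focalSubgroup [Finite G] {p : ℕ} [Fact p.Prime] (P : Sylow p G) :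
    (P : Subgroup G) ⊓ Cfsg.pResidual p G ≤ focalSubgroup (P : Subgroup G) := by
  rw [← ker_transferFocal_inf_eq_focalSubgroup P, inf_comm]
  exact inf_le_inf_right _ (pResidual_le_ker_transferFocal P)

/-- For an abelian Sylow `p`-subgroup `P`, `P ∩ O^p(G) = P ∩ G'`. -/
theorem sylow_inf_pResidual_eq_of_comm [Finite G] {p : ℕ} [Fact p.Prime] (P : Sylow p G)
    (hP : IsMulCommutative P) :
    (P : Subgroup G) ⊓ Cfsg.pResidual p G = commutator G ⊓ (P : Subgroup G) := by
  apply le_antisymm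
  · rw [Subgroup.commutator_inf_eq_focalSubgroup P]
    exact sylow_inf_pResidual_le_focalSubgroup P
  · rw [inf_comm]
    exact inf_le_inf_left _ (commutator_le_pResidual_of_comm_sylow P hP)

end Cfsg.Agent.Helper9
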