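import Mathlib
import Cfsg.Prelude.Def_Transfer

set_option autoImplicit false

namespace Cfsg.Agent.Helper9

open Subgroup
open scoped commutatorElement

variable {G : Type*} [Group G]

/-- If `|H / H*|` is prime to the index of `H`, the transfer `G → H/H*` has kernel meeting `H`
in `H*`, and `G = ker · H`. -/
theorem transferFocal_coprime (H : Subgroup G) [H.FiniteIndex]
    (hcop : Nat.Coprime (Nat.card (H ⧸ H.focalSubgroupOf)) H.index) :
    (transferFocal H).ker ⊓ H = focalSubgroup H ∧ (transferFocal H).ker ⊔ H = ⊤ := by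
  have hbij := (powCoprime hcop).bijective
  have hpow : ∀ y : H ⧸ H.focalSubgroupOf, powCoprime hcop y = y ^ H.index := fun y => rfl
  constructor
  · ext x
    constructor
    · rintro ⟨hxk, hxH⟩
      have h1 : transferFocal H x = 1 := hxk
      have h2 := transferFocal_eq_pow H ⟨x, hxH⟩
      rw [Subgroup.coe_mk, h1] at h2
      have h3 : powCoprime hcop ((⟨x, hxH⟩ : H) : H ⧸ H.focalSubgroupOf) = powCoprime hcop 1 := by
        rw [hpow, hpow, one_pow, ← h2]
      have h4 := hbij.1 h3
      rw [QuotientGroup.eq_one_iff, focalSubgroupOf_def, mem_subgroupOf] at h4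
      exact h4
    · intro hx
      have hxH : x ∈ H := focalSubgroup_le H hx
      refine ⟨?_, hxH⟩
      change transferFocal H x = 1
      have h2 := transferFocal_eq_pow H ⟨x, hxH⟩
      rw [Subgroup.coe_mk] at h2
      rw [h2]
      have : ((⟨x, hxH⟩ : H) : H ⧸ H.focalSubgroupOf) = 1 := by
        rw [QuotientGroup.eq_one_iff, focalSubgroupOf_def, mem_subgroupOf]
        exact hx
      rw [this, one_pow]
  · rw [eq_top_iff]
    intro g _
    obtain ⟨y, hy⟩ := hbij.2 (transferFocal H g)
    obtain ⟨h, rfl⟩ := QuotientGroup.mk_surjective y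
    rw [hpow, ← transferFocal_eq_pow H h] at hy
    have h1 : (h : G)⁻¹ * g ∈ (transferFocal H).ker :=
      (MonoidHom.eq_iff (transferFocal H)).mp hy.symm
    have h2 : g = (h : G) * ((h : G)⁻¹ * g) := by group
    rw [h2, sup_comm]
    exact Subgroup.mul_mem_sup h.2 h1

open scoped IsMulCommutative in
/-- Under the same hypothesis, `G' ∩ H = H*`. -/
theorem commutator_inf_eq_focalSubgroup_of_coprime (H : Subgroup G) [H.FiniteIndex]
    (hcop : Nat.Coprime (Nat.card (H ⧸ H.focalSubgroupOf)) H.index) :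
    commutator G ⊓ H = focalSubgroup H := by
  apply le_antisymm
  · rw [← (transferFocal_coprime H hcop).1]
    exact inf_le_inf_right _ (Abelianization.commutator_subset_ker (transferFocal H))
  · exact le_inf (focalSubgroup_le_commutator H) (focalSubgroup_le H)

/-- `|H/H*|` divides `|H/H'|`. -/
theorem card_quotient_focalSubgroupOf_dvd (H : Subgroup G) :
    Nat.card (H ⧸ H.focalSubgroupOf) ∣ ⁅H, H⁆.relIndex H := by
  rw [← Subgroup.index_eq_card]
  have h1 : ⁅H, H⁆.subgroupOf H = commutator H := by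
    rw [← Subgroup.map_subtype_commutator]
    ext x
    rw [mem_subgroupOf]
    constructor
    · rintro ⟨y, hy, hyx⟩
      have : y = x := Subtype.ext hyx
      rwa [← this]
    · intro hx
      exact ⟨x, hx, rfl⟩
  rw [Subgroup.relIndex, h1]
  exact Subgroup.index_dvd_of_le (commutator_le_focalSubgroupOf H)

/-- If `G = H ⊔ N` with `N` normal and `H' ≤ N` then `G' ≤ N`. -/
theorem commutator_le_of_sup_eq_top (H N : Subgroup G) [N.Normal]
    (hH : ⁅H, H⁆ ≤ N) (hHN : H ⊔ N = ⊤) : commutator G ≤ N := by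
  rw [← Subgroup.Normal.quotient_commutative_iff_commutator_le]
  have hsurj : ∀ x : G ⧸ N, ∃ h ∈ H, (h : G ⧸ N) = x := by
    intro x
    obtain ⟨g, rfl⟩ := QuotientGroup.mk_surjective x
    have hg : g ∈ H ⊔ N := by rw [hHN]; trivial
    rw [← SetLike.mem_coe, Subgroup.mul_normal, Set.mem_mul] at hg
    obtain ⟨h, hh, n, hn, rfl⟩ := hg
    refine ⟨h, hh, ?_⟩
    rw [QuotientGroup.mk_mul, (QuotientGroup.eq_one_iff n).mpr hn, mul_one]
  refine ⟨⟨fun x y => ?_⟩⟩
  obtain ⟨a, ha, rfl⟩ := hsurj x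
  obtain ⟨b, hb, rfl⟩ := hsurj y
  rw [← QuotientGroup.mk_mul, ← QuotientGroup.mk_mul, QuotientGroup.eq]
  have e : (a * b)⁻¹ * (b * a) = ⁅b⁻¹, a⁻¹⁆ := by
    rw [commutatorElement_def]; group
  rw [e]
  exact hH (Subgroup.commutator_mem_commutator (inv_mem hb) (inv_mem ha))

/-- For a Sylow `p`-subgroup the transfer into `P/P*` has kernel complementing `P` modulo `P*`. -/
theorem sylow_transferFocal_ker [Finite G] {p : ℕ} [Fact p.Prime] (P : Sylow p G) :
    (transferFocal (P : Subgroup G)).ker ⊓ (P : Subgroup G) = focalSubgroup (P : Subgroup G) ∧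
      (transferFocal (P : Subgroup G)).ker ⊔ (P : Subgroup G) = ⊤ := by
  apply transferFocal_coprime
  have hQ : IsPGroup p ((P : Subgroup G) ⧸ (P : Subgroup G).focalSubgroupOf) :=
    P.2.to_quotient _
  obtain ⟨k, hk⟩ := IsPGroup.iff_card.mp hQ
  rw [hk]
  exact Nat.Coprime.pow_left k ((Fact.out : p.Prime).coprime_iff_not_dvd.mpr P.not_dvd_index)

end Cfsg.Agent.Helper9
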