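import Mathlib

set_option autoImplicit false

namespace Cfsg.Agent.Helper9

open scoped Pointwise

/-- `B.map (conj g).toMonoidHom = B` iff `g` normalizes `B`. -/
theorem map_conj_eq_iff_mem_normalizer {G : Type*} [Group G] (B : Subgroup G) (g : G) :
    B.map (MulAut.conj g).toMonoidHom = B ↔ g ∈ Subgroup.normalizer (B : Set G) :=
  (Subgroup.mem_normalizer_iff_map_conj_eq (H := B) (g := g)).symm

/-- membership in a conjugate. -/
theorem mem_map_conj_iff {G : Type*} [Group G] (B : Subgroup G) (g x : G) :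
    x ∈ B.map (MulAut.conj g).toMonoidHom ↔ g⁻¹ * x * g ∈ B := by
  constructor
  · rintro ⟨b, hb, rfl⟩
    simp only [MulEquiv.coe_toMonoidHom, MulAut.conj_apply]
    have : g⁻¹ * (g * b * g⁻¹) * g = b := by group
    rwa [this]
  · intro h
    refine ⟨g⁻¹ * x * g, h, ?_⟩
    simp only [MulEquiv.coe_toMonoidHom, MulAut.conj_apply]
    group

/-- A conjugate has the same cardinality. -/
theorem card_map_conj {G : Type*} [Group G] (B : Subgroup G) (g : G) :
    Nat.card (B.map (MulAut.conj g).toMonoidHom) = Nat.card B :=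
  Nat.card_congr
    (B.equivMapOfInjective (MulAut.conj g).toMonoidHom (MulAut.conj g).injective).toEquiv.symm

/-- If `H, K ≤ L` meet trivially then `|H| * |K| ≤ |L|`. -/
theorem card_mul_le_of_disjoint {G : Type*} [Group G] [Finite G] (H K L : Subgroup G)
    (hH : H ≤ L) (hK : K ≤ L) (hHK : H ⊓ K = ⊥) :
    Nat.card H * Nat.card K ≤ Nat.card L := by
  rw [← Nat.card_prod]
  apply Nat.card_le_card_of_injective (fun x : H × K => (⟨x.1 * x.2, L.mul_mem (hH x.1.2) (hK x.2.2)⟩ : L))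
  rintro ⟨⟨h1, hh1⟩, ⟨k1, hk1⟩⟩ ⟨⟨h2, hh2⟩, ⟨k2, hk2⟩⟩ heq
  have heq' : h1 * k1 = h2 * k2 := congrArg Subtype.val heq
  have h3 : h2⁻¹ * h1 = k2 * k1⁻¹ := by
    have : h2⁻¹ * (h1 * k1) * k1⁻¹ = h2⁻¹ * (h2 * k2) * k1⁻¹ := by rw [heq']
    simpa [mul_assoc] using this
  have hmem : h2⁻¹ * h1 ∈ H ⊓ K :=
    ⟨H.mul_mem (H.inv_mem hh2) hh1, h3 ▸ K.mul_mem hk2 (K.inv_mem hk1)⟩
  rw [hHK, Subgroup.mem_bot] at hmem
  have e1 : h1 = h2 := by
    have := congrArg (fun z => h2 * z) hmem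
    simpa using this
  have e2 : k1 = k2 := by
    subst e1
    exact mul_left_cancel heq'
  subst e1 e2
  rfl

/-- Surjective version: if every element of `L` is a product `h * k` with `h ∈ H`, `k ∈ K`, then
`|L| ≤ |H| * |K|`. -/
theorem card_le_mul_of_forall_exists {G : Type*} [Group G] [Finite G] (H K L : Subgroup G)
    (h : ∀ x ∈ L, ∃ a ∈ H, ∃ b ∈ K, x = a * b) :
    Nat.card L ≤ Nat.card H * Nat.card K := by
  classical
  rw [← Nat.card_prod]
  choose! f hf g hg hfg using h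
  apply Nat.card_le_card_of_injective (fun x : L => ((⟨f x, hf x x.2⟩ : H), (⟨g x, hg x x.2⟩ : K)))
  intro x y hxy
  have h1 : f x = f y := congrArg (fun z => (z.1 : G)) hxy
  have h2 : g x = g y := congrArg (fun z => (z.2 : G)) hxy
  apply Subtype.ext
  rw [hfg x x.2, hfg y y.2, h1, h2]

/-- Normalizers grow in finite `p`-groups (stated inside an ambient group). -/
theorem exists_normalizing_not_mem {G : Type*} [Group G] [Finite G] (p : ℕ) [Fact p.Prime]
    (P N : Subgroup G) (hP : IsPGroup p P) (hNP : N < P) :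
    ∃ x ∈ P, x ∉ N ∧ N.map (MulAut.conj x).toMonoidHom = N := by
  haveI : Group.IsNilpotent P := hP.isNilpotent
  have hnc : NormalizerCondition P := Group.normalizerCondition_of_isNilpotent
  have hlt : N.subgroupOf P < ⊤ := by
    rw [lt_top_iff_ne_top, Ne, Subgroup.subgroupOf_eq_top]
    exact not_le_of_gt hNP
  obtain ⟨_, hnot⟩ := hnc _ hlt
  rw [SetLike.not_le_iff_exists] at hnot
  obtain ⟨⟨x, hxP⟩, hxn, hxN⟩ := hnot
  refine ⟨x, hxP, fun h => hxN (Subgroup.mem_subgroupOf.mpr h), ?_⟩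
  rw [map_conj_eq_iff_mem_normalizer, Subgroup.mem_normalizer_iff]
  rw [Subgroup.mem_normalizer_iff] at hxn
  intro n
  constructor
  · intro hn
    have := (hxn ⟨n, hNP.le hn⟩).mp (Subgroup.mem_subgroupOf.mpr hn)
    exact Subgroup.mem_subgroupOf.mp this
  · intro hn
    have hnP : n ∈ P := by
      have h1 : x * n * x⁻¹ ∈ P := hNP.le hn
      have : n = x⁻¹ * (x * n * x⁻¹) * x := by group
      rw [this]
      exact P.mul_mem (P.mul_mem (P.inv_mem hxP) h1) hxP
    have := (hxn ⟨n, hnP⟩).mpr (Subgroup.mem_subgroupOf.mpr hn)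
    exact Subgroup.mem_subgroupOf.mp this

/-- If `a ∈ A` normalizes `B`, `b ∈ B` normalizes `A` and `A ⊓ B = ⊥`, then `a` and `b` commute. -/
theorem commute_of_mem_normalizer {G : Type*} [Group G] (A B : Subgroup G) (hAB : A ⊓ B = ⊥)
    {a b : G} (ha : a ∈ A) (haN : a ∈ Subgroup.normalizer (B : Set G))
    (hb : b ∈ B) (hbN : b ∈ Subgroup.normalizer (A : Set G)) : a * b = b * a := by
  have h1 : b * a⁻¹ * b⁻¹ ∈ A := ((Subgroup.mem_normalizer_iff.mp hbN) a⁻¹).mp (A.inv_mem ha)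
  have h2 : a * b * a⁻¹ ∈ B := ((Subgroup.mem_normalizer_iff.mp haN) b).mp hb
  have hmem : a * b * a⁻¹ * b⁻¹ ∈ A ⊓ B := by
    refine ⟨?_, B.mul_mem h2 (B.inv_mem hb)⟩
    have : a * b * a⁻¹ * b⁻¹ = a * (b * a⁻¹ * b⁻¹) := by group
    rw [this]
    exact A.mul_mem ha h1
  rw [hAB, Subgroup.mem_bot] at hmem
  calc a * b = (a * b * a⁻¹ * b⁻¹) * (b * a) := by group
    _ = b * a := by rw [hmem, one_mul]

/-- Two subgroups normalizing each other and meeting trivially commute. -/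
theorem commutator_eq_bot_of_normalize {G : Type*} [Group G] (A B : Subgroup G) (hAB : A ⊓ B = ⊥)
    (hA : A ≤ Subgroup.normalizer (B : Set G)) (hB : B ≤ Subgroup.normalizer (A : Set G)) :
    ⁅A, B⁆ = ⊥ := by
  rw [eq_bot_iff, Subgroup.commutator_le]
  intro a ha b hb
  rw [Subgroup.mem_bot, commutatorElement_def]
  have := commute_of_mem_normalizer A B hAB ha (hA ha) hb (hB hb)
  rw [this]
  group

/-- TI property, elementwise: if `A` is a TI-subgroup and `m` commutes with a nontrivial element of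
`A` then `m` normalizes `A`. -/
theorem mem_normalizer_of_commute_of_ti {G : Type*} [Group G] (A : Subgroup G)
    (hti : ∀ h : G, A.map (MulAut.conj h).toMonoidHom = A ∨ A.map (MulAut.conj h).toMonoidHom ⊓ A = ⊥)
    {a m : G} (ha : a ∈ A) (ha1 : a ≠ 1) (hcomm : m * a = a * m) :
    m ∈ Subgroup.normalizer (A : Set G) := by
  rw [← map_conj_eq_iff_mem_normalizer]
  refine (hti m).resolve_right ?_
  intro h
  have hmem : a ∈ A.map (MulAut.conj m).toMonoidHom ⊓ A := by
    refine ⟨?_, ha⟩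
    show a ∈ A.map (MulAut.conj m).toMonoidHom
    rw [mem_map_conj_iff]
    have : m⁻¹ * a * m = a := by
      rw [mul_assoc, ← hcomm]; group
    rwa [this]
  rw [h, Subgroup.mem_bot] at hmem
  exact ha1 hmem

/-- Conjugating the normalizer. -/
theorem conj_mem_normalizer_map_conj {G : Type*} [Group G] (A : Subgroup G) (g x : G)
    (hx : x ∈ Subgroup.normalizer (A : Set G)) :
    g * x * g⁻¹ ∈ Subgroup.normalizer ((A.map (MulAut.conj g).toMonoidHom : Subgroup G) : Set G) := by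
  rw [Subgroup.mem_normalizer_iff]
  intro y
  rw [mem_map_conj_iff, mem_map_conj_iff]
  have h := (Subgroup.mem_normalizer_iff.mp hx) (g⁻¹ * y * g)
  rw [h]
  have : x * (g⁻¹ * y * g) * x⁻¹ = g⁻¹ * (g * x * g⁻¹ * y * (g * x * g⁻¹)⁻¹) * g := by group
  rw [this]

/-- A conjugate of a TI-subgroup is a TI-subgroup (elementwise form). -/
theorem mem_normalizer_map_conj_of_commute_of_ti {G : Type*} [Group G] (A : Subgroup G)
    (hti : ∀ h : G, A.map (MulAut.conj h).toMonoidHom = A ∨ A.map (MulAut.conj h).toMonoidHom ⊓ A = ⊥)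
    (g : G) {m a : G} (hm : m ∈ A.map (MulAut.conj g).toMonoidHom) (hm1 : m ≠ 1)
    (hcomm : a * m = m * a) :
    a ∈ Subgroup.normalizer ((A.map (MulAut.conj g).toMonoidHom : Subgroup G) : Set G) := by
  rw [mem_map_conj_iff] at hm
  have h1 : g⁻¹ * m * g ≠ 1 := by
    intro h
    apply hm1
    have : m = g * (g⁻¹ * m * g) * g⁻¹ := by group
    rw [this, h]; group
  have h2 : (g⁻¹ * a * g) * (g⁻¹ * m * g) = (g⁻¹ * m * g) * (g⁻¹ * a * g) := by
    have e1 : (g⁻¹ * a * g) * (g⁻¹ * m * g) = g⁻¹ * (a * m) * g := by group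
    have e2 : (g⁻¹ * m * g) * (g⁻¹ * a * g) = g⁻¹ * (m * a) * g := by group
    rw [e1, e2, hcomm]
  have h3 := mem_normalizer_of_commute_of_ti A hti hm h1 h2
  have h4 := conj_mem_normalizer_map_conj A g _ h3
  have : g * (g⁻¹ * a * g) * g⁻¹ = a := by group
  rwa [this] at h4

end Cfsg.Agent.Helper9
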