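import Mathlib
import Cfsg.Agent.Helper9.PGroup

set_option autoImplicit false

namespace Cfsg.Agent.Helper9

open scoped Pointwise

/-- The coercion of `g • P` as a map under conjugation. -/
theorem sylow_smul_coe_eq_map {G : Type*} [Group G] {p : ℕ} (P : Sylow p G) (g : G) :
    ((g • P : Sylow p G) : Subgroup G) = (P : Subgroup G).map (MulAut.conj g).toMonoidHom := rfl

/-- Two Sylow `p`-subgroups of `G` contained in a subgroup `K` are conjugate under `K`. -/
theorem exists_mem_conj_sylow_of_le {G : Type*} [Group G] [Finite G] {p : ℕ} [Fact p.Prime]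
    (P Q : Sylow p G) (K : Subgroup G) (hP : (P : Subgroup G) ≤ K) (hQ : (Q : Subgroup G) ≤ K) :
    ∃ k ∈ K, (P : Subgroup G).map (MulAut.conj k).toMonoidHom = (Q : Subgroup G) := by
  obtain ⟨k, hk⟩ := MulAction.exists_smul_eq K (P.subtype hP) (Q.subtype hQ)
  rw [Sylow.smul_subtype hP k] at hk
  refine ⟨k, k.2, ?_⟩
  have h1 : (((k : G) • P : Sylow p G) : Subgroup G) = (Q : Subgroup G) := by
    have := congrArg (fun S : Sylow p K => (S : Subgroup K).map K.subtype) hk
    simp only [Sylow.coe_subtype] at this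
    rw [Subgroup.map_subgroupOf_eq_of_le (Sylow.smul_le hP k),
      Subgroup.map_subgroupOf_eq_of_le hQ] at this
    exact this
  rw [← h1]
  rfl

/-- Every element normalizing... conjugation of sets: helper. -/
theorem conj_image_mem_iff {G : Type*} [Group G] (g : G) (X : Set G) (y : G) :
    y ∈ (fun z => g * z * g⁻¹) '' X ↔ g⁻¹ * y * g ∈ X := by
  constructor
  · rintro ⟨x, hx, rfl⟩
    have : g⁻¹ * (g * x * g⁻¹) * g = x := by group
    rwa [this]
  · intro h
    exact ⟨g⁻¹ * y * g, h, by group⟩

end Cfsg.Agent.Helper9
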