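import Mathlib
import Cfsg.Prelude.Def_Transfer
import Cfsg.Agent.Helper9.SylowFusion

set_option autoImplicit false

namespace Cfsg.Agent.Helper9

open Subgroup
open scoped commutatorElement Pointwise

variable {G : Type*} [Group G]

/-- `map (conj g)` membership, forward direction. -/
theorem conj_mem_map_conj (B : Subgroup G) (g : G) {b : G} (hb : b ∈ B) :
    g * b * g⁻¹ ∈ B.map (MulAut.conj g).toMonoidHom :=
  ⟨b, hb, rfl⟩

theorem map_conj_mul (B : Subgroup G) (g h : G) :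
    (B.map (MulAut.conj h).toMonoidHom).map (MulAut.conj g).toMonoidHom =
      B.map (MulAut.conj (g * h)).toMonoidHom := by
  rw [Subgroup.map_map]
  congr 1
  ext x
  simp [mul_assoc]

theorem map_conj_one (B : Subgroup G) : B.map (MulAut.conj (1 : G)).toMonoidHom = B := by
  ext x
  rw [mem_map_conj_iff]
  simp

theorem map_conj_le_iff (A B : Subgroup G) (g : G) :
    A.map (MulAut.conj g).toMonoidHom ≤ B ↔ A ≤ B.map (MulAut.conj g⁻¹).toMonoidHom := by
  constructor
  · intro h a ha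
    rw [mem_map_conj_iff, inv_inv]
    exact h (conj_mem_map_conj A g ha)
  · intro h x hx
    rw [mem_map_conj_iff] at hx
    have := h hx
    rw [mem_map_conj_iff, inv_inv] at this
    have e : g * (g⁻¹ * x * g) * g⁻¹ = x := by group
    rwa [e] at this

/-- Relative Sylow: two `p`-subgroups of `C` can be put in a common `p`-subgroup of `C` after
conjugating one of them by an element of `C`. -/
theorem exists_conj_le_pgroup_of_le [Finite G] {p : ℕ} [Fact p.Prime] (C A B : Subgroup G)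
    (hA : A ≤ C) (hB : B ≤ C) (hAp : IsPGroup p A) (hBp : IsPGroup p B) :
    ∃ c ∈ C, ∃ R : Subgroup G, IsPGroup p R ∧ R ≤ C ∧ A ≤ R ∧
      B.map (MulAut.conj c).toMonoidHom ≤ R := by
  have hA' : IsPGroup p (A.subgroupOf C) := hAp.comap_subtype
  have hB' : IsPGroup p (B.subgroupOf C) := hBp.comap_subtype
  obtain ⟨R', hR'⟩ := hA'.exists_le_sylow
  obtain ⟨S', hS'⟩ := hB'.exists_le_sylow
  obtain ⟨c, hc⟩ := MulAction.exists_smul_eq C S' R'
  refine ⟨c, c.2, (R' : Subgroup C).map C.subtype, R'.2.map _, Subgroup.map_subtype_le _, ?_, ?_⟩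
  · intro a ha
    exact ⟨⟨a, hA ha⟩, hR' (Subgroup.mem_subgroupOf.mpr ha), rfl⟩
  · rintro _ ⟨b, hb, rfl⟩
    have hbS : (⟨b, hB hb⟩ : C) ∈ (S' : Subgroup C) := hS' (Subgroup.mem_subgroupOf.mpr hb)
    have h1 : c * ⟨b, hB hb⟩ * c⁻¹ ∈ ((c • S' : Sylow p C) : Subgroup C) := by
      rw [sylow_smul_coe_eq_map]
      exact conj_mem_map_conj _ c hbS
    rw [hc] at h1
    exact ⟨c * ⟨b, hB hb⟩ * c⁻¹, h1, rfl⟩

/-- Every `p`-subgroup lies in a conjugate of a given Sylow `p`-subgroup. -/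
theorem exists_le_conj_sylow [Finite G] {p : ℕ} [Fact p.Prime] (P : Sylow p G) (R : Subgroup G)
    (hR : IsPGroup p R) : ∃ h : G, R ≤ (P : Subgroup G).map (MulAut.conj h).toMonoidHom := by
  obtain ⟨Q, hQ⟩ := hR.exists_le_sylow
  obtain ⟨h, rfl⟩ := MulAction.exists_smul_eq G P Q
  exact ⟨h, hQ⟩

/-- If `Z ≤ Z(P)` is weakly closed in the Sylow `p`-subgroup `P`, then `N_G(Z)` controls
fusion of elements of `P`. -/
theorem exists_normalizer_conj_of_weaklyClosed [Finite G] {p : ℕ} [Fact p.Prime] (P : Sylow p G)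
    (Z : Subgroup G) (hZ : Z ≤ centralizer (P : Set G)) (hW : Cfsg.IsWeaklyClosed Z P)
    (x g : G) (hx : x ∈ (P : Subgroup G)) (hy : g * x * g⁻¹ ∈ (P : Subgroup G)) :
    ∃ n ∈ normalizer (Z : Set G), n * x * n⁻¹ = g * x * g⁻¹ := by
  obtain ⟨hZP, hwc⟩ := hW
  set y := g * x * g⁻¹ with hydef
  set C := centralizer ({y} : Set G) with hC
  have hZp : IsPGroup p Z := P.2.to_le hZP
  have hZC : Z ≤ C := by
    intro z hz
    rw [hC, mem_centralizer_singleton_iff]
    have := (mem_centralizer_iff.mp (hZ hz)) y hy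
    exact this.symm
  have hZgC : Z.map (MulAut.conj g).toMonoidHom ≤ C := by
    rintro _ ⟨z, hz, rfl⟩
    rw [hC, mem_centralizer_singleton_iff]
    have h1 : x * z = z * x := (mem_centralizer_iff.mp (hZ hz)) x hx
    simp only [MulEquiv.coe_toMonoidHom, MulAut.conj_apply, hydef]
    calc g * z * g⁻¹ * (g * x * g⁻¹) = g * (z * x) * g⁻¹ := by group
      _ = g * (x * z) * g⁻¹ := by rw [h1]
      _ = g * x * g⁻¹ * (g * z * g⁻¹) := by group
  have hZgp : IsPGroup p (Z.map (MulAut.conj g).toMonoidHom) := hZp.map _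
  obtain ⟨c, hcC, R, hRp, _, hZR, hZgR⟩ :=
    exists_conj_le_pgroup_of_le C Z (Z.map (MulAut.conj g).toMonoidHom) hZC hZgC hZp hZgp
  obtain ⟨h, hRh⟩ := exists_le_conj_sylow P R hRp
  rw [map_conj_mul] at hZgR
  -- Z ≤ P^h  hence  Z^{h⁻¹} = Z
  have h1 : Z.map (MulAut.conj h⁻¹).toMonoidHom = Z := by
    apply hwc
    rw [map_conj_le_iff, inv_inv]
    exact hZR.trans hRh
  have h2 : Z.map (MulAut.conj (h⁻¹ * (c * g))).toMonoidHom = Z := by
    apply hwc
    rw [← map_conj_mul, map_conj_le_iff, inv_inv]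
    exact hZgR.trans hRh
  have h3 : Z.map (MulAut.conj (c * g)).toMonoidHom = Z := by
    have : Z.map (MulAut.conj (c * g)).toMonoidHom =
        (Z.map (MulAut.conj (h⁻¹ * (c * g))).toMonoidHom).map (MulAut.conj h).toMonoidHom := by
      rw [map_conj_mul]; congr 3; group
    rw [this, h2]
    conv_rhs => rw [← map_conj_one Z, ← mul_inv_cancel h, ← map_conj_mul, h1]
  refine ⟨c * g, (map_conj_eq_iff_mem_normalizer Z (c * g)).mp h3, ?_⟩
  have hcy : c * y = y * c := by
    rw [hC, mem_centralizer_singleton_iff] at hcC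
    exact hcC
  calc c * g * x * (c * g)⁻¹ = c * (g * x * g⁻¹) * c⁻¹ := by group
    _ = c * y * c⁻¹ := by rw [hydef]
    _ = y := by rw [hcy, mul_assoc, mul_inv_cancel, mul_one]

end Cfsg.Agent.Helper9
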