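import Mathlib
import Cfsg.Prelude.Def_Transfer
import Cfsg.Agent.Helper9.PResidual
import Cfsg.Agent.Helper9.WeakClosure

set_option autoImplicit false

namespace Cfsg.Agent.Helper9

open Subgroup
open scoped Pointwise

variable {G : Type*} [Group G]

/-- elements of the centralizer of `D` fix `D` under conjugation. -/
theorem map_conj_eq_self_of_mem_centralizer (D : Subgroup G) {c : G}
    (hc : c ∈ centralizer (D : Set G)) : D.map (MulAut.conj c).toMonoidHom = D := by
  rw [map_conj_eq_iff_mem_normalizer]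
  exact Subgroup.centralizer_le_normalizer (D : Set G) hc

theorem map_conj_inf (A B : Subgroup G) (g : G) :
    (A ⊓ B).map (MulAut.conj g).toMonoidHom =
      A.map (MulAut.conj g).toMonoidHom ⊓ B.map (MulAut.conj g).toMonoidHom :=
  Subgroup.map_inf A B _ (MulAut.conj g).injective

theorem map_conj_mono {A B : Subgroup G} (h : A ≤ B) (g : G) :
    A.map (MulAut.conj g).toMonoidHom ≤ B.map (MulAut.conj g).toMonoidHom :=
  Subgroup.map_mono h

/-- If the `p'`-elements of `N_G(D)` centralize `D`, then `N_G(D) = T · C_G(D)` for every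
Sylow `p`-subgroup `T` of `N_G(D)`. -/
theorem normalizer_decomp [Finite G] {p : ℕ} [Fact p.Prime] (D : Subgroup G)
    (hD : ∀ g ∈ normalizer (D : Set G), Nat.Coprime (orderOf g) p → g ∈ centralizer (D : Set G))
    (T : Sylow p (normalizer (D : Set G))) (n : G) (hn : n ∈ normalizer (D : Set G)) :
    ∃ t ∈ (T : Subgroup (normalizer (D : Set G))).map (normalizer (D : Set G)).subtype,
      ∃ c ∈ centralizer (D : Set G), n = t * c := by
  have hR : Cfsg.pResidual p (normalizer (D : Set G)) ≤
      (centralizer (D : Set G)).subgroupOf (normalizer (D : Set G)) := by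
    unfold Cfsg.pResidual
    rw [Subgroup.closure_le]
    intro g hg
    have hg' : Nat.Coprime (orderOf g) p := hg
    rw [SetLike.mem_coe, Subgroup.mem_subgroupOf]
    apply hD _ g.2
    rwa [Subgroup.orderOf_coe]
  have hsup := sylow_sup_pResidual T
  have hmem : (⟨n, hn⟩ : normalizer (D : Set G)) ∈
      (T : Subgroup (normalizer (D : Set G))) ⊔ Cfsg.pResidual p (normalizer (D : Set G)) := by
    rw [hsup]; trivial
  rw [← SetLike.mem_coe, Subgroup.mul_normal, Set.mem_mul] at hmem
  obtain ⟨t, ht, r, hr, htr⟩ := hmem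
  refine ⟨(t : G), ⟨t, ht, rfl⟩, (r : G), ?_, ?_⟩
  · exact Subgroup.mem_subgroupOf.mp (hR hr)
  · have := congrArg Subtype.val htr
    simpa using this.symm

/-- The Frobenius condition on the subgroups of `P`. -/
def FrobeniusCond (p : ℕ) (P : Subgroup G) : Prop :=
  ∀ D : Subgroup G, D ≤ P → ∀ g ∈ normalizer (D : Set G), Nat.Coprime (orderOf g) p →
    g ∈ centralizer (D : Set G)

/-- Under the Frobenius condition, every Sylow `p`-subgroup `Q` is conjugate to `P` by an element
centralizing `P ∩ Q`. -/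
theorem sylow_eq_smul_of_frobeniusCond [Finite G] {p : ℕ} [Fact p.Prime] (P : Sylow p G)
    (hc : FrobeniusCond p (P : Subgroup G)) :
    ∀ (m : ℕ) (Q : Sylow p G),
      Nat.card (P : Subgroup G) - Nat.card ((P : Subgroup G) ⊓ (Q : Subgroup G) : Subgroup G) = m →
      ∃ c ∈ centralizer ((((P : Subgroup G) ⊓ (Q : Subgroup G) : Subgroup G)) : Set G),
        Q = c • P := by
  intro m
  induction m using Nat.strong_induction_on with
  | _ m ih =>
    intro Q hm
    set D : Subgroup G := (P : Subgroup G) ⊓ (Q : Subgroup G) with hDdef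
    have hDP : D ≤ (P : Subgroup G) := inf_le_left
    have hDQ : D ≤ (Q : Subgroup G) := inf_le_right
    have hcardle : Nat.card D ≤ Nat.card (P : Subgroup G) := Subgroup.card_le_of_le hDP
    by_cases hcard : Nat.card (P : Subgroup G) ≤ Nat.card D
    · -- D = P, so P ≤ Q and Q = P
      have hDeq : D = (P : Subgroup G) := Subgroup.eq_of_le_of_card_ge hDP hcard
      have hPQ : (P : Subgroup G) ≤ (Q : Subgroup G) := hDeq ▸ hDQ
      have hQP : (Q : Subgroup G) = (P : Subgroup G) := P.is_maximal' Q.2 hPQ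
      refine ⟨1, Subgroup.one_mem _, ?_⟩
      rw [one_smul]
      exact Sylow.ext hQP
    · rw [not_le] at hcard
      have hDltP : D < (P : Subgroup G) := by
        refine lt_of_le_of_ne hDP ?_
        intro h
        rw [h] at hcard
        exact lt_irrefl _ hcard
      have hDltQ : D < (Q : Subgroup G) := by
        refine lt_of_le_of_ne hDQ ?_
        intro h
        have hQP : (Q : Subgroup G) ≤ (P : Subgroup G) := h ▸ hDP
        have : (P : Subgroup G) = (Q : Subgroup G) := Q.is_maximal' P.2 hQP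
        rw [← this] at h
        rw [h] at hcard
        exact lt_irrefl _ hcard
      set N := normalizer (D : Set G) with hN
      have hDN : D ≤ N := Subgroup.le_normalizer
      -- normalizers grow
      obtain ⟨xP, hxP, hxPD, hxPn⟩ := exists_normalizing_not_mem p (P : Subgroup G) D P.2 hDltP
      obtain ⟨xQ, hxQ, hxQD, hxQn⟩ := exists_normalizing_not_mem p (Q : Subgroup G) D Q.2 hDltQ
      rw [map_conj_eq_iff_mem_normalizer] at hxPn hxQn
      set AP : Subgroup G := N ⊓ (P : Subgroup G) with hAP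
      set AQ : Subgroup G := N ⊓ (Q : Subgroup G) with hAQ
      have hDAP : D ≤ AP := le_inf hDN hDP
      have hDAQ : D ≤ AQ := le_inf hDN hDQ
      have hcardAP : Nat.card D < Nat.card AP := by
        by_contra hcon
        rw [not_lt] at hcon
        have : D = AP := Subgroup.eq_of_le_of_card_ge hDAP hcon
        exact hxPD (this ▸ (⟨hxPn, hxP⟩ : xP ∈ AP))
      have hcardAQ : Nat.card D < Nat.card AQ := by
        by_contra hcon
        rw [not_lt] at hcon
        have : D = AQ := Subgroup.eq_of_le_of_card_ge hDAQ hcon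
        exact hxQD (this ▸ (⟨hxQn, hxQ⟩ : xQ ∈ AQ))
      -- Sylow subgroups of N
      have hAPp : IsPGroup p (AP.subgroupOf N) := (P.2.to_le inf_le_right).comap_subtype
      have hAQp : IsPGroup p (AQ.subgroupOf N) := (Q.2.to_le inf_le_right).comap_subtype
      obtain ⟨T, hT⟩ := hAPp.exists_le_sylow
      obtain ⟨S, hS⟩ := hAQp.exists_le_sylow
      set Tm : Subgroup G := (T : Subgroup N).map N.subtype with hTm
      have hTmp : IsPGroup p Tm := T.2.map _
      obtain ⟨R, hR⟩ := hTmp.exists_le_sylow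
      have hAPT : AP ≤ Tm := by
        intro a ha
        exact ⟨⟨a, ha.1⟩, hT (Subgroup.mem_subgroupOf.mpr ha), rfl⟩
      have hAPR : AP ≤ (P : Subgroup G) ⊓ (R : Subgroup G) := le_inf inf_le_right (hAPT.trans hR)
      have hDR : D ≤ (R : Subgroup G) := hDAP.trans (hAPT.trans hR)
      -- induction for R
      have hPpos : Nat.card ((P : Subgroup G) ⊓ (R : Subgroup G) : Subgroup G) ≤
          Nat.card (P : Subgroup G) := Subgroup.card_le_of_le inf_le_left
      have hm1 : Nat.card (P : Subgroup G) -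
          Nat.card ((P : Subgroup G) ⊓ (R : Subgroup G) : Subgroup G) < m := by
        have h1 : Nat.card AP ≤ Nat.card ((P : Subgroup G) ⊓ (R : Subgroup G) : Subgroup G) :=
          Subgroup.card_le_of_le hAPR
        omega
      obtain ⟨c₁, hc₁, hRc₁⟩ := ih _ hm1 R rfl
      have hc₁D : c₁ ∈ centralizer (D : Set G) :=
        Subgroup.centralizer_le (by exact_mod_cast hDAP.trans hAPR) hc₁
      -- conjugate AQ into T inside N
      obtain ⟨n, hn⟩ := MulAction.exists_smul_eq N S T
      obtain ⟨t, ht, c₂, hc₂, hntc⟩ := normalizer_decomp D (hc D hDP) T (n : G) n.2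
      have hAQconj : AQ.map (MulAut.conj c₂).toMonoidHom ≤ Tm := by
        rintro _ ⟨a, ha, rfl⟩
        have haS : (⟨a, ha.1⟩ : N) ∈ (S : Subgroup N) := hS (Subgroup.mem_subgroupOf.mpr ha)
        have h1 : n * ⟨a, ha.1⟩ * n⁻¹ ∈ ((n • S : Sylow p N) : Subgroup N) := by
          rw [sylow_smul_coe_eq_map]
          exact conj_mem_map_conj _ n haS
        rw [hn] at h1
        have h2 : (n : G) * a * (n : G)⁻¹ ∈ Tm := ⟨n * ⟨a, ha.1⟩ * n⁻¹, h1, rfl⟩
        rw [hntc] at h2
        have h3 : t⁻¹ * (t * c₂ * a * (t * c₂)⁻¹) * t ∈ Tm :=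
          Tm.mul_mem (Tm.mul_mem (Tm.inv_mem ht) h2) ht
        have e : t⁻¹ * (t * c₂ * a * (t * c₂)⁻¹) * t = c₂ * a * c₂⁻¹ := by group
        rw [e] at h3
        simpa using h3
      set Q' : Sylow p G := c₂ • Q with hQ'
      have hQ'coe : (Q' : Subgroup G) = (Q : Subgroup G).map (MulAut.conj c₂).toMonoidHom := rfl
      have hDQ' : D ≤ (Q' : Subgroup G) := by
        rw [hQ'coe, ← map_conj_eq_self_of_mem_centralizer D hc₂]
        exact map_conj_mono hDQ c₂
      have hAQQ' : AQ.map (MulAut.conj c₂).toMonoidHom ≤ (R : Subgroup G) ⊓ (Q' : Subgroup G) := by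
        apply le_inf (hAQconj.trans hR)
        rw [hQ'coe]
        exact map_conj_mono inf_le_right c₂
      set Q'' : Sylow p G := c₁⁻¹ • Q' with hQ''
      have hQ''coe : (Q'' : Subgroup G) = (Q' : Subgroup G).map (MulAut.conj c₁⁻¹).toMonoidHom := rfl
      have hPcoe : (P : Subgroup G) = (R : Subgroup G).map (MulAut.conj c₁⁻¹).toMonoidHom := by
        have : P = c₁⁻¹ • R := by rw [hRc₁, inv_smul_smul]
        conv_lhs => rw [this]
        rfl
      have hinf : (P : Subgroup G) ⊓ (Q'' : Subgroup G) =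
          ((R : Subgroup G) ⊓ (Q' : Subgroup G)).map (MulAut.conj c₁⁻¹).toMonoidHom := by
        rw [map_conj_inf, ← hPcoe, ← hQ''coe]
      have hcard2 : Nat.card D <
          Nat.card ((P : Subgroup G) ⊓ (Q'' : Subgroup G) : Subgroup G) := by
        rw [hinf, card_map_conj]
        calc Nat.card D < Nat.card AQ := hcardAQ
          _ = Nat.card (AQ.map (MulAut.conj c₂).toMonoidHom) := (card_map_conj AQ c₂).symm
          _ ≤ _ := Subgroup.card_le_of_le hAQQ'
      have hm2 : Nat.card (P : Subgroup G) -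
          Nat.card ((P : Subgroup G) ⊓ (Q'' : Subgroup G) : Subgroup G) < m := by
        omega
      obtain ⟨c₃, hc₃, hQ''c₃⟩ := ih _ hm2 Q'' rfl
      have hDQ'' : D ≤ (Q'' : Subgroup G) := by
        rw [hQ''coe, ← map_conj_eq_self_of_mem_centralizer D (inv_mem hc₁D)]
        exact map_conj_mono hDQ' c₁⁻¹
      have hc₃D : c₃ ∈ centralizer (D : Set G) :=
        Subgroup.centralizer_le (by exact_mod_cast (le_inf hDP hDQ'')) hc₃
      refine ⟨c₂⁻¹ * c₁ * c₃, mul_mem (mul_mem (inv_mem hc₂) hc₁D) hc₃D, ?_⟩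
      have e1 : Q = c₂⁻¹ • Q' := by rw [hQ', inv_smul_smul]
      have e2 : Q' = c₁ • Q'' := by rw [hQ'', smul_inv_smul]
      rw [e1, e2, hQ''c₃, ← mul_smul, ← mul_smul, mul_assoc]

/-- Under the Frobenius condition, `P` controls its own fusion. -/
theorem controls_fusion_of_frobeniusCond [Finite G] {p : ℕ} [Fact p.Prime] (P : Sylow p G)
    (hc : FrobeniusCond p (P : Subgroup G)) (x : G) (hx : x ∈ (P : Subgroup G)) (g : G)
    (hy : g * x * g⁻¹ ∈ (P : Subgroup G)) : ∃ u ∈ (P : Subgroup G), u * x * u⁻¹ = g * x * g⁻¹ := by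
  set Q : Sylow p G := g⁻¹ • P with hQ
  have hQcoe : (Q : Subgroup G) = (P : Subgroup G).map (MulAut.conj g⁻¹).toMonoidHom := rfl
  have hxQ : x ∈ (Q : Subgroup G) := by
    rw [hQcoe, mem_map_conj_iff, inv_inv]
    exact hy
  obtain ⟨c, hcC, hQc⟩ := sylow_eq_smul_of_frobeniusCond P hc _ Q rfl
  have hcx : x * c = c * x := (mem_centralizer_iff.mp hcC) x ⟨hx, hxQ⟩
  have hgc : (g * c) • P = P := by
    rw [mul_smul, ← hQc, hQ, smul_inv_smul]
  have hgcN : g * c ∈ normalizer ((P : Subgroup G) : Set G) := Sylow.smul_eq_iff_mem_normalizer.mp hgc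
  -- decompose g * c
  have hPp : IsPGroup p ((P : Subgroup G).subgroupOf (normalizer ((P : Subgroup G) : Set G))) :=
    P.2.comap_subtype
  obtain ⟨T, hT⟩ := hPp.exists_le_sylow
  have hTP : (T : Subgroup _).map (normalizer ((P : Subgroup G) : Set G)).subtype = (P : Subgroup G) := by
    apply P.is_maximal' (T.2.map _)
    intro a ha
    exact ⟨⟨a, Subgroup.le_normalizer ha⟩, hT (Subgroup.mem_subgroupOf.mpr ha), rfl⟩
  obtain ⟨t, ht, z, hz, hgctz⟩ := normalizer_decomp (P : Subgroup G) (hc _ le_rfl) T (g * c) hgcN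
  rw [hTP] at ht
  refine ⟨t, ht, ?_⟩
  have hzx : x * z = z * x := (mem_centralizer_iff.mp hz) x hx
  calc t * x * t⁻¹ = t * (z * x * z⁻¹) * t⁻¹ := by rw [← hzx]; group
    _ = (t * z) * x * (t * z)⁻¹ := by group
    _ = (g * c) * x * (g * c)⁻¹ := by rw [hgctz]
    _ = g * (c * x * c⁻¹) * g⁻¹ := by group
    _ = g * x * g⁻¹ := by rw [← hcx]; group

end Cfsg.Agent.Helper9
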