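import Mathlib
import Cfsg.Prelude.Def_Transfer
import Cfsg.Agent.Helper9.FusionControl
import Cfsg.Agent.Helper9.FocalCoprime
import Cfsg.Agent.Helper9.Focal
import Cfsg.Agent.Helper9.NPC
import Cfsg.Agent.Helper17.Basic

set_option autoImplicit false

namespace Cfsg.Agent.Helper9

open Subgroup
open scoped Pointwise commutatorElement

universe u

/-- `P` controls its own fusion (elementwise). -/
def ControlsFusion {G : Type*} [Group G] (P : Subgroup G) : Prop :=
  ∀ x ∈ P, ∀ g : G, g * x * g⁻¹ ∈ P → ∃ u ∈ P, u * x * u⁻¹ = g * x * g⁻¹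

section
variable {G : Type*} [Group G]

/-- If `P` controls its own fusion then the focal subgroup of `P` is `P'`. -/
theorem focalSubgroup_le_commutator_of_controlsFusion (P : Subgroup G) (h : ControlsFusion P) :
    focalSubgroup P ≤ ⁅P, P⁆ := by
  rw [focalSubgroup_def, closure_le]
  rintro g ⟨hg, x, hx, u, rfl⟩
  have h1 : u * x⁻¹ * u⁻¹ ∈ P := by
    have h2 := P.mul_mem (P.inv_mem hx) hg
    have h3 : x⁻¹ * ⁅x, u⁆ = u * x⁻¹ * u⁻¹ := by
      rw [commutatorElement_def]; group
    rwa [h3] at h2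
  obtain ⟨z, hz, hzx⟩ := h x⁻¹ (inv_mem hx) u h1
  have h4 : ⁅x, u⁆ = ⁅x, z⁆ := by
    rw [commutatorElement_def, commutatorElement_def]
    have e1 : x * u * x⁻¹ * u⁻¹ = x * (u * x⁻¹ * u⁻¹) := by group
    have e2 : x * z * x⁻¹ * z⁻¹ = x * (z * x⁻¹ * z⁻¹) := by group
    rw [e1, e2, hzx]
  rw [h4]
  exact Subgroup.commutator_mem_commutator hx hz

/-- A Sylow `p`-subgroup of `G` meets a normal subgroup `K` in a Sylow `p`-subgroup of `K`. -/
theorem exists_sylow_of_normal [Finite G] {p : ℕ} [Fact p.Prime] (P : Sylow p G)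
    (K : Subgroup G) [K.Normal] :
    ∃ PK : Sylow p K, (PK : Subgroup K) = ((P : Subgroup G) ⊓ K).subgroupOf K := by
  have hp : IsPGroup p (((P : Subgroup G) ⊓ K).subgroupOf K) :=
    (P.2.to_le inf_le_left).comap_subtype
  obtain ⟨S, hS⟩ := hp.exists_le_sylow
  refine ⟨S, ?_⟩
  symm
  apply Subgroup.eq_of_le_of_card_ge hS
  -- card S ≤ card (P ⊓ K)
  set Sm : Subgroup G := (S : Subgroup K).map K.subtype with hSm
  have hSmp : IsPGroup p Sm := S.2.map _
  have hSmK : Sm ≤ K := Subgroup.map_subtype_le _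
  obtain ⟨h, hh⟩ := exists_le_conj_sylow P Sm hSmp
  have h1 : Sm.map (MulAut.conj h⁻¹).toMonoidHom ≤ (P : Subgroup G) ⊓ K := by
    apply le_inf
    · rw [map_conj_le_iff, inv_inv]; exact hh
    · rintro _ ⟨s, hs, rfl⟩
      exact (inferInstance : K.Normal).conj_mem s (hSmK hs) h⁻¹
  have h2 : Nat.card Sm = Nat.card (S : Subgroup K) :=
    Subgroup.card_map_of_injective K.subtype_injective
  have h3 : Nat.card (((P : Subgroup G) ⊓ K).subgroupOf K) =
      Nat.card ((P : Subgroup G) ⊓ K : Subgroup G) :=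
    Nat.card_congr (Subgroup.subgroupOfEquivOfLe inf_le_right).toEquiv
  rw [h3, ← h2, ← card_map_conj Sm h⁻¹]
  exact Subgroup.card_le_of_le h1

/-- If `P` controls its own fusion, `C_P(x)` is a maximal `p`-subgroup of `C_G(x)` for `x ∈ P`. -/
theorem centralizer_inf_sylow_maximal [Finite G] {p : ℕ} [Fact p.Prime] (P : Sylow p G)
    (hfus : ControlsFusion (P : Subgroup G)) (x : G) (hx : x ∈ (P : Subgroup G))
    (S : Subgroup G) (hS : IsPGroup p S) (hSC : S ≤ centralizer ({x} : Set G))
    (hle : (P : Subgroup G) ⊓ centralizer ({x} : Set G) ≤ S) :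
    S = (P : Subgroup G) ⊓ centralizer ({x} : Set G) := by
  symm
  apply Subgroup.eq_of_le_of_card_ge hle
  obtain ⟨h, hh⟩ := exists_le_conj_sylow P S hS
  have hxS : x ∈ S := hle ⟨hx, by
    show x ∈ centralizer ({x} : Set G)
    rw [mem_centralizer_singleton_iff]⟩
  have h1 : h⁻¹ * x * h ∈ (P : Subgroup G) := (mem_map_conj_iff _ h x).mp (hh hxS)
  have h1' : h⁻¹ * x * h⁻¹⁻¹ ∈ (P : Subgroup G) := by rwa [inv_inv]
  obtain ⟨u, hu, hux⟩ := hfus x hx h⁻¹ h1'
  rw [inv_inv] at hux
  -- w = h * u centralizes x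
  have hw : (h * u) * x = x * (h * u) := by
    have : h * (u * x * u⁻¹) * h⁻¹ = x := by rw [hux]; group
    calc (h * u) * x = (h * (u * x * u⁻¹) * h⁻¹) * (h * u) := by group
      _ = x * (h * u) := by rw [this]
  have hPu : (P : Subgroup G).map (MulAut.conj u).toMonoidHom = (P : Subgroup G) := by
    rw [map_conj_eq_iff_mem_normalizer]; exact Subgroup.le_normalizer hu
  have hSw : S ≤ (P : Subgroup G).map (MulAut.conj (h * u)).toMonoidHom := by
    rw [← map_conj_mul, hPu]; exact hh
  have h2 : S.map (MulAut.conj (h * u)⁻¹).toMonoidHom ≤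
      (P : Subgroup G) ⊓ centralizer ({x} : Set G) := by
    apply le_inf
    · rw [map_conj_le_iff, inv_inv]; exact hSw
    · rintro _ ⟨s, hs, rfl⟩
      have hsx := mem_centralizer_singleton_iff.mp (hSC hs)
      show _ ∈ centralizer ({x} : Set G)
      rw [mem_centralizer_singleton_iff]
      simp only [MulEquiv.coe_toMonoidHom, MulAut.conj_apply, inv_inv]
      have hw' : (h * u)⁻¹ * x = x * (h * u)⁻¹ := by
        have : x = (h * u)⁻¹ * ((h * u) * x) := by group
        calc (h * u)⁻¹ * x = (h * u)⁻¹ * x * ((h * u) * (h * u)⁻¹) := by group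
          _ = (h * u)⁻¹ * (x * (h * u)) * (h * u)⁻¹ := by group
          _ = (h * u)⁻¹ * ((h * u) * x) * (h * u)⁻¹ := by rw [hw]
          _ = x * (h * u)⁻¹ := by group
      calc (h * u)⁻¹ * s * (h * u) * x = (h * u)⁻¹ * s * (x * (h * u)) := by rw [← hw]; group
        _ = (h * u)⁻¹ * (s * x) * (h * u) := by group
        _ = (h * u)⁻¹ * (x * s) * (h * u) := by rw [hsx]
        _ = ((h * u)⁻¹ * x) * s * (h * u) := by group
        _ = (x * (h * u)⁻¹) * s * (h * u) := by rw [hw']
        _ = x * ((h * u)⁻¹ * s * (h * u)) := by group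
  rw [← card_map_conj S (h * u)⁻¹]
  exact Subgroup.card_le_of_le h2

/-- If `P` controls its own fusion and `K ⊴ G` contains all `p'`-elements, then
`C_G(x) = C_P(x) (K ∩ C_G(x))` for `x ∈ P`. -/
theorem centralizer_decomp_of_controlsFusion [Finite G] {p : ℕ} [Fact p.Prime] (P : Sylow p G)
    (hfus : ControlsFusion (P : Subgroup G)) (K : Subgroup G) (hK : Cfsg.pResidual p G ≤ K)
    (x : G) (hx : x ∈ (P : Subgroup G)) (c : G) (hc : c ∈ centralizer ({x} : Set G)) :
    ∃ v ∈ (P : Subgroup G) ⊓ centralizer ({x} : Set G), ∃ r ∈ K ⊓ centralizer ({x} : Set G),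
      c = v * r := by
  have hCPp : IsPGroup p ((((P : Subgroup G) ⊓ centralizer ({x} : Set G)) : Subgroup G).subgroupOf
      (centralizer ({x} : Set G))) := (P.2.to_le inf_le_left).comap_subtype
  obtain ⟨T, hT⟩ := hCPp.exists_le_sylow
  have hTm : (T : Subgroup (centralizer ({x} : Set G))).map (centralizer ({x} : Set G)).subtype =
      (P : Subgroup G) ⊓ centralizer ({x} : Set G) := by
    apply centralizer_inf_sylow_maximal P hfus x hx _ (T.2.map _) (Subgroup.map_subtype_le _)
    intro a ha
    exact ⟨⟨a, ha.2⟩, hT (Subgroup.mem_subgroupOf.mpr ha), rfl⟩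
  have hR : Cfsg.pResidual p (centralizer ({x} : Set G)) ≤
      K.subgroupOf (centralizer ({x} : Set G)) := by
    unfold Cfsg.pResidual
    rw [Subgroup.closure_le]
    intro g hg
    have hg' : Nat.Coprime (orderOf g) p := hg
    rw [SetLike.mem_coe, Subgroup.mem_subgroupOf]
    apply hK
    apply mem_pResidual_of_coprime
    rwa [Subgroup.orderOf_coe]
  have hsup := sylow_sup_pResidual T
  have hmem : (⟨c, hc⟩ : centralizer ({x} : Set G)) ∈
      (T : Subgroup (centralizer ({x} : Set G))) ⊔
        Cfsg.pResidual p (centralizer ({x} : Set G)) := by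
    rw [hsup]; trivial
  rw [← SetLike.mem_coe, Subgroup.mul_normal, Set.mem_mul] at hmem
  obtain ⟨t, ht, r, hr, htr⟩ := hmem
  refine ⟨(t : G), ?_, (r : G), ⟨Subgroup.mem_subgroupOf.mp (hR hr), r.2⟩, ?_⟩
  · rw [← hTm]; exact ⟨t, ht, rfl⟩
  · have := congrArg Subtype.val htr
    simpa using this.symm

end

/-- **Frobenius**: a Sylow `p`-subgroup controlling its own fusion has a normal complement. -/
theorem exists_normal_complement_of_controlsFusion :
    ∀ (n : ℕ) (G : Type u) [Group G] [Finite G] (p : ℕ) [Fact p.Prime] (P : Sylow p G),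
      Nat.card G = n → ControlsFusion (P : Subgroup G) →
      ∃ N : Subgroup G, N.Normal ∧ N.IsComplement' (P : Subgroup G) := by
  intro n
  induction n using Nat.strong_induction_on with
  | _ n ih =>
    intro G _ _ p _ P hn hfus
    by_cases hP : (P : Subgroup G) = ⊥
    · refine ⟨⊤, inferInstance, ?_⟩
      rw [hP]; exact isComplement'_top_bot
    -- the kernel of the transfer
    set K : Subgroup G := (transferFocal (P : Subgroup G)).ker with hKdef
    obtain ⟨hK1, hK2⟩ := sylow_transferFocal_ker P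
    rw [← hKdef] at hK1 hK2
    have hKP : K ⊓ (P : Subgroup G) ≤ ⁅(P : Subgroup G), (P : Subgroup G)⁆ := by
      rw [hK1]; exact focalSubgroup_le_commutator_of_controlsFusion _ hfus
    -- P' < P
    have hPP : ⁅(P : Subgroup G), (P : Subgroup G)⁆ < (P : Subgroup G) := by
      have : Nontrivial (P : Subgroup G) := (Subgroup.nontrivial_iff_ne_bot _).mpr hP
      have : Group.IsNilpotent (P : Subgroup G) := P.2.isNilpotent
      have hlt : commutator (P : Subgroup G) < ⊤ :=
        Group.IsSolvable.commutator_lt_top_of_nontrivial (P : Subgroup G)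
      rw [← Subgroup.map_subtype_commutator]
      have h1 : (commutator (P : Subgroup G)).map (P : Subgroup G).subtype <
          (⊤ : Subgroup (P : Subgroup G)).map (P : Subgroup G).subtype :=
        (Subgroup.map_subtype_lt_map_subtype).mpr hlt
      rwa [← MonoidHom.range_eq_map, Subgroup.range_subtype] at h1
    have hKne : K ≠ ⊤ := by
      intro h
      rw [h, top_inf_eq] at hKP
      exact not_le_of_gt hPP hKP
    have hKcard : Nat.card K < n := by
      rw [← hn]
      by_contra hcon
      rw [not_lt] at hcon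
      apply hKne
      rw [← Subgroup.card_eq_iff_eq_top]
      exact le_antisymm (Subgroup.card_le_card_group K) hcon
    have hpresK : Cfsg.pResidual p G ≤ K := pResidual_le_ker_transferFocal P
    -- Sylow of K
    obtain ⟨PK, hPK⟩ := exists_sylow_of_normal P K
    have hmemPK : ∀ k : K, k ∈ (PK : Subgroup K) ↔ (k : G) ∈ (P : Subgroup G) := by
      intro k
      rw [hPK, Subgroup.mem_subgroupOf]
      exact ⟨fun h => h.1, fun h => ⟨h, k.2⟩⟩
    -- PK controls fusion in K
    have hfusK : ControlsFusion (PK : Subgroup K) := by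
      intro x hx k hy
      have hxP : (x : G) ∈ (P : Subgroup G) := (hmemPK x).mp hx
      have hyP : (k : G) * (x : G) * (k : G)⁻¹ ∈ (P : Subgroup G) := by
        have := (hmemPK _).mp hy
        simpa using this
      obtain ⟨u, hu, hux⟩ := hfus (x : G) hxP (k : G) hyP
      -- u⁻¹ k centralizes x
      have hcent : u⁻¹ * (k : G) ∈ centralizer ({(x : G)} : Set G) := by
        rw [mem_centralizer_singleton_iff]
        have : (x : G) = u⁻¹ * ((k : G) * (x : G) * (k : G)⁻¹) * u := by rw [← hux]; group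
        calc u⁻¹ * (k : G) * (x : G) = u⁻¹ * ((k : G) * (x : G) * (k : G)⁻¹) * u * (u⁻¹ * k) := by
              group
          _ = (x : G) * (u⁻¹ * k) := by rw [← this]
      obtain ⟨v, hv, r, hr, hvr⟩ :=
        centralizer_decomp_of_controlsFusion P hfus K hpresK (x : G) hxP _ hcent
      -- u' = u * v = k * r⁻¹
      have huv : u * v = (k : G) * r⁻¹ := by
        have : (k : G) = u * (v * r) := by rw [← hvr]; group
        rw [this]; group
      have huvK : u * v ∈ K := by
        rw [huv]; exact K.mul_mem k.2 (K.inv_mem hr.1)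
      have huvP : u * v ∈ (P : Subgroup G) := (P : Subgroup G).mul_mem hu hv.1
      refine ⟨⟨u * v, huvK⟩, (hmemPK _).mpr huvP, ?_⟩
      apply Subtype.ext
      have hvx : v * (x : G) = (x : G) * v := by
        have := mem_centralizer_singleton_iff.mp hv.2
        exact this
      simp only [Subgroup.coe_mul, Subgroup.coe_inv]
      calc u * v * (x : G) * (u * v)⁻¹ = u * (v * (x : G)) * v⁻¹ * u⁻¹ := by group
        _ = u * ((x : G) * v) * v⁻¹ * u⁻¹ := by rw [hvx]
        _ = u * (x : G) * u⁻¹ := by group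
        _ = (k : G) * (x : G) * (k : G)⁻¹ := hux
    -- induction
    obtain ⟨N₁, hN₁n, hN₁c⟩ := ih (Nat.card K) hKcard K p PK rfl hfusK
    have hN₁eq : N₁ = Cfsg.pResidual p K := by
      have := hN₁n
      exact normal_complement_eq_pResidual PK N₁ hN₁c
    have hchar : N₁.Characteristic := by rw [hN₁eq]; infer_instance
    have : K.Normal := by rw [hKdef]; infer_instance
    refine ⟨N₁.map K.subtype, inferInstance, ?_⟩
    -- cardinalities
    have hc1 : Nat.card (N₁.map K.subtype) = Nat.card N₁ :=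
      Subgroup.card_map_of_injective K.subtype_injective
    have hc2 : Nat.card N₁ * Nat.card (PK : Subgroup K) = Nat.card K := hN₁c.card_mul_card
    have hc3 : Nat.card (PK : Subgroup K) = Nat.card (K ⊓ (P : Subgroup G) : Subgroup G) := by
      rw [hPK, inf_comm]
      exact Nat.card_congr (Subgroup.subgroupOfEquivOfLe inf_le_left).toEquiv
    have hc4 := Cfsg.Agent.Helper17.card_sup_mul_card_inf_of_normal K (P : Subgroup G)
    rw [hK2, Subgroup.card_top] at hc4
    have hpos : 0 < Nat.card (K ⊓ (P : Subgroup G) : Subgroup G) := Nat.card_pos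
    have hprod : Nat.card (N₁.map K.subtype) * Nat.card (P : Subgroup G) = Nat.card G := by
      apply Nat.eq_of_mul_eq_mul_right hpos
      rw [hc1, hc4, ← hc2, hc3]; ring
    apply isComplement'_of_coprime hprod
    rw [hc1]
    have hidx : Nat.card N₁ = (PK : Subgroup K).index := hN₁c.index_eq_card.symm
    obtain ⟨a, ha⟩ := IsPGroup.iff_card.mp P.2
    rw [ha, hidx]
    exact Nat.Coprime.pow_right a
      ((Fact.out : p.Prime).coprime_iff_not_dvd.mpr PK.not_dvd_index).symm

end Cfsg.Agent.Helper9
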