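import Mathlib
import Cfsg.Prelude.Def_Transfer
import Cfsg.Agent.Helper9.Frobenius
import Cfsg.Agent.Lead.Coprime3

set_option autoImplicit false

namespace Cfsg.Agent.Helper9

open Subgroup
open scoped Pointwise commutatorElement

variable {G : Type*} [Group G]

/-- In a finite nilpotent group, an element normalizing a subgroup `K` of order prime to its own
order centralizes `K`. -/
theorem mem_centralizer_of_nilpotent_of_coprime [Finite G] [hG : Group.IsNilpotent G]
    (K : Subgroup G) (w : G) (hwK : w ∈ normalizer (K : Set G))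
    (hcop : Nat.Coprime (orderOf w) (Nat.card K)) : w ∈ centralizer (K : Set G) := by
  set A := zpowers w with hA
  have hAK : A ≤ normalizer (K : Set G) := by rw [hA, zpowers_le]; exact hwK
  have hcardA : Nat.card A = orderOf w := Nat.card_zpowers w
  have hcop' : (Nat.card A).Coprime (Nat.card K) := by rw [hcardA]; exact hcop
  have hsolv : Group.IsSolvable A := by
    have : IsMulCommutative A := by rw [hA]; infer_instance
    exact Group.isSolvable_of_comm (fun a b => mul_comm' a b)
  have hW := Cfsg.Agent.Lead.coprime_commutator_commutator A K hAK hcop' (Or.inl hsolv)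
  obtain ⟨n, hn⟩ := Subgroup.nilpotent_iff_lowerCentralSeries.mp hG
  have key : ∀ i, ⁅K, A⁆ ≤ Subgroup.lowerCentralSeries (⊤ : Subgroup G) i := by
    intro i
    induction i with
    | zero => exact le_top
    | succ i ih =>
      rw [Subgroup.lowerCentralSeries_succ, ← hW]
      exact Subgroup.commutator_mono ih le_top
  have hbot : ⁅K, A⁆ = ⊥ := by
    rw [eq_bot_iff, ← hn]; exact key n
  rw [Subgroup.commutator_eq_bot_iff_le_centralizer] at hbot
  rw [mem_centralizer_iff]
  intro k hk
  have := hbot hk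
  rw [mem_centralizer_iff] at this
  exact (this w (mem_zpowers w)).symm

/-- In a finite nilpotent group, `O^p(G)` centralizes every Sylow `p`-subgroup. -/
theorem pResidual_le_centralizer_sylow_of_nilpotent [Finite G] [hG : Group.IsNilpotent G]
    {p : ℕ} [Fact p.Prime] (S : Sylow p G) :
    Cfsg.pResidual p G ≤ centralizer ((S : Subgroup G) : Set G) := by
  unfold Cfsg.pResidual
  rw [Subgroup.closure_le]
  intro w hw
  have hw' : Nat.Coprime (orderOf w) p := hw
  have hSn : (S : Subgroup G).Normal := inferInstance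
  apply mem_centralizer_of_nilpotent_of_coprime (S : Subgroup G) w
  · rw [normalizer_eq_top_iff.mpr hSn]; trivial
  · obtain ⟨k, hk⟩ := IsPGroup.iff_card.mp S.2
    rw [hk]
    exact Nat.Coprime.pow_right k hw'

/-- For a nilpotent Hall subgroup `H` controlling its own fusion and a prime `p` dividing `|H|`,
`G` has a normal subgroup of index the `p`-part of `|H|` and order prime to `p`. -/
theorem exists_normal_of_nilpotent_hall [Finite G] (H : Subgroup G) (hH : Group.IsNilpotent H)
    (hHall : Nat.Coprime (Nat.card H) H.index)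
    (hfus : ∀ x ∈ H, ∀ y ∈ H, (∃ g : G, g * x * g⁻¹ = y) → ∃ h ∈ H, h * x * h⁻¹ = y)
    (p : ℕ) [Fact p.Prime] (hp : p ∣ Nat.card H) :
    ∃ N : Subgroup G, N.Normal ∧ N.index = p ^ (Nat.card H).factorization p ∧
      ¬ p ∣ Nat.card N := by
  obtain ⟨S⟩ : Nonempty (Sylow p H) := inferInstance
  set Pm : Subgroup G := (S : Subgroup H).map H.subtype with hPm
  have hPmp : IsPGroup p Pm := S.2.map _
  have hPmH : Pm ≤ H := Subgroup.map_subtype_le _
  have hidx : ¬ p ∣ Pm.index := by
    rw [hPm, Subgroup.index_map_subtype]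
    intro h
    rcases (Nat.Prime.dvd_mul (Fact.out : p.Prime)).mp h with h1 | h1
    · exact S.not_dvd_index h1
    · have := Nat.Coprime.eq_one_of_dvd (Nat.Coprime.coprime_dvd_left hp hHall) h1
      exact (Fact.out : p.Prime).one_lt.ne' this
  set P : Sylow p G := hPmp.toSylow hidx with hP
  have hPcoe : (P : Subgroup G) = Pm := rfl
  have hcf : ControlsFusion (P : Subgroup G) := by
    intro x hx g hy
    rw [hPcoe] at hx hy ⊢
    obtain ⟨h, hh, hhx⟩ := hfus x (hPmH hx) _ (hPmH hy) ⟨g, rfl⟩
    -- decompose h = s * r in H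
    have hsup := sylow_sup_pResidual S
    have hmem : (⟨h, hh⟩ : H) ∈ (S : Subgroup H) ⊔ Cfsg.pResidual p H := by rw [hsup]; trivial
    rw [← SetLike.mem_coe, Subgroup.mul_normal, Set.mem_mul] at hmem
    obtain ⟨s, hs, r, hr, hsr⟩ := hmem
    have hrc := pResidual_le_centralizer_sylow_of_nilpotent S hr
    obtain ⟨x', hx', hxx'⟩ := hx
    have hrx : r * x' = x' * r := ((mem_centralizer_iff.mp hrc) x' hx').symm
    refine ⟨(s : G), ⟨s, hs, rfl⟩, ?_⟩
    rw [← hhx]
    have hsr' : h = (s : G) * (r : G) := by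
      have := congrArg Subtype.val hsr
      simpa using this.symm
    have hrx' : (r : G) * x = x * (r : G) := by
      have := congrArg Subtype.val hrx
      rw [← hxx']
      simpa using this
    rw [hsr']
    calc (s : G) * x * (s : G)⁻¹ = (s : G) * (x * (r : G)) * (r : G)⁻¹ * (s : G)⁻¹ := by group
      _ = (s : G) * ((r : G) * x) * (r : G)⁻¹ * (s : G)⁻¹ := by rw [hrx']
      _ = (s : G) * (r : G) * x * ((s : G) * (r : G))⁻¹ := by group
  obtain ⟨N, hN, hc⟩ := exists_normal_complement_of_controlsFusion _ G p P rfl hcf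
  refine ⟨N, hN, ?_, ?_⟩
  · rw [hc.symm.index_eq_card, hPcoe, hPm, Subgroup.card_map_of_injective H.subtype_injective]
    exact S.card_eq_multiplicity
  · rw [← hc.index_eq_card]
    exact P.not_dvd_index

/-- A nilpotent Hall subgroup controlling its own fusion has a normal complement. -/
theorem exists_normal_complement_of_nilpotent_hall [Finite G] (H : Subgroup G)
    (hH : Group.IsNilpotent H) (hHall : Nat.Coprime (Nat.card H) H.index)
    (hfus : ∀ x ∈ H, ∀ y ∈ H, (∃ g : G, g * x * g⁻¹ = y) → ∃ h ∈ H, h * x * h⁻¹ = y) :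
    ∃ N : Subgroup G, N.Normal ∧ N.IsComplement' H := by
  classical
  set n := Nat.card H with hn
  have hn0 : n ≠ 0 := Nat.card_pos.ne'
  have key : ∀ i : n.primeFactors, ∃ N : Subgroup G, N.Normal ∧
      N.index = (i : ℕ) ^ n.factorization i ∧ ¬ (i : ℕ) ∣ Nat.card N := by
    intro i
    have : Fact (i : ℕ).Prime := ⟨Nat.prime_of_mem_primeFactors i.2⟩
    exact exists_normal_of_nilpotent_hall H hH hHall hfus i (Nat.dvd_of_mem_primeFactors i.2)
  choose f hf1 hf2 hf3 using key
  set N : Subgroup G := ⨅ i, f i with hNdef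
  have hNn : N.Normal := Subgroup.normal_iInf_normal hf1
  have hidx : N.index ≤ n := by
    calc N.index ≤ ∏ i, (f i).index := Subgroup.index_iInf_le f
      _ = ∏ i : n.primeFactors, (i : ℕ) ^ n.factorization i := Finset.prod_congr rfl (fun i _ => hf2 i)
      _ = n := (Nat.prod_primeFactors_coe_pow_factorization hn0).symm
  have hcop : Nat.Coprime (Nat.card N) n := by
    apply Nat.Coprime.symm
    apply Nat.coprime_of_dvd
    intro q hq hqn hqN
    have hqmem : q ∈ n.primeFactors := Nat.mem_primeFactors.mpr ⟨hq, hqn, hn0⟩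
    have hle : N ≤ f ⟨q, hqmem⟩ := iInf_le f ⟨q, hqmem⟩
    exact hf3 ⟨q, hqmem⟩ (hqN.trans (Subgroup.card_dvd_of_le hle))
  have hdisj : N ⊓ H = ⊥ := (Subgroup.disjoint_of_coprime_natCard hcop).eq_bot
  have h1 : Nat.card N * Nat.card H ≤ Nat.card G := by
    have := card_mul_le_of_disjoint N H ⊤ le_top le_top hdisj
    rwa [Subgroup.card_top] at this
  have h2 : Nat.card G ≤ Nat.card N * Nat.card H := by
    rw [← Subgroup.card_mul_index N]
    exact Nat.mul_le_mul_left _ hidx
  exact ⟨N, hNn, isComplement'_of_coprime (le_antisymm h1 h2) hcop⟩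

end Cfsg.Agent.Helper9
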