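import Mathlib
import Cfsg.Prelude.Def_Transfer
import Cfsg.Agent.Helper9.Focal
import Cfsg.Agent.Lead.CoprimeAbelian
import Cfsg.Agent.Helper23.Cyclic

set_option autoImplicit false

namespace Cfsg.Agent.Helper9

open Subgroup
open scoped commutatorElement Pointwise

variable {G : Type*} [Group G]

/-- Relative Schur–Zassenhaus existence: a normal Hall subgroup `A` of `H ≤ G` has a complement
in `H`. -/
theorem exists_relative_complement [Finite G] (A H : Subgroup G) (hAH : A ≤ H)
    (hn : H ≤ normalizer (A : Set G)) (hcop : Nat.Coprime (Nat.card A) (A.relIndex H)) :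
    ∃ K : Subgroup G, K ≤ H ∧ Nat.card K = A.relIndex H ∧ K ⊓ A = ⊥ ∧ A ⊔ K = H := by
  have : (A.subgroupOf H).Normal := (normal_subgroupOf_iff_le_normalizer hAH).mpr hn
  have hcard : Nat.card (A.subgroupOf H) = Nat.card A :=
    Nat.card_congr (Subgroup.subgroupOfEquivOfLe hAH).toEquiv
  have hcop' : Nat.Coprime (Nat.card (A.subgroupOf H)) (A.subgroupOf H).index := by
    rw [hcard]; exact hcop
  obtain ⟨K', hK'⟩ := Subgroup.exists_right_complement'_of_coprime hcop'
  refine ⟨K'.map H.subtype, ?_, ?_, ?_, ?_⟩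
  · exact Subgroup.map_subtype_le K'
  · rw [Subgroup.card_map_of_injective H.subtype_injective]
    exact hK'.symm.index_eq_card.symm
  · rw [eq_bot_iff]
    intro x hx
    obtain ⟨⟨k, hk, rfl⟩, hxA⟩ := hx
    have h1 : k ∈ A.subgroupOf H ⊓ K' := ⟨Subgroup.mem_subgroupOf.mpr hxA, hk⟩
    rw [hK'.disjoint.eq_bot, Subgroup.mem_bot] at h1
    rw [h1]; exact Subgroup.one_mem _
  · have h1 : A = (A.subgroupOf H).map H.subtype := (Subgroup.map_subgroupOf_eq_of_le hAH).symm
    conv_lhs => rw [h1]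
    rw [← Subgroup.map_sup, hK'.sup_eq_top, ← MonoidHom.range_eq_map, Subgroup.range_subtype]

/-- For `A` abelian and `K` normalizing `A`: `[A, A ⊔ K] = [A, K]`. -/
theorem commutator_sup_eq_of_comm (A K : Subgroup G)
    (hcomm : ∀ a ∈ A, ∀ b ∈ A, a * b = b * a) (hK : K ≤ normalizer (A : Set G)) :
    ⁅A, A ⊔ K⁆ = ⁅A, K⁆ := by
  have hAK_le_A : ⁅A, K⁆ ≤ A := Cfsg.Agent.Lead.commutator_le_of_le_normalizer hK
  apply le_antisymm
  · rw [Subgroup.commutator_le]
    intro a ha g hg
    rw [← SetLike.mem_coe, Subgroup.coe_mul_of_right_le_normalizer_left A K hK, Set.mem_mul] at hg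
    obtain ⟨b, hb, k, hk, rfl⟩ := hg
    have hak : ⁅a, k⁆ ∈ ⁅A, K⁆ := Subgroup.commutator_mem_commutator ha hk
    have hakA : ⁅a, k⁆ ∈ A := hAK_le_A hak
    have hab : a * b = b * a := hcomm a ha b hb
    have e1 : ⁅a, b * k⁆ = b * ⁅a, k⁆ * b⁻¹ := by
      rw [commutatorElement_def, commutatorElement_def]
      calc a * (b * k) * a⁻¹ * (b * k)⁻¹ = (a * b) * k * a⁻¹ * k⁻¹ * b⁻¹ := by group
        _ = (b * a) * k * a⁻¹ * k⁻¹ * b⁻¹ := by rw [hab]
        _ = b * (a * k * a⁻¹ * k⁻¹) * b⁻¹ := by group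
    have e2 : b * ⁅a, k⁆ * b⁻¹ = ⁅a, k⁆ := by
      rw [hcomm b hb _ hakA, mul_assoc, mul_inv_cancel, mul_one]
    rw [e1, e2]
    exact hak
  · exact Subgroup.commutator_mono le_rfl le_sup_right

/-- For `A` abelian: `A ∩ C(A ⊔ K) = A ∩ C(K)`. -/
theorem inf_centralizer_sup_eq_of_comm (A K : Subgroup G)
    (hcomm : ∀ a ∈ A, ∀ b ∈ A, a * b = b * a) :
    A ⊓ centralizer ((A ⊔ K : Subgroup G) : Set G) = A ⊓ centralizer (K : Set G) := by
  apply le_antisymm
  · exact inf_le_inf_left _ (Subgroup.centralizer_le (by exact_mod_cast (le_sup_right : K ≤ A ⊔ K)))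
  · intro x hx
    have hxA : x ∈ A := hx.1
    have hxK : x ∈ centralizer (K : Set G) := hx.2
    refine ⟨hxA, ?_⟩
    have hle : A ⊔ K ≤ centralizer ({x} : Set G) := by
      apply sup_le
      · intro b hb
        rw [Subgroup.mem_centralizer_singleton_iff]
        exact hcomm b hb x hxA
      · intro k hk
        rw [Subgroup.mem_centralizer_singleton_iff]
        exact (Subgroup.mem_centralizer_iff.mp hxK k hk)
    show x ∈ centralizer ((A ⊔ K : Subgroup G) : Set G)
    rw [Subgroup.mem_centralizer_iff]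
    intro g hg
    have := hle hg
    rw [Subgroup.mem_centralizer_singleton_iff] at this
    exact this

/-- Coprime decomposition of an abelian Sylow subgroup under its normalizer:
`P = C_P(N(P)) × [P, N(P)]`. -/
theorem abelian_sylow_decomp [Finite G] {p : ℕ} [Fact p.Prime] (P : Sylow p G)
    (hP : IsMulCommutative P) :
    ((P : Subgroup G) ⊓ centralizer (normalizer (P : Set G) : Set G)) ⊓
        ⁅(P : Subgroup G), normalizer (P : Set G)⁆ = ⊥ ∧
      ((P : Subgroup G) ⊓ centralizer (normalizer (P : Set G) : Set G)) ⊔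
        ⁅(P : Subgroup G), normalizer (P : Set G)⁆ = (P : Subgroup G) := by
  have hcomm : ∀ a ∈ (P : Subgroup G), ∀ b ∈ (P : Subgroup G), a * b = b * a := fun a ha b hb =>
    congrArg Subtype.val (hP.is_comm.comm ⟨a, ha⟩ ⟨b, hb⟩)
  have hcop : Nat.Coprime (Nat.card (P : Subgroup G))
      ((P : Subgroup G).relIndex (normalizer (P : Set G))) := by
    have h1 : (P : Subgroup G).relIndex (normalizer (P : Set G)) ∣ (P : Subgroup G).index :=
      Subgroup.relIndex_dvd_index_of_le Subgroup.le_normalizer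
    exact Nat.Coprime.coprime_dvd_right h1 P.card_coprime_index
  obtain ⟨K, hKN, hKcard, _, hPK⟩ :=
    exists_relative_complement (P : Subgroup G) (normalizer (P : Set G)) Subgroup.le_normalizer
      le_rfl hcop
  have : IsMulCommutative (P : Subgroup G) := hP
  have hcop' : (Nat.card K).Coprime (Nat.card (P : Subgroup G)) := by
    rw [hKcard]; exact hcop.symm
  obtain ⟨h1, h2⟩ := Cfsg.Agent.Lead.coprime_abelian_decomp K (P : Subgroup G) hKN hcop'
  rw [← hPK, commutator_sup_eq_of_comm _ _ hcomm hKN, inf_centralizer_sup_eq_of_comm _ _ hcomm]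
  exact ⟨h1, h2⟩

end Cfsg.Agent.Helper9

namespace Cfsg.Agent.Helper9

open Subgroup

variable {G : Type*} [Group G]

/-- A nontrivial `p`-subgroup contains an element of order `p`. -/
theorem exists_orderOf_eq_prime_of_ne_bot [Finite G] {p : ℕ} [Fact p.Prime] (A : Subgroup G)
    (hA : IsPGroup p A) (hne : A ≠ ⊥) : ∃ a ∈ A, orderOf a = p := by
  obtain ⟨k, hk⟩ := IsPGroup.iff_card.mp hA
  have hk0 : k ≠ 0 := by
    rintro rfl
    rw [pow_zero] at hk
    exact hne (A.card_eq_one.mp hk)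
  have hdvd : p ∣ Nat.card A := by
    rw [hk]; exact dvd_pow_self p hk0
  obtain ⟨a, ha⟩ := exists_prime_orderOf_dvd_card' p hdvd
  exact ⟨a, a.2, by rw [← ha, Subgroup.orderOf_coe]⟩

/-- Two subgroups of a cyclic `p`-group with trivial intersection: one of them is trivial. -/
theorem eq_bot_or_eq_bot_of_inf_eq_bot_of_isCyclic [Finite G] {p : ℕ} [Fact p.Prime]
    (P : Subgroup G) (hPp : IsPGroup p P) (hcyc : IsCyclic P) (A B : Subgroup G) (hA : A ≤ P)
    (hB : B ≤ P) (h : A ⊓ B = ⊥) : A = ⊥ ∨ B = ⊥ := by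
  by_contra hcon
  rw [not_or] at hcon
  obtain ⟨hA0, hB0⟩ := hcon
  have hAp : IsPGroup p A := hPp.to_le hA
  have hBp : IsPGroup p B := hPp.to_le hB
  obtain ⟨a, haA, hao⟩ := exists_orderOf_eq_prime_of_ne_bot A hAp hA0
  obtain ⟨b, hbB, hbo⟩ := exists_orderOf_eq_prime_of_ne_bot B hBp hB0
  have heq : zpowers a = zpowers b := by
    apply Cfsg.Agent.Helper23.eq_of_card_eq_of_isCyclic P hcyc
    · rw [zpowers_le]; exact hA haA
    · rw [zpowers_le]; exact hB hbB
    · rw [Nat.card_zpowers, Nat.card_zpowers, hao, hbo]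
  have haB : a ∈ B := by
    have : a ∈ zpowers b := by rw [← heq]; exact mem_zpowers a
    exact (zpowers_le.mpr hbB) this
  have : a ∈ A ⊓ B := ⟨haA, haB⟩
  rw [h, mem_bot] at this
  rw [this, orderOf_one] at hao
  exact (Fact.out : p.Prime).one_lt.ne hao

end Cfsg.Agent.Helper9
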