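import Mathlib

set_option autoImplicit false

namespace Cfsg.Agent.Helper9

open Subgroup
open scoped commutatorElement

/-- triangular numbers `C(n,2)`. -/
def triA : ℕ → ℕ
  | 0 => 0
  | n + 1 => triA n + n

/-- sums of squares `0² + ... + (n-1)²`. -/
def triB : ℕ → ℕ
  | 0 => 0
  | n + 1 => triB n + triA n + triA (n + 1)

/-- tetrahedral numbers `C(n,3)`. -/
def triF : ℕ → ℕ
  | 0 => 0
  | n + 1 => triF n + triA n

theorem two_mul_triA (n : ℕ) : 2 * triA (n + 1) = (n + 1) * n := by
  induction n with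
  | zero => simp [triA]
  | succ n ih =>
    have : triA (n + 1 + 1) = triA (n + 1) + (n + 1) := rfl
    rw [this, mul_add, ih]; ring

theorem six_mul_triB (n : ℕ) : 6 * triB (n + 1) = n * (n + 1) * (2 * n + 1) := by
  induction n with
  | zero => simp [triB, triA]
  | succ n ih =>
    have h1 : triB (n + 1 + 1) = triB (n + 1) + triA (n + 1) + triA (n + 1 + 1) := rfl
    have h2 : triA (n + 1 + 1) = triA (n + 1) + (n + 1) := rfl
    have h3 := two_mul_triA n
    rw [h1, h2]
    have : 6 * (triB (n + 1) + triA (n + 1) + (triA (n + 1) + (n + 1))) =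
        6 * triB (n + 1) + 6 * (2 * triA (n + 1)) + 6 * (n + 1) := by ring
    rw [this, ih, h3]; ring

theorem six_mul_triF (n : ℕ) : 6 * triF (n + 2) = n * (n + 1) * (n + 2) := by
  induction n with
  | zero => simp [triF, triA]
  | succ n ih =>
    have h1 : triF (n + 1 + 2) = triF (n + 2) + triA (n + 2) := rfl
    have h3 := two_mul_triA (n + 1)
    rw [h1, mul_add, ih]
    have : 6 * triA (n + 2) = 3 * (2 * triA (n + 1 + 1)) := by ring
    rw [this, h3]; ring

theorem prime_dvd_triA {p : ℕ} (hp : p.Prime) (h3 : 3 < p) : p ∣ triA p := by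
  obtain ⟨m, rfl⟩ : ∃ m, p = m + 1 := ⟨p - 1, by omega⟩
  have h := two_mul_triA m
  have h1 : (m + 1) ∣ 2 * triA (m + 1) := ⟨m, h⟩
  have hcop : Nat.Coprime (m + 1) 2 := by
    rw [Nat.coprime_primes hp Nat.prime_two]; omega
  exact hcop.dvd_of_dvd_mul_left h1

theorem prime_dvd_triB {p : ℕ} (hp : p.Prime) (h3 : 3 < p) : p ∣ triB p := by
  obtain ⟨m, rfl⟩ : ∃ m, p = m + 1 := ⟨p - 1, by omega⟩
  have h := six_mul_triB m
  have h1 : (m + 1) ∣ 6 * triB (m + 1) := ⟨m * (2 * m + 1), by rw [h]; ring⟩
  have hcop2 : Nat.Coprime (m + 1) 2 := by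
    rw [Nat.coprime_primes hp Nat.prime_two]; omega
  have hcop3 : Nat.Coprime (m + 1) 3 := by
    rw [Nat.coprime_primes hp Nat.prime_three]; omega
  have hcop : Nat.Coprime (m + 1) 6 := by
    have : (6 : ℕ) = 2 * 3 := by norm_num
    rw [this]; exact Nat.Coprime.mul_right hcop2 hcop3
  exact hcop.dvd_of_dvd_mul_left h1

theorem prime_dvd_triF {p : ℕ} (hp : p.Prime) (h3 : 3 < p) : p ∣ triF p := by
  obtain ⟨m, rfl⟩ : ∃ m, p = m + 2 := ⟨p - 2, by omega⟩
  have h := six_mul_triF m
  have h1 : (m + 2) ∣ 6 * triF (m + 2) := ⟨m * (m + 1), by rw [h]; ring⟩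
  have hcop2 : Nat.Coprime (m + 2) 2 := by
    rw [Nat.coprime_primes hp Nat.prime_two]; omega
  have hcop3 : Nat.Coprime (m + 2) 3 := by
    rw [Nat.coprime_primes hp Nat.prime_three]; omega
  have hcop : Nat.Coprime (m + 2) 6 := by
    have : (6 : ℕ) = 2 * 3 := by norm_num
    rw [this]; exact Nat.Coprime.mul_right hcop2 hcop3
  exact hcop.dvd_of_dvd_mul_left h1

variable {G : Type*} [Group G]

section collect

variable (x y c d e : G) (h1 : y * x = x * y * c) (h2 : c * y = y * c * d)
  (h3 : c * x = x * c * e) (hd : ∀ g : G, g * d = d * g) (he : ∀ g : G, g * e = e * g)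

include hd in
theorem central_pow_comm (k : ℕ) (g : G) : g * d ^ k = d ^ k * g := by
  induction k with
  | zero => simp
  | succ k ih => rw [pow_succ, ← mul_assoc, ih, mul_assoc, hd g, ← mul_assoc]

include h2 hd in
/-- `c^k * y = y * c^k * d^k`. -/
theorem collect_L1 (k : ℕ) : c ^ k * y = y * c ^ k * d ^ k := by
  induction k with
  | zero => simp
  | succ k ih =>
    calc c ^ (k + 1) * y = c * (c ^ k * y) := by rw [pow_succ', mul_assoc]
      _ = c * (y * c ^ k * d ^ k) := by rw [ih]
      _ = (c * y) * c ^ k * d ^ k := by simp only [mul_assoc]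
      _ = y * c * d * c ^ k * d ^ k := by rw [h2]
      _ = y * c * (d * c ^ k) * d ^ k := by simp only [mul_assoc]
      _ = y * c * (c ^ k * d) * d ^ k := by rw [hd (c ^ k)]
      _ = y * (c * c ^ k) * (d * d ^ k) := by simp only [mul_assoc]
      _ = y * c ^ (k + 1) * d ^ (k + 1) := by rw [← pow_succ', ← pow_succ']

include h2 hd in
/-- `c * y^k = y^k * c * d^k`. -/
theorem collect_L1' (k : ℕ) : c * y ^ k = y ^ k * c * d ^ k := by
  induction k with
  | zero => simp
  | succ k ih =>
    calc c * y ^ (k + 1) = (c * y ^ k) * y := by rw [pow_succ, mul_assoc]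
      _ = y ^ k * c * d ^ k * y := by rw [ih]
      _ = y ^ k * c * (d ^ k * y) := by simp only [mul_assoc]
      _ = y ^ k * c * (y * d ^ k) := by rw [central_pow_comm d hd k y]
      _ = y ^ k * (c * y) * d ^ k := by simp only [mul_assoc]
      _ = y ^ k * (y * c * d) * d ^ k := by rw [h2]
      _ = (y ^ k * y) * c * (d * d ^ k) := by simp only [mul_assoc]
      _ = y ^ (k + 1) * c * d ^ (k + 1) := by rw [← pow_succ, ← pow_succ']

include h1 h2 hd in
/-- `y^k * x = x * y^k * c^k * d^(C(k,2))`. -/
theorem collect_L3 (k : ℕ) : y ^ k * x = x * y ^ k * c ^ k * d ^ triA k := by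
  induction k with
  | zero => simp [triA]
  | succ k ih =>
    have hA : triA (k + 1) = triA k + k := rfl
    calc y ^ (k + 1) * x = y * (y ^ k * x) := by rw [pow_succ', mul_assoc]
      _ = y * (x * y ^ k * c ^ k * d ^ triA k) := by rw [ih]
      _ = (y * x) * y ^ k * c ^ k * d ^ triA k := by simp only [mul_assoc]
      _ = x * y * c * y ^ k * c ^ k * d ^ triA k := by rw [h1]
      _ = x * y * (c * y ^ k) * c ^ k * d ^ triA k := by simp only [mul_assoc]
      _ = x * y * (y ^ k * c * d ^ k) * c ^ k * d ^ triA k := by rw [collect_L1' y c d h2 hd k]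
      _ = x * (y * y ^ k) * c * (d ^ k * c ^ k) * d ^ triA k := by simp only [mul_assoc]
      _ = x * (y * y ^ k) * c * (c ^ k * d ^ k) * d ^ triA k := by
          rw [central_pow_comm d hd k (c ^ k)]
      _ = x * (y * y ^ k) * (c * c ^ k) * (d ^ k * d ^ triA k) := by simp only [mul_assoc]
      _ = x * y ^ (k + 1) * c ^ (k + 1) * d ^ triA (k + 1) := by
          rw [← pow_succ', ← pow_succ', ← pow_add, hA, add_comm k (triA k)]

include h1 h2 h3 hd he in
/-- Collection formula in class three. -/
theorem collect3 (n : ℕ) :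
    (x * y) ^ n = x ^ n * y ^ n * c ^ triA n * d ^ triB n * e ^ triF n := by
  induction n with
  | zero => simp [triA, triB, triF]
  | succ n ih =>
    have hA : triA (n + 1) = triA n + n := rfl
    have hB : triB (n + 1) = triB n + triA n + triA (n + 1) := rfl
    have hF : triF (n + 1) = triF n + triA n := rfl
    have hce := collect_L1 x c e h3 he (triA n)
    have hcd := collect_L1 y c d h2 hd (triA (n + 1))
    have hyx := collect_L3 x y c d h1 h2 hd n
    calc (x * y) ^ (n + 1) = (x * y) ^ n * (x * y) := pow_succ _ _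
      _ = x ^ n * y ^ n * c ^ triA n * d ^ triB n * e ^ triF n * (x * y) := by rw [ih]
      _ = x ^ n * y ^ n * c ^ triA n * d ^ triB n * (e ^ triF n * (x * y)) := by
          simp only [mul_assoc]
      _ = x ^ n * y ^ n * c ^ triA n * d ^ triB n * ((x * y) * e ^ triF n) := by
          rw [central_pow_comm e he (triF n) (x * y)]
      _ = x ^ n * y ^ n * c ^ triA n * (d ^ triB n * (x * y)) * e ^ triF n := by
          simp only [mul_assoc]
      _ = x ^ n * y ^ n * c ^ triA n * ((x * y) * d ^ triB n) * e ^ triF n := by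
          rw [central_pow_comm d hd (triB n) (x * y)]
      _ = x ^ n * y ^ n * (c ^ triA n * x) * y * d ^ triB n * e ^ triF n := by
          simp only [mul_assoc]
      _ = x ^ n * y ^ n * (x * c ^ triA n * e ^ triA n) * y * d ^ triB n * e ^ triF n := by
          rw [hce]
      _ = x ^ n * (y ^ n * x) * c ^ triA n * (e ^ triA n * y) * d ^ triB n * e ^ triF n := by
          simp only [mul_assoc]
      _ = x ^ n * (x * y ^ n * c ^ n * d ^ triA n) * c ^ triA n * (y * e ^ triA n) * d ^ triB n *
            e ^ triF n := by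
          rw [hyx, central_pow_comm e he (triA n) y]
      _ = x ^ n * x * y ^ n * c ^ n * (d ^ triA n * (c ^ triA n * y)) * e ^ triA n * d ^ triB n *
            e ^ triF n := by
          simp only [mul_assoc]
      _ = x ^ n * x * y ^ n * c ^ n * ((c ^ triA n * y) * d ^ triA n) * e ^ triA n * d ^ triB n *
            e ^ triF n := by
          rw [central_pow_comm d hd (triA n) (c ^ triA n * y)]
      _ = x ^ n * x * y ^ n * ((c ^ n * c ^ triA n) * y) * d ^ triA n * e ^ triA n * d ^ triB n *
            e ^ triF n := by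
          simp only [mul_assoc]
      _ = x ^ n * x * y ^ n * (c ^ triA (n + 1) * y) * d ^ triA n * e ^ triA n * d ^ triB n *
            e ^ triF n := by
          rw [← pow_add, hA, add_comm n (triA n)]
      _ = x ^ n * x * y ^ n * (y * c ^ triA (n + 1) * d ^ triA (n + 1)) * d ^ triA n *
            e ^ triA n * d ^ triB n * e ^ triF n := by
          rw [hcd]
      _ = x ^ n * x * (y ^ n * y) * c ^ triA (n + 1) * (d ^ triA (n + 1) * d ^ triA n) *
            (e ^ triA n * d ^ triB n) * e ^ triF n := by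
          simp only [mul_assoc]
      _ = x ^ n * x * (y ^ n * y) * c ^ triA (n + 1) * (d ^ triA (n + 1) * d ^ triA n) *
            (d ^ triB n * e ^ triA n) * e ^ triF n := by
          rw [central_pow_comm d hd (triB n) (e ^ triA n)]
      _ = x ^ n * x * (y ^ n * y) * c ^ triA (n + 1) *
            (d ^ triA (n + 1) * d ^ triA n * d ^ triB n) * (e ^ triA n * e ^ triF n) := by
          simp only [mul_assoc]
      _ = x ^ (n + 1) * y ^ (n + 1) * c ^ triA (n + 1) * d ^ triB (n + 1) * e ^ triF (n + 1) := by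
          have e1 : triA (n + 1) + triA n + triB n = triB (n + 1) := by rw [hB]; ring
          have e2 : triA n + triF n = triF (n + 1) := by rw [hF]; ring
          rw [← pow_succ, ← pow_succ, ← pow_add, ← pow_add, ← pow_add, e1, e2]

end collect

/-- class at most three: `γ₃ ≤ Z(G)`. -/
theorem gamma3_le_center
    (h : ⁅⁅commutator G, (⊤ : Subgroup G)⁆, (⊤ : Subgroup G)⁆ = ⊥) :
    ⁅commutator G, (⊤ : Subgroup G)⁆ ≤ center G := by
  rw [Subgroup.commutator_eq_bot_iff_le_centralizer] at h
  intro x hx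
  have := h hx
  rw [Subgroup.mem_center_iff]
  intro g
  exact (Subgroup.mem_centralizer_iff.mp this) g (Subgroup.mem_top g)

/-- the "traditional" commutator `a⁻¹ b⁻¹ a b`. -/
def cm (a b : G) : G := a⁻¹ * b⁻¹ * a * b

theorem cm_eq (a b : G) : cm a b = ⁅a⁻¹, b⁻¹⁆ := by
  simp [cm, commutatorElement_def]

theorem cm_mem_commutator (a b : G) : cm a b ∈ commutator G := by
  rw [cm_eq, commutator_def]
  exact Subgroup.commutator_mem_commutator (Subgroup.mem_top _) (Subgroup.mem_top _)

theorem cm_mem_gamma3 {a : G} (ha : a ∈ commutator G) (b : G) :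
    cm a b ∈ ⁅commutator G, (⊤ : Subgroup G)⁆ := by
  rw [cm_eq]
  exact Subgroup.commutator_mem_commutator (inv_mem ha) (Subgroup.mem_top _)

theorem mul_cm (a b : G) : b * a = a * b * cm b a := by
  simp [cm, mul_assoc]

/-- In class at most three with `p > 3`, if the three basic commutators have order dividing `p`
then `(xy)^p = x^p y^p`. -/
theorem mul_pow_prime_of_class_three {p : ℕ} (hp : p.Prime) (h3 : 3 < p)
    (h : ⁅⁅commutator G, (⊤ : Subgroup G)⁆, (⊤ : Subgroup G)⁆ = ⊥) (x y : G)
    (hc : (cm y x) ^ p = 1) (hd : (cm (cm y x) y) ^ p = 1) (he : (cm (cm y x) x) ^ p = 1) :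
    (x * y) ^ p = x ^ p * y ^ p := by
  have hcen := gamma3_le_center h
  have hdc : ∀ g : G, g * cm (cm y x) y = cm (cm y x) y * g := fun g =>
    Subgroup.mem_center_iff.mp (hcen (cm_mem_gamma3 (cm_mem_commutator y x) y)) g
  have hec : ∀ g : G, g * cm (cm y x) x = cm (cm y x) x * g := fun g =>
    Subgroup.mem_center_iff.mp (hcen (cm_mem_gamma3 (cm_mem_commutator y x) x)) g
  rw [collect3 x y (cm y x) (cm (cm y x) y) (cm (cm y x) x) (mul_cm x y) (mul_cm y (cm y x))
    (mul_cm x (cm y x)) hdc hec p]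
  obtain ⟨a, ha⟩ := prime_dvd_triA hp h3
  obtain ⟨b, hb⟩ := prime_dvd_triB hp h3
  obtain ⟨f, hf⟩ := prime_dvd_triF hp h3
  rw [ha, hb, hf, pow_mul, pow_mul, pow_mul, hc, hd, he, one_pow, one_pow, one_pow, mul_one,
    mul_one, mul_one]

/-- In class at most three with `p > 3`, the product of two elements of order dividing `p`
has order dividing `p`. -/
theorem mul_pow_prime_eq_one_of_class_three {p : ℕ} (hp : p.Prime) (h3 : 3 < p)
    (h : ⁅⁅commutator G, (⊤ : Subgroup G)⁆, (⊤ : Subgroup G)⁆ = ⊥) (x y : G)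
    (hx : x ^ p = 1) (hy : y ^ p = 1) : (x * y) ^ p = 1 := by
  have hcen := gamma3_le_center h
  have hdc : ∀ g : G, g * cm (cm y x) y = cm (cm y x) y * g := fun g =>
    Subgroup.mem_center_iff.mp (hcen (cm_mem_gamma3 (cm_mem_commutator y x) y)) g
  have hec : ∀ g : G, g * cm (cm y x) x = cm (cm y x) x * g := fun g =>
    Subgroup.mem_center_iff.mp (hcen (cm_mem_gamma3 (cm_mem_commutator y x) x)) g
  have hd : (cm (cm y x) y) ^ p = 1 := by
    have := collect_L1' y (cm y x) (cm (cm y x) y) (mul_cm y (cm y x)) hdc p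
    rw [hy, mul_one, one_mul] at this
    exact (mul_eq_left.mp this.symm)
  have he : (cm (cm y x) x) ^ p = 1 := by
    have := collect_L1' x (cm y x) (cm (cm y x) x) (mul_cm x (cm y x)) hec p
    rw [hx, mul_one, one_mul] at this
    exact (mul_eq_left.mp this.symm)
  have hc : (cm y x) ^ p = 1 := by
    have := collect_L3 x y (cm y x) (cm (cm y x) y) (mul_cm x y) (mul_cm y (cm y x)) hdc p
    obtain ⟨a, ha⟩ := prime_dvd_triA hp h3
    rw [hy, one_mul, mul_one, ha, pow_mul, hd, one_pow, mul_one] at this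
    exact (mul_eq_left.mp this.symm)
  rw [mul_pow_prime_of_class_three hp h3 h x y hc hd he, hx, hy, one_mul]

/-- For `p > 3`, in a group of class at most three, `Ω₁` has exponent dividing `p`. -/
theorem pow_prime_eq_one_of_mem_closure_of_class_three {p : ℕ} (hp : p.Prime) (h3 : 3 < p)
    (h : ⁅⁅commutator G, (⊤ : Subgroup G)⁆, (⊤ : Subgroup G)⁆ = ⊥) (g : G)
    (hg : g ∈ Subgroup.closure {x : G | x ^ p = 1}) : g ^ p = 1 := by
  induction hg using Subgroup.closure_induction with
  | mem x hx => exact hx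
  | one => exact one_pow p
  | mul x y _ _ hx hy => exact mul_pow_prime_eq_one_of_class_three hp h3 h x y hx hy
  | inv x _ hx => rw [inv_pow, hx, inv_one]

end Cfsg.Agent.Helper9
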