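import Mathlib
import Cfsg.Agent.Helper9.AbelianSylow
import Cfsg.Agent.Helper9.Class3
import Cfsg.Agent.Helper10.PGroupBasic

set_option autoImplicit false

namespace Cfsg.Agent.Helper9

open Subgroup
open scoped commutatorElement

/-- The order of the full preimage of a subgroup of a quotient. -/
theorem card_comap_mk' {R : Type*} [Group R] [Finite R] (B : Subgroup R) [B.Normal]
    (Z : Subgroup (R ⧸ B)) :
    Nat.card (Z.comap (QuotientGroup.mk' B)) = Nat.card Z * Nat.card B := by
  have h1 := Subgroup.card_mul_index (Z.comap (QuotientGroup.mk' B))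
  have h2 : (Z.comap (QuotientGroup.mk' B)).index = Z.index :=
    Subgroup.index_comap_of_surjective Z (QuotientGroup.mk'_surjective B)
  have h3 := Subgroup.card_mul_index Z
  have h4 := Subgroup.card_eq_card_quotient_mul_card_subgroup B
  have h5 : Z.index ≠ 0 := Subgroup.index_ne_zero_of_finite
  rw [h2] at h1
  have : Nat.card (Z.comap (QuotientGroup.mk' B)) * Z.index =
      (Nat.card Z * Nat.card B) * Z.index := by
    rw [h1, h4, ← h3]; ring
  exact Nat.eq_of_mul_eq_mul_right (Nat.pos_of_ne_zero h5) this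

/-- A normal subgroup of a finite `p`-group contains normal subgroups (of the whole group) of every
smaller `p`-power order. -/
theorem exists_normal_le_card_eq {R : Type*} [Group R] [Finite R] {p : ℕ} [Fact p.Prime]
    (hR : IsPGroup p R) (N : Subgroup R) [N.Normal] :
    ∀ k : ℕ, p ^ k ≤ Nat.card N → ∃ B : Subgroup R, B.Normal ∧ B ≤ N ∧ Nat.card B = p ^ k := by
  intro k
  induction k with
  | zero =>
    intro _
    exact ⟨⊥, inferInstance, bot_le, by simp⟩
  | succ k ih =>
    intro hk
    have hp : p.Prime := Fact.out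
    have hlt : p ^ k < p ^ (k + 1) := Nat.pow_lt_pow_right hp.one_lt (Nat.lt_succ_self k)
    obtain ⟨B, hBn, hBN, hBc⟩ := ih (hlt.le.trans hk)
    have hπs : Function.Surjective (QuotientGroup.mk' B) := QuotientGroup.mk'_surjective B
    have hNbar_n : (N.map (QuotientGroup.mk' B)).Normal :=
      Subgroup.Normal.map inferInstance _ hπs
    have hNbar_ne : N.map (QuotientGroup.mk' B) ≠ ⊥ := by
      intro h
      have hNB : N ≤ B := by
        intro q hq
        have : (QuotientGroup.mk' B) q ∈ N.map (QuotientGroup.mk' B) := ⟨q, hq, rfl⟩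
        rw [h, Subgroup.mem_bot] at this
        exact (QuotientGroup.eq_one_iff q).mp this
      have : Nat.card N ≤ Nat.card B := Nat.le_of_dvd Nat.card_pos (Subgroup.card_dvd_of_le hNB)
      omega
    have hPbar : IsPGroup p (R ⧸ B) := hR.to_quotient B
    have hWne : N.map (QuotientGroup.mk' B) ⊓ Subgroup.center (R ⧸ B) ≠ ⊥ := by
      obtain ⟨z, hz, hz1, hzc⟩ :=
        Cfsg.Agent.Helper10.exists_ne_one_mem_inf_center hPbar (N.map (QuotientGroup.mk' B))
          hNbar_ne
      intro h
      have : z ∈ N.map (QuotientGroup.mk' B) ⊓ Subgroup.center (R ⧸ B) := ⟨hz, hzc⟩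
      rw [h, Subgroup.mem_bot] at this
      exact hz1 this
    obtain ⟨w, hw, hwo⟩ := exists_orderOf_eq_prime_of_ne_bot _ (hPbar.to_subgroup _) hWne
    have hwN : w ∈ N.map (QuotientGroup.mk' B) := hw.1
    have hwc : w ∈ Subgroup.center (R ⧸ B) := hw.2
    have hZn : (Subgroup.zpowers w).Normal := by
      constructor
      intro a ha g
      have hac : a ∈ Subgroup.center (R ⧸ B) := (Subgroup.zpowers_le.mpr hwc) ha
      have : g * a * g⁻¹ = a := by
        rw [(Subgroup.mem_center_iff.mp hac g), mul_assoc, mul_inv_cancel, mul_one]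
      rw [this]; exact ha
    refine ⟨(Subgroup.zpowers w).comap (QuotientGroup.mk' B), hZn.comap _, ?_, ?_⟩
    · intro x hx
      have hx' : (QuotientGroup.mk' B) x ∈ Subgroup.zpowers w := hx
      have hx2 : (QuotientGroup.mk' B) x ∈ N.map (QuotientGroup.mk' B) :=
        (Subgroup.zpowers_le.mpr hwN) hx'
      obtain ⟨n, hn, hnx⟩ := hx2
      have : n⁻¹ * x ∈ B := by
        rw [← QuotientGroup.eq_one_iff]
        have : (QuotientGroup.mk' B) (n⁻¹ * x) = 1 := by
          rw [map_mul, map_inv, hnx, inv_mul_cancel]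
        exact this
      have h2 : x = n * (n⁻¹ * x) := by group
      rw [h2]
      exact N.mul_mem hn (hBN this)
    · rw [card_comap_mk', Nat.card_zpowers, hwo, hBc, pow_succ, mul_comm]

theorem prime_dvd_triA_of_ne_two {p : ℕ} (hp : p.Prime) (h2 : p ≠ 2) : p ∣ triA p := by
  obtain ⟨m, rfl⟩ : ∃ m, p = m + 1 := ⟨p - 1, by have := hp.pos; omega⟩
  have h := two_mul_triA m
  have h1 : (m + 1) ∣ 2 * triA (m + 1) := ⟨m, h⟩
  have hcop : Nat.Coprime (m + 1) 2 := by
    rw [Nat.coprime_primes hp Nat.prime_two]; exact h2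
  exact hcop.dvd_of_dvd_mul_left h1

/-- If the commutator `y⁻¹x⁻¹yx` commutes with `x` and `y` and has order dividing the odd prime `p`
then `(xy)^p = x^p y^p`. -/
theorem mul_pow_prime_of_comm_cm {G : Type*} [Group G] {p : ℕ} (hp : p.Prime) (h2 : p ≠ 2)
    (x y : G) (hcx : cm y x * x = x * cm y x) (hcy : cm y x * y = y * cm y x)
    (hc : (cm y x) ^ p = 1) : (x * y) ^ p = x ^ p * y ^ p := by
  have h1 := mul_cm x y
  have h2' : cm y x * y = y * cm y x * 1 := by rw [mul_one]; exact hcy
  have h3 : cm y x * x = x * cm y x * 1 := by rw [mul_one]; exact hcx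
  have := collect3 x y _ 1 1 h1 h2' h3 (fun g => by simp) (fun g => by simp) p
  rw [this]
  obtain ⟨m, hm⟩ := prime_dvd_triA_of_ne_two hp h2
  simp only [one_pow, mul_one]
  rw [hm, pow_mul, hc, one_pow, mul_one]

end Cfsg.Agent.Helper9
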