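import Mathlib
import Cfsg.Agent.S0841
import Cfsg.Agent.Helper10.PGroupBasic

set_option autoImplicit false

namespace Cfsg.Agent.Helper9

open Subgroup
open scoped commutatorElement

variable {G : Type*} [Group G]

/-- In a nilpotent group, `[N, G] < N` for every nontrivial subgroup `N` with `[N,G] ≤ N`. -/
theorem commutator_top_ne_self_of_isNilpotent [hG : Group.IsNilpotent G] (N : Subgroup G)
    (hN : N ≠ ⊥) : ⁅N, (⊤ : Subgroup G)⁆ ≠ N := by
  intro h
  obtain ⟨n, hn⟩ := Subgroup.nilpotent_iff_lowerCentralSeries.mp hG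
  have key : ∀ k, N ≤ Subgroup.lowerCentralSeries (⊤ : Subgroup G) k := by
    intro k
    induction k with
    | zero => exact le_top
    | succ k ih =>
      rw [Subgroup.lowerCentralSeries_succ]
      calc N = ⁅N, (⊤ : Subgroup G)⁆ := h.symm
        _ ≤ _ := Subgroup.commutator_mono ih le_rfl
  apply hN
  rw [eq_bot_iff, ← hn]
  exact key n

/-- If `B₀ < M ≤ B` with `|B₀| = p^i` and `|B| = p^(i+1)` then `M = B`. -/
theorem eq_of_lt_of_card_pow [Finite G] {p : ℕ} (hp : p.Prime) {B₀ M B : Subgroup G} (i : ℕ)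
    (h1 : B₀ < M) (h2 : M ≤ B) (hB₀ : Nat.card B₀ = p ^ i) (hB : Nat.card B = p ^ (i + 1)) :
    M = B := by
  apply Subgroup.eq_of_le_of_card_ge h2
  obtain ⟨k, hk⟩ := Subgroup.card_dvd_of_le h1.le
  have h3 : Nat.card M ∣ Nat.card B := Subgroup.card_dvd_of_le h2
  rw [hk, hB₀, hB, pow_succ] at h3
  have h4 : k ∣ p := Nat.dvd_of_mul_dvd_mul_left (pow_pos hp.pos i) h3
  rcases (Nat.dvd_prime hp).mp h4 with h5 | h5
  · exfalso
    rw [h5, mul_one] at hk
    have : M = B₀ := (Subgroup.eq_of_le_of_card_ge h1.le hk.le).symm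
    exact h1.ne this.symm
  · rw [hB, hk, hB₀, h5, pow_succ]

/-- In a finite `p`-group, a normal subgroup `B` of order `p^(i+1)` contains a normal subgroup
`B₀` of order `p^i` with `[B, G] ≤ B₀`. -/
theorem exists_normal_index_p [Finite G] {p : ℕ} [Fact p.Prime] (hG : IsPGroup p G)
    (B : Subgroup G) [B.Normal] (i : ℕ) (hB : Nat.card B = p ^ (i + 1)) :
    ∃ B₀ : Subgroup G, B₀.Normal ∧ ⁅B, (⊤ : Subgroup G)⁆ ≤ B₀ ∧ B₀ ≤ B ∧ Nat.card B₀ = p ^ i := by
  have : Group.IsNilpotent G := hG.isNilpotent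
  have hBne : B ≠ ⊥ := by
    intro h
    rw [h, Subgroup.card_bot] at hB
    have : 1 < p ^ (i + 1) := Nat.one_lt_pow (Nat.succ_ne_zero i) (Fact.out : p.Prime).one_lt
    omega
  have hWle : ⁅B, (⊤ : Subgroup G)⁆ ≤ B := Subgroup.commutator_le_left B ⊤
  have hWne := commutator_top_ne_self_of_isNilpotent B hBne
  have hWlt : ⁅B, (⊤ : Subgroup G)⁆ < B := lt_of_le_of_ne hWle hWne
  -- order of W
  set W := ⁅B, (⊤ : Subgroup G)⁆ with hW
  obtain ⟨m, hm⟩ := IsPGroup.iff_card.mp (hG.to_subgroup W)
  have hmi : m ≤ i := by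
    have h1 : Nat.card W < Nat.card B := by
      by_contra hcon
      rw [not_lt] at hcon
      exact hWne (Subgroup.eq_of_le_of_card_ge hWle hcon)
    rw [hm, hB] at h1
    have := (Nat.pow_lt_pow_iff_right (Fact.out : p.Prime).one_lt).mp h1
    omega
  -- work inside B
  have hcardW' : Nat.card (W.subgroupOf B) = p ^ m := by
    rw [← hm]
    exact Nat.card_congr (Subgroup.subgroupOfEquivOfLe hWle).toEquiv
  have hdvd : p ^ i ∣ Nat.card B := by rw [hB]; exact pow_dvd_pow p (Nat.le_succ i)
  obtain ⟨K, hK1, hK2⟩ := Sylow.exists_subgroup_card_pow_prime_le p hdvd (W.subgroupOf B) hcardW' hmi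
  refine ⟨K.map B.subtype, ?_, ?_, Subgroup.map_subtype_le K, ?_⟩
  · -- normal since it contains [B,G]
    have hWK : W ≤ K.map B.subtype := by
      intro w hw
      exact ⟨⟨w, hWle hw⟩, hK2 (Subgroup.mem_subgroupOf.mpr hw), rfl⟩
    constructor
    intro x hx g
    have hxB : x ∈ B := Subgroup.map_subtype_le K hx
    have h1 : ⁅x, g⁆⁻¹ ∈ W := inv_mem (Subgroup.commutator_mem_commutator hxB (Subgroup.mem_top g))
    have e : g * x * g⁻¹ = ⁅x, g⁆⁻¹ * x := by
      rw [commutatorElement_def]; group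
    rw [e]
    exact mul_mem (hWK h1) hx
  · intro w hw
    exact ⟨⟨w, hWle hw⟩, hK2 (Subgroup.mem_subgroupOf.mpr hw), rfl⟩
  · rw [Subgroup.card_map_of_injective B.subtype_injective, hK1]

/-- In a finite `p`-group `G`, a normal subgroup `B` of order `p^i` has
`|G : C_G(B)| ≤ p^(i(i-1)/2)`. -/
theorem card_le_card_centralizer_mul [Finite G] {p : ℕ} [Fact p.Prime] (hG : IsPGroup p G) :
    ∀ (i : ℕ) (B : Subgroup G), B.Normal → Nat.card B = p ^ i →
      Nat.card G ≤ Nat.card (centralizer (B : Set G)) * p ^ (i * (i - 1) / 2) := by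
  intro i
  induction i with
  | zero =>
    intro B _ hB
    rw [pow_zero] at hB
    have : B = ⊥ := B.card_eq_one.mp hB
    subst this
    have hc : centralizer ((⊥ : Subgroup G) : Set G) = ⊤ := by
      rw [eq_top_iff]
      intro g _
      rw [mem_centralizer_iff]
      intro x hx
      have : x = 1 := hx
      rw [this, mul_one, one_mul]
    rw [hc, Subgroup.card_top]
    simp
  | succ i ih =>
    intro B hBn hB
    have hpp : p.Prime := Fact.out
    obtain ⟨B₀, hB₀n, hWB₀, hB₀B, hB₀card⟩ := exists_normal_index_p hG B i hB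
    have ih' := ih B₀ hB₀n hB₀card
    -- pick b ∈ B \ B₀
    have hlt : B₀ < B := by
      refine lt_of_le_of_ne hB₀B ?_
      intro h
      rw [h, hB] at hB₀card
      have := Nat.pow_right_injective hpp.two_le hB₀card
      omega
    obtain ⟨b, hbB, hbB₀⟩ := SetLike.exists_of_lt hlt
    set C₀ := centralizer (B₀ : Set G) with hC₀
    -- the homomorphism C₀ → B₀
    have hmem : ∀ g : G, ⁅b, g⁆ ∈ B₀ := fun g =>
      hWB₀ (Subgroup.commutator_mem_commutator hbB (Subgroup.mem_top g))
    let φ : C₀ →* B₀ :=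
      { toFun := fun g => ⟨⁅b, (g : G)⁆, hmem g⟩
        map_one' := by ext; simp
        map_mul' := fun g h => by
          ext
          simp only [Subgroup.coe_mul]
          rw [commutatorElement_mul_right_eq_mul_conj]
          have h1 : (g : G) * ⁅b, (h : G)⁆ = ⁅b, (h : G)⁆ * g :=
            ((mem_centralizer_iff.mp g.2) _ (hmem h)).symm
          rw [mul_assoc ⁅b, (g : G)⁆, h1, mul_assoc, mul_assoc, mul_inv_cancel, mul_one] }
    have hker : φ.ker.map C₀.subtype ≤ centralizer (B : Set G) := by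
      rintro _ ⟨g, hg, rfl⟩
      have hg1 : ⁅b, (g : G)⁆ = 1 := by
        have := congrArg Subtype.val (MonoidHom.mem_ker.mp hg)
        simpa [φ] using this
      have hbg : b * (g : G) = g * b := commutatorElement_eq_one_iff_mul_comm.mp hg1
      -- M := B ⊓ centralizer {g}
      set M := B ⊓ centralizer ({(g : G)} : Set G) with hM
      have hB₀M : B₀ ≤ M := by
        intro x hx
        exact Subgroup.mem_inf.mpr ⟨hB₀B hx, mem_centralizer_singleton_iff.mpr
          ((mem_centralizer_iff.mp g.2) x hx)⟩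
      have hbM : b ∈ M :=
        Subgroup.mem_inf.mpr ⟨hbB, mem_centralizer_singleton_iff.mpr hbg⟩
      have hlt' : B₀ < M := lt_of_le_of_ne hB₀M (fun h => hbB₀ (h ▸ hbM))
      have hMB : M = B := eq_of_lt_of_card_pow hpp i hlt' inf_le_left hB₀card hB
      rw [Subgroup.coe_subtype, mem_centralizer_iff]
      intro x hx
      have hxM : x ∈ M := by rw [hMB]; exact hx
      exact mem_centralizer_singleton_iff.mp (Subgroup.mem_inf.mp hxM).2
    have h1 : Nat.card C₀ = Nat.card φ.ker * Nat.card φ.range := by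
      rw [← Subgroup.index_ker φ, mul_comm]
      exact (Subgroup.index_mul_card φ.ker).symm
    have h2 : Nat.card φ.range ≤ p ^ i := by
      rw [← hB₀card]; exact Subgroup.card_le_card_group _
    have h3 : Nat.card φ.ker ≤ Nat.card (centralizer (B : Set G)) := by
      rw [← Subgroup.card_map_of_injective C₀.subtype_injective]
      exact Subgroup.card_le_of_le hker
    have h4 : Nat.card C₀ ≤ Nat.card (centralizer (B : Set G)) * p ^ i := by
      rw [h1]; exact Nat.mul_le_mul h3 h2
    calc Nat.card G ≤ Nat.card C₀ * p ^ (i * (i - 1) / 2) := ih'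
      _ ≤ Nat.card (centralizer (B : Set G)) * p ^ i * p ^ (i * (i - 1) / 2) :=
          Nat.mul_le_mul_right _ h4
      _ = Nat.card (centralizer (B : Set G)) * p ^ ((i + 1) * (i + 1 - 1) / 2) := by
          rw [Cfsg.Agent.S0841.tri_succ, mul_assoc, ← pow_add, add_comm]

/-- In a finite `p`-group, a maximal normal abelian subgroup is self-centralizing. -/
theorem centralizer_eq_of_maximal_normal_abelian [Finite G] {p : ℕ} [Fact p.Prime]
    (hG : IsPGroup p G) (A : Subgroup G) [A.Normal] (hA : IsMulCommutative A)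
    (hmax : ∀ B : Subgroup G, B.Normal → IsMulCommutative B → A ≤ B → B = A) :
    centralizer (A : Set G) = A := by
  have hcomm : ∀ a ∈ A, ∀ b ∈ A, a * b = b * a := fun a ha b hb =>
    congrArg Subtype.val (hA.is_comm.comm ⟨a, ha⟩ ⟨b, hb⟩)
  apply le_antisymm
  · by_contra hcon
    obtain ⟨x, hxC, hxA, hxn⟩ :=
      Cfsg.Agent.Helper10.exists_centralizer_elt_normalizer_comm hG A hcon
    have hxa : ∀ a ∈ A, a * x = x * a := fun a ha => (mem_centralizer_iff.mp hxC) a ha
    set B := A ⊔ zpowers x with hB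
    have hxB : x ∈ B := (le_sup_right : zpowers x ≤ B) (mem_zpowers x)
    have hmap : ∀ g : G, B.map (MulAut.conj g).toMonoidHom ≤ B := by
      intro g
      rw [hB, Subgroup.map_sup]
      apply sup_le
      · refine le_trans ?_ (le_sup_left : A ≤ A ⊔ zpowers x)
        rintro _ ⟨a, ha, rfl⟩
        exact (inferInstance : A.Normal).conj_mem a ha g
      · rw [MonoidHom.map_zpowers, zpowers_le]
        have h1 : g * x * g⁻¹ * x⁻¹ ∈ A := hxn g (by rw [normalizer_eq_top]; trivial)
        have e : (MulAut.conj g).toMonoidHom x = (g * x * g⁻¹ * x⁻¹) * x := by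
          simp
        rw [e]
        exact mul_mem ((le_sup_left : A ≤ A ⊔ zpowers x) h1) hxB
    have hBn : B.Normal := by
      constructor
      intro n hn g
      exact hmap g ⟨n, hn, rfl⟩
    have hxk : ∀ k : ℤ, ∀ a ∈ A, a * x ^ k = x ^ k * a := by
      intro k a ha
      have : x ^ k ∈ centralizer (A : Set G) := zpow_mem hxC k
      exact (mem_centralizer_iff.mp this) a ha
    have hBc : IsMulCommutative B := by
      refine ⟨⟨fun u v => ?_⟩⟩
      apply Subtype.ext
      rw [Subgroup.coe_mul, Subgroup.coe_mul]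
      have hu : (u : G) ∈ A ⊔ zpowers x := u.2
      have hv : (v : G) ∈ A ⊔ zpowers x := v.2
      rw [← SetLike.mem_coe, Subgroup.normal_mul, Set.mem_mul] at hu hv
      obtain ⟨a, ha, _, ⟨k, rfl⟩, hu'⟩ := hu
      obtain ⟨a', ha', _, ⟨l, rfl⟩, hv'⟩ := hv
      rw [← hu', ← hv']
      have ha : a ∈ A := ha
      have ha' : a' ∈ A := ha'
      simp only at *
      calc a * x ^ k * (a' * x ^ l) = a * (x ^ k * a') * x ^ l := by group
        _ = a * (a' * x ^ k) * x ^ l := by rw [hxk k a' ha']
        _ = (a * a') * (x ^ k * x ^ l) := by group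
        _ = (a' * a) * (x ^ l * x ^ k) := by
            rw [hcomm a ha a' ha', ← zpow_add, ← zpow_add, add_comm]
        _ = a' * (a * x ^ l) * x ^ k := by group
        _ = a' * (x ^ l * a) * x ^ k := by rw [hxk l a ha]
        _ = a' * x ^ l * (a * x ^ k) := by group
    have := hmax B hBn hBc le_sup_left
    exact hxA (this ▸ hxB)
  · intro a ha
    rw [mem_centralizer_iff]
    intro b hb
    exact hcomm b hb a ha

end Cfsg.Agent.Helper9
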