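import Mathlib
import Cfsg.Agent.Helper1.PGroup
import Cfsg.Agent.Helper17.Basic

set_option autoImplicit false

namespace Cfsg.Agent.Helper9

open Subgroup

universe u

variable {S : Type u} [Group S]

/-- The conjugate `s R s⁻¹` of a subgroup. -/
abbrev cj (s : S) (R : Subgroup S) : Subgroup S := R.map (MulAut.conj s).toMonoidHom

theorem conj_mem_cj (s : S) (R : Subgroup S) {y : S} (hy : y ∈ R) : s * y * s⁻¹ ∈ cj s R :=
  ⟨y, hy, rfl⟩

theorem cj_eq_iff_mem_normalizer (s : S) (R : Subgroup S) :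
    cj s R = R ↔ s ∈ normalizer (R : Set S) := by
  rw [mem_normalizer_iff]
  constructor
  · intro h x
    constructor
    · intro hx
      rw [← h]
      exact conj_mem_cj s R hx
    · intro hx
      rw [← h] at hx
      obtain ⟨y, hy, hyx⟩ := hx
      have : y = x := by
        have h1 : s * y * s⁻¹ = s * x * s⁻¹ := hyx
        simpa using h1
      rwa [← this]
  · intro h
    apply le_antisymm
    · rintro _ ⟨y, hy, rfl⟩
      exact (h y).mp hy
    · intro x hx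
      refine ⟨s⁻¹ * x * s, ?_, ?_⟩
      · change s⁻¹ * x * s ∈ R
        rw [h]
        have : s * (s⁻¹ * x * s) * s⁻¹ = x := by group
        rwa [this]
      · change s * (s⁻¹ * x * s) * s⁻¹ = x
        group

theorem card_lt_of_lt' [Finite S] {H K : Subgroup S} (h : H < K) : Nat.card H < Nat.card K :=
  lt_of_not_ge fun hge => h.ne (Subgroup.eq_of_le_of_card_ge h.le hge)

/-- A proper subgroup `D` of a subgroup `H` of a finite `p`-group lies in a proper subgroup `M` of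
`H` normalized by `H`. -/
theorem exists_normal_maximal {p : ℕ} [Fact p.Prime] [Finite S] (hS : IsPGroup p S)
    (H D : Subgroup S) (hDH : D ≤ H) (hne : D ≠ H) :
    ∃ M : Subgroup S, D ≤ M ∧ M < H ∧ ∀ h ∈ H, ∀ m ∈ M, h * m * h⁻¹ ∈ M := by
  have hD' : D.subgroupOf H ≠ ⊤ := by
    intro h
    rw [subgroupOf_eq_top] at h
    exact hne (le_antisymm hDH h)
  obtain ⟨M', hM', hDM'⟩ := (eq_top_or_exists_le_coatom (D.subgroupOf H)).resolve_left hD'
  have hM'n : M'.Normal := Cfsg.Agent.Helper1.IsPGroup.coatom_normal (hS.to_subgroup H) hM'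
  refine ⟨M'.map H.subtype, ?_, ?_, ?_⟩
  · intro x hx
    exact ⟨⟨x, hDH hx⟩, hDM' (mem_subgroupOf.mpr hx), rfl⟩
  · refine lt_of_le_of_ne (map_subtype_le M') ?_
    intro h
    apply hM'.1
    rw [eq_top_iff]
    intro y _
    have : (y : S) ∈ M'.map H.subtype := by rw [h]; exact y.2
    obtain ⟨m, hm, hmy⟩ := this
    have : m = y := Subtype.ext hmy
    rwa [← this]
  · rintro h hh _ ⟨m, hm, rfl⟩
    exact ⟨⟨h, hh⟩ * m * ⟨h, hh⟩⁻¹, hM'n.conj_mem m hm ⟨h, hh⟩, rfl⟩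

/-- An invariant family of subgroups of a finite `2`-group, of equal orders, pairwise meeting
trivially and none of exponent two, consists of pairwise commuting subgroups. -/
theorem ti_family_commute [Finite S] (hS : IsPGroup 2 S) (Δ : Set (Subgroup S))
    (hinv : ∀ s : S, ∀ R ∈ Δ, cj s R ∈ Δ)
    (hsq : ∀ R ∈ Δ, ∃ a ∈ R, a ^ 2 ≠ 1)
    (hord : ∀ R ∈ Δ, ∀ T ∈ Δ, Nat.card R = Nat.card T)
    (hti : ∀ R ∈ Δ, ∀ T ∈ Δ, R = T ∨ R ⊓ T = ⊥) :
    ∀ (n : ℕ) (H : Subgroup S), Nat.card H = n → ∀ A ∈ Δ, ∀ B ∈ Δ, A ≠ B → A ≤ H → B ≤ H →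
      ∀ a ∈ A, ∀ b ∈ B, a * b = b * a := by
  classical
  have : Fact (Nat.Prime 2) := ⟨Nat.prime_two⟩
  intro n
  induction n using Nat.strong_induction_on with
  | _ n ih =>
  intro H hn A hA B hB hAB hAH hBH
  by_cases hH : A ⊔ B = H
  swap
  · have hlt : A ⊔ B < H := lt_of_le_of_ne (sup_le hAH hBH) hH
    have hcard : Nat.card (A ⊔ B : Subgroup S) < n := by rw [← hn]; exact card_lt_of_lt' hlt
    exact ih _ hcard (A ⊔ B) rfl A hA B hB hAB le_sup_left le_sup_right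
  have IH : ∀ K : Subgroup S, K < H → ∀ A' ∈ Δ, ∀ B' ∈ Δ, A' ≠ B' → A' ≤ K → B' ≤ K →
      ∀ a ∈ A', ∀ b ∈ B', a * b = b * a := by
    intro K hK
    exact ih _ (by rw [← hn]; exact card_lt_of_lt' hK) K rfl
  have P0 : ∀ A ∈ Δ, ∀ B ∈ Δ, A ≠ B → B ≤ H → A ≤ H → A ≠ H := by
    intro A hA B hB hAB hBH _ hAeq
    obtain ⟨b, hbB, hb⟩ := hsq B hB
    rcases hti B hB A hA with h | h
    · exact hAB h.symm
    · have : b ∈ B ⊓ A := mem_inf.mpr ⟨hbB, hAeq ▸ hBH hbB⟩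
      rw [h, mem_bot] at this
      rw [this, one_pow] at hb
      exact hb rfl
  have P1 : ∀ D ∈ Δ, D < H → ∀ h ∈ H, cj h D ≠ D →
      (∀ x ∈ D, ∀ y ∈ D, x * (h * y * h⁻¹) = h * y * h⁻¹ * x) ∧
        Nat.card (D ⊔ cj h D : Subgroup S) < Nat.card H := by
    intro D hD hDH h hh hne
    obtain ⟨M, hDM, hMH, hMn⟩ := exists_normal_maximal hS H D hDH.le hDH.ne
    have hcjM : cj h D ≤ M := by
      rintro _ ⟨y, hy, rfl⟩
      exact hMn h hh y (hDM hy)
    have hcomm := IH M hMH D hD (cj h D) (hinv h D hD) hne.symm hDM hcjM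
    refine ⟨fun x hx y hy => hcomm x hx _ (conj_mem_cj h D hy), ?_⟩
    calc Nat.card (D ⊔ cj h D : Subgroup S) ≤ Nat.card M := card_le_of_le (sup_le hDM hcjM)
      _ < Nat.card H := card_lt_of_lt' hMH
  have P2 : ∀ A ∈ Δ, ∀ B ∈ Δ, A ≠ B → A ⊔ B = H → A ≤ normalizer (B : Set S) →
      B ≤ normalizer (A : Set S) := by
    intro A hA B hB hAB hH hAN
    by_contra hcon
    obtain ⟨b, hbB, hbN⟩ := SetLike.not_le_iff_exists.mp hcon
    have hAH : A ≤ H := hH ▸ le_sup_left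
    have hBH : B ≤ H := hH ▸ le_sup_right
    have hAltH : A < H := lt_of_le_of_ne hAH (P0 A hA B hB hAB hBH hAH)
    have hcjb : cj b A ≠ A := fun h => hbN ((cj_eq_iff_mem_normalizer b A).mp h)
    obtain ⟨hcomA, hlt⟩ := P1 A hA hAltH b (hBH hbB) hcjb
    have hinf : A ⊓ cj b A = ⊥ := by
      rcases hti A hA (cj b A) (hinv b A hA) with h | h
      · exact absurd h.symm hcjb
      · exact h
    have hnorm : cj b A ≤ normalizer (A : Set S) := by
      refine le_trans ?_ (centralizer_le_normalizer _)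
      rintro _ ⟨y, hy, rfl⟩ x hx
      exact hcomA x hx y hy
    have h1 := Cfsg.Agent.Helper17.card_sup_mul_card_inf A (cj b A) hnorm
    rw [hinf, card_bot, mul_one] at h1
    have h2 := Cfsg.Agent.Helper17.card_sup_mul_card_inf B A hAN
    have hinf2 : B ⊓ A = ⊥ := by
      rcases hti B hB A hA with h | h
      · exact absurd h.symm hAB
      · exact h
    rw [hinf2, card_bot, mul_one, sup_comm, hH] at h2
    rw [h1, h2, hord (cj b A) (hinv b A hA) B hB, mul_comm] at hlt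
    exact lt_irrefl _ hlt
  have P3 : ∀ A ∈ Δ, ∀ B ∈ Δ, A ≠ B → A ≤ normalizer (B : Set S) → B ≤ normalizer (A : Set S) →
      ∀ a ∈ A, ∀ b ∈ B, a * b = b * a := by
    intro A hA B hB hAB hAN hBN a ha b hb
    have hinf : A ⊓ B = ⊥ := by
      rcases hti A hA B hB with h | h
      · exact absurd h hAB
      · exact h
    have h1 : a * b * a⁻¹ * b⁻¹ ∈ A := by
      have : b * a⁻¹ * b⁻¹ ∈ A := (mem_normalizer_iff.mp (hBN hb) a⁻¹).mp (A.inv_mem ha)
      have h2 := A.mul_mem ha this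
      convert h2 using 1
      group
    have h2 : a * b * a⁻¹ * b⁻¹ ∈ B := by
      have : a * b * a⁻¹ ∈ B := (mem_normalizer_iff.mp (hAN ha) b).mp hb
      exact B.mul_mem this (B.inv_mem hb)
    have h3 : a * b * a⁻¹ * b⁻¹ ∈ A ⊓ B := mem_inf.mpr ⟨h1, h2⟩
    rw [hinf, mem_bot] at h3
    have : a * b = (a * b * a⁻¹ * b⁻¹) * (b * a) := by group
    rw [this, h3, one_mul]
  have P4 : ∀ A ∈ Δ, ∀ B ∈ Δ, A ≠ B → A ⊔ B = H → ¬ A ≤ normalizer (B : Set S) →
      ¬ B ≤ normalizer (A : Set S) → False := by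
    intro A hA B hB hAB hH hnA hnB
    have hAH : A ≤ H := hH ▸ le_sup_left
    have hBH : B ≤ H := hH ▸ le_sup_right
    have hAltH : A < H := lt_of_le_of_ne hAH (P0 A hA B hB hAB hBH hAH)
    have hBltH : B < H := lt_of_le_of_ne hBH (P0 B hB A hA hAB.symm hAH hBH)
    obtain ⟨a₁, ha₁A, ha₁⟩ := SetLike.not_le_iff_exists.mp hnA
    obtain ⟨b₁, hb₁B, hb₁⟩ := SetLike.not_le_iff_exists.mp hnB
    -- step 1
    obtain ⟨b, hbB, hbN, hb2⟩ : ∃ b ∈ B, b ∉ normalizer (A : Set S) ∧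
        b ^ 2 ∈ normalizer (A : Set S) := by
      obtain ⟨m, hm⟩ := hS b₁
      have hex : ∃ k, b₁ ^ 2 ^ k ∈ normalizer (A : Set S) := ⟨m, by rw [hm]; exact one_mem _⟩
      have hk0 : Nat.find hex ≠ 0 := by
        intro h0
        have := Nat.find_spec hex
        rw [h0, pow_zero, pow_one] at this
        exact hb₁ this
      obtain ⟨k, hk⟩ := Nat.exists_eq_succ_of_ne_zero hk0
      refine ⟨b₁ ^ 2 ^ k, B.pow_mem hb₁B _, ?_, ?_⟩
      · exact Nat.find_min hex (by omega : k < Nat.find hex)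
      · have := Nat.find_spec hex
        rw [hk, pow_succ, pow_mul] at this
        exact this
    have hbH : b ∈ H := hBH hbB
    have hcjb : cj b A ≠ A := fun h => hbN ((cj_eq_iff_mem_normalizer b A).mp h)
    obtain ⟨hcomA, -⟩ := P1 A hA hAltH b hbH hcjb
    have hAcap : ∀ x, x ∈ A → x ∈ cj b A → x = 1 := by
      intro x hx hx'
      rcases hti (cj b A) (hinv b A hA) A hA with h | h
      · exact absurd h hcjb
      · have : x ∈ cj b A ⊓ A := mem_inf.mpr ⟨hx', hx⟩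
        rw [h] at this
        exact mem_bot.mp this
    -- step 2
    have step2 : ∀ a ∈ A, a ∉ normalizer (B : Set S) → a ^ 2 = 1 := by
      intro a haA haN
      have haH : a ∈ H := hAH haA
      have hcja : cj a B ≠ B := fun h => haN ((cj_eq_iff_mem_normalizer a B).mp h)
      obtain ⟨hcomB, -⟩ := P1 B hB hBltH a haH hcja
      have e1 : b * (a * b * a⁻¹) = a * b * a⁻¹ * b := hcomB b hbB b hbB
      have hβ : b ^ 2 * a⁻¹ * (b ^ 2)⁻¹ ∈ A :=
        (mem_normalizer_iff.mp hb2 a⁻¹).mp (A.inv_mem haA)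
      have e2 : (b * a * b⁻¹) * (b ^ 2 * a⁻¹ * (b ^ 2)⁻¹) = a * (b * a * b⁻¹)⁻¹ := by
        calc (b * a * b⁻¹) * (b ^ 2 * a⁻¹ * (b ^ 2)⁻¹)
            = (b * (a * b * a⁻¹)) * (b ^ 2)⁻¹ := by group
          _ = (a * b * a⁻¹ * b) * (b ^ 2)⁻¹ := by rw [e1]
          _ = a * (b * a * b⁻¹)⁻¹ := by group
      have e3 : (b ^ 2 * a⁻¹ * (b ^ 2)⁻¹) * (b * a * b⁻¹) =
          (b * a * b⁻¹) * (b ^ 2 * a⁻¹ * (b ^ 2)⁻¹) := hcomA _ hβ a haA
      have e4 : a⁻¹ * (b ^ 2 * a⁻¹ * (b ^ 2)⁻¹) = (b * a * b⁻¹)⁻¹ * (b * a * b⁻¹)⁻¹ := by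
        calc a⁻¹ * (b ^ 2 * a⁻¹ * (b ^ 2)⁻¹)
            = a⁻¹ * ((b ^ 2 * a⁻¹ * (b ^ 2)⁻¹) * (b * a * b⁻¹)) * (b * a * b⁻¹)⁻¹ := by group
          _ = a⁻¹ * (a * (b * a * b⁻¹)⁻¹) * (b * a * b⁻¹)⁻¹ := by rw [e3, e2]
          _ = (b * a * b⁻¹)⁻¹ * (b * a * b⁻¹)⁻¹ := by group
      have hαinv : (b * a * b⁻¹)⁻¹ ∈ cj b A := (cj b A).inv_mem (conj_mem_cj b A haA)
      have h5 : a⁻¹ * (b ^ 2 * a⁻¹ * (b ^ 2)⁻¹) = 1 := by
        apply hAcap _ (A.mul_mem (A.inv_mem haA) hβ)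
        rw [e4]
        exact (cj b A).mul_mem hαinv hαinv
      rw [e4] at h5
      have h6 : b * (a ^ 2)⁻¹ * b⁻¹ = 1 := by
        rw [← h5]; group
      have h7 : (a ^ 2)⁻¹ = 1 := by
        have : (a ^ 2)⁻¹ = b⁻¹ * (b * (a ^ 2)⁻¹ * b⁻¹) * b := by group
        rw [this, h6]; group
      exact inv_eq_one.mp h7
    -- step 3
    obtain ⟨a₀, ha₀A, ha₀⟩ := hsq A hA
    have ha₀N : a₀ ∈ normalizer (B : Set S) := by
      by_contra h
      exact ha₀ (step2 a₀ ha₀A h)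
    -- step 4
    obtain ⟨u, huA, huN, hu1, hinvu⟩ : ∃ u ∈ A, u ∈ normalizer (B : Set S) ∧ u ≠ 1 ∧
        ∀ a : S, a * a₀ * a⁻¹ = a₀⁻¹ → a * u = u * a := by
      have hex : ∃ k, a₀ ^ 2 ^ k = 1 := hS a₀
      have hk0 : Nat.find hex ≠ 0 := by
        intro h0
        have := Nat.find_spec hex
        rw [h0, pow_zero, pow_one] at this
        apply ha₀
        rw [this, one_pow]
      obtain ⟨k, hk⟩ := Nat.exists_eq_succ_of_ne_zero hk0
      have hu2 : (a₀ ^ 2 ^ k) ^ 2 = 1 := by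
        have := Nat.find_spec hex
        rw [hk, pow_succ, pow_mul] at this
        exact this
      refine ⟨a₀ ^ 2 ^ k, A.pow_mem ha₀A _, pow_mem ha₀N _, ?_, ?_⟩
      · exact Nat.find_min hex (by omega : k < Nat.find hex)
      · intro a ha
        have h1 : (a * a₀ * a⁻¹) ^ 2 ^ k = a * a₀ ^ 2 ^ k * a⁻¹ := conj_pow
        have h2 : (a₀ ^ 2 ^ k)⁻¹ = a₀ ^ 2 ^ k := by
          rw [inv_eq_iff_mul_eq_one, ← sq]
          exact hu2
        rw [ha, inv_pow, h2] at h1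
        exact (mul_inv_eq_iff_eq_mul.mp h1.symm)
    -- step 5
    have ha₁2 : a₁ ^ 2 = 1 := step2 a₁ ha₁A ha₁
    have ha₁a₀ : a₁ * a₀ ∉ normalizer (B : Set S) := by
      intro h
      apply ha₁
      have := mul_mem h (inv_mem ha₀N)
      simpa using this
    have h2 : (a₁ * a₀) ^ 2 = 1 := step2 _ (A.mul_mem ha₁A ha₀A) ha₁a₀
    have hinv₁ : a₁ * a₀ * a₁⁻¹ = a₀⁻¹ := by
      have e1 : a₁⁻¹ = a₁ := by
        rw [inv_eq_iff_mul_eq_one, ← sq]
        exact ha₁2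
      rw [e1, eq_inv_iff_mul_eq_one]
      rw [sq] at h2
      rw [← h2]
      group
    have hcomm_u : a₁ * u = u * a₁ := hinvu a₁ hinv₁
    -- step 6
    have step6 : a₁ ∈ normalizer (B : Set S) := by
      have hxB : u⁻¹ * (b * u * b⁻¹) ∈ B := by
        have h3 : u⁻¹ * b * u⁻¹⁻¹ ∈ B := (mem_normalizer_iff.mp (inv_mem huN) b).mp hbB
        have h4 := B.mul_mem h3 (B.inv_mem hbB)
        convert h4 using 1
        group
      have hx1 : u⁻¹ * (b * u * b⁻¹) ≠ 1 := by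
        intro h
        rw [inv_mul_eq_one] at h
        apply hu1
        apply hAcap u huA
        have := conj_mem_cj b A huA
        rwa [← h] at this
      have hfix : a₁ * (u⁻¹ * (b * u * b⁻¹)) * a₁⁻¹ = u⁻¹ * (b * u * b⁻¹) := by
        have c1 : a₁ * (b * u * b⁻¹) = (b * u * b⁻¹) * a₁ := hcomA a₁ ha₁A u huA
        have c2 : a₁ * u⁻¹ = u⁻¹ * a₁ := by
          have : a₁ * u⁻¹ = u⁻¹ * (u * a₁) * u⁻¹ := by group
          rw [this, ← hcomm_u]; group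
        calc a₁ * (u⁻¹ * (b * u * b⁻¹)) * a₁⁻¹
            = (a₁ * u⁻¹) * (b * u * b⁻¹) * a₁⁻¹ := by group
          _ = u⁻¹ * (a₁ * (b * u * b⁻¹)) * a₁⁻¹ := by rw [c2]; group
          _ = u⁻¹ * (b * u * b⁻¹) := by rw [c1]; group
      have hxcj : u⁻¹ * (b * u * b⁻¹) ∈ cj a₁ B := by
        have := conj_mem_cj a₁ B hxB
        rwa [hfix] at this
      rcases hti (cj a₁ B) (hinv a₁ B hB) B hB with h | h
      · exact (cj_eq_iff_mem_normalizer a₁ B).mp h
      · exfalso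
        apply hx1
        have : u⁻¹ * (b * u * b⁻¹) ∈ cj a₁ B ⊓ B := mem_inf.mpr ⟨hxcj, hxB⟩
        rw [h] at this
        exact mem_bot.mp this
    exact ha₁ step6
  by_cases h1 : A ≤ normalizer (B : Set S)
  · exact P3 A hA B hB hAB h1 (P2 A hA B hB hAB hH h1)
  · by_cases h2 : B ≤ normalizer (A : Set S)
    · exact absurd (P2 B hB A hA hAB.symm (by rw [sup_comm]; exact hH) h2) h1
    · exact (P4 A hA B hB hAB hH h1 h2).elim

end Cfsg.Agent.Helper9
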