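import Mathlib
import Cfsg.Prelude.Def_Transfer
import Cfsg.Agent.Helper17.Basic
import Cfsg.Agent.Helper9.TIFamily

set_option autoImplicit false

namespace Cfsg.Agent.Helper9

open Subgroup

universe u

variable {X : Type u} [Group X]

/-- Elementary abelian `2`-subgroups, elementwise. -/
def EA2 (A : Subgroup X) : Prop :=
  (∀ x ∈ A, ∀ y ∈ A, x * y = y * x) ∧ ∀ x ∈ A, x ^ 2 = 1

theorem isElementaryAbelian_iff_EA2 (A : Subgroup X) : Cfsg.IsElementaryAbelian 2 A ↔ EA2 A := by
  constructor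
  · rintro ⟨h1, h2⟩
    refine ⟨fun x hx y hy => ?_, h2⟩
    exact congrArg Subtype.val (h1.is_comm.comm ⟨x, hx⟩ ⟨y, hy⟩)
  · rintro ⟨h1, h2⟩
    exact ⟨⟨⟨fun a b => Subtype.ext (h1 a a.2 b b.2)⟩⟩, h2⟩

theorem EA2.mono {A B : Subgroup X} (hB : EA2 B) (hAB : A ≤ B) : EA2 A :=
  ⟨fun x hx y hy => hB.1 x (hAB hx) y (hAB hy), fun x hx => hB.2 x (hAB hx)⟩

theorem EA2.sup {A B : Subgroup X} (hA : EA2 A) (hB : EA2 B)
    (hAB : ∀ a ∈ A, ∀ b ∈ B, a * b = b * a) : EA2 (A ⊔ B) := by
  have hBn : B ≤ normalizer (A : Set X) := by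
    refine le_trans ?_ (centralizer_le_normalizer _)
    intro b hb a ha
    exact hAB a ha b hb
  have hmul := coe_mul_of_right_le_normalizer_left A B hBn
  have hdecomp : ∀ x ∈ A ⊔ B, ∃ a ∈ A, ∃ b ∈ B, a * b = x := by
    intro x hx
    have : x ∈ ((A ⊔ B : Subgroup X) : Set X) := hx
    rw [hmul, Set.mem_mul] at this
    exact this
  constructor
  · intro x hx y hy
    obtain ⟨a, ha, b, hb, rfl⟩ := hdecomp x hx
    obtain ⟨a', ha', b', hb', rfl⟩ := hdecomp y hy
    calc a * b * (a' * b') = a * (b * a') * b' := by group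
      _ = a * (a' * b) * b' := by rw [← hAB a' ha' b hb]
      _ = (a * a') * (b * b') := by group
      _ = (a' * a) * (b' * b) := by rw [hA.1 a ha a' ha', hB.1 b hb b' hb']
      _ = a' * (a * b') * b := by group
      _ = a' * (b' * a) * b := by rw [hAB a ha b' hb']
      _ = a' * b' * (a * b) := by group
  · intro x hx
    obtain ⟨a, ha, b, hb, rfl⟩ := hdecomp x hx
    calc (a * b) ^ 2 = a * (b * a) * b := by rw [sq]; group
      _ = a * (a * b) * b := by rw [← hAB a ha b hb]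
      _ = a ^ 2 * b ^ 2 := by rw [sq, sq]; group
      _ = 1 := by rw [hA.2 a ha, hB.2 b hb, one_mul]

theorem EA2_zpowers {w : X} (hw : w ^ 2 = 1) : EA2 (zpowers w) := by
  constructor
  · rintro _ ⟨i, rfl⟩ _ ⟨j, rfl⟩
    exact (Commute.zpow_zpow_self w i j).eq
  · rintro _ ⟨i, rfl⟩
    change (w ^ i) ^ (2 : ℕ) = 1
    rw [← zpow_natCast, ← zpow_mul, mul_comm, zpow_mul, zpow_natCast, hw, one_zpow]

theorem card_zpowers_of_sq [Finite X] (A : Subgroup X) {w : X} (hwA : w ∉ A) (hw : w ^ 2 = 1) :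
    Nat.card (zpowers w) = 2 ∧ A ⊓ zpowers w = ⊥ := by
  have : Fact (Nat.Prime 2) := ⟨Nat.prime_two⟩
  have hw1 : w ≠ 1 := fun h => hwA (h ▸ A.one_mem)
  have hcard : Nat.card (zpowers w) = 2 := by
    rw [Nat.card_zpowers]
    exact orderOf_eq_prime hw hw1
  refine ⟨hcard, ?_⟩
  have hdvd : Nat.card (A ⊓ zpowers w : Subgroup X) ∣ 2 := by
    rw [← hcard]
    exact card_dvd_of_le inf_le_right
  rcases (Nat.dvd_prime Nat.prime_two).mp hdvd with h | h
  · exact card_eq_one.mp h
  · exfalso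
    apply hwA
    have : A ⊓ zpowers w = zpowers w := by
      apply eq_of_le_of_card_ge inf_le_right
      rw [h, hcard]
    have hw' : w ∈ A ⊓ zpowers w := by rw [this]; exact mem_zpowers w
    exact (mem_inf.mp hw').1

theorem card_sup_zpowers [Finite X] (A : Subgroup X) {w : X} (hwA : w ∉ A) (hw : w ^ 2 = 1)
    (hc : ∀ a ∈ A, a * w = w * a) : Nat.card (A ⊔ zpowers w : Subgroup X) = Nat.card A * 2 := by
  obtain ⟨h1, h2⟩ := card_zpowers_of_sq A hwA hw
  have hn : zpowers w ≤ normalizer (A : Set X) := by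
    refine le_trans ?_ (centralizer_le_normalizer _)
    rw [zpowers_le]
    intro a ha
    exact hc a ha
  have := Cfsg.Agent.Helper17.card_sup_mul_card_inf A (zpowers w) hn
  rwa [h2, card_bot, mul_one, h1] at this

/-- Subgroups of given `p`-power order between a `p`-subgroup and a larger subgroup. -/
theorem exists_between_card {p : ℕ} [Fact p.Prime] [Finite X] (B L : Subgroup X) (hBL : B ≤ L)
    {n m : ℕ} (hB : Nat.card B = p ^ n) (hnm : n ≤ m) (hL : p ^ m ∣ Nat.card L) :
    ∃ K : Subgroup X, B ≤ K ∧ K ≤ L ∧ Nat.card K = p ^ m := by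
  have hB' : Nat.card (B.subgroupOf L) = p ^ n := by
    rw [Cfsg.Agent.Helper17.card_subgroupOf_of_le hBL, hB]
  obtain ⟨K', hK', hBK'⟩ := Sylow.exists_subgroup_card_pow_prime_le p hL (B.subgroupOf L) hB' hnm
  refine ⟨K'.map L.subtype, ?_, map_subtype_le K', ?_⟩
  · intro x hx
    exact ⟨⟨x, hBL hx⟩, hBK' (mem_subgroupOf.mpr hx), rfl⟩
  · rw [card_map_of_injective L.subtype_injective, hK']

/-- An involution normalizing an elementary abelian `2`-group `F` has `|F| ≤ |C_F(a)|²`. -/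
theorem card_le_card_centralizer_sq [Finite X] (F : Subgroup X) (a : X) (hF : EA2 F)
    (ha : ∀ x ∈ F, a * x * a⁻¹ ∈ F) (ha2 : a ^ 2 = 1) :
    Nat.card F ≤ Nat.card (F ⊓ centralizer {a} : Subgroup X) ^ 2 := by
  have hainv : a⁻¹ = a := by rw [inv_eq_iff_mul_eq_one, ← sq]; exact ha2
  let θ : F →* F := MonoidHom.mk'
    (fun x => ⟨a * x * a⁻¹ * x⁻¹, F.mul_mem (ha x x.2) (F.inv_mem x.2)⟩) (by
    intro x y
    apply Subtype.ext
    have h1 := hF.1 (a * y * a⁻¹ * (y : X)⁻¹) (F.mul_mem (ha y y.2) (F.inv_mem y.2))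
      (x : X)⁻¹ (F.inv_mem x.2)
    change a * ((x : X) * y) * a⁻¹ * ((x : X) * y)⁻¹ =
      a * x * a⁻¹ * (x : X)⁻¹ * (a * y * a⁻¹ * (y : X)⁻¹)
    calc a * ((x : X) * y) * a⁻¹ * ((x : X) * y)⁻¹
        = a * x * a⁻¹ * ((a * y * a⁻¹ * (y : X)⁻¹) * (x : X)⁻¹) := by group
      _ = a * x * a⁻¹ * ((x : X)⁻¹ * (a * y * a⁻¹ * (y : X)⁻¹)) := by rw [h1]
      _ = a * x * a⁻¹ * (x : X)⁻¹ * (a * y * a⁻¹ * (y : X)⁻¹) := by group)
  have hθ : ∀ x : F, ((θ x : F) : X) = a * x * a⁻¹ * (x : X)⁻¹ := fun x => rfl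
  have hker : θ.ker = (centralizer {a}).subgroupOf F := by
    ext x
    rw [MonoidHom.mem_ker, mem_subgroupOf, mem_centralizer_iff]
    constructor
    · intro h
      have h1 := congrArg Subtype.val h
      rw [hθ] at h1
      intro y hy
      rw [Set.mem_singleton_iff] at hy
      subst hy
      have h2 : y * x * y⁻¹ = x := by
        rw [← mul_inv_eq_one]; exact h1
      exact mul_inv_eq_iff_eq_mul.mp h2
    · intro h
      apply Subtype.ext
      rw [hθ]
      have := h a rfl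
      rw [this]
      simp
  have hrange : θ.range ≤ (centralizer {a}).subgroupOf F := by
    rintro _ ⟨x, rfl⟩
    rw [mem_subgroupOf, mem_centralizer_iff]
    intro y hy
    rw [Set.mem_singleton_iff] at hy
    subst hy
    rw [hθ]
    have hg2 := hF.2 _ (θ x).2
    rw [hθ] at hg2
    have hginv : (y * x * y⁻¹ * (x : X)⁻¹)⁻¹ = y * x * y⁻¹ * (x : X)⁻¹ := by
      rw [inv_eq_iff_mul_eq_one, ← sq]; exact hg2
    have e1 : y * (y * x * y⁻¹ * (x : X)⁻¹) * y⁻¹ = (y * x * y⁻¹ * (x : X)⁻¹)⁻¹ := by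
      have : y * (y * x * y⁻¹ * (x : X)⁻¹) * y⁻¹ =
          (y * y) * x * (y * y)⁻¹ * (y * x * y⁻¹)⁻¹ := by
        group
      rw [this, ← sq, ha2]
      group
    rw [hginv] at e1
    exact mul_inv_eq_iff_eq_mul.mp e1
  have h1 : Nat.card θ.ker * Nat.card θ.range = Nat.card F := by
    rw [← index_ker]
    exact card_mul_index θ.ker
  have hc : Nat.card ((centralizer {a}).subgroupOf F) =
      Nat.card (F ⊓ centralizer {a} : Subgroup X) := by
    rw [Cfsg.Agent.Helper17.card_subgroupOf, inf_comm]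
  calc Nat.card F = Nat.card θ.ker * Nat.card θ.range := h1.symm
    _ ≤ Nat.card ((centralizer {a}).subgroupOf F) * Nat.card ((centralizer {a}).subgroupOf F) := by
        rw [hker]
        exact Nat.mul_le_mul_left _ (card_le_of_le hrange)
    _ = Nat.card (F ⊓ centralizer {a} : Subgroup X) ^ 2 := by rw [hc, sq]

/-- Iterated fixed point bound: for elementary abelian `D` acting on the normal elementary abelian
`2`-subgroup `E` and `D₀ ≤ D`, `|C_E(D₀)| ≤ |C_E(D)| ^ |D : D₀|`. -/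
theorem card_centralizer_chain [Finite X] (E : Subgroup X) [E.Normal] (hE : EA2 E)
    (D : Subgroup X) (hD : EA2 D) :
    ∀ (m : ℕ) (D₀ : Subgroup X), D₀ ≤ D → Nat.card D - Nat.card D₀ = m →
      Nat.card (E ⊓ centralizer (D₀ : Set X) : Subgroup X) ≤
        Nat.card (E ⊓ centralizer (D : Set X) : Subgroup X) ^ (D₀.relIndex D) := by
  intro m
  induction m using Nat.strong_induction_on with
  | _ m ih =>
  intro D₀ hD₀ hm
  by_cases heq : D₀ = D
  · subst heq
    rw [relIndex_self, pow_one]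
  · have hlt : D₀ < D := lt_of_le_of_ne hD₀ heq
    obtain ⟨a, haD, haD₀⟩ := SetLike.exists_of_lt hlt
    have ha2 : a ^ 2 = 1 := hD.2 a haD
    have hD₁ : D₀ ⊔ zpowers a ≤ D := sup_le hD₀ (by rw [zpowers_le]; exact haD)
    have hD₀₁ : D₀ < D₀ ⊔ zpowers a := by
      refine lt_of_le_of_ne le_sup_left ?_
      intro h
      apply haD₀
      rw [h]
      exact (le_sup_right : zpowers a ≤ _) (mem_zpowers a)
    have hcard₁ : Nat.card D₀ < Nat.card (D₀ ⊔ zpowers a : Subgroup X) := card_lt_of_lt' hD₀₁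
    have hcard₂ : Nat.card (D₀ ⊔ zpowers a : Subgroup X) ≤ Nat.card D := card_le_of_le hD₁
    have IH := ih (Nat.card D - Nat.card (D₀ ⊔ zpowers a : Subgroup X)) (by omega)
      (D₀ ⊔ zpowers a) hD₁ rfl
    -- the squaring bound
    have hF : EA2 (E ⊓ centralizer (D₀ : Set X)) := hE.mono inf_le_left
    have hanorm : ∀ x ∈ E ⊓ centralizer (D₀ : Set X), a * x * a⁻¹ ∈ E ⊓ centralizer (D₀ : Set X) := by
      intro x hx
      obtain ⟨hxE, hxC⟩ := mem_inf.mp hx
      refine mem_inf.mpr ⟨‹E.Normal›.conj_mem x hxE a, ?_⟩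
      rw [mem_centralizer_iff] at hxC ⊢
      intro d hd
      have h1 := hxC d hd
      have h2 := hD.1 d (hD₀ hd) a haD
      have h3 : d * a⁻¹ = a⁻¹ * d := by
        have : d * a⁻¹ = a⁻¹ * (a * d) * a⁻¹ := by group
        rw [this, ← h2]; group
      calc d * (a * x * a⁻¹) = (d * a) * x * a⁻¹ := by group
        _ = a * (d * x) * a⁻¹ := by rw [h2]; group
        _ = a * (x * d) * a⁻¹ := by rw [h1]
        _ = a * x * (d * a⁻¹) := by group
        _ = a * x * a⁻¹ * d := by rw [h3]; group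
    have hsq := card_le_card_centralizer_sq (E ⊓ centralizer (D₀ : Set X)) a hF hanorm ha2
    have hcent : (E ⊓ centralizer (D₀ : Set X) ⊓ centralizer {a} : Subgroup X) =
        E ⊓ centralizer ((D₀ ⊔ zpowers a : Subgroup X) : Set X) := by
      ext x
      simp only [mem_inf]
      constructor
      · rintro ⟨⟨h1, h2⟩, h3⟩
        refine ⟨h1, ?_⟩
        have : D₀ ⊔ zpowers a ≤ centralizer {x} := by
          refine sup_le ?_ ?_
          · intro d hd
            rw [mem_centralizer_iff]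
            intro y hy
            rw [Set.mem_singleton_iff] at hy
            subst hy
            exact (h2 d hd).symm
          · rw [zpowers_le, mem_centralizer_iff]
            intro y hy
            rw [Set.mem_singleton_iff] at hy
            subst hy
            exact (h3 a rfl).symm
        intro d hd
        exact ((this hd) x rfl).symm
      · rintro ⟨h1, h2⟩
        refine ⟨⟨h1, ?_⟩, ?_⟩
        · intro d hd
          exact h2 d ((le_sup_left : D₀ ≤ D₀ ⊔ zpowers a) hd)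
        · intro y hy
          rw [Set.mem_singleton_iff] at hy
          subst hy
          exact h2 y ((le_sup_right : zpowers y ≤ D₀ ⊔ zpowers y) (mem_zpowers y))
    rw [hcent] at hsq
    have hrel : D₀.relIndex D = D₀.relIndex (D₀ ⊔ zpowers a) * (D₀ ⊔ zpowers a).relIndex D :=
      (relIndex_mul_relIndex D₀ (D₀ ⊔ zpowers a) D le_sup_left hD₁).symm
    have h2le : 2 ≤ D₀.relIndex (D₀ ⊔ zpowers a) := by
      have h0 : D₀.relIndex (D₀ ⊔ zpowers a) ≠ 0 := by
        unfold relIndex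
        exact index_ne_zero_of_finite
      have h1 : D₀.relIndex (D₀ ⊔ zpowers a) ≠ 1 := by
        intro h
        exact (not_le_of_gt hD₀₁) (relIndex_eq_one.mp h)
      omega
    have hpos : 0 < Nat.card (E ⊓ centralizer (D : Set X) : Subgroup X) := Nat.card_pos
    calc Nat.card (E ⊓ centralizer (D₀ : Set X) : Subgroup X)
        ≤ Nat.card (E ⊓ centralizer ((D₀ ⊔ zpowers a : Subgroup X) : Set X) : Subgroup X) ^ 2 := hsq
      _ ≤ (Nat.card (E ⊓ centralizer (D : Set X) : Subgroup X) ^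
            ((D₀ ⊔ zpowers a).relIndex D)) ^ 2 := Nat.pow_le_pow_left IH 2
      _ = Nat.card (E ⊓ centralizer (D : Set X) : Subgroup X) ^
            (2 * (D₀ ⊔ zpowers a).relIndex D) := by rw [← pow_mul, mul_comm]
      _ ≤ Nat.card (E ⊓ centralizer (D : Set X) : Subgroup X) ^ (D₀.relIndex D) := by
          apply Nat.pow_le_pow_right hpos
          rw [hrel]
          exact Nat.mul_le_mul_right _ h2le

/-- The bound for `D₀ = D ⊓ E`. -/
theorem card_le_card_centralizer_pow [Finite X] (E : Subgroup X) [E.Normal] (hE : EA2 E)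
    (D : Subgroup X) (hD : EA2 D) :
    Nat.card E ≤ Nat.card (E ⊓ centralizer (D : Set X) : Subgroup X) ^ ((D ⊓ E).relIndex D) := by
  have h := card_centralizer_chain E hE D hD _ (D ⊓ E) inf_le_left rfl
  have : (E ⊓ centralizer ((D ⊓ E : Subgroup X) : Set X) : Subgroup X) = E := by
    apply inf_eq_left.mpr
    intro x hx d hd
    exact hE.1 d (mem_inf.mp hd).2 x hx
  rwa [this] at h

end Cfsg.Agent.Helper9
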