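import Mathlib
import Cfsg.Prelude.Def_Transfer
import Cfsg.Agent.Helper9.NormalSeries
import Cfsg.Agent.Helper20.NonCyclic

set_option autoImplicit false

namespace Cfsg.Agent.Helper9

open Subgroup
open scoped commutatorElement

universe u

/-- A non-cyclic finite abelian `p`-group contains an elementary abelian subgroup of order `p^2`. -/
theorem exists_elemAb_sq_of_commGroup {R : Type u} [CommGroup R] [Finite R] {p : ℕ} [Fact p.Prime]
    (hR : IsPGroup p R) (hnc : ¬ IsCyclic R) :
    ∃ A : Subgroup R, Cfsg.IsElementaryAbelian p A ∧ Nat.card A = p ^ 2 := by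
  classical
  haveI := Fintype.ofFinite R
  have hp : p.Prime := Fact.out
  obtain ⟨q, hq, hlt⟩ := Cfsg.Agent.Helper20.exists_prime_tors_gt (G := R) hnc
  have hqp : q = p := by
    by_contra hne
    have h1 : Cfsg.Agent.Helper20.tors R q = 1 := by
      unfold Cfsg.Agent.Helper20.tors
      rw [Finset.card_eq_one]
      refine ⟨1, ?_⟩
      ext a
      simp only [Finset.mem_filter, Finset.mem_univ, true_and, Finset.mem_singleton]
      constructor
      · intro ha
        obtain ⟨j, hj⟩ := hR a
        have h1 : orderOf a ∣ q := orderOf_dvd_of_pow_eq_one ha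
        have h2 : orderOf a ∣ p ^ j := orderOf_dvd_of_pow_eq_one hj
        have h3 : orderOf a ∣ Nat.gcd q (p ^ j) := Nat.dvd_gcd h1 h2
        have hcop : Nat.Coprime q (p ^ j) :=
          Nat.Coprime.pow_right _ ((Nat.coprime_primes hq hp).mpr hne)
        rw [hcop] at h3
        exact orderOf_eq_one_iff.mp (Nat.dvd_one.mp h3)
      · rintro rfl; simp
    rw [h1] at hlt
    have := hq.two_le
    omega
  subst hqp
  have hΩcard : Nat.card (powMonoidHom q : R →* R).ker = Cfsg.Agent.Helper20.tors R q := by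
    have h1 : Nat.card (powMonoidHom q : R →* R).ker = Nat.card {a : R // a ^ q = 1} :=
      Nat.card_congr (Equiv.subtypeEquivRight (fun a => by
        rw [MonoidHom.mem_ker, powMonoidHom_apply]))
    rw [h1, Nat.card_eq_fintype_card, Fintype.card_subtype]
    unfold Cfsg.Agent.Helper20.tors
    congr!
  have hΩp : IsPGroup q (powMonoidHom q : R →* R).ker := hR.to_subgroup _
  obtain ⟨j, hj⟩ := IsPGroup.iff_card.mp hΩp
  have hj2 : 2 ≤ j := by
    by_contra hj2
    push Not at hj2
    have : q ^ j ≤ q ^ 1 := Nat.pow_le_pow_right hp.pos (by omega)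
    rw [pow_one] at this
    omega
  have hle : q ^ 2 ≤ Nat.card (powMonoidHom q : R →* R).ker := by
    rw [hj]; exact Nat.pow_le_pow_right hp.pos hj2
  obtain ⟨B, -, hBΩ, hBc⟩ := exists_normal_le_card_eq hR (powMonoidHom q : R →* R).ker 2 hle
  refine ⟨B, ⟨⟨⟨fun a b => Subtype.ext (mul_comm _ _)⟩⟩, fun a ha => ?_⟩, hBc⟩
  have := hBΩ ha
  rwa [MonoidHom.mem_ker, powMonoidHom_apply] at this

/-- For odd `p`, every non-cyclic finite `p`-group has a normal elementary abelian subgroup of
order `p^2` (statement with explicit induction on the order). -/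
theorem exists_normal_elemAb_sq_aux : ∀ (n : ℕ) (R : Type u) [Group R] [Finite R] (p : ℕ)
    [Fact p.Prime], p ≠ 2 → IsPGroup p R → ¬ IsCyclic R → Nat.card R = n →
    ∃ A : Subgroup R, A.Normal ∧ Cfsg.IsElementaryAbelian p A ∧ Nat.card A = p ^ 2 := by
  intro n
  induction n using Nat.strong_induction_on with
  | _ n ih =>
  intro R _ _ p _ hp2 hR hnc hn
  have hp : p.Prime := Fact.out
  have hnt : Nontrivial R := by
    by_contra h
    rw [not_nontrivial_iff_subsingleton] at h
    exact hnc isCyclic_of_subsingleton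
  have hcne : Subgroup.center R ≠ ⊥ := by
    have := hR.center_nontrivial
    exact (Subgroup.nontrivial_iff_ne_bot _).mp this
  obtain ⟨z, hzc, hzo⟩ :=
    exists_orderOf_eq_prime_of_ne_bot (Subgroup.center R) (hR.to_subgroup _) hcne
  have hZc : Subgroup.zpowers z ≤ Subgroup.center R := Subgroup.zpowers_le.mpr hzc
  have hZn : (Subgroup.zpowers z).Normal := by
    constructor
    intro a ha g
    have hac : a ∈ Subgroup.center R := hZc ha
    have : g * a * g⁻¹ = a := by
      rw [(Subgroup.mem_center_iff.mp hac g), mul_assoc, mul_inv_cancel, mul_one]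
    rw [this]; exact ha
  have hZcard : Nat.card (Subgroup.zpowers z) = p := by rw [Nat.card_zpowers, hzo]
  have hZpow : ∀ a ∈ Subgroup.zpowers z, a ^ p = 1 := by
    intro a ha
    obtain ⟨k, rfl⟩ := Subgroup.mem_zpowers_iff.mp ha
    rw [← zpow_natCast, ← zpow_mul, mul_comm, zpow_mul, zpow_natCast, ← hzo, pow_orderOf_eq_one,
      one_zpow]
  by_cases hcyc : IsCyclic (R ⧸ Subgroup.zpowers z)
  · -- abelian case
    have hcomm : ∀ a b : R, a * b = b * a := by
      have := (QuotientGroup.mk' (Subgroup.zpowers z)).isMulCommutative_of_isCyclic_of_ker_le_center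
        (by rw [QuotientGroup.ker_mk']; exact hZc)
      exact this.is_comm.comm
    obtain ⟨A, hA, hAc⟩ := @exists_elemAb_sq_of_commGroup R
      { (inferInstance : Group R) with mul_comm := hcomm } _ p _ hR hnc
    refine ⟨A, ⟨fun a ha g => ?_⟩, hA, hAc⟩
    rw [hcomm g a, mul_assoc, mul_inv_cancel, mul_one]; exact ha
  · -- the quotient by `Z` is not cyclic
    have hcardq : Nat.card (R ⧸ Subgroup.zpowers z) < n := by
      have := Subgroup.card_eq_card_quotient_mul_card_subgroup (Subgroup.zpowers z)
      rw [hZcard, hn] at this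
      have hpos : 0 < Nat.card (R ⧸ Subgroup.zpowers z) := Nat.card_pos
      have := hp.two_le
      nlinarith
    obtain ⟨Abar, hAbn, ⟨hAbcomm, hAbexp⟩, hAbc⟩ :=
      ih _ hcardq (R ⧸ Subgroup.zpowers z) p hp2 (hR.to_quotient _) hcyc rfl
    have hAn : (Abar.comap (QuotientGroup.mk' (Subgroup.zpowers z))).Normal := hAbn.comap _
    have hAcard : Nat.card (Abar.comap (QuotientGroup.mk' (Subgroup.zpowers z))) = p ^ 3 := by
      rw [card_comap_mk', hAbc, hZcard]; ring
    have hcm : ∀ a ∈ Abar.comap (QuotientGroup.mk' (Subgroup.zpowers z)),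
        ∀ b ∈ Abar.comap (QuotientGroup.mk' (Subgroup.zpowers z)),
        cm a b ∈ Subgroup.zpowers z := by
      intro a ha b hb
      have : (QuotientGroup.mk' (Subgroup.zpowers z)) (cm a b) = 1 := by
        simp only [cm, map_mul, map_inv]
        have hab : (QuotientGroup.mk' (Subgroup.zpowers z)) a *
            (QuotientGroup.mk' (Subgroup.zpowers z)) b =
            (QuotientGroup.mk' (Subgroup.zpowers z)) b *
            (QuotientGroup.mk' (Subgroup.zpowers z)) a := by
          have := hAbcomm.is_comm.comm ⟨_, ha⟩ ⟨_, hb⟩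
          exact congrArg Subtype.val this
        rw [mul_assoc, hab]; group
      exact (QuotientGroup.eq_one_iff _).mp this
    have hpowZ : ∀ a ∈ Abar.comap (QuotientGroup.mk' (Subgroup.zpowers z)),
        a ^ p ∈ Subgroup.zpowers z := by
      intro a ha
      have : (QuotientGroup.mk' (Subgroup.zpowers z)) (a ^ p) = 1 := by
        rw [map_pow]; exact hAbexp _ ha
      exact (QuotientGroup.eq_one_iff _).mp this
    have hmulpow : ∀ a ∈ Abar.comap (QuotientGroup.mk' (Subgroup.zpowers z)),
        ∀ b ∈ Abar.comap (QuotientGroup.mk' (Subgroup.zpowers z)),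
        (a * b) ^ p = a ^ p * b ^ p := by
      intro a ha b hb
      have hc := hcm b hb a ha
      have hcc := hZc hc
      apply mul_pow_prime_of_comm_cm hp hp2 a b
      · exact (Subgroup.mem_center_iff.mp hcc a).symm
      · exact (Subgroup.mem_center_iff.mp hcc b).symm
      · exact hZpow _ hc
    let φ : (Abar.comap (QuotientGroup.mk' (Subgroup.zpowers z))) →* R :=
      { toFun := fun a => (a : R) ^ p
        map_one' := by simp
        map_mul' := fun a b => hmulpow a a.2 b b.2 }
    have hΩmem : ∀ x, x ∈ φ.ker.map (Subgroup.subtype _) ↔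
        x ∈ Abar.comap (QuotientGroup.mk' (Subgroup.zpowers z)) ∧ x ^ p = 1 := by
      intro x
      constructor
      · rintro ⟨a, ha, rfl⟩
        exact ⟨a.2, MonoidHom.mem_ker.mp ha⟩
      · rintro ⟨hx, hxp⟩
        exact ⟨⟨x, hx⟩, MonoidHom.mem_ker.mpr hxp, rfl⟩
    have hΩn : (φ.ker.map (Subgroup.subtype _)).Normal := by
      constructor
      intro x hx g
      rw [hΩmem] at hx ⊢
      refine ⟨hAn.conj_mem x hx.1 g, ?_⟩
      rw [conj_pow, hx.2]; simp
    have hΩcard : p ^ 2 ≤ Nat.card (φ.ker.map (Subgroup.subtype _)) := by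
      have h1 : Nat.card (φ.ker.map (Subgroup.subtype _)) = Nat.card φ.ker :=
        Subgroup.card_map_of_injective (Subgroup.subtype_injective _)
      have h2 := Subgroup.card_mul_index φ.ker
      rw [Subgroup.index_ker] at h2
      have h3 : Nat.card φ.range ∣ p := by
        rw [← hZcard]
        apply Subgroup.card_dvd_of_le
        rintro _ ⟨a, rfl⟩
        exact hpowZ a a.2
      have h4 : Nat.card φ.range ≤ p := Nat.le_of_dvd hp.pos h3
      rw [h1]
      rw [hAcard] at h2
      by_contra hlt
      push Not at hlt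
      have : Nat.card φ.ker * Nat.card φ.range < p ^ 2 * p := by
        calc Nat.card φ.ker * Nat.card φ.range ≤ Nat.card φ.ker * p := Nat.mul_le_mul_left _ h4
          _ < p ^ 2 * p := Nat.mul_lt_mul_of_pos_right hlt hp.pos
      rw [h2] at this
      have h5 : p ^ 2 * p = p ^ 3 := by ring
      omega
    obtain ⟨B, hBn, hBΩ, hBc⟩ := exists_normal_le_card_eq hR (φ.ker.map (Subgroup.subtype _)) 2 hΩcard
    refine ⟨B, hBn, ⟨?_, fun a ha => ((hΩmem a).mp (hBΩ ha)).2⟩, hBc⟩
    exact IsPGroup.isMulCommutative_of_card_eq_prime_sq hBc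

/-- For odd `p`, every non-cyclic finite `p`-group has a normal elementary abelian subgroup of
order `p^2`. -/
theorem exists_normal_elemAb_sq {R : Type u} [Group R] [Finite R] {p : ℕ} [Fact p.Prime]
    (hp : p ≠ 2) (hR : IsPGroup p R) (hnc : ¬ IsCyclic R) :
    ∃ A : Subgroup R, A.Normal ∧ Cfsg.IsElementaryAbelian p A ∧ Nat.card A = p ^ 2 :=
  exists_normal_elemAb_sq_aux _ R p hp hR hnc rfl

end Cfsg.Agent.Helper9
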