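import Mathlib
import Cfsg.Agent.Helper1.UniqueOrderP
import Cfsg.Agent.Helper10.PGroupBasic

set_option autoImplicit false
set_option linter.style.haveILetI false

/-! Alperin's lemma: if `A` is maximal among the normal abelian subgroups of exponent dividing
`p^n` (`p^n ≠ 2`) of a `p`-group then `Ω_n(C(A)) = A`. -/

namespace Cfsg.Agent.Helper9

open Subgroup
open scoped commutatorElement

universe u

/-- Two elements of prime order normalizing each other's cyclic group commute. -/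
theorem commute_of_zpowers_normalize {Γ : Type u} [Group Γ] {p : ℕ} [Fact p.Prime] (x y : Γ)
    (hx : x ^ p = 1) (hy : y ^ p = 1) (hyx : y * x * y⁻¹ ∈ Subgroup.zpowers x)
    (hxy : x * y * x⁻¹ ∈ Subgroup.zpowers y) : x * y = y * x := by
  have hp : p.Prime := Fact.out
  set c := y * x * y⁻¹ * x⁻¹ with hc
  have hc1 : c ∈ Subgroup.zpowers x :=
    Subgroup.mul_mem _ hyx (Subgroup.inv_mem _ (Subgroup.mem_zpowers x))
  have hc2 : c ∈ Subgroup.zpowers y := by
    have : c = y * (x * y * x⁻¹)⁻¹ := by rw [hc]; group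
    rw [this]
    exact Subgroup.mul_mem _ (Subgroup.mem_zpowers y) (Subgroup.inv_mem _ hxy)
  by_cases h1 : c = 1
  · have : y * x = c * (x * y) := by rw [hc]; group
    rw [this, h1, one_mul]
  · exfalso
    apply h1
    -- `x ∈ zpowers c`
    have hxo : orderOf x = p := by
      apply orderOf_eq_prime hx
      rintro rfl
      apply h1
      rw [hc]; group
    have hco : orderOf c = p := by
      obtain ⟨i, hi⟩ := Subgroup.mem_zpowers_iff.mp hc1
      apply orderOf_eq_prime _ h1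
      rw [← hi, ← zpow_natCast, ← zpow_mul, mul_comm, zpow_mul, zpow_natCast, hx, one_zpow]
    have hle : Subgroup.zpowers c ≤ Subgroup.zpowers x := Subgroup.zpowers_le.mpr hc1
    have heq : Subgroup.zpowers c = Subgroup.zpowers x := by
      haveI : Finite (Subgroup.zpowers x) := by
        apply Nat.finite_of_card_ne_zero
        rw [Nat.card_zpowers, hxo]; exact hp.ne_zero
      apply Subgroup.eq_of_le_of_card_ge hle
      rw [Nat.card_zpowers, Nat.card_zpowers, hxo, hco]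
    have hxy' : x ∈ Subgroup.zpowers y := by
      have : x ∈ Subgroup.zpowers c := by rw [heq]; exact Subgroup.mem_zpowers x
      exact (Subgroup.zpowers_le.mpr hc2) this
    obtain ⟨j, hj⟩ := Subgroup.mem_zpowers_iff.mp hxy'
    rw [hc, ← hj]
    have : y * y ^ j * y⁻¹ = y ^ j := by group
    rw [this, mul_inv_cancel]

/-- In a finite `p`-group, a normal subgroup strictly above a normal subgroup `A` contains an
element outside `A` that is central modulo `A`. -/
theorem exists_central_mod {Γ : Type u} [Group Γ] [Finite Γ] {p : ℕ} [Fact p.Prime]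
    (hΓ : IsPGroup p Γ) (A E : Subgroup Γ) [A.Normal] [E.Normal] (hAE : A ≤ E) (hne : ¬ E ≤ A) :
    ∃ e ∈ E, e ∉ A ∧ ∀ g : Γ, g * e * g⁻¹ * e⁻¹ ∈ A := by
  have hQ : IsPGroup p (Γ ⧸ A) := hΓ.to_quotient A
  haveI : (E.map (QuotientGroup.mk' A)).Normal :=
    Subgroup.Normal.map inferInstance _ (QuotientGroup.mk'_surjective A)
  have hne' : E.map (QuotientGroup.mk' A) ≠ ⊥ := by
    intro h
    apply hne
    rw [Subgroup.map_eq_bot_iff, QuotientGroup.ker_mk'] at h
    exact h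
  obtain ⟨z, hzE, hz1, hzZ⟩ :=
    Cfsg.Agent.Helper10.exists_ne_one_mem_inf_center hQ (E.map (QuotientGroup.mk' A)) hne'
  obtain ⟨e, he, rfl⟩ := hzE
  refine ⟨e, he, ?_, ?_⟩
  · intro heA
    apply hz1
    exact (QuotientGroup.eq_one_iff e).mpr heA
  · intro g
    have h1 := Subgroup.mem_center_iff.mp hzZ (QuotientGroup.mk' A g)
    rw [← QuotientGroup.eq_one_iff]
    have h2 : ((g * e * g⁻¹ * e⁻¹ : Γ) : Γ ⧸ A)
        = QuotientGroup.mk' A g * QuotientGroup.mk' A e * (QuotientGroup.mk' A g)⁻¹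
          * (QuotientGroup.mk' A e)⁻¹ := by
      simp
    rw [h2, h1]
    group

section Alperin

variable {G : Type u} [Group G] {p : ℕ} (n : ℕ) (A : Subgroup G)

/-- `y` is a "good" element: it centralizes `A`, has order dividing `p^n`, lies outside `A`
but `y^p ∈ A`. -/
def AlpGood (p n : ℕ) (A : Subgroup G) (y : G) : Prop :=
  y ∈ Subgroup.centralizer (A : Set G) ∧ y ^ p ^ n = 1 ∧ y ∉ A ∧ y ^ p ∈ A

variable {n A}

theorem mem_sup_zpowers_iff [A.Normal] (y u : G) :
    u ∈ A ⊔ Subgroup.zpowers y ↔ ∃ a ∈ A, ∃ i : ℤ, u = a * y ^ i := by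
  rw [Subgroup.mem_sup_of_normal_left]
  constructor
  · rintro ⟨a, ha, z, hz, rfl⟩
    obtain ⟨i, rfl⟩ := Subgroup.mem_zpowers_iff.mp hz
    exact ⟨a, ha, i, rfl⟩
  · rintro ⟨a, ha, i, rfl⟩
    exact ⟨a, ha, y ^ i, Subgroup.zpow_mem_zpowers y i, rfl⟩

theorem commute_of_mem_centralizer {a y : G} (ha : a ∈ A)
    (hy : y ∈ Subgroup.centralizer (A : Set G)) : a * y = y * a :=
  (Subgroup.mem_centralizer_iff.mp hy) a ha

/-- `A⟨y⟩` is commutative for `y ∈ C(A)`. -/
theorem sup_zpowers_comm [A.Normal] (hAc : ∀ a ∈ A, ∀ b ∈ A, a * b = b * a) {y : G}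
    (hy : y ∈ Subgroup.centralizer (A : Set G)) :
    ∀ u ∈ A ⊔ Subgroup.zpowers y, ∀ v ∈ A ⊔ Subgroup.zpowers y, u * v = v * u := by
  intro u hu v hv
  obtain ⟨a, ha, i, rfl⟩ := (mem_sup_zpowers_iff y u).mp hu
  obtain ⟨b, hb, j, rfl⟩ := (mem_sup_zpowers_iff y v).mp hv
  have hyi : ∀ (c : G), c ∈ A → ∀ k : ℤ, c * y ^ k = y ^ k * c := by
    intro c hc k
    exact ((Commute.zpow_right (commute_of_mem_centralizer hc hy) k)).eq
  calc a * y ^ i * (b * y ^ j) = a * (y ^ i * b) * y ^ j := by group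
    _ = a * (b * y ^ i) * y ^ j := by rw [hyi b hb i]
    _ = (a * b) * (y ^ i * y ^ j) := by group
    _ = (b * a) * (y ^ j * y ^ i) := by
        rw [hAc a ha b hb, ← zpow_add, ← zpow_add, add_comm]
    _ = b * (a * y ^ j) * y ^ i := by group
    _ = b * (y ^ j * a) * y ^ i := by rw [hyi a ha j]
    _ = b * y ^ j * (a * y ^ i) := by group

/-- `A⟨y⟩` has exponent dividing `p^n`. -/
theorem sup_zpowers_pow [A.Normal] (hAe : ∀ a ∈ A, a ^ p ^ n = 1) {y : G}
    (hy : y ∈ Subgroup.centralizer (A : Set G)) (hyn : y ^ p ^ n = 1) :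
    ∀ u ∈ A ⊔ Subgroup.zpowers y, u ^ p ^ n = 1 := by
  intro u hu
  obtain ⟨a, ha, i, rfl⟩ := (mem_sup_zpowers_iff y u).mp hu
  have hc : Commute a (y ^ i) := Commute.zpow_right (commute_of_mem_centralizer ha hy) i
  rw [hc.mul_pow, hAe a ha, one_mul, ← zpow_natCast, ← zpow_mul, mul_comm, zpow_mul,
    zpow_natCast, hyn, one_zpow]

/-- If `H` is a subgroup all of whose elements conjugate `B` into `B`, then `H ≤ N(B)`. -/
theorem le_normalizer_of_conj_mem (H B : Subgroup G)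
    (h : ∀ g ∈ H, ∀ b ∈ B, g * b * g⁻¹ ∈ B) : H ≤ Subgroup.normalizer (B : Set G) := by
  intro g hg
  rw [Subgroup.mem_normalizer_iff]
  intro b
  constructor
  · exact h g hg b
  · intro hb
    have := h g⁻¹ (H.inv_mem hg) _ hb
    have e : g⁻¹ * (g * b * g⁻¹) * g⁻¹⁻¹ = b := by group
    rwa [e] at this

/-- The inductive step: if `N(A⟨y⟩) ≠ G` there is a good `y₂` with larger normalizer. -/
theorem alperin_step [Finite G] [Fact p.Prime] (hG : IsPGroup p G) (hn : p ^ n ≠ 2) [A.Normal]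
    (hAc : ∀ a ∈ A, ∀ b ∈ A, a * b = b * a) (hAe : ∀ a ∈ A, a ^ p ^ n = 1)
    {y : G} (hy : AlpGood p n A y)
    (hN : Subgroup.normalizer ((A ⊔ Subgroup.zpowers y : Subgroup G) : Set G) ≠ ⊤) :
    ∃ y2, AlpGood p n A y2 ∧
      Subgroup.normalizer ((A ⊔ Subgroup.zpowers y : Subgroup G) : Set G) <
        Subgroup.normalizer ((A ⊔ Subgroup.zpowers y2 : Subgroup G) : Set G) := by
  have hp : p.Prime := Fact.out
  obtain ⟨hyC, hyn, hyA, hypA⟩ := hy
  set B := A ⊔ Subgroup.zpowers y with hB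
  set N := Subgroup.normalizer (B : Set G) with hNdef
  set H := Subgroup.normalizer (N : Set G) with hHdef
  haveI : Group.IsNilpotent G := hG.isNilpotent
  have hNH : N < H := Group.normalizerCondition_of_isNilpotent N (lt_top_iff_ne_top.mpr hN)
  have hBN : B ≤ N := Subgroup.le_normalizer
  have hAB : A ≤ B := le_sup_left
  have hyB : y ∈ B := (le_sup_right : Subgroup.zpowers y ≤ B) (Subgroup.mem_zpowers y)
  have hAn : A.Normal := inferInstance
  -- the conjugates of `y` under `H`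
  let T : Set G := {t | ∃ h ∈ H, t = h * y * h⁻¹}
  have hyT : y ∈ T := ⟨1, H.one_mem, by group⟩
  have hTN : ∀ t ∈ T, t ∈ N := by
    rintro t ⟨h, hh, rfl⟩
    exact (Subgroup.mem_normalizer_iff.mp hh y).mp (hBN hyB)
  have hTC : ∀ t ∈ T, t ∈ Subgroup.centralizer (A : Set G) := by
    rintro t ⟨h, hh, rfl⟩
    rw [Subgroup.mem_centralizer_iff]
    intro a ha
    have ha' : h⁻¹ * a * h ∈ A := by
      have := hAn.conj_mem a ha h⁻¹
      rwa [inv_inv] at this
    have hc := commute_of_mem_centralizer ha' hyC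
    calc a * (h * y * h⁻¹) = h * ((h⁻¹ * a * h) * y) * h⁻¹ := by group
      _ = h * (y * (h⁻¹ * a * h)) * h⁻¹ := by rw [hc]
      _ = h * y * h⁻¹ * a := by group
  have hTn : ∀ t ∈ T, t ^ p ^ n = 1 := by
    rintro t ⟨h, hh, rfl⟩
    rw [conj_pow, hyn]; group
  have hTp : ∀ t ∈ T, t ^ p ∈ A := by
    rintro t ⟨h, hh, rfl⟩
    rw [conj_pow]; exact hAn.conj_mem _ hypA h
  have hTconj : ∀ t ∈ T, ∀ h ∈ H, h * t * h⁻¹ ∈ T := by
    rintro t ⟨k, hk, rfl⟩ h hh
    exact ⟨h * k, H.mul_mem hh hk, by group⟩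
  have hT2 : ∀ t ∈ T, ∀ s ∈ N, ∃ a ∈ A, ∃ i : ℤ, s * t * s⁻¹ = a * t ^ i := by
    rintro t ⟨h, hh, rfl⟩ s hs
    have hs' : h⁻¹ * s * h ∈ N := by
      have := (Subgroup.mem_normalizer_iff.mp (H.inv_mem hh) s).mp hs
      rwa [inv_inv] at this
    have h1 : (h⁻¹ * s * h) * y * (h⁻¹ * s * h)⁻¹ ∈ B :=
      (Subgroup.mem_normalizer_iff.mp hs' y).mp hyB
    obtain ⟨a, ha, i, hai⟩ := (mem_sup_zpowers_iff y _).mp h1
    refine ⟨h * a * h⁻¹, hAn.conj_mem a ha h, i, ?_⟩
    have e1 : s * (h * y * h⁻¹) * s⁻¹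
        = h * ((h⁻¹ * s * h) * y * (h⁻¹ * s * h)⁻¹) * h⁻¹ := by group
    rw [e1, hai, conj_zpow]; group
  -- pass to the quotient
  set π := QuotientGroup.mk' A with hπ
  have hπ1 : ∀ a ∈ A, π a = 1 := fun a ha => (QuotientGroup.eq_one_iff a).mpr ha
  have hπA : ∀ g : G, π g = 1 → g ∈ A := fun g hg => (QuotientGroup.eq_one_iff g).mp hg
  let Tb : Set (G ⧸ A) := π '' T
  have hTb_p : ∀ s ∈ Tb, s ^ p = 1 := by
    rintro _ ⟨t, ht, rfl⟩
    rw [← map_pow]; exact hπ1 _ (hTp t ht)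
  have hTb_norm : ∀ s ∈ Tb, ∀ r ∈ Tb, r * s * r⁻¹ ∈ Subgroup.zpowers s := by
    rintro _ ⟨t, ht, rfl⟩ _ ⟨r, hr, rfl⟩
    obtain ⟨a, ha, i, hai⟩ := hT2 t ht r (hTN r hr)
    rw [← map_inv, ← map_mul, ← map_mul, hai, map_mul, hπ1 a ha, one_mul, map_zpow]
    exact Subgroup.zpow_mem_zpowers _ i
  have hTb_comm : ∀ s ∈ Tb, ∀ r ∈ Tb, s * r = r * s := fun s hs r hr =>
    commute_of_zpowers_normalize s r (hTb_p s hs) (hTb_p r hr) (hTb_norm s hs r hr)
      (hTb_norm r hr s hs)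
  have hEbc : IsMulCommutative (Subgroup.closure Tb) := Subgroup.isMulCommutative_closure hTb_comm
  have hEb_comm : ∀ u ∈ Subgroup.closure Tb, ∀ v ∈ Subgroup.closure Tb, u * v = v * u := by
    intro u hu v hv
    exact congrArg Subtype.val (hEbc.is_comm.comm ⟨u, hu⟩ ⟨v, hv⟩)
  have hEb_p : ∀ u ∈ Subgroup.closure Tb, u ^ p = 1 := by
    intro u hu
    induction hu using Subgroup.closure_induction with
    | mem x hx => exact hTb_p x hx
    | one => exact one_pow _
    | mul x y hx hy ihx ihy =>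
      have hc : Commute x y := hEb_comm x hx y hy
      rw [hc.mul_pow, ihx, ihy, one_mul]
    | inv x hx ih => rw [inv_pow, ih, inv_one]
  set E := (Subgroup.closure Tb).comap π with hE
  have hEsup : E = Subgroup.closure T ⊔ A := by
    rw [hE, ← MonoidHom.map_closure, Subgroup.comap_map_eq, hπ, QuotientGroup.ker_mk']
  have hAE : A ≤ E := by rw [hEsup]; exact le_sup_right
  have hTE : T ⊆ E := by
    intro t ht
    rw [hEsup]
    exact (le_sup_left : Subgroup.closure T ≤ _) (Subgroup.subset_closure ht)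
  have hEdec : ∀ u ∈ E, ∃ w ∈ Subgroup.closure T, ∃ a ∈ A, u = w * a := by
    intro u hu
    rw [hEsup, Subgroup.mem_sup_of_normal_right] at hu
    obtain ⟨w, hw, a, ha, rfl⟩ := hu
    exact ⟨w, hw, a, ha, rfl⟩
  have hAC : A ≤ Subgroup.centralizer (A : Set G) := by
    intro a ha
    rw [Subgroup.mem_centralizer_iff]
    intro b hb
    exact hAc b hb a ha
  have hEC : E ≤ Subgroup.centralizer (A : Set G) := by
    rw [hEsup]
    exact sup_le ((Subgroup.closure_le _).mpr hTC) hAC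
  have hEN : E ≤ N := by
    rw [hEsup]
    exact sup_le ((Subgroup.closure_le _).mpr hTN) (hAB.trans hBN)
  have hEcommA : ∀ u ∈ E, ∀ v ∈ E, (u * v)⁻¹ * (v * u) ∈ A := by
    intro u hu v hv
    apply hπA
    rw [map_mul, map_inv, map_mul, map_mul, hEb_comm (π u) hu (π v) hv]
    group
  have hEp : ∀ u ∈ E, u ^ p ∈ A := by
    intro u hu
    apply hπA
    rw [map_pow]
    exact hEb_p (π u) hu
  -- `E` has exponent dividing `p^n`
  have hcpow : ∀ u ∈ E, ∀ v ∈ E, ∀ c : G, v * u = u * v * c → c ∈ A →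
      c ^ (p ^ n * (p ^ n - 1) / 2) = 1 := by
    intro u hu v hv c hc hcA
    have hcn : c ^ p ^ n = 1 := hAe c hcA
    rcases hp.eq_two_or_odd' with h2 | hodd
    · -- p = 2
      subst h2
      rcases Nat.lt_or_ge n 2 with hlt | hge
      · interval_cases n
        · simp
        · exact absurd rfl hn
      · obtain ⟨m, rfl⟩ : ∃ m, n = m + 2 := ⟨n - 2, by omega⟩
        have hk : c ^ 2 ^ (m + 1) = 1 := by
          have hcv : Commute c v := (commute_of_mem_centralizer hcA (hEC hv))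
          have h1 := Cfsg.Agent.Helper1.pow_mul_of_central u v c hc hcv (2 ^ (m + 1))
          have hvA : v ^ 2 ^ (m + 1) ∈ A := by
            rw [pow_succ', pow_mul]
            exact Subgroup.pow_mem _ (hEp v hv) _
          have h2 : v ^ 2 ^ (m + 1) * u = u * v ^ 2 ^ (m + 1) :=
            commute_of_mem_centralizer hvA (hEC hu)
          rw [h2] at h1
          exact (mul_eq_left.mp h1.symm)
        have e : 2 ^ (m + 2) * (2 ^ (m + 2) - 1) / 2 = 2 ^ (m + 1) * (2 ^ (m + 2) - 1) := by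
          rw [pow_succ 2 (m + 1), mul_comm (2 ^ (m + 1)) 2, mul_assoc,
            Nat.mul_div_cancel_left _ (by norm_num : 0 < 2)]
        rw [e, pow_mul, hk, one_pow]
    · -- p odd
      have hodd' : Odd (p ^ n) := hodd.pow
      obtain ⟨k, hk⟩ := hodd'
      have e : p ^ n * (p ^ n - 1) / 2 = p ^ n * k := by
        have : p ^ n - 1 = 2 * k := by omega
        rw [this, ← mul_assoc, mul_comm (p ^ n) 2, mul_assoc,
          Nat.mul_div_cancel_left _ (by norm_num : 0 < 2)]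
      rw [e, pow_mul, hcn, one_pow]
  have hEn : ∀ u ∈ E, u ^ p ^ n = 1 := by
    let F : Subgroup G :=
      { carrier := {u | u ∈ E ∧ u ^ p ^ n = 1}
        one_mem' := ⟨E.one_mem, one_pow _⟩
        mul_mem' := by
          rintro u v ⟨hu, hun⟩ ⟨hv, hvn⟩
          refine ⟨E.mul_mem hu hv, ?_⟩
          set c := (u * v)⁻¹ * (v * u) with hc
          have hcA : c ∈ A := hEcommA u hu v hv
          have hc' : v * u = u * v * c := by rw [hc]; group
          have hcu : Commute c u := commute_of_mem_centralizer hcA (hEC hu)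
          have hcv : Commute c v := commute_of_mem_centralizer hcA (hEC hv)
          rw [Cfsg.Agent.Helper1.mul_pow_of_central u v c hc' hcu hcv, hun, hvn, one_mul, one_mul]
          exact hcpow u hu v hv c hc' hcA
        inv_mem' := by
          rintro u ⟨hu, hun⟩
          exact ⟨E.inv_mem hu, by rw [inv_pow, hun, inv_one]⟩ }
    have hTF : T ⊆ F := fun t ht => ⟨hTE ht, hTn t ht⟩
    have hAF : A ≤ F := fun a ha => ⟨hAE ha, hAe a ha⟩
    intro u hu
    obtain ⟨w, hw, a, ha, rfl⟩ := hEdec u hu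
    exact (F.mul_mem ((Subgroup.closure_le F).mpr hTF hw) (hAF ha)).2
  -- `H` normalizes `E`
  have hEH : ∀ h ∈ H, ∀ u ∈ E, h * u * h⁻¹ ∈ E := by
    intro h hh u hu
    obtain ⟨w, hw, a, ha, rfl⟩ := hEdec u hu
    have e : h * (w * a) * h⁻¹ = (h * w * h⁻¹) * (h * a * h⁻¹) := by group
    rw [e]
    apply E.mul_mem _ (hAE (hAn.conj_mem a ha h))
    have : Subgroup.closure T ≤ (E.comap (MulAut.conj h).toMonoidHom) := by
      rw [Subgroup.closure_le]
      intro t ht
      exact hTE (hTconj t ht h hh)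
    exact this hw
  -- find `y2`
  have hNHle : N ≤ H := hNH.le
  have hEHle : E ≤ H := hEN.trans hNHle
  haveI : (A.subgroupOf H).Normal := Subgroup.normal_subgroupOf
  haveI : (E.subgroupOf H).Normal := by
    constructor
    intro u hu h
    rw [Subgroup.mem_subgroupOf] at hu ⊢
    exact hEH h.1 h.2 _ hu
  have hHp : IsPGroup p H := hG.to_subgroup H
  obtain ⟨e, heE, heA, hecent⟩ := exists_central_mod hHp (A.subgroupOf H) (E.subgroupOf H)
    (by
      intro a ha
      rw [Subgroup.mem_subgroupOf] at ha ⊢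
      exact hAE ha)
    (by
      intro hle
      have : (⟨y, hEHle (hTE hyT)⟩ : H) ∈ A.subgroupOf H :=
        hle (Subgroup.mem_subgroupOf.mpr (hTE hyT))
      exact hyA (Subgroup.mem_subgroupOf.mp this))
  rw [Subgroup.mem_subgroupOf] at heE heA
  refine ⟨(e : G), ⟨hEC heE, hEn _ heE, heA, hEp _ heE⟩, ?_⟩
  apply lt_of_lt_of_le hNH
  apply le_normalizer_of_conj_mem
  intro h hh b hb
  obtain ⟨a, ha, i, rfl⟩ := (mem_sup_zpowers_iff (e : G) b).mp hb
  have h1 : h * (e : G) * h⁻¹ * (e : G)⁻¹ ∈ A := by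
    have := hecent ⟨h, hh⟩
    rw [Subgroup.mem_subgroupOf] at this
    simpa using this
  have h2 : h * (e : G) * h⁻¹ ∈ A ⊔ Subgroup.zpowers (e : G) := by
    have e2 : h * (e : G) * h⁻¹ = (h * (e : G) * h⁻¹ * (e : G)⁻¹) * (e : G) := by group
    rw [e2]
    exact Subgroup.mul_mem_sup h1 (Subgroup.mem_zpowers _)
  have e3 : h * (a * (e : G) ^ i) * h⁻¹ = (h * a * h⁻¹) * (h * (e : G) * h⁻¹) ^ i := by
    rw [conj_zpow]; group
  rw [e3]
  exact Subgroup.mul_mem _ ((le_sup_left : A ≤ _) (hAn.conj_mem a ha h))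
    (Subgroup.zpow_mem _ h2 i)

/-- **Alperin's lemma.** -/
theorem alperin [Finite G] [Fact p.Prime] (hG : IsPGroup p G) (hn : p ^ n ≠ 2) [A.Normal]
    (hA : IsMulCommutative A) (hAe : ∀ a ∈ A, a ^ p ^ n = 1)
    (hmax : ∀ B : Subgroup G, B.Normal → IsMulCommutative B → (∀ b ∈ B, b ^ p ^ n = 1) →
      A ≤ B → B = A)
    (x : G) (hx : x ∈ Subgroup.centralizer (A : Set G)) (hxn : x ^ p ^ n = 1) : x ∈ A := by
  classical
  by_contra hxA
  have hAc : ∀ a ∈ A, ∀ b ∈ A, a * b = b * a := by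
    intro a ha b hb
    exact congrArg Subtype.val (hA.is_comm.comm ⟨a, ha⟩ ⟨b, hb⟩)
  -- a good element
  have hex : ∃ j, x ^ p ^ j ∈ A := ⟨n, by rw [hxn]; exact A.one_mem⟩
  have hj0 : Nat.find hex ≠ 0 := by
    intro h0
    have := Nat.find_spec hex
    rw [h0, pow_zero, pow_one] at this
    exact hxA this
  obtain ⟨j, hj⟩ : ∃ j, Nat.find hex = j + 1 := ⟨Nat.find hex - 1, by omega⟩
  have hgood : AlpGood p n A (x ^ p ^ j) := by
    refine ⟨Subgroup.pow_mem _ hx _, ?_, ?_, ?_⟩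
    · rw [← pow_mul, mul_comm, pow_mul, hxn, one_pow]
    · exact Nat.find_min hex (by omega : j < Nat.find hex)
    · have := Nat.find_spec hex
      rw [hj, pow_succ, pow_mul] at this
      exact this
  haveI : Nonempty {y : G // AlpGood p n A y} := ⟨⟨_, hgood⟩⟩
  obtain ⟨⟨y0, hy0⟩, hmaxy⟩ := Finite.exists_max (fun y : {y : G // AlpGood p n A y} =>
    Nat.card (Subgroup.normalizer ((A ⊔ Subgroup.zpowers (y : G) : Subgroup G) : Set G)))
  by_cases hN : Subgroup.normalizer ((A ⊔ Subgroup.zpowers y0 : Subgroup G) : Set G) = ⊤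
  · have hBn : (A ⊔ Subgroup.zpowers y0).Normal := Subgroup.normalizer_eq_top_iff.mp hN
    have hBc : IsMulCommutative (A ⊔ Subgroup.zpowers y0 : Subgroup G) := by
      refine ⟨⟨fun u v => ?_⟩⟩
      apply Subtype.ext
      exact sup_zpowers_comm hAc hy0.1 u.1 u.2 v.1 v.2
    have hBe := sup_zpowers_pow hAe hy0.1 hy0.2.1
    have hBA := hmax _ hBn hBc hBe le_sup_left
    apply hy0.2.2.1
    rw [← hBA]
    exact (le_sup_right : Subgroup.zpowers y0 ≤ _) (Subgroup.mem_zpowers y0)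
  · obtain ⟨y2, hy2, hlt⟩ := alperin_step hG hn hAc hAe hy0 hN
    have h1 := hmaxy ⟨y2, hy2⟩
    have h2 := Subgroup.eq_of_le_of_card_ge hlt.le h1
    exact hlt.ne h2

end Alperin

end Cfsg.Agent.Helper9
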