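import Mathlib
import Cfsg.Agent.Helper9.Alperin
import Cfsg.Agent.Helper9.NormalSeries
import Cfsg.Agent.Helper17.Basic

set_option autoImplicit false
set_option linter.style.haveILetI false

/-! Normal subgroups of order `p^2` in `p`-groups; `p`-rank at most 2 (odd `p`) when there is no
normal elementary abelian subgroup of order `p^3`. -/

namespace Cfsg.Agent.Helper9

open Subgroup
open scoped commutatorElement

universe u

/-- A normal subgroup of order `p^2` of a `p`-group has centralizer containing the kernel of a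
homomorphism onto a group of order `p`. -/
theorem exists_hom_ker_le_centralizer {P : Type u} [Group P] [Finite P] {p : ℕ} [Fact p.Prime]
    (hP : IsPGroup p P) (A : Subgroup P) [A.Normal] (hA : Nat.card A = p ^ 2) :
    ∃ (Z0 : Subgroup P) (φ : P →* ↥Z0), Nat.card Z0 = p ∧
      φ.ker ≤ Subgroup.centralizer (A : Set P) := by
  have hp : p.Prime := Fact.out
  have hAne : A ≠ ⊥ := by
    intro h
    rw [h, Subgroup.card_bot] at hA
    have : 1 < p ^ 2 := Nat.one_lt_pow (by norm_num) hp.one_lt
    omega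
  obtain ⟨z, hzA, hz1, hzZ⟩ := Cfsg.Agent.Helper10.exists_ne_one_mem_inf_center hP A hAne
  have hzc : ∀ g : P, g * z = z * g := fun g => Subgroup.mem_center_iff.mp hzZ g
  -- `z` can be taken of order `p`
  have hApow : ∀ a ∈ A, a ^ p ^ 2 = 1 := by
    intro a ha
    have := pow_card_eq_one' (G := A) (x := ⟨a, ha⟩)
    rw [hA] at this
    simpa using congrArg Subtype.val this
  -- choose `w` of order `p` in `⟨z⟩`
  obtain ⟨w, hwA, hw1, hwZ, hwp⟩ : ∃ w ∈ A, w ≠ 1 ∧ w ∈ Subgroup.center P ∧ w ^ p = 1 := by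
    by_cases hzp : z ^ p = 1
    · exact ⟨z, hzA, hz1, hzZ, hzp⟩
    · refine ⟨z ^ p, Subgroup.pow_mem _ hzA _, hzp, Subgroup.pow_mem _ hzZ _, ?_⟩
      rw [← pow_mul, ← sq]
      exact hApow z hzA
  have hwc : ∀ g : P, g * w = w * g := fun g => Subgroup.mem_center_iff.mp hwZ g
  set Z0 := Subgroup.zpowers w with hZ0
  have hZ0card : Nat.card Z0 = p := by
    rw [hZ0, Nat.card_zpowers]
    exact orderOf_eq_prime hwp hw1
  have hZ0cent : Z0 ≤ Subgroup.center P := Subgroup.zpowers_le.mpr hwZ
  haveI hZ0n : Z0.Normal := by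
    constructor
    intro x hx g
    have := Subgroup.mem_center_iff.mp (hZ0cent hx) g
    have h1 : g * x * g⁻¹ = x := by rw [this]; group
    rw [h1]; exact hx
  have hZ0A : Z0 ≤ A := Subgroup.zpowers_le.mpr hwA
  have hAZ0 : ¬ A ≤ Z0 := by
    intro hle
    have := Subgroup.card_le_of_le hle
    rw [hA, hZ0card] at this
    have : p * 1 < p * p := Nat.mul_lt_mul_of_pos_left hp.one_lt hp.pos
    nlinarith
  obtain ⟨a, haA, haZ0, hacent⟩ := exists_central_mod hP Z0 A hZ0A hAZ0
  -- the homomorphism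
  let φ : P →* ↥Z0 :=
    { toFun := fun g => ⟨g * a * g⁻¹ * a⁻¹, hacent g⟩
      map_one' := by
        apply Subtype.ext
        simp
      map_mul' := by
        intro g h
        apply Subtype.ext
        show g * h * a * (g * h)⁻¹ * a⁻¹ = (g * a * g⁻¹ * a⁻¹) * (h * a * h⁻¹ * a⁻¹)
        have hc := Subgroup.mem_center_iff.mp (hZ0cent (hacent h)) g
        calc g * h * a * (g * h)⁻¹ * a⁻¹ = g * (h * a * h⁻¹ * a⁻¹) * (a * g⁻¹ * a⁻¹) := by group
          _ = (h * a * h⁻¹ * a⁻¹) * g * (a * g⁻¹ * a⁻¹) := by rw [hc]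
          _ = (h * a * h⁻¹ * a⁻¹) * (g * a * g⁻¹ * a⁻¹) := by group
          _ = (g * a * g⁻¹ * a⁻¹) * (h * a * h⁻¹ * a⁻¹) := by
            have := Subgroup.mem_center_iff.mp (hZ0cent (hacent h)) (g * a * g⁻¹ * a⁻¹)
            exact this.symm }
  refine ⟨Z0, φ, hZ0card, ?_⟩
  -- `A = Z0 ⊔ ⟨a⟩`
  have hsupA : Z0 ⊔ Subgroup.zpowers a = A := by
    have hle : Z0 ⊔ Subgroup.zpowers a ≤ A := sup_le hZ0A (Subgroup.zpowers_le.mpr haA)
    apply Subgroup.eq_of_le_of_card_ge hle
    have hpg : IsPGroup p (Z0 ⊔ Subgroup.zpowers a : Subgroup P) := hP.to_subgroup _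
    obtain ⟨k, hk⟩ := IsPGroup.iff_card.mp hpg
    have hlt : Z0 < Z0 ⊔ Subgroup.zpowers a := by
      apply lt_of_le_of_ne le_sup_left
      intro h
      apply haZ0
      rw [h]
      exact (le_sup_right : Subgroup.zpowers a ≤ _) (Subgroup.mem_zpowers a)
    have hcardlt : Nat.card Z0 < Nat.card (Z0 ⊔ Subgroup.zpowers a : Subgroup P) := by
      by_contra hcon
      push Not at hcon
      exact hlt.ne (Subgroup.eq_of_le_of_card_ge hlt.le hcon)
    rw [hZ0card, hk] at hcardlt
    rw [hA, hk]
    have hk2 : 2 ≤ k := by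
      by_contra hcon
      push Not at hcon
      have : p ^ k ≤ p ^ 1 := Nat.pow_le_pow_right hp.pos (by omega)
      rw [pow_one] at this
      omega
    exact Nat.pow_le_pow_right hp.pos hk2
  intro x hx
  rw [MonoidHom.mem_ker] at hx
  have hxa : x * a = a * x := by
    have h1 : x * a * x⁻¹ * a⁻¹ = 1 := congrArg Subtype.val hx
    have : x * a = (x * a * x⁻¹ * a⁻¹) * (a * x) := by group
    rw [this, h1, one_mul]
  have hAle : A ≤ Subgroup.centralizer ({x} : Set P) := by
    rw [← hsupA]
    apply sup_le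
    · rw [hZ0, Subgroup.zpowers_le, Subgroup.mem_centralizer_iff]
      intro y hy
      rw [Set.mem_singleton_iff] at hy
      subst hy
      exact hwc y
    · rw [Subgroup.zpowers_le, Subgroup.mem_centralizer_iff]
      intro y hy
      rw [Set.mem_singleton_iff] at hy
      subst hy
      exact hxa
  rw [Subgroup.mem_centralizer_iff]
  intro b hb
  have := Subgroup.mem_centralizer_iff.mp (hAle hb) x (Set.mem_singleton x)
  exact this.symm

/-- For odd `p`, a `p`-group without normal elementary abelian subgroups of order `p^3` has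
`p`-rank at most 2. -/
theorem card_le_sq_of_no_normal_rank_three {P : Type u} [Group P] [Finite P] {p : ℕ}
    [Fact p.Prime] (hp : p ≠ 2) (hP : IsPGroup p P)
    (h : ∀ A : Subgroup P, A.Normal → IsMulCommutative A → (∀ a ∈ A, a ^ p = 1) →
      Nat.card A ≠ p ^ 3)
    (E : Subgroup P) (hE : IsMulCommutative E) (hEe : ∀ e ∈ E, e ^ p = 1) :
    Nat.card E ≤ p ^ 2 := by
  classical
  have hpp : p.Prime := Fact.out
  -- a maximal normal elementary abelian subgroup
  let S := {B : Subgroup P // B.Normal ∧ IsMulCommutative B ∧ ∀ b ∈ B, b ^ p = 1}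
  haveI : Nonempty S := ⟨⟨⊥, inferInstance, inferInstance, by
    intro b hb
    rw [Subgroup.mem_bot] at hb
    rw [hb, one_pow]⟩⟩
  obtain ⟨⟨A, hAn, hAc, hAe⟩, hAmax⟩ := Finite.exists_max (fun B : S => Nat.card (B : Subgroup P))
  haveI := hAn
  have hmax : ∀ B : Subgroup P, B.Normal → IsMulCommutative B → (∀ b ∈ B, b ^ p ^ 1 = 1) →
      A ≤ B → B = A := by
    intro B hBn hBc hBe hAB
    have h1 := hAmax ⟨B, hBn, hBc, by simpa using hBe⟩
    exact (Subgroup.eq_of_le_of_card_ge hAB h1).symm
  have hp1 : p ^ 1 ≠ 2 := by rwa [pow_one]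
  have hAe' : ∀ a ∈ A, a ^ p ^ 1 = 1 := by simpa using hAe
  have halp : ∀ x ∈ Subgroup.centralizer (A : Set P), x ^ p = 1 → x ∈ A := by
    intro x hx hxp
    exact alperin hP hp1 hAc hAe' hmax x hx (by rwa [pow_one])
  -- `|A| ≤ p^2`
  have hAcard : Nat.card A ≤ p ^ 2 := by
    by_contra hcon
    push Not at hcon
    obtain ⟨k, hk⟩ := IsPGroup.iff_card.mp (hP.to_subgroup A)
    have hk3 : 3 ≤ k := by
      by_contra hk'
      push Not at hk'
      have : p ^ k ≤ p ^ 2 := Nat.pow_le_pow_right hpp.pos (by omega)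
      omega
    have h3 : p ^ 3 ≤ Nat.card A := by rw [hk]; exact Nat.pow_le_pow_right hpp.pos hk3
    obtain ⟨B, hBn, hBA, hBcard⟩ := exists_normal_le_card_eq hP A 3 h3
    refine h B hBn ?_ (fun b hb => hAe b (hBA hb)) hBcard
    refine ⟨⟨fun x y => ?_⟩⟩
    apply Subtype.ext
    have := congrArg Subtype.val (hAc.is_comm.comm ⟨x.1, hBA x.2⟩ ⟨y.1, hBA y.2⟩)
    exact this
  have hEcomm : ∀ x ∈ E, ∀ y ∈ E, x * y = y * x := by
    intro x hx y hy
    exact congrArg Subtype.val (hE.is_comm.comm ⟨x, hx⟩ ⟨y, hy⟩)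
  by_cases hEC : E ≤ Subgroup.centralizer (A : Set P)
  · have hEA : E ≤ A := fun x hx => halp x (hEC hx) (hEe x hx)
    exact (Subgroup.card_le_of_le hEA).trans hAcard
  · -- `A` is not central, so `|A| = p^2`
    obtain ⟨k, hk⟩ := IsPGroup.iff_card.mp (hP.to_subgroup A)
    have hk2 : k = 2 := by
      have hkle : k ≤ 2 := by
        by_contra hcon
        push Not at hcon
        have : p ^ 3 ≤ p ^ k := Nat.pow_le_pow_right hpp.pos hcon
        have h2 : p ^ 2 < p ^ 3 := Nat.pow_lt_pow_right hpp.one_lt (by norm_num)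
        omega
      by_contra hne
      apply hEC
      -- `A` is central
      have hAcent : A ≤ Subgroup.center P := by
        interval_cases k
        · rw [pow_zero] at hk
          rw [Subgroup.card_eq_one.mp hk]
          exact bot_le
        · rw [pow_one] at hk
          have hAne : A ≠ ⊥ := by
            intro hbot
            rw [hbot, Subgroup.card_bot] at hk
            exact hpp.one_lt.ne hk
          obtain ⟨z, hzA, hz1, hzZ⟩ :=
            Cfsg.Agent.Helper10.exists_ne_one_mem_inf_center hP A hAne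
          have hzo : orderOf z = p := by
            have hd : orderOf z ∣ p := by
              have := orderOf_dvd_natCard (⟨z, hzA⟩ : A)
              rwa [hk, Subgroup.orderOf_mk] at this
            rcases (Nat.dvd_prime hpp).mp hd with h1 | h1
            · exact absurd (orderOf_eq_one_iff.mp h1) hz1
            · exact h1
          have : Subgroup.zpowers z = A := by
            apply Subgroup.eq_of_le_of_card_ge (Subgroup.zpowers_le.mpr hzA)
            rw [Nat.card_zpowers, hzo, hk]
          rw [← this]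
          exact Subgroup.zpowers_le.mpr hzZ
        · exact absurd rfl hne
      intro x _
      rw [Subgroup.mem_centralizer_iff]
      intro a ha
      exact (Subgroup.mem_center_iff.mp (hAcent ha) x).symm
    subst hk2
    obtain ⟨Z0, φ, hZ0, hker⟩ := exists_hom_ker_le_centralizer hP A hk
    -- `D = ker φ ⊓ E ≤ A ⊓ E`
    have hDA : φ.ker ⊓ E ≤ A := by
      intro x hx
      obtain ⟨hx1, hx2⟩ := Subgroup.mem_inf.mp hx
      exact halp x (hker hx1) (hEe x hx2)
    have hAE : ¬ A ≤ E := by
      intro hle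
      apply hEC
      intro x hx
      rw [Subgroup.mem_centralizer_iff]
      intro a ha
      exact hEcomm a (hle ha) x hx
    have hDlt : Nat.card (φ.ker ⊓ E : Subgroup P) < p ^ 2 := by
      by_contra hcon
      push Not at hcon
      rw [← hk] at hcon
      have := Subgroup.eq_of_le_of_card_ge hDA hcon
      apply hAE
      rw [← this]
      exact inf_le_right
    have hDp : Nat.card (φ.ker ⊓ E : Subgroup P) ≤ p := by
      obtain ⟨j, hj⟩ := IsPGroup.iff_card.mp (hP.to_subgroup (φ.ker ⊓ E))
      rw [hj] at hDlt ⊢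
      have : j < 2 := (Nat.pow_lt_pow_iff_right hpp.one_lt).mp hDlt
      calc p ^ j ≤ p ^ 1 := Nat.pow_le_pow_right hpp.pos (by omega)
        _ = p := pow_one p
    have hcount := Cfsg.Agent.Helper17.relIndex_mul_card_inf φ.ker E
    have hrel : φ.ker.relIndex E ∣ p := by
      have h1 : φ.ker.relIndex E ∣ φ.ker.index := Subgroup.relIndex_dvd_index_of_normal _ _
      rw [Subgroup.index_ker] at h1
      have h2 : Nat.card φ.range ∣ Nat.card Z0 := Subgroup.card_subgroup_dvd_card _
      rw [hZ0] at h2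
      exact h1.trans h2
    have hrelp : φ.ker.relIndex E ≤ p := Nat.le_of_dvd hpp.pos hrel
    calc Nat.card E = φ.ker.relIndex E * Nat.card (φ.ker ⊓ E : Subgroup P) := hcount.symm
      _ ≤ p * p := Nat.mul_le_mul hrelp hDp
      _ = p ^ 2 := (sq p).symm

end Cfsg.Agent.Helper9
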