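import Mathlib
import Cfsg.Prelude.Def_OddOrderLocal
import Cfsg.Agent.Helper4.BG10d
import Cfsg.Agent.Helper21.BG10b
import Cfsg.Agent.Helper23.Cyclic

set_option autoImplicit false
set_option linter.unusedSectionVars false
set_option linter.unusedVariables false
set_option linter.style.haveILetI false

/-! # Bender–Glauberman §12, Lemma 12.15 (a)–(c), relative to 10.1(a) and 12.10(c) -/

namespace Cfsg.Agent.H9.BG12

open Subgroup Cfsg
open Cfsg.Agent.Helper14 (IsSylowIn cj map_cj_le_iff map_cj_mul map_cj_one map_cj_normalizer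
  mem_normalizer_iff_map_cj map_cj_eq_self_of_mem le_normalizer_of_map_cj_le mem_map_cj
  exists_isSylowIn_ge exists_isSylowIn)
open Cfsg.Agent.Helper21.BG10 (Ctl101)

universe u

/-- The statement of B&G Corollary 12.10(c) (third part of S1420) for `G`:
for `p ∈ σ(M)`, every noncyclic `p`-subgroup of `M` has its normalizer in `M`. -/
def NC1210 (G : Type u) [Group G] : Prop :=
  ∀ M : Subgroup G, IsCoatom M → ∀ (p : ℕ) (P : Subgroup G), p ∈ Cfsg.sigma M → IsPGroup p P →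
    P ≤ M → ¬ IsCyclic P → Subgroup.normalizer (P : Set G) ≤ M

variable {G : Type u} [Group G] [Finite G]

/-- In a cyclic subgroup, every subgroup is normalized by the normalizer of the whole. -/
theorem normalizer_le_normalizer_of_isCyclic {S X : Subgroup G} (hc : IsCyclic S) (hXS : X ≤ S) :
    normalizer (S : Set G) ≤ normalizer (X : Set G) := by
  intro n hn
  rw [mem_normalizer_iff_map_cj] at hn ⊢
  have h1 : X.map (cj n) ≤ S := by
    calc X.map (cj n) ≤ S.map (cj n) := Subgroup.map_mono hXS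
      _ = S := hn
  have h2 : Nat.card (X.map (cj n)) = Nat.card X :=
    Subgroup.card_map_of_injective (Cfsg.Agent.Helper14.cj_injective n)
  exact Cfsg.Agent.Helper23.eq_of_card_eq_of_isCyclic S hc _ _ h1 hXS h2

/-- the common core of 12.15: from `X ≤ M^g`-type information get an element of `C_G(X)`. -/
theorem conj_mem_of_le_map_cj (hCtl : Ctl101 G) {M : Subgroup G} (hM : IsCoatom M) {q : ℕ}
    [Fact q.Prime] (hq : q ∈ Cfsg.sigma M) {X : Subgroup G} (hXq : IsPGroup q X) (hX1 : X ≠ ⊥)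
    (hXM : X ≤ M) (g : G) (hXg : X ≤ M.map (cj g)) :
    ∃ c ∈ centralizer (X : Set G), ∀ t ∈ M.map (cj g), c * t * c⁻¹ ∈ M := by
  have h1 : X.map (cj g⁻¹) ≤ M := by
    rw [map_cj_le_iff, inv_inv]; exact hXg
  obtain ⟨m, hm, c, hc, hmc⟩ := hCtl M hM q hq X hXq hX1 hXM g⁻¹ h1
  refine ⟨c, hc, ?_⟩
  intro t ht
  rw [mem_map_cj] at ht
  have hg : g = c⁻¹ * m⁻¹ := by
    have : g = (g⁻¹)⁻¹ := (inv_inv g).symm
    rw [this, hmc]; group
  rw [hmc, hg] at ht
  have h2 : c * t * c⁻¹ = m⁻¹ * (m * c * t * (c⁻¹ * m⁻¹)) * m := by group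
  rw [h2]
  exact mul_mem (mul_mem (inv_mem hm) ht) hm

/-- **B&G Lemma 12.15 (a),(b),(c)** relative to 10.1(a) and 12.10(c). -/
theorem lem_12_15 (hCtl : Ctl101 G) (hNC : NC1210 G) {M : Subgroup G} (hM : IsCoatom M) {q : ℕ}
    [Fact q.Prime] (hq : q ∈ Cfsg.sigma M) {X : Subgroup G} (hXq : IsPGroup q X) (hX1 : X ≠ ⊥)
    (hXM : X ≤ M) {Mstar : Subgroup G} (hMs : IsCoatom Mstar) (hne : Mstar ≠ M)
    (hNX : normalizer (X : Set G) ≤ Mstar) {S : Subgroup G} (hS : IsSylowIn q S (M ⊓ Mstar))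
    (hXS : X ≤ S) :
    (∀ g : G, Mstar ≠ M.map (cj g)) ∧ normalizer (S : Set G) ≤ M ∧ IsSylowIn q S Mstar := by
  have hXMs : X ≤ Mstar := le_normalizer.trans hNX
  have hCMs : centralizer (X : Set G) ≤ Mstar := (centralizer_le_normalizer _).trans hNX
  have hSM : S ≤ M := hS.1.trans inf_le_left
  have hSMs : S ≤ Mstar := hS.1.trans inf_le_right
  refine ⟨?_, ?_, ?_⟩
  · -- (a)
    intro g hg
    have hXg : X ≤ M.map (cj g) := hg ▸ hXMs
    obtain ⟨c, hc, hcM⟩ := conj_mem_of_le_map_cj hCtl hM hq hXq hX1 hXM g hXg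
    have hcMs : c ∈ Mstar := hCMs hc
    have hle : Mstar ≤ M := by
      intro t ht
      have h1 : c * t * c⁻¹ ∈ M := hcM t (hg ▸ ht)
      have h2 : c⁻¹ * t * c ∈ Mstar := mul_mem (mul_mem (inv_mem hcMs) ht) hcMs
      have h3 : c * (c⁻¹ * t * c) * c⁻¹ ∈ M := hcM _ (hg ▸ h2)
      have h4 : c * (c⁻¹ * t * c) * c⁻¹ = t := by group
      rwa [h4] at h3
    rcases eq_or_lt_of_le hle with h | h
    · exact hne h
    · exact hM.1 (hMs.2 M h)
  · -- (b)
    by_cases hc : IsCyclic S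
    · have h1 : normalizer (S : Set G) ≤ Mstar :=
        (normalizer_le_normalizer_of_isCyclic hc hXS).trans hNX
      obtain ⟨P, hP, hSP⟩ := exists_isSylowIn_ge hSM hS.2.1
      have hNP := Cfsg.Agent.Helper4.BG10.sigma_normalizer_le hq hP
      rcases eq_or_lt_of_le hSP with h | h
      · rw [h]; exact hNP
      · exfalso
        have h2 := Cfsg.Agent.Helper11.lt_inf_normalizer P S hP.2.1 h
        have h3 : P ⊓ normalizer (S : Set G) ≤ M ⊓ Mstar :=
          le_inf (inf_le_left.trans hP.1) (inf_le_right.trans h1)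
        have h4 := hS.2.2 _ h3 (hP.2.1.to_le inf_le_left) h2.le
        exact h2.ne h4.symm
    · exact hNC M hM q S hq hS.2.1 hSM hc
  · -- (c)
    obtain ⟨T, hT, hST⟩ := exists_isSylowIn_ge hSMs hS.2.1
    obtain ⟨P, hP⟩ := exists_isSylowIn (p := q) M
    have hPtop := Cfsg.Agent.Helper4.BG10.sigma_isSylowIn_top hq hP
    obtain ⟨T', hT', hTT'⟩ := exists_isSylowIn_ge (le_top : T ≤ ⊤) hT.2.1
    obtain ⟨g, -, hg⟩ := hPtop.exists_conj hT'
    have hTg : T ≤ M.map (cj g) := by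
      calc T ≤ T' := hTT'
        _ = P.map (cj g) := hg
        _ ≤ M.map (cj g) := Subgroup.map_mono hP.1
    have hXg : X ≤ M.map (cj g) := (hXS.trans hST).trans hTg
    obtain ⟨c, hc, hcM⟩ := conj_mem_of_le_map_cj hCtl hM hq hXq hX1 hXM g hXg
    have hcMs : c ∈ Mstar := hCMs hc
    have h1 : T.map (cj c) ≤ M ⊓ Mstar := by
      rintro _ ⟨t, ht, rfl⟩
      refine mem_inf.2 ⟨hcM t (hTg ht), ?_⟩
      show c * t * c⁻¹ ∈ Mstar
      exact mul_mem (mul_mem hcMs (hT.1 ht)) (inv_mem hcMs)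
    have h2 : Nat.card (T.map (cj c)) = Nat.card T :=
      Subgroup.card_map_of_injective (Cfsg.Agent.Helper14.cj_injective c)
    have h3 := Cfsg.Agent.Lead.BG8.card_dvd_of_isPGroup_le (hT.2.1.map (cj c)) h1
    rw [h2, ← Cfsg.Agent.Lead.BG8.IsSylowIn.card_eq hS] at h3
    have h4 : S = T := Subgroup.eq_of_le_of_card_ge hST (Nat.le_of_dvd Nat.card_pos h3)
    rw [h4]; exact hT

end Cfsg.Agent.H9.BG12
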