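import Mathlib
import Cfsg.Prelude.Def_OddOrderLocal
import Cfsg.Agent.Helper9.BG12a
import Cfsg.Agent.Helper19.Cores

set_option autoImplicit false
set_option linter.unusedSectionVars false
set_option linter.unusedVariables false
set_option linter.style.haveILetI false

/-! # B&G §12: frozen statements as hypotheses; complements of `M_σ`; S1424 conditionally -/

namespace Cfsg.Agent.H9.BG12

open Subgroup Cfsg
open Cfsg.Agent.Helper14 (IsSylowIn cj map_cj_le_iff map_cj_mul map_cj_one map_cj_normalizer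
  mem_normalizer_iff_map_cj map_cj_eq_self_of_mem le_normalizer_of_map_cj_le mem_map_cj
  exists_isSylowIn_ge exists_isSylowIn isSylowIn_of_sylow)
open Cfsg.Agent.Helper21.BG10 (Ctl101 Uniq96)

universe u

/-- frozen statement S1350 (without the standing hypothesis) -/
def St1350 (G : Type u) [Group G] : Prop :=
  ∀ M : Subgroup G, IsCoatom M →
    Cfsg.IsPiHallOf (Cfsg.sigma M) (Cfsg.sigmaCore M) M ∧ Cfsg.IsPiHall (Cfsg.sigma M) (Cfsg.sigmaCore M) ∧
      ∀ N : Subgroup G, M ≤ Subgroup.normalizer (N : Set G) → Cfsg.IsPiHallOf (Cfsg.sigma M) N M →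
        N = Cfsg.sigmaCore M

/-- frozen statement S1404 -/
def St1404 (G : Type u) [Group G] : Prop :=
  ∀ M : Subgroup G, IsCoatom M → ∀ (p : ℕ) [Fact p.Prime], p ∈ Cfsg.sigma M →
    ∀ X : Subgroup G, IsPGroup p X → X ≠ ⊥ → X ≤ M →
    (∀ g : G, X.map (MulAut.conj g).toMonoidHom ≤ M → ∃ m ∈ M, ∃ c ∈ Subgroup.centralizer (X : Set G), g = m * c) ∧
      Subgroup.normalizer (X : Set G) = (M ⊓ Subgroup.normalizer (X : Set G)) ⊔ Subgroup.centralizer (X : Set G)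

/-- frozen statement S1420 -/
def St1420 (G : Type u) [Group G] : Prop :=
  ∀ M : Subgroup G, IsCoatom M → ∀ E : Subgroup G, Cfsg.IsComplIn E (Cfsg.sigmaCore M) M →
    (∀ N : Subgroup G, N ≤ M → Group.IsNilpotent N → (∀ p : ℕ, p.Prime → p ∣ Nat.card N → p ∉ Cfsg.sigma M) → IsMulCommutative N) ∧
      IsMulCommutative ↥⁅E, E⁆ ∧
      (∀ (p : ℕ) (P : Subgroup G), p ∈ Cfsg.sigma M → IsPGroup p P → P ≤ M → ¬ IsCyclic P → Subgroup.normalizer (P : Set G) ≤ M) ∧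
      ∀ x ∈ M, x ≠ 1 → (∀ p : ℕ, p.Prime → p ∣ orderOf x → p ∈ Cfsg.tau2 M) → x ∈ Cfsg.sigmaHat M →
        Subgroup.centralizer ({x} : Set G) ≤ M ∧ ∀ L : Subgroup G, IsCoatom L → Subgroup.centralizer ({x} : Set G) ≤ L → L = M

variable {G : Type u} [Group G] [Finite G]

theorem ctl101_of (h : St1404 G) : Ctl101 G :=
  fun M hM p _ hp X hXp hX1 hXM => (h M hM p hp X hXp hX1 hXM).1

theorem sigmaCore_le (M : Subgroup G) : Cfsg.sigmaCore M ≤ M := by
  unfold Cfsg.sigmaCore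
  exact Subgroup.map_subtype_le _

/-- `M` normalizes `M_σ`. -/
theorem le_normalizer_sigmaCore (M : Subgroup G) :
    M ≤ normalizer (Cfsg.sigmaCore M : Set G) := by
  intro m hm
  rw [mem_normalizer_iff_map_cj]
  unfold Cfsg.sigmaCore
  ext x
  rw [mem_map_cj]
  constructor
  · rintro ⟨y, hy, hyx⟩
    have hxM : x ∈ M := by
      have : x = m * (m⁻¹ * x * m) * m⁻¹ := by group
      rw [this, ← hyx]
      exact mul_mem (mul_mem hm y.2) (inv_mem hm)
    refine ⟨⟨x, hxM⟩, ?_, rfl⟩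
    have hn : (Cfsg.piCore (Cfsg.sigma M) ↥M).Normal := inferInstance
    have h1 := hn.conj_mem y hy ⟨m, hm⟩
    have h2 : (⟨m, hm⟩ : ↥M) * y * (⟨m, hm⟩ : ↥M)⁻¹ = ⟨x, hxM⟩ := by
      apply Subtype.ext
      simp only [Subgroup.coe_mul, Subgroup.coe_inv]
      have : (y : G) = m⁻¹ * x * m := hyx
      rw [this]; group
    rwa [h2] at h1
  · rintro ⟨y, hy, rfl⟩
    have hn : (Cfsg.piCore (Cfsg.sigma M) ↥M).Normal := inferInstance
    have h1 := hn.conj_mem y hy (⟨m, hm⟩ : ↥M)⁻¹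
    refine ⟨(⟨m, hm⟩ : ↥M)⁻¹ * y * (⟨m, hm⟩ : ↥M)⁻¹⁻¹, h1, ?_⟩
    simp

/-- Schur–Zassenhaus: `M_σ` has a complement in `M` (given that it is a Hall subgroup). -/
theorem exists_complIn_sigmaCore (h1350 : St1350 G) {M : Subgroup G} (hM : IsCoatom M) :
    ∃ E : Subgroup G, Cfsg.IsComplIn E (Cfsg.sigmaCore M) M := by
  obtain ⟨⟨hle, hπ, hidx⟩, -, -⟩ := h1350 M hM
  set N : Subgroup ↥M := Cfsg.piCore (Cfsg.sigma M) ↥M with hN
  have hcardN : Nat.card (Cfsg.sigmaCore M) = Nat.card N := by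
    unfold Cfsg.sigmaCore
    exact Subgroup.card_map_of_injective (Subgroup.subtype_injective M)
  have hrel : (Cfsg.sigmaCore M).relIndex M = N.index := by
    unfold Subgroup.relIndex Subgroup.subgroupOf Cfsg.sigmaCore
    rw [Subgroup.comap_map_eq_self_of_injective (Subgroup.subtype_injective M)]
  have hcop : (Nat.card N).Coprime N.index := by
    apply Nat.Coprime.symm
    apply Nat.coprime_of_dvd
    intro k hk hk1 hk2
    have h1 : k ∈ Cfsg.sigma M := hπ k hk (hcardN ▸ hk2)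
    exact hidx k hk h1 (hrel ▸ hk1)
  obtain ⟨H, hH⟩ := Subgroup.exists_right_complement'_of_coprime hcop
  refine ⟨H.map M.subtype, Subgroup.map_subtype_le _, hle, ?_, ?_⟩
  · rw [eq_bot_iff]
    rintro x ⟨⟨y, hy, rfl⟩, hx2⟩
    unfold Cfsg.sigmaCore at hx2
    obtain ⟨z, hz, hzy⟩ := hx2
    have hzy' : z = y := Subtype.ext hzy
    have h1 : y ∈ N ⊓ H := ⟨hzy' ▸ hz, hy⟩
    rw [hH.disjoint.eq_bot, Subgroup.mem_bot] at h1
    rw [Subgroup.mem_bot, h1]; rfl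
  · intro m hm
    have hsymm : Subgroup.IsComplement' H N := hH.symm
    obtain ⟨⟨a, b⟩, hab, -⟩ := hsymm.existsUnique (⟨m, hm⟩ : ↥M)
    refine ⟨((a : ↥M) : G), ⟨a, a.2, rfl⟩, ((b : ↥M) : G), ?_, ?_⟩
    · unfold Cfsg.sigmaCore
      exact ⟨b, b.2, rfl⟩
    · have := congrArg (fun x : ↥M => (x : G)) hab
      simpa using this.symm

theorem nc1210_of (h1350 : St1350 G) (h1420 : St1420 G) : NC1210 G := by
  intro M hM p P hp hPp hPM hPc
  obtain ⟨E, hE⟩ := exists_complIn_sigmaCore h1350 hM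
  exact (h1420 M hM E hE).2.2.1 p P hp hPp hPM hPc

/-- **S1424** relative to S1350, S1404, S1420. -/
theorem s1424_of (h1350 : St1350 G) (h1404 : St1404 G) (h1420 : St1420 G)
    (M : Subgroup G) (hM : IsCoatom M) (q : ℕ) [Fact q.Prime] (hq : q ∈ Cfsg.sigma M) (X : Subgroup G) (hXq : IsPGroup q X) (hX1 : X ≠ ⊥) (hXM : X ≤ M)
    (Mstar : Subgroup G) (hMs : IsCoatom Mstar) (hne : Mstar ≠ M) (hNX : Subgroup.normalizer (X : Set G) ≤ Mstar)
    (S : Sylow q ↥(M ⊓ Mstar)) (hXS : X ≤ (S : Subgroup ↥(M ⊓ Mstar)).map (M ⊓ Mstar).subtype) :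
    (∀ g : G, Mstar ≠ M.map (MulAut.conj g).toMonoidHom) ∧
      Subgroup.normalizer (((S : Subgroup ↥(M ⊓ Mstar)).map (M ⊓ Mstar).subtype : Subgroup G) : Set G) ≤ M ∧
      ¬ q ∣ ((S : Subgroup ↥(M ⊓ Mstar)).map (M ⊓ Mstar).subtype).relIndex Mstar := by
  have hS := isSylowIn_of_sylow S
  obtain ⟨ha, hb, hc⟩ := lem_12_15 (ctl101_of h1404) (nc1210_of h1350 h1420) hM hq hXq hX1 hXM hMs hne hNX hS hXS
  refine ⟨ha, hb, ?_⟩
  have h1 := (hc.toSylow : Sylow q ↥Mstar).not_dvd_index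
  exact h1

end Cfsg.Agent.H9.BG12
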