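import Mathlib
import Cfsg.Prelude.Def_OddOrderLocal
import Cfsg.Agent.Helper9.BG12b
import Cfsg.Agent.S1459

set_option autoImplicit false
set_option linter.unusedSectionVars false
set_option linter.unusedVariables false
set_option linter.style.haveILetI false

/-! # B&G Lemma 12.17 (= S1426) relative to S1350, S1404, S1420, S1423 -/

namespace Cfsg.Agent.H9.BG12

open Subgroup Cfsg
open Cfsg.Agent.Helper14 (IsSylowIn cj map_cj_le_iff map_cj_mul map_cj_one map_cj_normalizer
  mem_normalizer_iff_map_cj map_cj_eq_self_of_mem le_normalizer_of_map_cj_le mem_map_cj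
  exists_isSylowIn_ge exists_isSylowIn isSylowIn_of_sylow)
open Cfsg.Agent.Helper21.BG10 (Ctl101 Uniq96)

universe u

/-- frozen statement S1423 -/
def St1423 (G : Type u) [Group G] : Prop :=
  ∀ M : Subgroup G, IsCoatom M → ∀ (p : ℕ) [Fact p.Prime], p ∈ Cfsg.sigma M →
    ∀ X : Subgroup G, X ≤ M → Nat.card X = p → ∀ P : Sylow p ↥(Cfsg.sigmaCore M),
    (p ∈ Cfsg.beta M ∨ X ≤ ⁅Cfsg.sigmaCore M, Cfsg.sigmaCore M⁆) →
    (Subgroup.centralizer (X : Set G) ≤ M ∧ ∀ L : Subgroup G, IsCoatom L → Subgroup.centralizer (X : Set G) ≤ L → L = M) ∧ Cfsg.InUniqueMaximal ((P : Subgroup ↥(Cfsg.sigmaCore M)).map (Cfsg.sigmaCore M).subtype) ∧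
      (P : Subgroup ↥(Cfsg.sigmaCore M)).map (Cfsg.sigmaCore M).subtype ≤ M

variable {G : Type u} [Group G] [Finite G]

/-- a subgroup of order coprime to the index of a normal subgroup lies in it -/
theorem le_of_coprime_card_index {X : Type*} [Group X] [Finite X] {K N : Subgroup X}
    [N.Normal] (h : (Nat.card K).Coprime N.index) : K ≤ N := by
  intro x hx
  have h1 : orderOf (QuotientGroup.mk' N x) ∣ Nat.card K := by
    have h2 : orderOf (QuotientGroup.mk' N x) ∣ orderOf x := orderOf_map_dvd _ x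
    have h3 : orderOf x ∣ Nat.card K := by
      have := orderOf_dvd_natCard (⟨x, hx⟩ : K)
      rwa [Subgroup.orderOf_mk] at this
    exact h2.trans h3
  have h2 : orderOf (QuotientGroup.mk' N x) ∣ N.index := by
    rw [Subgroup.index_eq_card]
    exact orderOf_dvd_natCard _
  have h3 : orderOf (QuotientGroup.mk' N x) = 1 := Nat.eq_one_of_dvd_coprimes h h1 h2
  rw [orderOf_eq_one_iff, QuotientGroup.mk'_apply, QuotientGroup.eq_one_iff] at h3
  exact h3

theorem coatom_ne_bot (hG : Cfsg.IsMinSimpleOddOrder G) {M : Subgroup G} (hM : IsCoatom M) :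
    M ≠ ⊥ := by
  rintro rfl
  apply hG.2.2.1
  have hall : ∀ a : G, a = 1 := by
    intro a
    have hz : zpowers a ≠ ⊤ := by
      apply Cfsg.Agent.Lead.BG9.ne_top_of_commute hG
      intro x hx y hy
      obtain ⟨i, rfl⟩ := mem_zpowers_iff.mp hx
      obtain ⟨j, rfl⟩ := mem_zpowers_iff.mp hy
      exact (Commute.zpow_zpow_self a i j).eq
    by_contra ha
    have hlt : (⊥ : Subgroup G) < zpowers a := by
      rw [bot_lt_iff_ne_bot]
      rwa [Ne, zpowers_eq_bot]
    exact hz (hM.2 _ hlt)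
  exact ⟨⟨fun a b => by rw [hall a, hall b]⟩⟩

/-- a maximal subgroup of a minimal simple group is self-normalizing -/
theorem mem_of_map_cj_eq (hG : Cfsg.IsMinSimpleOddOrder G) {M : Subgroup G} (hM : IsCoatom M)
    {g : G} (h : M.map (cj g) = M) : g ∈ M := by
  have hS : IsSimpleGroup G := hG.2.1
  have hg : g ∈ normalizer (M : Set G) := mem_normalizer_iff_map_cj.mpr h
  have hN : normalizer (M : Set G) ≠ ⊤ := by
    intro htop
    have hn : M.Normal := normalizer_eq_top_iff.mp htop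
    rcases hn.eq_bot_or_eq_top with h1 | h1
    · exact coatom_ne_bot hG hM h1
    · exact hM.1 h1
  rcases eq_or_lt_of_le (le_normalizer : M ≤ normalizer (M : Set G)) with h1 | h1
  · rw [h1]; exact hg
  · exact absurd (hM.2 _ h1) hN

theorem mem_of_map_cj_le (hG : Cfsg.IsMinSimpleOddOrder G) {M : Subgroup G} (hM : IsCoatom M)
    {g : G} (h : M.map (cj g) ≤ M) : g ∈ M := by
  apply mem_of_map_cj_eq hG hM
  apply Subgroup.eq_of_le_of_card_ge h
  rw [Subgroup.card_map_of_injective (Cfsg.Agent.Helper14.cj_injective g)]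

/-- the primes dividing `|M_σ|` lie in `σ(M)` -/
theorem mem_sigma_of_dvd_card_sigmaCore {M : Subgroup G} {q : ℕ} (hq : q.Prime)
    (h : q ∣ Nat.card (Cfsg.sigmaCore M)) : q ∈ Cfsg.sigma M := by
  have h1 : Nat.card (Cfsg.sigmaCore M) = Nat.card (Cfsg.piCore (Cfsg.sigma M) M) := by
    unfold Cfsg.sigmaCore
    exact Subgroup.card_map_of_injective (Subgroup.subtype_injective M)
  rw [h1] at h
  exact Cfsg.Agent.Helper19.piCore_isPiNum (G := ↥M) (Cfsg.sigma M) q hq h

/-- **key step of 12.17**: a nontrivial `q`-subgroup of `M_σ ∩ M^g`, `g ∉ M`, has centralizer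
not in `M`. -/
theorem not_centralizer_le_of_le_inf (hG : Cfsg.IsMinSimpleOddOrder G) (hCtl : Ctl101 G)
    {M : Subgroup G} (hM : IsCoatom M) {g : G} (hg : g ∉ M) {q : ℕ} [Fact q.Prime]
    {X : Subgroup G} (hXq : IsPGroup q X) (hX1 : X ≠ ⊥)
    (hX : X ≤ Cfsg.sigmaCore M ⊓ M.map (cj g)) :
    q ∈ Cfsg.sigma M ∧ ¬ centralizer (X : Set G) ≤ M := by
  have hXs : X ≤ Cfsg.sigmaCore M := hX.trans inf_le_left
  have hXM : X ≤ M := hXs.trans (sigmaCore_le M)
  have hq : q ∈ Cfsg.sigma M := by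
    apply mem_sigma_of_dvd_card_sigmaCore (Fact.out : q.Prime)
    obtain ⟨k, hk⟩ := IsPGroup.iff_card.mp hXq
    have hk0 : k ≠ 0 := by
      rintro rfl
      rw [pow_zero] at hk
      exact hX1 (Subgroup.card_eq_one.mp hk)
    exact ((dvd_pow_self q hk0).trans (hk ▸ dvd_rfl)).trans (Subgroup.card_dvd_of_le hXs)
  refine ⟨hq, ?_⟩
  intro hC
  obtain ⟨c, hc, hcM⟩ := conj_mem_of_le_map_cj hCtl hM hq hXq hX1 hXM g (hX.trans inf_le_right)
  have hcM' : c ∈ M := hC hc
  apply hg
  apply mem_of_map_cj_le hG hM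
  intro t ht
  have h1 := hcM t ht
  have h2 : t = c⁻¹ * (c * t * c⁻¹) * c := by group
  rw [h2]
  exact mul_mem (mul_mem (inv_mem hcM') h1) hcM'

end Cfsg.Agent.H9.BG12
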