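import Mathlib
import Cfsg.Prelude.Def_OddOrderLocal
import Cfsg.Agent.Helper9.BG12c

set_option autoImplicit false
set_option linter.unusedSectionVars false
set_option linter.unusedVariables false
set_option linter.style.haveILetI false

/-! # B&G Lemma 12.17 (= S1426) relative to S1350, S1404, S1420, S1423 -/

namespace Cfsg.Agent.H9.BG12

open Subgroup Cfsg
open Cfsg.Agent.Helper14 (IsSylowIn cj map_cj_le_iff map_cj_mul map_cj_one map_cj_normalizer
  mem_normalizer_iff_map_cj map_cj_eq_self_of_mem le_normalizer_of_map_cj_le mem_map_cj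
  exists_isSylowIn_ge exists_isSylowIn isSylowIn_of_sylow)
open Cfsg.Agent.Helper21.BG10 (Ctl101 Uniq96)

universe u
variable {G : Type u} [Group G] [Finite G]

/-- the centralizer part of S1423, for a subgroup of prime order -/
theorem centralizer_le_of_1423 (h1423 : St1423 G) {M : Subgroup G} (hM : IsCoatom M) {p : ℕ}
    [Fact p.Prime] (hp : p ∈ Cfsg.sigma M) {X : Subgroup G} (hXM : X ≤ M) (hX : Nat.card X = p)
    (h : p ∈ Cfsg.beta M ∨ X ≤ ⁅Cfsg.sigmaCore M, Cfsg.sigmaCore M⁆) :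
    centralizer (X : Set G) ≤ M :=
  (h1423 M hM p hp X hXM hX default h).1.1

/-- **part 3 of S1426** for a fixed `g ∉ M`. -/
theorem inter_conj_structure (hG : Cfsg.IsMinSimpleOddOrder G) (hCtl : Ctl101 G) (hNC : NC1210 G)
    (h1423 : St1423 G) {M : Subgroup G} (hM : IsCoatom M) {g : G} (hg : g ∉ M) :
    IsCyclic ↥(Cfsg.sigmaCore M ⊓ M.map (cj g)) ∧
      (∀ p : ℕ, p.Prime → p ∣ Nat.card ↥(Cfsg.sigmaCore M ⊓ M.map (cj g)) → p ∉ Cfsg.beta M) ∧
      Cfsg.sigmaCore M ⊓ M.map (cj g) ⊓ ⁅Cfsg.sigmaCore M, Cfsg.sigmaCore M⁆ = ⊥ := by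
  set Z := Cfsg.sigmaCore M ⊓ M.map (cj g) with hZ
  have hZM : Z ≤ M := inf_le_left.trans (sigmaCore_le M)
  -- subgroups of prime order in Z
  have key : ∀ (q : ℕ) [Fact q.Prime] (x : G), x ∈ Z → orderOf x = q →
      q ∈ Cfsg.sigma M ∧ Nat.card (zpowers x) = q ∧ ¬ centralizer ((zpowers x : Subgroup G) : Set G) ≤ M := by
    intro q _ x hx hxq
    have hcard : Nat.card (zpowers x) = q := by rw [Nat.card_zpowers, hxq]
    have hXq : IsPGroup q (zpowers x) := IsPGroup.of_card (n := 1) (by rw [hcard, pow_one])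
    have hX1 : zpowers x ≠ ⊥ := by
      intro h
      rw [h, Subgroup.card_bot] at hcard
      exact (Fact.out : q.Prime).one_lt.ne hcard
    have hXZ : zpowers x ≤ Z := by rwa [zpowers_le]
    obtain ⟨h1, h2⟩ := not_centralizer_le_of_le_inf hG hCtl hM hg hXq hX1 hXZ
    exact ⟨h1, hcard, h2⟩
  have hbeta : ∀ p : ℕ, p.Prime → p ∣ Nat.card ↥Z → p ∉ Cfsg.beta M := by
    intro p hp hd hβ
    haveI : Fact p.Prime := ⟨hp⟩
    obtain ⟨x, hx⟩ := exists_prime_orderOf_dvd_card' p hd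
    have hx' : orderOf (x : G) = p := by rw [Subgroup.orderOf_coe]; exact hx
    obtain ⟨h1, h2, h3⟩ := key p (x : G) x.2 hx'
    apply h3
    exact centralizer_le_of_1423 h1423 hM h1 ((zpowers_le.mpr x.2).trans hZM) h2 (Or.inl hβ)
  have hder : Z ⊓ ⁅Cfsg.sigmaCore M, Cfsg.sigmaCore M⁆ = ⊥ := by
    by_contra hne
    have hnt : Nontrivial ↥(Z ⊓ ⁅Cfsg.sigmaCore M, Cfsg.sigmaCore M⁆) :=
      (Subgroup.nontrivial_iff_ne_bot _).mpr hne
    have hc1 : Nat.card ↥(Z ⊓ ⁅Cfsg.sigmaCore M, Cfsg.sigmaCore M⁆) ≠ 1 := by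
      intro h
      exact hne (Subgroup.card_eq_one.mp h)
    obtain ⟨p, hp, hd⟩ := Nat.exists_prime_and_dvd hc1
    haveI : Fact p.Prime := ⟨hp⟩
    obtain ⟨x, hx⟩ := exists_prime_orderOf_dvd_card' p hd
    have hx' : orderOf (x : G) = p := by rw [Subgroup.orderOf_coe]; exact hx
    obtain ⟨h1, h2, h3⟩ := key p (x : G) x.2.1 hx'
    apply h3
    exact centralizer_le_of_1423 h1423 hM h1 ((zpowers_le.mpr x.2.1).trans hZM) h2
      (Or.inr (zpowers_le.mpr x.2.2))
  refine ⟨?_, hbeta, hder⟩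
  -- cyclic
  have hcomm : ∀ a b : ↥Z, a * b = b * a := by
    intro a b
    have h1 : (a : G) * b * (a : G)⁻¹ * (b : G)⁻¹ ∈ Z ⊓ ⁅Cfsg.sigmaCore M, Cfsg.sigmaCore M⁆ := by
      refine mem_inf.2 ⟨?_, ?_⟩
      · exact mul_mem (mul_mem (mul_mem a.2 b.2) (inv_mem a.2)) (inv_mem b.2)
      · have := Subgroup.commutator_mem_commutator (H₁ := Cfsg.sigmaCore M)
          (H₂ := Cfsg.sigmaCore M) a.2.1 b.2.1
        rwa [commutatorElement_def] at this
    rw [hder, Subgroup.mem_bot] at h1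
    apply Subtype.ext
    simp only [Subgroup.coe_mul]
    have h2 : (a : G) * b = ((a : G) * b * (a : G)⁻¹ * (b : G)⁻¹) * (b * a) := by group
    rw [h2, h1, one_mul]
  letI : CommGroup ↥Z := { (inferInstance : Group ↥Z) with mul_comm := hcomm }
  haveI : Group.IsNilpotent ↥Z := inferInstance
  haveI : IsZGroup ↥Z := by
    refine ⟨fun p hp P => ?_⟩
    haveI : Fact p.Prime := ⟨hp⟩
    set P' : Subgroup G := (P : Subgroup ↥Z).map Z.subtype with hP'
    have hPP' : IsCyclic ↥(P : Subgroup ↥Z) ↔ IsCyclic ↥P' := by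
      have e : ↥(P : Subgroup ↥Z) ≃* ↥P' :=
        (P : Subgroup ↥Z).equivMapOfInjective Z.subtype (Subgroup.subtype_injective Z)
      exact ⟨fun h => isCyclic_of_surjective e e.surjective,
        fun h => isCyclic_of_surjective e.symm e.symm.surjective⟩
    rw [hPP']
    by_contra hnc
    have hP'q : IsPGroup p P' := P.isPGroup'.map _
    have hP'Z : P' ≤ Z := Cfsg.Agent.Helper14.map_subtype_le _
    have hP'1 : P' ≠ ⊥ := by
      intro h
      apply hnc
      rw [h]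
      exact isCyclic_of_subsingleton
    obtain ⟨h1, h2⟩ := not_centralizer_le_of_le_inf hG hCtl hM hg hP'q hP'1 hP'Z
    apply h2
    exact (centralizer_le_normalizer _).trans (hNC M hM p P' h1 hP'q (hP'Z.trans hZM) hnc)
  infer_instance

end Cfsg.Agent.H9.BG12
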