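import Mathlib
import Cfsg.Prelude.Def_OddOrderLocal
import Cfsg.Agent.Helper9.BG12d

set_option autoImplicit false
set_option linter.unusedSectionVars false
set_option linter.unusedVariables false
set_option linter.style.haveILetI false

/-! # S1426 relative to S1350, S1404, S1420, S1423 -/

namespace Cfsg.Agent.H9.BG12

open Subgroup Cfsg
open Cfsg.Agent.Helper14 (IsSylowIn cj map_cj_le_iff map_cj_mul map_cj_one map_cj_normalizer
  mem_normalizer_iff_map_cj map_cj_eq_self_of_mem le_normalizer_of_map_cj_le mem_map_cj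
  exists_isSylowIn_ge exists_isSylowIn isSylowIn_of_sylow)
open Cfsg.Agent.Helper21.BG10 (Ctl101 Uniq96)

universe u
variable {G : Type u} [Group G] [Finite G]

/-- `IsComplIn A B M` in the type `↥M`. -/
theorem isComplement'_subgroupOf {A B M : Subgroup G} (h : Cfsg.IsComplIn A B M) :
    Subgroup.IsComplement' (A.subgroupOf M) (B.subgroupOf M) := by
  obtain ⟨hA, hB, hAB, hmul⟩ := h
  apply Subgroup.isComplement'_of_disjoint_and_mul_eq_univ
  · rw [disjoint_iff, eq_bot_iff]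
    rintro x ⟨hx1, hx2⟩
    rw [Subgroup.mem_bot]
    apply Subtype.ext
    have : (x : G) ∈ A ⊓ B := ⟨hx1, hx2⟩
    rw [hAB, Subgroup.mem_bot] at this
    exact this
  · rw [Set.eq_univ_iff_forall]
    intro m
    obtain ⟨a, ha, b, hb, hab⟩ := hmul m m.2
    refine ⟨⟨a, hA ha⟩, ?_, ⟨b, hB hb⟩, ?_, ?_⟩
    · exact Subgroup.mem_subgroupOf.mpr ha
    · exact Subgroup.mem_subgroupOf.mpr hb
    · apply Subtype.ext
      simpa using hab.symm

/-- `M_σ ≤ M'` in the type `↥M`. -/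
theorem piCore_sigma_le_commutator (hG : Cfsg.IsMinSimpleOddOrder G) (hCtl : Ctl101 G)
    {M : Subgroup G} (hM : IsCoatom M) : Cfsg.piCore (Cfsg.sigma M) ↥M ≤ commutator ↥M := by
  apply le_of_coprime_card_index
  apply Nat.Coprime.symm
  apply Nat.coprime_of_dvd
  intro k hk hk1 hk2
  have hkσ : k ∈ Cfsg.sigma M := Cfsg.Agent.Helper19.piCore_isPiNum (G := ↥M) (Cfsg.sigma M) k hk hk2
  haveI : Fact k.Prime := ⟨hk⟩
  obtain ⟨P, hP, -⟩ := Cfsg.Agent.Helper21.BG10.sylow_le_commutator_of_mem_sigma hG hCtl hM hkσ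
  have h1 : (commutator ↥M).index ∣ (P : Subgroup ↥M).index := Subgroup.index_dvd_of_le hP
  exact P.not_dvd_index (hk1.trans h1)

/-- **S1426** relative to S1350, S1404, S1420, S1423. -/
theorem s1426_of (hG : Cfsg.IsMinSimpleOddOrder G) (h1350 : St1350 G) (h1404 : St1404 G)
    (h1420 : St1420 G) (h1423 : St1423 G)
    (M : Subgroup G) (hM : IsCoatom M) (E : Subgroup G) (hE : Cfsg.IsComplIn E (Cfsg.sigmaCore M) M) :
    Cfsg.sigmaCore M ⊓ Subgroup.centralizer (E : Set G) ≤ ⁅Cfsg.sigmaCore M, Cfsg.sigmaCore M⁆ ∧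
      ⁅Cfsg.sigmaCore M, E⁆ = Cfsg.sigmaCore M ∧
      ∀ g : G, g ∉ M → IsCyclic ↥(Cfsg.sigmaCore M ⊓ M.map (MulAut.conj g).toMonoidHom) ∧
        (∀ p : ℕ, p.Prime → p ∣ Nat.card ↥(Cfsg.sigmaCore M ⊓ M.map (MulAut.conj g).toMonoidHom) → p ∉ Cfsg.beta M) ∧
        Cfsg.sigmaCore M ⊓ M.map (MulAut.conj g).toMonoidHom ⊓ ⁅Cfsg.sigmaCore M, Cfsg.sigmaCore M⁆ = ⊥ := by
  have hCtl := ctl101_of h1404
  have hNC := nc1210_of h1350 h1420
  have hsolv : Group.IsSolvable ↥M := hG.2.2.2 M hM.1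
  set N : Subgroup ↥M := Cfsg.piCore (Cfsg.sigma M) ↥M with hN
  set K : Subgroup ↥M := E.subgroupOf M with hK
  have hNmap : N.map M.subtype = Cfsg.sigmaCore M := rfl
  have hNsub : (Cfsg.sigmaCore M).subgroupOf M = N := by
    rw [← hNmap]; exact Cfsg.Agent.Helper14.subgroupOf_map_subtype' N
  have hKmap : K.map M.subtype = E := Cfsg.Agent.Helper14.map_subtype_subgroupOf hE.1
  have hcompl : Subgroup.IsComplement' N K := by
    have := isComplement'_subgroupOf hE
    rw [hNsub] at this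
    exact this.symm
  obtain ⟨⟨hle, hπ, hidx⟩, -, -⟩ := h1350 M hM
  have hcardN : Nat.card (Cfsg.sigmaCore M) = Nat.card N :=
    Subgroup.card_map_of_injective (Subgroup.subtype_injective M)
  have hrel : (Cfsg.sigmaCore M).relIndex M = N.index := by
    unfold Subgroup.relIndex
    rw [hNsub]
  have hcop : (Nat.card N).Coprime N.index := by
    apply Nat.Coprime.symm
    apply Nat.coprime_of_dvd
    intro k hk hk1 hk2
    have h1 : k ∈ Cfsg.sigma M := hπ k hk (hcardN ▸ hk2)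
    exact hidx k hk h1 (hrel ▸ hk1)
  have hNn : N.Normal := inferInstance
  obtain ⟨h1, h2⟩ := (Cfsg.Agent.S1459.result (G := ↥M)).1 N K hNn hcop hcompl
    (piCore_sigma_le_commutator hG hCtl hM)
  refine ⟨?_, ?_, ?_⟩
  · intro x hx
    obtain ⟨hx1, hx2⟩ := hx
    obtain ⟨y, hy, rfl⟩ := hx1
    have hyc : y ∈ centralizer (K : Set ↥M) := by
      rw [Subgroup.mem_centralizer_iff]
      intro k hk
      apply Subtype.ext
      have hk' : (k : G) ∈ E := Subgroup.mem_subgroupOf.mp hk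
      have := (Subgroup.mem_centralizer_iff.mp hx2) (k : G) hk'
      simpa using this
    have h3 : y ∈ ⁅N, N⁆ := h2 ⟨hy, hyc⟩
    have h4 : (M.subtype y) ∈ (⁅N, N⁆).map M.subtype := ⟨y, h3, rfl⟩
    rw [Subgroup.map_commutator, hNmap] at h4
    exact h4
  · have h3 : (⁅N, K⁆).map M.subtype = N.map M.subtype := by rw [← h1]
    rw [Subgroup.map_commutator, hNmap, hKmap] at h3
    exact h3
  · intro g hg
    exact inter_conj_structure hG hCtl hNC h1423 hM hg

end Cfsg.Agent.H9.BG12
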