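import Mathlib
import Cfsg.Agent.Helper10.CharP

/-!
# Characteristic `p` passes up normalizer chains of `p`-subgroups

If `V ≤ U` are `p`-subgroups of `G` and `C_G(V)` has characteristic `p`
(`F*(C_G(V)) = O_p(C_G(V))`), then so do `C_G(U)` and `N_G(U)`.
-/

set_option autoImplicit false

namespace Cfsg.Agent.Helper9

open Subgroup Cfsg

universe u

variable {G : Type u} [Group G] [Finite G] {p : ℕ} [hp : Fact p.Prime]

/-- A proper subgroup of a `p`-subgroup `U` is properly contained in its normalizer in `U`. -/
theorem lt_inf_normalizer_of_lt {U V : Subgroup G} (hU : IsPGroup p U) (hVU : V < U) :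
    V < U ⊓ normalizer (V : Set G) := by
  have hnil : Group.IsNilpotent ↥U := hU.isNilpotent
  have hlt : V.subgroupOf U < ⊤ := by
    rw [lt_top_iff_ne_top, Ne, Subgroup.subgroupOf_eq_top]
    exact not_le_of_gt hVU
  have h1 := Group.normalizerCondition_of_isNilpotent (G := ↥U) (V.subgroupOf U) hlt
  rw [← Subgroup.subgroupOf_normalizer_eq hVU.le] at h1
  obtain ⟨u, hu1, hu2⟩ := SetLike.exists_of_lt h1
  rw [Subgroup.mem_subgroupOf] at hu1 hu2
  refine lt_of_le_of_ne (le_inf hVU.le Subgroup.le_normalizer) ?_
  intro heq
  apply hu2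
  rw [heq]
  exact ⟨u.2, hu1⟩

/-- If `V ≤ U` are `p`-subgroups and `C_G(V)` has characteristic `p`, so has `C_G(U)`. -/
theorem charP_centralizer_of_le {U : Subgroup G} (hU : IsPGroup p U) :
    ∀ (n : ℕ) (V : Subgroup G), V ≤ U → Nat.card U - Nat.card V = n →
      generalizedFittingSubgroup ↥(centralizer (V : Set G)) = pCore p ↥(centralizer (V : Set G)) →
      generalizedFittingSubgroup ↥(centralizer (U : Set G)) =
        pCore p ↥(centralizer (U : Set G)) := by
  intro n
  induction n using Nat.strong_induction_on with
  | _ n ih =>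
    intro V hVU hn hV
    by_cases hEq : V = U
    · rw [← hEq]; exact hV
    · have hlt : V < U := lt_of_le_of_ne hVU hEq
      have hlt' := lt_inf_normalizer_of_lt hU hlt
      set V' := U ⊓ normalizer (V : Set G) with hV'
      have hV'U : V' ≤ U := inf_le_left
      have hV'p : IsPGroup p V' := hU.to_le hV'U
      have hstep : generalizedFittingSubgroup ↥(centralizer (V' : Set G)) =
          pCore p ↥(centralizer (V' : Set G)) := by
        apply Cfsg.Agent.Helper10.charP_centralizer_step hV'p
          (Cfsg.Agent.Helper10.le_normalizer_centralizer_of_le inf_le_right)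
          (Subgroup.centralizer_le hlt'.le) hV
      have hcard : Nat.card V < Nat.card V' := by
        by_contra hcon
        push Not at hcon
        exact hlt'.ne (Subgroup.eq_of_le_of_card_ge hlt'.le hcon)
      have hcard' : Nat.card V' ≤ Nat.card U := Subgroup.card_le_of_le hV'U
      exact ih (Nat.card U - Nat.card V') (by omega) V' hV'U rfl hstep

/-- If `V ≤ U` are `p`-subgroups and `C_G(V)` has characteristic `p`, so has `N_G(U)`. -/
theorem charP_normalizer_of_le {U V : Subgroup G} (hU : IsPGroup p U) (hVU : V ≤ U)
    (hV : generalizedFittingSubgroup ↥(centralizer (V : Set G)) =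
      pCore p ↥(centralizer (V : Set G))) :
    generalizedFittingSubgroup ↥(normalizer (U : Set G)) = pCore p ↥(normalizer (U : Set G)) :=
  Cfsg.Agent.Helper10.charP_normalizer_of_centralizer hU
    (charP_centralizer_of_le hU _ V hVU rfl hV)

/-- If the `p`-local `N_G(V)` has characteristic `p` and `V ≤ U` with `U` a `p`-group, then
`N_G(U)` has characteristic `p`. -/
theorem charP_normalizer_of_normalizer {U V : Subgroup G} (hU : IsPGroup p U) (hVU : V ≤ U)
    (hV : generalizedFittingSubgroup ↥(normalizer (V : Set G)) =
      pCore p ↥(normalizer (V : Set G))) :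
    generalizedFittingSubgroup ↥(normalizer (U : Set G)) = pCore p ↥(normalizer (U : Set G)) := by
  apply charP_normalizer_of_le hU hVU
  exact Cfsg.Agent.Helper10.charP_centralizer_step (hU.to_le hVU)
    (Subgroup.le_normalizer.trans Subgroup.le_normalizer) (Subgroup.centralizer_le_normalizer _) hV

end Cfsg.Agent.Helper9
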