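import Mathlib
import Cfsg.Agent.Helper17.Basic
import Cfsg.Prelude.Def_LocalEven

set_option autoImplicit false
set_option linter.unusedSectionVars false
set_option linter.unusedVariables false

/-! # Sections: `Cfsg.Involves`, and recognising `S₄` as a section -/

namespace Cfsg.Agent.Helper9.S4Sec

open Subgroup

theorem involves_of_surjective {Y : Type*} {H : Type*} [Group Y] [Group H] (K : Subgroup Y)
    (f : ↥K →* H) (hf : Function.Surjective f) : Cfsg.Involves H Y := by
  have hR : (f.ker.map K.subtype).subgroupOf K = f.ker := by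
    rw [Subgroup.subgroupOf]
    exact Subgroup.comap_map_eq_self_of_injective K.subtype_injective _
  have hn : ((f.ker.map K.subtype).subgroupOf K).Normal := by
    rw [hR]; infer_instance
  refine ⟨K, f.ker.map K.subtype, hn, ⟨?_⟩⟩
  exact (QuotientGroup.quotientMulEquivOfEq hR).trans (QuotientGroup.quotientKerEquivOfSurjective f hf)

theorem exists_surjective_of_involves {Y : Type*} {H : Type*} [Group Y] [Group H]
    (h : Cfsg.Involves H Y) : ∃ (K : Subgroup Y) (f : ↥K →* H), Function.Surjective f := by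
  obtain ⟨K, R, hn, ⟨e⟩⟩ := h
  refine ⟨K, e.toMonoidHom.comp (QuotientGroup.mk' _), ?_⟩
  intro x
  obtain ⟨y, hy⟩ := e.surjective x
  obtain ⟨z, hz⟩ := QuotientGroup.mk'_surjective _ y
  refine ⟨z, ?_⟩
  subst hz
  exact hy

theorem involves_of_subgroup {Y : Type*} {H : Type*} [Group Y] [Group H] (M : Subgroup Y)
    (h : Cfsg.Involves H ↥M) : Cfsg.Involves H Y := by
  obtain ⟨K', f, hf⟩ := exists_surjective_of_involves h
  let e : ↥K' ≃* ↥(K'.map M.subtype) := Subgroup.equivMapOfInjective K' M.subtype M.subtype_injective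
  refine involves_of_surjective (K'.map M.subtype) (f.comp e.symm.toMonoidHom) ?_
  intro x
  obtain ⟨y, hy⟩ := hf x
  exact ⟨e y, by simp [hy]⟩

theorem involves_of_quotient {Y : Type*} {H : Type*} [Group Y] [Group H] (N : Subgroup Y) [N.Normal]
    (h : Cfsg.Involves H (Y ⧸ N)) : Cfsg.Involves H Y := by
  obtain ⟨K', f, hf⟩ := exists_surjective_of_involves h
  refine involves_of_surjective (K'.comap (QuotientGroup.mk' N))
    (f.comp ((QuotientGroup.mk' N).subgroupComap K')) ?_
  intro x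
  obtain ⟨y, hy⟩ := hf x
  obtain ⟨z, hz⟩ := MonoidHom.subgroupComap_surjective_of_surjective (QuotientGroup.mk' N) K'
    (QuotientGroup.mk'_surjective N) y
  exact ⟨z, by simp [hz, hy]⟩

/-- an element killed by `2` and by an odd number is trivial -/
theorem eq_one_of_sq_of_odd_pow {Y : Type*} [Group Y] (z : Y) (h2 : z * z = 1) (q : ℕ) (hq : Odd q)
    (hzq : z ^ q = 1) : z = 1 := by
  obtain ⟨m, rfl⟩ := hq
  have h2' : z ^ 2 = 1 := by rw [pow_two]; exact h2
  rw [pow_succ, pow_mul, h2', one_pow, one_mul] at hzq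
  exact hzq

theorem involves_S4 {Y : Type*} [Group Y] [Finite Y] (V1 : Subgroup Y) [V1.Normal]
    (hV1 : ∀ v ∈ V1, v * v = 1) (y0 : Y) (q : ℕ) (hq : q.Prime) (hq2 : q ≠ 2)
    (hy0 : orderOf y0 = q)
    (F : Subgroup Y) (hFV : F ≤ V1) (hFc : ∀ f ∈ F, f * y0 = y0 * f)
    (hFmax : ∀ v ∈ V1, v * y0 = y0 * v → v ∈ F)
    (hcard : Nat.card V1 = 4 * Nat.card F)
    (b : Y) (hbN : b ∈ normalizer (zpowers y0 : Set Y)) (k : ℕ) (hb2 : b ^ (2 ^ k) = 1)
    (hbv : ∃ v ∈ V1, b * v * b⁻¹ * v⁻¹ ∉ F) : Cfsg.Involves (Equiv.Perm (Fin 4)) Y := by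
  classical
  have hqodd : Odd q := hq.odd_of_ne_two hq2
  have hq3 : 3 ≤ q := by
    have := hq.two_le
    omega
  set N0 : Subgroup Y := normalizer (zpowers y0 : Set Y) with hN0
  have hy0N : y0 ∈ N0 := le_normalizer (mem_zpowers y0)
  -- Step 1: `V1 ⊓ N0 = F`
  have hinf : V1 ⊓ N0 = F := by
    apply le_antisymm
    · intro v hv
      obtain ⟨hv1, hvN⟩ := hv
      apply hFmax v hv1
      have h1 : v * y0 * v⁻¹ ∈ zpowers y0 := by
        have := (mem_normalizer_iff.mp hvN y0).mp (mem_zpowers y0)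
        exact this
      have h2 : v * y0 * v⁻¹ * y0⁻¹ ∈ V1 := by
        have : y0 * v⁻¹ * y0⁻¹ ∈ V1 := ‹V1.Normal›.conj_mem _ (V1.inv_mem hv1) y0
        have h3 := V1.mul_mem hv1 this
        have : v * y0 * v⁻¹ * y0⁻¹ = v * (y0 * v⁻¹ * y0⁻¹) := by group
        rw [this]; exact h3
      have h4 : v * y0 * v⁻¹ * y0⁻¹ ∈ zpowers y0 :=
        (zpowers y0).mul_mem h1 ((zpowers y0).inv_mem (mem_zpowers y0))
      have h5 : (v * y0 * v⁻¹ * y0⁻¹) ^ q = 1 := by
        obtain ⟨n, hn⟩ := h4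
        rw [← hn, ← zpow_natCast, ← zpow_mul, mul_comm, zpow_mul, zpow_natCast, ← hy0,
          pow_orderOf_eq_one, one_zpow]
      have h6 := eq_one_of_sq_of_odd_pow _ (hV1 _ h2) q hqodd h5
      have : v * y0 = y0 * v := by
        have h7 : v * y0 * v⁻¹ = y0 := by
          have := congrArg (· * y0) h6
          simpa using this
        calc v * y0 = v * y0 * v⁻¹ * v := by group
          _ = y0 * v := by rw [h7]
      exact this
    · intro f hf
      refine ⟨hFV hf, ?_⟩
      have hc : f * y0 * f⁻¹ = y0 := by rw [hFc f hf]; group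
      show f ∈ normalizer (zpowers y0 : Set Y)
      rw [mem_normalizer_iff]
      intro z
      have hcz : ∀ z ∈ zpowers y0, f * z * f⁻¹ = z := by
        intro z hz
        obtain ⟨n, rfl⟩ := hz
        have : f * y0 ^ n * f⁻¹ = (f * y0 * f⁻¹) ^ n := by
          rw [conj_zpow]
        rw [this, hc]
      constructor
      · intro hz
        rw [hcz z hz]; exact hz
      · intro hz
        change f * z * f⁻¹ ∈ zpowers y0 at hz
        have h8 := hcz _ hz
        have : z = f * z * f⁻¹ := by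
          have h9 : f * (f * z * f⁻¹) * f⁻¹ = f * z * f⁻¹ := h8
          have h10 : f * (f * z * f⁻¹) = f * z := mul_right_cancel h9
          exact (mul_left_cancel h10).symm
        rw [this]; exact hz
  set K1 : Subgroup Y := V1 ⊔ N0 with hK1
  have hVK : V1 ≤ K1 := le_sup_left
  have hNK : N0 ≤ K1 := le_sup_right
  have hFpos : 0 < Nat.card F := Nat.card_pos
  have hN0pos : 0 < Nat.card N0 := Nat.card_pos
  -- Step 2: index 4
  have hcardK : Nat.card K1 = 4 * Nat.card N0 := by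
    have h1 := Cfsg.Agent.Helper17.card_sup_mul_card_inf_of_normal V1 N0
    rw [hinf, hcard] at h1
    have : Nat.card K1 * Nat.card F = (4 * Nat.card N0) * Nat.card F := by
      rw [hK1, h1]; ring
    exact Nat.eq_of_mul_eq_mul_right hFpos this
  have hrel : N0.relIndex K1 = 4 := by
    have h1 := Cfsg.Agent.Helper17.relIndex_mul_card_inf N0 K1
    rw [inf_eq_left.mpr hNK, hcardK] at h1
    exact Nat.eq_of_mul_eq_mul_right hN0pos h1
  set N0' : Subgroup ↥K1 := N0.subgroupOf K1 with hN0'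
  have hidx : N0'.index = 4 := hrel
  have hcardQ : Nat.card (↥K1 ⧸ N0') = 4 := hidx
  have : Finite (↥K1 ⧸ N0') := Nat.finite_of_card_ne_zero (by rw [hcardQ]; norm_num)
  set φ : ↥K1 →* Equiv.Perm (↥K1 ⧸ N0') := MulAction.toPermHom ↥K1 (↥K1 ⧸ N0') with hφ
  have hker : φ.ker ≤ N0' := by
    rw [hφ, ← Subgroup.normalCore_eq_ker]
    exact Subgroup.normalCore_le _
  -- elements of the core act trivially on `V1 / F`
  have hcore : ∀ e : ↥K1, e ∈ φ.ker → ∀ v ∈ V1, (e : Y) * v * (e : Y)⁻¹ * v⁻¹ ∈ F := by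
    intro e he v hv
    rw [← hinf]
    constructor
    · have h1 : (e : Y) * v * (e : Y)⁻¹ ∈ V1 := ‹V1.Normal›.conj_mem _ hv _
      exact V1.mul_mem h1 (V1.inv_mem hv)
    · have h1 : (⟨v, hVK hv⟩ : ↥K1) * e⁻¹ * (⟨v, hVK hv⟩ : ↥K1)⁻¹ ∈ φ.ker :=
        (inferInstance : φ.ker.Normal).conj_mem _ (φ.ker.inv_mem he) _
      have h2 : e * ((⟨v, hVK hv⟩ : ↥K1) * e⁻¹ * (⟨v, hVK hv⟩ : ↥K1)⁻¹) ∈ N0' :=
        hker (φ.ker.mul_mem he h1)
      rw [hN0', mem_subgroupOf] at h2
      have : (e : Y) * v * (e : Y)⁻¹ * v⁻¹ =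
          ((e * ((⟨v, hVK hv⟩ : ↥K1) * e⁻¹ * (⟨v, hVK hv⟩ : ↥K1)⁻¹) : ↥K1) : Y) := by
        push_cast
        group
      rw [this]; exact h2
  set y0' : ↥K1 := ⟨y0, hNK hy0N⟩ with hy0'
  set b' : ↥K1 := ⟨b, hNK hbN⟩ with hb'
  have hy0core : y0' ∉ φ.ker := by
    intro hmem
    have h1 := hcore y0' hmem
    -- `y0 ^ 2` centralizes `V1`
    have h2 : ∀ v ∈ V1, v * y0 = y0 * v := by
      intro v hv
      have hf := h1 v hv
      change y0 * v * y0⁻¹ * v⁻¹ ∈ F at hf
      obtain ⟨f, hfdef⟩ : ∃ f, f = y0 * v * y0⁻¹ * v⁻¹ := ⟨_, rfl⟩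
      rw [← hfdef] at hf
      have hyv : y0 * v * y0⁻¹ = f * v := by rw [hfdef]; group
      have hyf : y0 * f * y0⁻¹ = f := by
        have := hFc f hf
        calc y0 * f * y0⁻¹ = (f * y0) * y0⁻¹ := by rw [this]
          _ = f := by group
      have hff : f * f = 1 := hV1 f (hFV hf)
      have hy2 : y0 ^ 2 * v * (y0 ^ 2)⁻¹ = v := by
        calc y0 ^ 2 * v * (y0 ^ 2)⁻¹ = y0 * (y0 * v * y0⁻¹) * y0⁻¹ := by
              rw [pow_two, mul_inv_rev]; simp only [mul_assoc]
          _ = y0 * (f * v) * y0⁻¹ := by rw [hyv]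
          _ = (y0 * f * y0⁻¹) * (y0 * v * y0⁻¹) := by group
          _ = f * (f * v) := by rw [hyf, hyv]
          _ = (f * f) * v := by group
          _ = v := by rw [hff, one_mul]
      have hcomm2 : Commute (y0 ^ 2) v := by
        have : y0 ^ 2 * v = v * y0 ^ 2 := by
          calc y0 ^ 2 * v = y0 ^ 2 * v * (y0 ^ 2)⁻¹ * y0 ^ 2 := by group
            _ = v * y0 ^ 2 := by rw [hy2]
        exact this
      -- `y0` is a power of `y0 ^ 2`
      obtain ⟨m, hm⟩ := hqodd
      have hpow : (y0 ^ 2) ^ (m + 1) = y0 := by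
        rw [← pow_mul]
        have : 2 * (m + 1) = q + 1 := by omega
        rw [this, pow_succ, ← hy0, pow_orderOf_eq_one, one_mul]
      have : Commute y0 v := by
        rw [← hpow]; exact hcomm2.pow_left _
      exact this.eq.symm
    have h3 : V1 ≤ F := fun v hv => hFmax v hv (h2 v hv)
    have h4 : Nat.card V1 ≤ Nat.card F := Subgroup.card_le_of_le h3
    omega
  have hbcore : b' ∉ φ.ker := by
    intro hmem
    obtain ⟨v, hv, hvF⟩ := hbv
    exact hvF (hcore b' hmem v hv)
  -- the quotient by the core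
  set Q := ↥K1 ⧸ φ.ker with hQ
  set Nbar : Subgroup Q := N0'.map (QuotientGroup.mk' φ.ker) with hNbar
  have hNbaridx : Nbar.index = 4 := by
    rw [hNbar, Subgroup.index_map_eq _ (QuotientGroup.mk'_surjective _) (by
      rw [QuotientGroup.ker_mk']; exact hker)]
    exact hidx
  have hy0bar : (QuotientGroup.mk' φ.ker y0') ∈ Nbar :=
    Subgroup.mem_map_of_mem _ (by rw [hN0', mem_subgroupOf]; exact hy0N)
  have hbbar : (QuotientGroup.mk' φ.ker b') ∈ Nbar :=
    Subgroup.mem_map_of_mem _ (by rw [hN0', mem_subgroupOf]; exact hbN)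
  have hordy : orderOf (QuotientGroup.mk' φ.ker y0') = q := by
    have h1 : (QuotientGroup.mk' φ.ker y0') ^ q = 1 := by
      rw [← map_pow]
      have : y0' ^ q = 1 := by
        apply Subtype.ext
        rw [Subgroup.coe_pow, hy0']
        change y0 ^ q = 1
        rw [← hy0, pow_orderOf_eq_one]
      rw [this, map_one]
    have h2 := orderOf_dvd_of_pow_eq_one h1
    rcases (Nat.dvd_prime hq).mp h2 with h3 | h3
    · exfalso
      rw [orderOf_eq_one_iff] at h3
      exact hy0core ((QuotientGroup.eq_one_iff _).mp h3)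
    · exact h3
  have hordb : 2 ∣ orderOf (QuotientGroup.mk' φ.ker b') := by
    have h1 : (QuotientGroup.mk' φ.ker b') ^ (2 ^ k) = 1 := by
      rw [← map_pow]
      have : b' ^ (2 ^ k) = 1 := by
        apply Subtype.ext
        rw [Subgroup.coe_pow, hb']
        exact hb2
      rw [this, map_one]
    have h2 := orderOf_dvd_of_pow_eq_one h1
    obtain ⟨j, hj, hj2⟩ := (Nat.dvd_prime_pow Nat.prime_two).mp h2
    rcases Nat.eq_zero_or_pos j with h0 | h0
    · exfalso
      rw [h0, pow_zero, orderOf_eq_one_iff] at hj2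
      exact hbcore ((QuotientGroup.eq_one_iff _).mp hj2)
    · rw [hj2]; exact dvd_pow_self 2 (by omega)
  have hdvd2 : 2 ∣ Nat.card Nbar := hordb.trans (Subgroup.orderOf_dvd_natCard _ hbbar)
  have hdvdq : q ∣ Nat.card Nbar := by
    have := Subgroup.orderOf_dvd_natCard _ hy0bar
    rwa [hordy] at this
  have hcop : Nat.Coprime 2 q := by
    rw [Nat.coprime_primes Nat.prime_two hq]; exact fun h => hq2 h.symm
  have h2q : 2 * q ∣ Nat.card Nbar := hcop.mul_dvd_of_dvd_of_dvd hdvd2 hdvdq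
  have hNbarpos : 0 < Nat.card Nbar := Nat.card_pos
  have hle : 6 ≤ Nat.card Nbar := by
    have := Nat.le_of_dvd hNbarpos h2q
    omega
  have hcardQ' : Nat.card Q = 4 * Nat.card Nbar := by
    rw [← hNbaridx, mul_comm]; exact (Subgroup.card_mul_index Nbar).symm
  have hperm : Nat.card (Equiv.Perm (↥K1 ⧸ N0')) = 24 := by
    rw [Nat.card_perm, hcardQ]; rfl
  have hinj : Function.Injective (QuotientGroup.kerLift φ) := QuotientGroup.kerLift_injective φ
  have hle2 : Nat.card Q ≤ 24 := by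
    rw [← hperm]; exact Nat.card_le_card_of_injective _ hinj
  have hQ24 : Nat.card Q = 24 := by omega
  have hbij : Function.Bijective (QuotientGroup.kerLift φ) := by
    apply Function.Injective.bijective_of_nat_card_le hinj
    rw [hperm, hQ24]
  have hsurj : Function.Surjective φ := by
    intro σ
    obtain ⟨x, hx⟩ := hbij.2 σ
    obtain ⟨z, rfl⟩ := QuotientGroup.mk_surjective x
    exact ⟨z, hx⟩
  let e : (↥K1 ⧸ N0') ≃ Fin 4 := Finite.equivFinOfCardEq hcardQ
  refine involves_of_surjective K1 ((Equiv.permCongrHom e).toMonoidHom.comp φ) ?_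
  intro σ
  obtain ⟨x, hx⟩ := hsurj ((Equiv.permCongrHom e).symm σ)
  refine ⟨x, ?_⟩
  change (Equiv.permCongrHom e) (φ x) = σ
  rw [hx]; exact (Equiv.permCongrHom e).apply_symm_apply σ

end Cfsg.Agent.Helper9.S4Sec
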