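import Mathlib

set_option autoImplicit false
set_option linter.style.haveILetI false

/-! Basic structure of generalized quaternion groups: the cyclic maximal subgroup, the
commutator subgroup and its centralizer. -/

namespace Cfsg.Agent.Helper9

open Subgroup QuaternionGroup
open scoped commutatorElement

universe u

/-- The cyclic subgroup `{a i}` of index 2 of the quaternion group. -/
def quatRot (m : ℕ) : Subgroup (QuaternionGroup m) where
  carrier := {x | ∃ i, x = a i}
  one_mem' := ⟨0, by rw [a_zero]⟩
  mul_mem' := by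
    rintro _ _ ⟨i, rfl⟩ ⟨j, rfl⟩
    exact ⟨i + j, a_mul_a i j⟩
  inv_mem' := by
    rintro _ ⟨i, rfl⟩
    exact ⟨-i, rfl⟩

theorem mem_quatRot {m : ℕ} (x : QuaternionGroup m) : x ∈ quatRot m ↔ ∃ i, x = a i := Iff.rfl

theorem xa_not_mem_quatRot {m : ℕ} (j : ZMod (2 * m)) : xa j ∉ quatRot m := by
  rintro ⟨i, hi⟩
  cases hi

theorem quatRot_eq_zpowers (m : ℕ) [NeZero m] : quatRot m = Subgroup.zpowers (a 1) := by
  apply le_antisymm
  · rintro _ ⟨i, rfl⟩
    have : (a 1 : QuaternionGroup m) ^ i.val = a i := by
      rw [a_one_pow, ZMod.natCast_zmod_val]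
    rw [← this]
    exact Subgroup.pow_mem _ (Subgroup.mem_zpowers _) _
  · rw [Subgroup.zpowers_le]
    exact ⟨1, rfl⟩

theorem quatRot_index (m : ℕ) [NeZero m] : (quatRot m).index = 2 := by
  have h1 := (quatRot m).card_mul_index
  rw [quatRot_eq_zpowers, Nat.card_zpowers, orderOf_a_one, Nat.card_eq_fintype_card,
    QuaternionGroup.card] at h1
  have hm : 0 < m := Nat.pos_of_ne_zero (NeZero.ne m)
  rw [quatRot_eq_zpowers]
  nlinarith

theorem quatRot_comm {m : ℕ} : ∀ x ∈ quatRot m, ∀ y ∈ quatRot m, x * y = y * x := by
  rintro _ ⟨i, rfl⟩ _ ⟨j, rfl⟩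
  rw [a_mul_a, a_mul_a, add_comm]

theorem a_two_mem_commutator (m : ℕ) : (a 2 : QuaternionGroup m) ∈ commutator (QuaternionGroup m) := by
  have h : ⁅(a 1 : QuaternionGroup m), (xa 0 : QuaternionGroup m)⁆ = a 2 := by
    rw [commutatorElement_def]
    have h1 : (a 1 : QuaternionGroup m)⁻¹ = a (-1) := rfl
    have h2 : (xa 0 : QuaternionGroup m)⁻¹ = xa ((m : ZMod (2 * m)) + 0) := rfl
    rw [h1, h2, a_mul_xa, xa_mul_a, xa_mul_xa]
    congr 1
    have : ((2 * m : ℕ) : ZMod (2 * m)) = 0 := ZMod.natCast_self _
    push_cast at this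
    linear_combination this
  rw [← h, commutator_def]
  exact Subgroup.commutator_mem_commutator (Subgroup.mem_top _) (Subgroup.mem_top _)

theorem commutator_le_quatRot (m : ℕ) [NeZero m] :
    commutator (QuaternionGroup m) ≤ quatRot m := by
  haveI : (quatRot m).Normal := Subgroup.normal_of_index_eq_two (quatRot_index m)
  rw [← Subgroup.Normal.quotient_commutative_iff_commutator_le]
  have hcard : Nat.card (QuaternionGroup m ⧸ quatRot m) = 2 := by
    rw [← Subgroup.index_eq_card, quatRot_index]
  haveI : Fact (Nat.Prime 2) := ⟨Nat.prime_two⟩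
  haveI : IsCyclic (QuaternionGroup m ⧸ quatRot m) := isCyclic_of_prime_card hcard
  exact ⟨⟨fun x y => IsCyclic.commGroup.mul_comm x y⟩⟩

/-- For `m ≥ 3` the centralizer of the commutator subgroup is the cyclic maximal subgroup. -/
theorem centralizer_commutator_quat (m : ℕ) [NeZero m] (hm : 3 ≤ m) :
    Subgroup.centralizer (commutator (QuaternionGroup m) : Set (QuaternionGroup m)) = quatRot m := by
  apply le_antisymm
  · intro x hx
    rcases x with i | j
    · exact ⟨i, rfl⟩
    · exfalso
      have h1 := Subgroup.mem_centralizer_iff.mp hx (a 2) (a_two_mem_commutator m)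
      rw [a_mul_xa, xa_mul_a] at h1
      have h2 : j - 2 = j + 2 := by
        injection h1
      have h3 : (4 : ZMod (2 * m)) = 0 := by linear_combination -h2
      have h4 : ((4 : ℕ) : ZMod (2 * m)) = 0 := by exact_mod_cast h3
      rw [ZMod.natCast_eq_zero_iff] at h4
      have := Nat.le_of_dvd (by norm_num) h4
      omega
  · intro x hx
    rw [Subgroup.mem_centralizer_iff]
    intro y hy
    exact quatRot_comm y (commutator_le_quatRot m hy) x hx

/-- Transport to any group isomorphic to a generalized quaternion group of order `≥ 12`. -/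
theorem exists_cyclic_index_two_of_quat {T : Type u} [Group T] (m : ℕ) [NeZero m] (hm : 3 ≤ m)
    (e : T ≃* QuaternionGroup m) :
    ∃ R : Subgroup T, IsCyclic R ∧ R.index = 2 ∧ commutator T ≤ R ∧
      Subgroup.centralizer (commutator T : Set T) = R ∧ Nat.card R = 2 * m := by
  have hcomm : commutator T = (commutator (QuaternionGroup m)).comap e.toMonoidHom := by
    have h1 : (commutator T).map e.toMonoidHom = commutator (QuaternionGroup m) := by
      rw [commutator_def, commutator_def, Subgroup.map_commutator,
        Subgroup.map_top_of_surjective _ e.surjective]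
    rw [← h1, Subgroup.comap_map_eq_self_of_injective e.injective]
  refine ⟨(quatRot m).comap e.toMonoidHom, ?_, ?_, ?_, ?_, ?_⟩
  · -- cyclic
    rw [Subgroup.isCyclic_iff_exists_zpowers_eq_top]
    refine ⟨e.symm (a 1), ?_⟩
    ext x
    rw [Subgroup.mem_comap, quatRot_eq_zpowers, Subgroup.mem_zpowers_iff, Subgroup.mem_zpowers_iff]
    constructor
    · rintro ⟨k, hk⟩
      refine ⟨k, ?_⟩
      show (a 1 : QuaternionGroup m) ^ k = e x
      rw [← hk, map_zpow, e.apply_symm_apply]
    · rintro ⟨k, hk⟩
      refine ⟨k, ?_⟩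
      have hk' : (a 1 : QuaternionGroup m) ^ k = e x := hk
      rw [← map_zpow, hk', e.symm_apply_apply]
  · rw [Subgroup.index_comap_of_surjective _ e.surjective, quatRot_index]
  · rw [hcomm]
    exact Subgroup.comap_mono (commutator_le_quatRot m)
  · ext x
    rw [Subgroup.mem_comap, ← centralizer_commutator_quat m hm, Subgroup.mem_centralizer_iff,
      Subgroup.mem_centralizer_iff]
    constructor
    · intro h y hy
      have hy' : e.symm y ∈ commutator T := by
        rw [hcomm, Subgroup.mem_comap]
        show e (e.symm y) ∈ _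
        rw [e.apply_symm_apply]; exact hy
      have := h (e.symm y) hy'
      have h2 := congrArg e this
      rw [map_mul, map_mul, e.apply_symm_apply] at h2
      exact h2
    · intro h y hy
      have hy' : e y ∈ commutator (QuaternionGroup m) := by
        rw [hcomm] at hy
        exact (Subgroup.mem_comap.mp (SetLike.mem_coe.mp hy))
      have := h (e y) hy'
      apply e.injective
      rw [map_mul, map_mul]
      exact this
  · have hidx : ((quatRot m).comap e.toMonoidHom).index = 2 := by
      rw [Subgroup.index_comap_of_surjective _ e.surjective, quatRot_index]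
    have h1 := ((quatRot m).comap e.toMonoidHom).card_mul_index
    have h2 : Nat.card T = 4 * m := by
      rw [Nat.card_congr e.toEquiv, Nat.card_eq_fintype_card, QuaternionGroup.card]
    rw [hidx, h2] at h1
    omega

end Cfsg.Agent.Helper9
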