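import Mathlib
import Cfsg.Agent.Helper9.QuatBasic
import Cfsg.Agent.Helper9.WeakClosure
import Cfsg.Agent.Helper9.NPC
import Cfsg.Agent.Helper9.Alperin
import Cfsg.Agent.Helper17.Basic

set_option autoImplicit false
set_option linter.style.haveILetI false

/-! Groups with a Sylow 2-subgroup `S` having a cyclic subgroup `R = C_S(D)` of index 2, for a
cyclic `D ≤ R` normal in `S` (e.g. generalized quaternion `S`, `D = S'`): structure of
`C_G(D)` and `N_G(D)`. -/

namespace Cfsg.Agent.Helper9

open Subgroup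
open scoped commutatorElement

universe u

section

variable {G : Type u} [Group G] [Finite G] (S : Sylow 2 G) (D R : Subgroup G)

/-- Every 2-subgroup of `C_G(D)` is conjugate under `N_G(D)` into `R = S ∩ C_G(D)`. -/
theorem exists_conj_le_of_le_centralizer
    (hSN : (S : Subgroup G) ≤ Subgroup.normalizer (D : Set G))
    (hSC : (S : Subgroup G) ⊓ Subgroup.centralizer (D : Set G) = R)
    (Q : Subgroup G) (hQC : Q ≤ Subgroup.centralizer (D : Set G)) (hQ : IsPGroup 2 Q) :
    ∃ g ∈ Subgroup.normalizer (D : Set G), Q.map (MulAut.conj g).toMonoidHom ≤ R := by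
  haveI : Fact (Nat.Prime 2) := ⟨Nat.prime_two⟩
  have hCN : Subgroup.centralizer (D : Set G) ≤ Subgroup.normalizer (D : Set G) :=
    Subgroup.centralizer_le_normalizer _
  obtain ⟨c, hc, R', hR'p, hR'N, hSR', hQR'⟩ :=
    exists_conj_le_pgroup_of_le (Subgroup.normalizer (D : Set G)) (S : Subgroup G) Q hSN
      (hQC.trans hCN) S.isPGroup' hQ
  have hR'S : R' = S := S.is_maximal' hR'p hSR'
  refine ⟨c, hc, ?_⟩
  rw [← hSC]
  apply le_inf
  · rw [← hR'S]; exact hQR'
  · rintro _ ⟨q, hq, rfl⟩
    show c * q * c⁻¹ ∈ _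
    rw [Subgroup.mem_centralizer_iff]
    intro d hd
    -- `c⁻¹ d c ∈ D`
    have hd' : c⁻¹ * d * c ∈ D := by
      have := (Subgroup.mem_normalizer_iff.mp (Subgroup.inv_mem _ hc) d).mp hd
      rwa [inv_inv] at this
    have hcomm := Subgroup.mem_centralizer_iff.mp (hQC hq) _ hd'
    calc d * (c * q * c⁻¹) = c * ((c⁻¹ * d * c) * q) * c⁻¹ := by group
      _ = c * (q * (c⁻¹ * d * c)) * c⁻¹ := by rw [hcomm]
      _ = c * q * c⁻¹ * d := by group

/-- A subgroup conjugate into a cyclic subgroup is cyclic. -/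
theorem isCyclic_of_map_conj_le (Q R : Subgroup G) (g : G) [IsCyclic R]
    (h : Q.map (MulAut.conj g).toMonoidHom ≤ R) : IsCyclic Q := by
  haveI : IsCyclic (Q.map (MulAut.conj g).toMonoidHom) := Subgroup.isCyclic_of_le h
  have e : Q ≃* Q.map (MulAut.conj g).toMonoidHom :=
    Q.equivMapOfInjective _ (MulAut.conj g).injective
  exact isCyclic_of_surjective e.symm.toMonoidHom e.symm.surjective

/-- Structure of `C_G(D)` and `N_G(D)`. -/
theorem centralizer_normalizer_structure
    (hDR : D ≤ R) (hRc : IsCyclic R)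
    (hSN : (S : Subgroup G) ≤ Subgroup.normalizer (D : Set G))
    (hSC : (S : Subgroup G) ⊓ Subgroup.centralizer (D : Set G) = R)
    (hcard : Nat.card (S : Subgroup G) = 2 * Nat.card R) :
    ∃ K : Subgroup G, Odd (Nat.card K) ∧ K ≤ Subgroup.centralizer (D : Set G) ∧
      Subgroup.normalizer (D : Set G) ≤ Subgroup.normalizer (K : Set G) ∧
      K ⊔ (S : Subgroup G) = Subgroup.normalizer (D : Set G) ∧
      K ⊔ R = Subgroup.centralizer (D : Set G) ∧
      ((Subgroup.centralizer (D : Set G)).subgroupOf (Subgroup.normalizer (D : Set G))).index = 2 ∧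
      Nat.card (Subgroup.centralizer (D : Set G)) = Nat.card K * Nat.card R := by
  classical
  haveI : Fact (Nat.Prime 2) := ⟨Nat.prime_two⟩
  set C := Subgroup.centralizer (D : Set G) with hC
  set N := Subgroup.normalizer (D : Set G) with hN
  have hCN : C ≤ N := Subgroup.centralizer_le_normalizer _
  have hRS : R ≤ (S : Subgroup G) := by rw [← hSC]; exact inf_le_left
  have hRC : R ≤ C := by rw [← hSC]; exact inf_le_right
  have hRpos : 0 < Nat.card R := Nat.card_pos
  -- `|R|` is even
  have hReven : 2 ∣ Nat.card R := by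
    by_contra hodd
    -- then `R = ⊥` hence `|S| = 2`, `D = ⊥`, `C = ⊤`, `R = S`
    have hRp : IsPGroup 2 R := S.isPGroup'.to_le hRS
    obtain ⟨k, hk⟩ := IsPGroup.iff_card.mp hRp
    have hk0 : k = 0 := by
      by_contra hk0
      apply hodd
      rw [hk]
      exact dvd_pow_self 2 hk0
    rw [hk0, pow_zero] at hk
    have hRbot : R = ⊥ := Subgroup.card_eq_one.mp hk
    have hDbot : D = ⊥ := by rw [eq_bot_iff, ← hRbot]; exact hDR
    have hCtop : C = ⊤ := by
      rw [hC, hDbot]
      ext x
      simp [Subgroup.mem_centralizer_iff]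
    rw [hCtop, inf_top_eq] at hSC
    rw [hSC, hk] at hcard
    omega
  -- a Sylow 2-subgroup of `C`
  obtain ⟨PC⟩ : Nonempty (Sylow 2 C) := inferInstance
  have hPCmap : IsPGroup 2 ((PC : Subgroup C).map C.subtype) := PC.isPGroup'.map _
  obtain ⟨g, hgN, hgR⟩ := exists_conj_le_of_le_centralizer S D R hSN hSC
    ((PC : Subgroup C).map C.subtype) (Subgroup.map_subtype_le _) hPCmap
  haveI := hRc
  have hPCcyc1 : IsCyclic ((PC : Subgroup C).map C.subtype) := isCyclic_of_map_conj_le _ R g hgR
  have hPCcyc : IsCyclic (PC : Subgroup C) := by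
    have e : (PC : Subgroup C) ≃* (PC : Subgroup C).map C.subtype :=
      (PC : Subgroup C).equivMapOfInjective _ C.subtype_injective
    exact isCyclic_of_surjective e.symm.toMonoidHom e.symm.surjective
  -- `|PC| = |R|`
  have hPCcard : Nat.card (PC : Subgroup C) = Nat.card R := by
    apply le_antisymm
    · have h1 : Nat.card ((PC : Subgroup C).map C.subtype) = Nat.card (PC : Subgroup C) :=
        Subgroup.card_map_of_injective C.subtype_injective
      have h2 : Nat.card (((PC : Subgroup C).map C.subtype).map (MulAut.conj g).toMonoidHom)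
          = Nat.card ((PC : Subgroup C).map C.subtype) :=
        Subgroup.card_map_of_injective (MulAut.conj g).injective
      rw [← h1, ← h2]
      exact Subgroup.card_le_of_le hgR
    · have hRp : IsPGroup 2 (R.subgroupOf C) := (S.isPGroup'.to_le hRS).comap_subtype
      obtain ⟨P', hP'⟩ := hRp.exists_le_sylow
      have h1 : Nat.card (R.subgroupOf C) ≤ Nat.card (P' : Subgroup C) :=
        Subgroup.card_le_of_le hP'
      have h2 : Nat.card (R.subgroupOf C) = Nat.card R := by
        rw [← Subgroup.card_map_of_injective C.subtype_injective,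
          Subgroup.map_subgroupOf_eq_of_le hRC]
      have h3 : Nat.card (P' : Subgroup C) = Nat.card (PC : Subgroup C) := by
        rw [Sylow.card_eq_multiplicity, Sylow.card_eq_multiplicity]
      omega
  -- `minFac |C| = 2`
  have hCeven : 2 ∣ Nat.card C := hReven.trans (Subgroup.card_dvd_of_le hRC)
  have hminFac : (Nat.card C).minFac = 2 := (Nat.minFac_eq_two_iff _).mpr hCeven
  have hcompl := IsCyclic.isComplement' hminFac hPCcyc
  set M := (MonoidHom.transferSylow PC (hPCcyc.normalizer_le_centralizer hminFac)).ker with hM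
  have hMres : M = Cfsg.pResidual 2 C := normal_complement_eq_pResidual PC M hcompl
  have hMcard : Nat.card M * Nat.card R = Nat.card C := by
    rw [← hPCcard]; exact hcompl.card_mul_card
  have hModd : ¬ 2 ∣ Nat.card M := by
    rw [← hcompl.index_eq_card]
    exact PC.not_dvd_index
  set K := M.map C.subtype with hK
  have hKcard : Nat.card K = Nat.card M := Subgroup.card_map_of_injective C.subtype_injective
  have hKC : K ≤ C := Subgroup.map_subtype_le _
  have hKodd : Odd (Nat.card K) := by
    rw [hKcard]; exact Nat.odd_iff.mpr (Nat.two_dvd_ne_zero.mp hModd)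
  have hCcard : Nat.card C = Nat.card K * Nat.card R := by rw [hKcard, hMcard]
  -- `K` is generated by the odd-order elements of `C`
  have hKcl : K = Subgroup.closure {x : G | x ∈ C ∧ (orderOf x).Coprime 2} := by
    rw [hK, hMres, Cfsg.pResidual, MonoidHom.map_closure]
    congr 1
    ext x
    constructor
    · rintro ⟨c, hc, rfl⟩
      refine ⟨c.2, ?_⟩
      change (orderOf ((c : G))).Coprime 2
      rw [Subgroup.orderOf_coe]
      exact hc
    · rintro ⟨hxC, hxo⟩
      refine ⟨⟨x, hxC⟩, ?_, rfl⟩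
      change (orderOf (⟨x, hxC⟩ : C)).Coprime 2
      rw [← Subgroup.orderOf_coe]
      exact hxo
  -- `N` normalizes `C`
  have hNC : ∀ n ∈ N, ∀ c ∈ C, n * c * n⁻¹ ∈ C := by
    intro n hn c hc
    rw [hC, Subgroup.mem_centralizer_iff]
    intro d hd
    have hd' : n⁻¹ * d * n ∈ D := by
      have := (Subgroup.mem_normalizer_iff.mp (Subgroup.inv_mem _ hn) d).mp hd
      rwa [inv_inv] at this
    have hcomm := Subgroup.mem_centralizer_iff.mp hc _ hd'
    calc d * (n * c * n⁻¹) = n * ((n⁻¹ * d * n) * c) * n⁻¹ := by group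
      _ = n * (c * (n⁻¹ * d * n)) * n⁻¹ := by rw [hcomm]
      _ = n * c * n⁻¹ * d := by group
  have hNK : N ≤ Subgroup.normalizer (K : Set G) := by
    apply le_normalizer_of_conj_mem
    intro n hn k hk
    have hle : K ≤ K.comap (MulAut.conj n).toMonoidHom := by
      conv_lhs => rw [hKcl]
      rw [Subgroup.closure_le]
      rintro x ⟨hxC, hxo⟩
      show n * x * n⁻¹ ∈ K
      rw [hKcl]
      apply Subgroup.subset_closure
      refine ⟨hNC n hn x hxC, ?_⟩
      have : orderOf (n * x * n⁻¹) = orderOf x := by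
        have := MulEquiv.orderOf_eq (MulAut.conj n) x
        simpa using this
      rw [this]; exact hxo
    exact hle hk
  -- `[N : C]` is a power of 2
  have hDcyc : IsCyclic D := Subgroup.isCyclic_of_le hDR
  have hrel : ∃ t, C.relIndex N = 2 ^ t := by
    have h1 : (D.normalizerMonoidHom).ker.index ∣ Nat.card (MulAut D) := by
      rw [Subgroup.index_ker]
      exact Subgroup.card_subgroup_dvd_card _
    rw [Subgroup.normalizerMonoidHom_ker, IsCyclic.card_mulAut] at h1
    have hDp : IsPGroup 2 D := S.isPGroup'.to_le (hDR.trans hRS)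
    obtain ⟨j, hj⟩ := IsPGroup.iff_card.mp hDp
    rw [hj] at h1
    have h2 : ((2 : ℕ) ^ j).totient ∣ 2 ^ j := by
      rcases Nat.eq_zero_or_pos j with rfl | hj0
      · simp
      · rw [Nat.totient_prime_pow Nat.prime_two hj0]
        simp only [Nat.add_one_sub_one, mul_one]
        exact pow_dvd_pow 2 (Nat.sub_le j 1)
    exact (Nat.dvd_prime_pow Nat.prime_two).mp (h1.trans h2) |>.imp fun t ht => ht.2
  obtain ⟨t, ht⟩ := hrel
  have hNcard : Nat.card N = 2 ^ t * Nat.card C := by
    have := Cfsg.Agent.Helper17.relIndex_mul_card_inf C N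
    rw [inf_eq_left.mpr hCN, ht] at this
    exact this.symm
  -- `|N| = r |S|` with `r` odd
  obtain ⟨r, hrodd, hNS⟩ : ∃ r, ¬ 2 ∣ r ∧ Nat.card N = r * Nat.card (S : Subgroup G) := by
    refine ⟨(S : Subgroup G).relIndex N, ?_, ?_⟩
    · intro h2
      have h1 : (S : Subgroup G).relIndex N ∣ (S : Subgroup G).index :=
        Dvd.intro _ (Subgroup.relIndex_mul_index hSN)
      exact S.not_dvd_index (h2.trans h1)
    · have := Cfsg.Agent.Helper17.relIndex_mul_card_inf (S : Subgroup G) N
      rw [inf_eq_left.mpr hSN] at this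
      exact this.symm
  have hKodd' : ¬ 2 ∣ Nat.card K := by rw [hKcard]; exact hModd
  have hkey : 2 ^ t * Nat.card K = 2 * r := by
    have h1 : 2 ^ t * (Nat.card K * Nat.card R) = r * (2 * Nat.card R) := by
      rw [← hCcard, ← hNcard, hNS, hcard]
    have h2 : (2 ^ t * Nat.card K) * Nat.card R = (2 * r) * Nat.card R := by
      rw [mul_assoc, h1]; ring
    exact Nat.eq_of_mul_eq_mul_right hRpos h2
  have ht1 : t = 1 := by
    rcases Nat.lt_or_ge t 1 with h0 | h1
    · exfalso
      have : t = 0 := by omega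
      rw [this, pow_zero, one_mul] at hkey
      exact hKodd' ⟨r, hkey⟩
    · rcases Nat.lt_or_ge 1 t with h2 | h2
      · exfalso
        obtain ⟨u, rfl⟩ : ∃ u, t = u + 2 := ⟨t - 2, by omega⟩
        apply hrodd
        refine ⟨2 ^ u * Nat.card K, ?_⟩
        have : 2 ^ (u + 2) * Nat.card K = 2 * (2 * (2 ^ u * Nat.card K)) := by ring
        rw [this] at hkey
        omega
      · omega
  subst ht1
  rw [pow_one] at hNcard ht hkey
  have hSp : IsPGroup 2 (S : Subgroup G) := S.isPGroup'
  have hcopS : (Nat.card K).Coprime (Nat.card (S : Subgroup G)) := by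
    obtain ⟨j, hj⟩ := IsPGroup.iff_card.mp hSp
    rw [hj]
    apply Nat.Coprime.pow_right
    exact (Nat.coprime_comm.mp ((Nat.Prime.coprime_iff_not_dvd Nat.prime_two).mpr hKodd'))
  have hKS : K ⊓ (S : Subgroup G) = ⊥ := Subgroup.inf_eq_bot_of_coprime hcopS
  have hKR : K ⊓ R = ⊥ := by
    rw [eq_bot_iff, ← hKS]
    exact inf_le_inf_left K hRS
  refine ⟨K, hKodd, hKC, hNK, ?_, ?_, ?_, hCcard⟩
  · apply Subgroup.eq_of_le_of_card_ge (sup_le (hKC.trans hCN) hSN)
    have h1 := Cfsg.Agent.Helper17.card_sup_mul_card_inf K (S : Subgroup G) (hSN.trans hNK)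
    rw [hKS, Subgroup.card_bot, mul_one] at h1
    rw [h1, hNcard, hCcard, hcard]
    exact le_of_eq (by ring)
  · apply Subgroup.eq_of_le_of_card_ge (sup_le hKC hRC)
    have h1 := Cfsg.Agent.Helper17.card_sup_mul_card_inf K R ((hRS.trans hSN).trans hNK)
    rw [hKR, Subgroup.card_bot, mul_one] at h1
    rw [h1, hCcard]
  · exact ht

/-- The data `R = C_S(D)` for a generalized quaternion Sylow 2-subgroup `S` of order `≥ 16`
and `D = S'`. -/
theorem quat_sylow_data (n : ℕ) (e : (S : Subgroup G) ≃* QuaternionGroup (2 ^ (n + 2)))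
    (hD : D = ⁅(S : Subgroup G), (S : Subgroup G)⁆) :
    ∃ R : Subgroup G, D ≤ R ∧ IsCyclic R ∧
      (S : Subgroup G) ≤ Subgroup.normalizer (D : Set G) ∧
      (S : Subgroup G) ⊓ Subgroup.centralizer (D : Set G) = R ∧
      Nat.card (S : Subgroup G) = 2 * Nat.card R := by
  haveI : NeZero (2 ^ (n + 2)) := ⟨by positivity⟩
  have hm : 3 ≤ 2 ^ (n + 2) := by
    have : 2 ^ 2 ≤ 2 ^ (n + 2) := Nat.pow_le_pow_right (by norm_num) (by omega)
    omega
  obtain ⟨R', hR'c, hR'i, hR'D, hR'C, hR'card⟩ :=
    exists_cyclic_index_two_of_quat (2 ^ (n + 2)) hm e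
  have hDmap : D = (commutator (S : Subgroup G)).map (S : Subgroup G).subtype := by
    rw [hD, Subgroup.map_subtype_commutator]
  refine ⟨R'.map (S : Subgroup G).subtype, ?_, ?_, ?_, ?_, ?_⟩
  · rw [hDmap]; exact Subgroup.map_mono hR'D
  · have e' : R' ≃* R'.map (S : Subgroup G).subtype :=
      R'.equivMapOfInjective _ (S : Subgroup G).subtype_injective
    exact isCyclic_of_surjective e'.toMonoidHom e'.surjective
  · apply le_normalizer_of_conj_mem
    intro s hs d hd
    rw [hDmap] at hd ⊢
    obtain ⟨d', hd', rfl⟩ := hd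
    refine ⟨⟨s, hs⟩ * d' * ⟨s, hs⟩⁻¹, ?_, rfl⟩
    exact (inferInstance : (commutator (S : Subgroup G)).Normal).conj_mem d' hd' _
  · ext x
    rw [Subgroup.mem_inf]
    constructor
    · rintro ⟨hxS, hxC⟩
      refine ⟨⟨x, hxS⟩, ?_, rfl⟩
      rw [SetLike.mem_coe, ← hR'C, Subgroup.mem_centralizer_iff]
      intro y hy
      apply Subtype.ext
      have hyD : (y : G) ∈ D := by rw [hDmap]; exact ⟨y, hy, rfl⟩
      exact Subgroup.mem_centralizer_iff.mp hxC _ hyD
    · rintro ⟨x', hx', rfl⟩
      refine ⟨x'.2, ?_⟩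
      rw [Subgroup.mem_centralizer_iff]
      intro d hd
      rw [hDmap] at hd
      obtain ⟨d', hd', rfl⟩ := hd
      rw [SetLike.mem_coe, ← hR'C, Subgroup.mem_centralizer_iff] at hx'
      exact congrArg Subtype.val (hx' d' hd')
  · rw [Subgroup.card_map_of_injective (S : Subgroup G).subtype_injective]
    have := R'.card_mul_index
    rw [hR'i] at this
    omega

end

end Cfsg.Agent.Helper9
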