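import Mathlib
import Cfsg.Agent.Helper9.QuatSylow
import Cfsg.Agent.Helper1.UniqueOrderP
import Cfsg.Agent.Helper23.Cyclic

set_option autoImplicit false
set_option linter.style.haveILetI false

/-! The trivial-intersection property of the set of elements of `C_G(D)` of order divisible
by `|D|`, in the setting of `QuatSylow`. -/

namespace Cfsg.Agent.Helper9

open Subgroup

universe u

section

variable {G : Type u} [Group G] [Finite G] (S : Sylow 2 G) (D R : Subgroup G)

theorem le_zpowers_of_card_dvd_orderOf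
    (hDR : D ≤ R) (hRc : IsCyclic R)
    (hSN : (S : Subgroup G) ≤ Subgroup.normalizer (D : Set G))
    (hSC : (S : Subgroup G) ⊓ Subgroup.centralizer (D : Set G) = R)
    (y : G) (hy : y ∈ Subgroup.centralizer (D : Set G)) (hdvd : Nat.card D ∣ orderOf y) :
    D ≤ Subgroup.zpowers y := by
  haveI : Fact (Nat.Prime 2) := ⟨Nat.prime_two⟩
  have hRS : R ≤ (S : Subgroup G) := by rw [← hSC]; exact inf_le_left
  have hRp : IsPGroup 2 R := S.isPGroup'.to_le hRS
  obtain ⟨j, hj⟩ := IsPGroup.iff_card.mp (hRp.to_le hDR)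
  have hopos : 0 < orderOf y := orderOf_pos y
  obtain ⟨a, b, hb, hab⟩ := Nat.exists_eq_pow_mul_and_not_dvd hopos.ne' 2 (by norm_num)
  have hbpos : 0 < b := by
    rcases Nat.eq_zero_or_pos b with rfl | h
    · simp at hab; omega
    · exact h
  have hja : j ≤ a := by
    rw [hj, hab] at hdvd
    have hcop : Nat.Coprime (2 ^ j) b :=
      Nat.Coprime.pow_left j ((Nat.Prime.coprime_iff_not_dvd Nat.prime_two).mpr hb)
    have := hcop.dvd_of_dvd_mul_right hdvd
    exact (Nat.pow_dvd_pow_iff_le_right (by norm_num)).mp this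
  have hy2 : orderOf (y ^ b) = 2 ^ a := by
    rw [orderOf_pow' y hbpos.ne', hab, Nat.gcd_eq_right (Dvd.intro_left _ rfl),
      Nat.mul_div_cancel _ hbpos]
  set Q := Subgroup.zpowers (y ^ b) with hQ
  have hQcard : Nat.card Q = 2 ^ a := by rw [hQ, Nat.card_zpowers, hy2]
  have hQp : IsPGroup 2 Q := IsPGroup.of_card hQcard
  have hQC : Q ≤ Subgroup.centralizer (D : Set G) :=
    Subgroup.zpowers_le.mpr (Subgroup.pow_mem _ hy _)
  obtain ⟨g, hgN, hgR⟩ := exists_conj_le_of_le_centralizer S D R hSN hSC Q hQC hQp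
  have hcard2 : Nat.card (Q.map (MulAut.conj g).toMonoidHom) = 2 ^ a := by
    rw [Subgroup.card_map_of_injective (MulAut.conj g).injective, hQcard]
  have hle : D ≤ Q.map (MulAut.conj g).toMonoidHom := by
    apply Cfsg.Agent.Helper1.le_of_card_le_of_isCyclic_isPGroup R hRc hRp D _ hDR hgR
    rw [hj, hcard2]
    exact Nat.pow_le_pow_right (by norm_num) hja
  have hDQ : D ≤ Q := by
    intro d hd
    have hd' : g * d * g⁻¹ ∈ D := (Subgroup.mem_normalizer_iff.mp hgN d).mp hd
    obtain ⟨q, hq, hqd⟩ := hle hd'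
    have : q = d := by
      have h1 : g * q * g⁻¹ = g * d * g⁻¹ := hqd
      have h2 : q = g⁻¹ * (g * q * g⁻¹) * g := by group
      rw [h2, h1]; group
    rw [← this]; exact hq
  exact hDQ.trans (Subgroup.zpowers_le.mpr (Subgroup.pow_mem _ (Subgroup.mem_zpowers y) _))

/-- Conjugation by `N_G(D)` preserves `C_G(D)`. -/
theorem conj_mem_centralizer_of_mem_normalizer {G : Type u} [Group G] (D : Subgroup G) (n c : G)
    (hn : n ∈ Subgroup.normalizer (D : Set G)) (hc : c ∈ Subgroup.centralizer (D : Set G)) :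
    n * c * n⁻¹ ∈ Subgroup.centralizer (D : Set G) := by
  rw [Subgroup.mem_centralizer_iff]
  intro d hd
  have hd' : n⁻¹ * d * n ∈ D := by
    have := (Subgroup.mem_normalizer_iff.mp (Subgroup.inv_mem _ hn) d).mp hd
    rwa [inv_inv] at this
  have hcomm := Subgroup.mem_centralizer_iff.mp hc _ hd'
  calc d * (n * c * n⁻¹) = n * ((n⁻¹ * d * n) * c) * n⁻¹ := by group
    _ = n * (c * (n⁻¹ * d * n)) * n⁻¹ := by rw [hcomm]
    _ = n * c * n⁻¹ * d := by group

theorem mem_normalizer_of_map_conj_eq {G : Type u} [Group G] (D : Subgroup G) (g : G)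
    (h : D.map (MulAut.conj g).toMonoidHom = D) : g ∈ Subgroup.normalizer (D : Set G) := by
  rw [Subgroup.mem_normalizer_iff]
  intro x
  constructor
  · intro hx
    rw [← h]
    exact ⟨x, hx, rfl⟩
  · intro hx
    rw [← h] at hx
    obtain ⟨d, hd, hdx⟩ := hx
    have h1 : g * d * g⁻¹ = g * x * g⁻¹ := hdx
    have h2 : d = g⁻¹ * (g * d * g⁻¹) * g := by group
    have h3 : x = d := by rw [h2, h1]; group
    rw [h3]; exact hd

theorem orderOf_conj' {G : Type u} [Group G] (g y : G) : orderOf (g * y * g⁻¹) = orderOf y := by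
  have := MulEquiv.orderOf_eq (MulAut.conj g) y
  simpa using this

theorem ti_property
    (hDR : D ≤ R) (hRc : IsCyclic R)
    (hSN : (S : Subgroup G) ≤ Subgroup.normalizer (D : Set G))
    (hSC : (S : Subgroup G) ⊓ Subgroup.centralizer (D : Set G) = R) :
    (∀ y : G, y ∈ Subgroup.centralizer (D : Set G) → Nat.card D ∣ orderOf y →
        D ≤ Subgroup.zpowers y) ∧
    (∀ g y : G, y ∈ Subgroup.centralizer (D : Set G) → Nat.card D ∣ orderOf y →
        g * y * g⁻¹ ∈ Subgroup.centralizer (D : Set G) → g ∈ Subgroup.normalizer (D : Set G)) ∧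
    (∀ g y : G, g ∈ Subgroup.normalizer (D : Set G) → y ∈ Subgroup.centralizer (D : Set G) →
        Nat.card D ∣ orderOf y →
        g * y * g⁻¹ ∈ Subgroup.centralizer (D : Set G) ∧ Nat.card D ∣ orderOf (g * y * g⁻¹)) := by
  have h1 := le_zpowers_of_card_dvd_orderOf S D R hDR hRc hSN hSC
  refine ⟨h1, ?_, ?_⟩
  · intro g y hy hdvd hgy
    have hD1 : D ≤ Subgroup.zpowers y := h1 y hy hdvd
    have hD2 : D ≤ Subgroup.zpowers (g * y * g⁻¹) := h1 _ hgy (by rwa [orderOf_conj'])
    -- `g⁻¹ D g ≤ ⟨y⟩`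
    have hD3 : D.map (MulAut.conj g⁻¹).toMonoidHom ≤ Subgroup.zpowers y := by
      rintro _ ⟨d, hd, rfl⟩
      obtain ⟨k, hk⟩ := Subgroup.mem_zpowers_iff.mp (hD2 hd)
      show g⁻¹ * d * g⁻¹⁻¹ ∈ _
      rw [← hk, inv_inv]
      have : g⁻¹ * (g * y * g⁻¹) ^ k * g = y ^ k := by
        rw [conj_zpow]; group
      rw [this]
      exact Subgroup.zpow_mem_zpowers y k
    have heq : D.map (MulAut.conj g⁻¹).toMonoidHom = D := by
      apply Cfsg.Agent.Helper23.eq_of_card_eq_of_isCyclic (Subgroup.zpowers y) inferInstance _ _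
        hD3 hD1
      exact Subgroup.card_map_of_injective (MulAut.conj g⁻¹).injective
    have hginv : g⁻¹ ∈ Subgroup.normalizer (D : Set G) :=
      mem_normalizer_of_map_conj_eq D g⁻¹ heq
    have := Subgroup.inv_mem _ hginv
    rwa [inv_inv] at this
  · intro g y hg hy hdvd
    exact ⟨conj_mem_centralizer_of_mem_normalizer D g y hg hy, by rwa [orderOf_conj']⟩

end

end Cfsg.Agent.Helper9
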