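import Mathlib
import Cfsg.Agent.Helper23.Basic
import Cfsg.Agent.Helper17.Basic
import Cfsg.Agent.Helper9.QuatTI

set_option autoImplicit false

namespace Cfsg.Agent.Helper9

open Subgroup

universe u

theorem q8_pow_four : ∀ x : QuaternionGroup 2, x ^ 4 = 1 := by decide

theorem q8_invol_unique : ∀ x y : QuaternionGroup 2,
    x ^ 2 = 1 → y ^ 2 = 1 → x ≠ 1 → y ≠ 1 → x = y := by decide

set_option maxRecDepth 100000 in
set_option synthInstance.maxSize 1000 in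
set_option synthInstance.maxHeartbeats 400000 in
theorem q8_six : ∀ x y z w : QuaternionGroup 2,
    (x ^ 2 ≠ 1 ∧ y ^ 2 ≠ 1 ∧ z ^ 2 ≠ 1 ∧ w ^ 2 ≠ 1 ∧ y ≠ x ∧ y ≠ x⁻¹ ∧ z ≠ x ∧ z ≠ x⁻¹ ∧
      z ≠ y ∧ z ≠ y⁻¹) →
    (w = x ∨ w = x⁻¹ ∨ w = y ∨ w = y⁻¹ ∨ w = z ∨ w = z⁻¹) := by decide

/-- An element of odd order normalizing a cyclic `2`-subgroup centralizes it. -/
theorem mem_centralizer_of_mem_normalizer_cyclic_two {G : Type u} [Group G] [Finite G]
    (Q : Subgroup G) (hcyc : IsCyclic Q) (hQ : IsPGroup 2 Q) (g : G)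
    (hg : g ∈ normalizer (Q : Set G)) (hodd : Nat.Coprime (orderOf g) 2) :
    g ∈ centralizer (Q : Set G) := by
  obtain ⟨k, hk⟩ := IsPGroup.iff_card.mp hQ
  have h1 : orderOf (Q.normalizerMonoidHom ⟨g, hg⟩) ∣ orderOf g := by
    have := orderOf_map_dvd Q.normalizerMonoidHom (⟨g, hg⟩ : normalizer (Q : Set G))
    rwa [Subgroup.orderOf_mk] at this
  have h2 : orderOf (Q.normalizerMonoidHom ⟨g, hg⟩) ∣ 2 ^ k := by
    have hc := IsCyclic.card_mulAut Q
    rw [hk] at hc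
    have h3 : orderOf (Q.normalizerMonoidHom ⟨g, hg⟩) ∣ Nat.card (MulAut Q) :=
      orderOf_dvd_natCard _
    rw [hc] at h3
    refine h3.trans ?_
    rcases Nat.eq_zero_or_pos k with rfl | hk0
    · simp
    · rw [Nat.totient_prime_pow Nat.prime_two hk0]
      simp only [Nat.add_one_sub_one, mul_one]
      exact pow_dvd_pow 2 (Nat.sub_le k 1)
  have h3 : orderOf (Q.normalizerMonoidHom ⟨g, hg⟩) = 1 :=
    Nat.Coprime.eq_one_of_dvd (Nat.Coprime.coprime_dvd_left h1 (hodd.pow_right k)) h2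
  have h4 : (⟨g, hg⟩ : normalizer (Q : Set G)) ∈ Q.normalizerMonoidHom.ker :=
    MonoidHom.mem_ker.mpr (orderOf_eq_one_iff.mp h3)
  rw [normalizerMonoidHom_ker, mem_subgroupOf] at h4
  exact h4

section Q8

variable {G : Type u} [Group G] (S : Subgroup G) (e : S ≃* QuaternionGroup 2)

include e

theorem q8sub_card : Nat.card S = 8 := by
  rw [Nat.card_congr e.toEquiv, Nat.card_eq_fintype_card, QuaternionGroup.card]

theorem q8sub_pow_four {u : G} (hu : u ∈ S) : u ^ 4 = 1 := by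
  have key := q8_pow_four (e ⟨u, hu⟩)
  rw [← map_pow, EmbeddingLike.map_eq_one_iff] at key
  have := congrArg Subtype.val key
  simpa using this

theorem q8sub_invol_unique {u v : G} (hu : u ∈ S) (hv : v ∈ S) (hu2 : u ^ 2 = 1) (hv2 : v ^ 2 = 1)
    (hu1 : u ≠ 1) (hv1 : v ≠ 1) : u = v := by
  have key := q8_invol_unique (e ⟨u, hu⟩) (e ⟨v, hv⟩)
  simp only [← map_pow, ne_eq, EmbeddingLike.map_eq_one_iff, EmbeddingLike.apply_eq_iff_eq,
    Subtype.ext_iff, Subgroup.coe_pow, Subgroup.coe_one] at key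
  exact key hu2 hv2 hu1 hv1

theorem q8sub_six {x y z w : G} (hx : x ∈ S) (hy : y ∈ S) (hz : z ∈ S) (hw : w ∈ S)
    (hx2 : x ^ 2 ≠ 1) (hy2 : y ^ 2 ≠ 1) (hz2 : z ^ 2 ≠ 1) (hw2 : w ^ 2 ≠ 1)
    (hyx : y ≠ x) (hyx' : y ≠ x⁻¹) (hzx : z ≠ x) (hzx' : z ≠ x⁻¹) (hzy : z ≠ y) (hzy' : z ≠ y⁻¹) :
    w = x ∨ w = x⁻¹ ∨ w = y ∨ w = y⁻¹ ∨ w = z ∨ w = z⁻¹ := by
  have key := q8_six (e ⟨x, hx⟩) (e ⟨y, hy⟩) (e ⟨z, hz⟩) (e ⟨w, hw⟩)
  simp only [← map_pow, ← map_inv, ne_eq, EmbeddingLike.map_eq_one_iff,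
    EmbeddingLike.apply_eq_iff_eq, Subtype.ext_iff, Subgroup.coe_pow, Subgroup.coe_inv,
    Subgroup.coe_one] at key
  exact key ⟨hx2, hy2, hz2, hw2, hyx, hyx', hzx, hzx', hzy, hzy'⟩

theorem q8sub_orderOf_eq_four {x : G} (hx : x ∈ S) (hx2 : x ^ 2 ≠ 1) : orderOf x = 4 := by
  have h4 := q8sub_pow_four S e hx
  have hd : orderOf x ∣ 2 ^ 2 := orderOf_dvd_of_pow_eq_one (by simpa using h4)
  obtain ⟨j, hj, hoj⟩ := (Nat.dvd_prime_pow Nat.prime_two).mp hd
  interval_cases j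
  · exfalso; apply hx2
    have : x = 1 := orderOf_eq_one_iff.mp (by simpa using hoj)
    rw [this, one_pow]
  · exfalso; apply hx2
    have := pow_orderOf_eq_one x
    rwa [hoj, pow_one] at this
  · simpa using hoj

theorem q8sub_exists_sq_ne_one [Finite G] (A : Subgroup G) (hA : A ≤ S) (hA4 : Nat.card A = 4) :
    ∃ x ∈ A, x ^ 2 ≠ 1 := by
  by_contra hcon
  push Not at hcon
  have hAne : A ≠ ⊥ := by
    intro h
    rw [h, Subgroup.card_bot] at hA4
    omega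
  obtain ⟨a, ha1⟩ := (Subgroup.ne_bot_iff_exists_ne_one).mp hAne
  have ha1' : (a : G) ≠ 1 := fun h => ha1 (Subtype.ext h)
  have hoa : orderOf (a : G) = 2 := orderOf_eq_prime (hcon a a.2) ha1'
  have hle : zpowers (a : G) ≤ A := zpowers_le.mpr a.2
  have hlt : zpowers (a : G) < A := by
    refine lt_of_le_of_ne hle ?_
    intro h
    have : Nat.card (zpowers (a : G)) = 4 := by rw [h]; exact hA4
    rw [Nat.card_zpowers, hoa] at this
    omega
  obtain ⟨b, hbA, hbz⟩ := SetLike.exists_of_lt hlt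
  have hb1 : b ≠ 1 := fun h => hbz (h ▸ one_mem _)
  have := q8sub_invol_unique S e (hA hbA) (hA a.2) (hcon b hbA) (hcon a a.2) hb1 ha1'
  exact hbz (this ▸ mem_zpowers (a : G))

theorem q8sub_zpowers_eq [Finite G] (A : Subgroup G) (hA : A ≤ S) (hA4 : Nat.card A = 4) {x : G}
    (hx : x ∈ A) (hx2 : x ^ 2 ≠ 1) : zpowers x = A := by
  apply Subgroup.eq_of_le_of_card_ge (zpowers_le.mpr hx)
  rw [Nat.card_zpowers, q8sub_orderOf_eq_four S e (hA hx) hx2, hA4]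

/-- A proper subgroup of a quaternion group of order 8 is cyclic. -/
theorem q8sub_isCyclic_of_ne [Finite G] (Q : Subgroup G) (hQ : Q ≤ S) (hne : Q ≠ S) :
    IsCyclic Q := by
  have hS8 := q8sub_card S e
  have hd : Nat.card Q ∣ 2 ^ 3 := by
    have := Subgroup.card_dvd_of_le hQ
    rwa [hS8] at this
  obtain ⟨j, hj, hoj⟩ := (Nat.dvd_prime_pow Nat.prime_two).mp hd
  interval_cases j
  · have : Q = ⊥ := Subgroup.card_eq_one.mp (by simpa using hoj)
    subst this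
    infer_instance
  · have : Fact (Nat.Prime 2) := ⟨Nat.prime_two⟩
    exact isCyclic_of_prime_card (p := 2) (by simpa using hoj)
  · have h4 : Nat.card Q = 4 := by simpa using hoj
    obtain ⟨x, hxQ, hx2⟩ := q8sub_exists_sq_ne_one S e Q hQ h4
    rw [← q8sub_zpowers_eq S e Q hQ h4 hxQ hx2]
    infer_instance
  · exfalso; apply hne
    apply Subgroup.eq_of_le_of_card_ge hQ
    rw [hS8, hoj]; norm_num

/-- An odd-order element normalizing `S ≅ Q₈` and a subgroup of order 4 of `S`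
centralizes `S`. -/
theorem q8sub_mem_centralizer [Finite G] (C : Subgroup G) (hC : C ≤ S) (hC4 : Nat.card C = 4)
    (h : G) (hS : h ∈ normalizer (S : Set G)) (hCn : h ∈ normalizer (C : Set G))
    (hodd : Nat.Coprime (orderOf h) 2) : h ∈ centralizer (S : Set G) := by
  have hS8 := q8sub_card S e
  obtain ⟨c, hcC, hc2⟩ := q8sub_exists_sq_ne_one S e C hC hC4
  have hCz := q8sub_zpowers_eq S e C hC hC4 hcC hc2
  have hCcyc : IsCyclic C := by rw [← hCz]; infer_instance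
  have hCp : IsPGroup 2 C := IsPGroup.of_card (n := 2) (by rw [hC4]; norm_num)
  have hcent := mem_centralizer_of_mem_normalizer_cyclic_two C hCcyc hCp h hCn hodd
  have hidx : (C.subgroupOf S).index = 2 := by
    have := Cfsg.Agent.Helper17.relIndex_mul_card_inf C S
    rw [inf_eq_left.mpr hC, hC4, hS8] at this
    show C.relIndex S = 2
    omega
  rw [Subgroup.mem_centralizer_iff]
  intro s hs
  have hs' : s ∈ S := hs
  have hcs : h * s * h⁻¹ ∈ S := (Subgroup.mem_normalizer_iff.mp hS s).mp hs'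
  have hzC : s * h * s⁻¹ * h⁻¹ ∈ C := by
    have h1 := Subgroup.mul_mem_iff_of_index_two hidx (a := (⟨s, hs'⟩ : S))
      (b := (⟨(h * s * h⁻¹)⁻¹, inv_mem hcs⟩ : S))
    rw [Subgroup.mem_subgroupOf, Subgroup.mem_subgroupOf, Subgroup.mem_subgroupOf] at h1
    have h2 : s * h * s⁻¹ * h⁻¹ = s * (h * s * h⁻¹)⁻¹ := by group
    rw [h2]
    refine h1.mpr ?_
    show s ∈ C ↔ (h * s * h⁻¹)⁻¹ ∈ C
    rw [inv_mem_iff]
    exact Subgroup.mem_normalizer_iff.mp hCn s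
  have hcomm : Commute (s * h * s⁻¹ * h⁻¹) h :=
    Subgroup.mem_centralizer_iff.mp hcent _ hzC
  have hcop : (orderOf h).Coprime (orderOf (s * h * s⁻¹ * h⁻¹)) := by
    have h4 := q8sub_pow_four S e (hC hzC)
    have hd : orderOf (s * h * s⁻¹ * h⁻¹) ∣ 2 ^ 2 := orderOf_dvd_of_pow_eq_one (by simpa using h4)
    exact Nat.Coprime.coprime_dvd_right hd (hodd.pow_right 2)
  have := Cfsg.Agent.Helper23.comm_eq_one_of_coprime s h hcomm hcop
  exact Cfsg.Agent.Helper23.commute_of_comm_eq_one s h this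

/-- Three pairwise distinct subgroups of order 4 of `S ≅ Q₈` exhaust the subgroups of order 4. -/
theorem q8sub_eq_of_three [Finite G] (A A₁ A₂ B : Subgroup G) (hA : A ≤ S) (hA₁ : A₁ ≤ S)
    (hA₂ : A₂ ≤ S) (hB : B ≤ S) (hA4 : Nat.card A = 4) (hA₁4 : Nat.card A₁ = 4)
    (hA₂4 : Nat.card A₂ = 4) (hB4 : Nat.card B = 4) (h01 : A₁ ≠ A) (h02 : A₂ ≠ A)
    (h12 : A₂ ≠ A₁) : B = A ∨ B = A₁ ∨ B = A₂ := by
  obtain ⟨x, hxA, hx2⟩ := q8sub_exists_sq_ne_one S e A hA hA4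
  obtain ⟨y, hyA, hy2⟩ := q8sub_exists_sq_ne_one S e A₁ hA₁ hA₁4
  obtain ⟨z, hzA, hz2⟩ := q8sub_exists_sq_ne_one S e A₂ hA₂ hA₂4
  obtain ⟨w, hwB, hw2⟩ := q8sub_exists_sq_ne_one S e B hB hB4
  have hxz := q8sub_zpowers_eq S e A hA hA4 hxA hx2
  have hyz := q8sub_zpowers_eq S e A₁ hA₁ hA₁4 hyA hy2
  have hzz := q8sub_zpowers_eq S e A₂ hA₂ hA₂4 hzA hz2
  have hwz := q8sub_zpowers_eq S e B hB hB4 hwB hw2
  have hyx : y ≠ x := by
    intro h; apply h01; rw [← hyz, ← hxz, h]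
  have hyx' : y ≠ x⁻¹ := by
    intro h; apply h01; rw [← hyz, ← hxz, h, zpowers_inv]
  have hzx : z ≠ x := by
    intro h; apply h02; rw [← hzz, ← hxz, h]
  have hzx' : z ≠ x⁻¹ := by
    intro h; apply h02; rw [← hzz, ← hxz, h, zpowers_inv]
  have hzy : z ≠ y := by
    intro h; apply h12; rw [← hzz, ← hyz, h]
  have hzy' : z ≠ y⁻¹ := by
    intro h; apply h12; rw [← hzz, ← hyz, h, zpowers_inv]
  rcases q8sub_six S e (hA hxA) (hA₁ hyA) (hA₂ hzA) (hB hwB) hx2 hy2 hz2 hw2 hyx hyx' hzx hzx'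
    hzy hzy' with h | h | h | h | h | h
  · left; rw [← hwz, ← hxz, h]
  · left; rw [← hwz, ← hxz, h, zpowers_inv]
  · right; left; rw [← hwz, ← hyz, h]
  · right; left; rw [← hwz, ← hyz, h, zpowers_inv]
  · right; right; rw [← hwz, ← hzz, h]
  · right; right; rw [← hwz, ← hzz, h, zpowers_inv]

end Q8

end Cfsg.Agent.Helper9
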