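import Mathlib
import Cfsg.Agent.Helper2.SL23

/-! Recognition of `SL(2,3)` as `Q₈ ⋊ C₃`. -/

set_option autoImplicit false

namespace Cfsg.Agent.Helper9

open QuaternionGroup Cfsg.Agent.Helper2.QLift Cfsg.Agent.Helper2.SL23

universe u

/-- The automorphism `σ` of order 3 of `Q₈`: `a 1 ↦ xa 0 ↦ a 1 * xa 0`. -/
def q8SigmaFun : QuaternionGroup 2 → QuaternionGroup 2
  | a i => (![a 0, xa 0, a 2, xa 2] : Fin 4 → QuaternionGroup 2) i
  | xa i => (![xa 3, a 3, xa 1, a 1] : Fin 4 → QuaternionGroup 2) i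

theorem q8SigmaFun_mul : ∀ p q : QuaternionGroup 2,
    q8SigmaFun (p * q) = q8SigmaFun p * q8SigmaFun q := by decide

theorem q8SigmaFun_cube : ∀ q : QuaternionGroup 2, q8SigmaFun (q8SigmaFun (q8SigmaFun q)) = q := by
  decide

def q8Sigma : MulAut (QuaternionGroup 2) where
  toFun := q8SigmaFun
  invFun q := q8SigmaFun (q8SigmaFun q)
  left_inv := q8SigmaFun_cube
  right_inv := q8SigmaFun_cube
  map_mul' := q8SigmaFun_mul

theorem q8Sigma_apply (q : QuaternionGroup 2) : q8Sigma q = q8SigmaFun q := rfl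

theorem q8Sigma_a : q8Sigma (a 1) = xa 0 := by decide

theorem q8Sigma_xa : q8Sigma (xa 0) = a 1 * xa 0 := by decide

theorem q8Sigma_pow_three : q8Sigma ^ 3 = 1 := by
  ext q
  exact q8SigmaFun_cube q

/-- `i ↦ c ^ i` as a homomorphism from `Multiplicative (ZMod 3)` when `c ^ 3 = 1`. -/
def powHom3 {M : Type*} [Monoid M] (c : M) (hc : c ^ 3 = 1) : Multiplicative (ZMod 3) →* M where
  toFun i := c ^ (Multiplicative.toAdd i).val
  map_one' := by simp
  map_mul' i j := by
    rw [toAdd_mul, ZMod.val_add, ← pow_add]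
    exact (pow_eq_pow_mod _ hc).symm

theorem powHom3_apply {M : Type*} [Monoid M] (c : M) (hc : c ^ 3 = 1)
    (i : Multiplicative (ZMod 3)) : powHom3 c hc i = c ^ (Multiplicative.toAdd i).val := rfl

/-- The semidirect product `Q₈ ⋊ C₃`. -/
abbrev Q8C3 := QuaternionGroup 2 ⋊[powHom3 q8Sigma q8Sigma_pow_three] Multiplicative (ZMod 3)

theorem card_Q8C3 : Nat.card Q8C3 = 24 := by
  rw [SemidirectProduct.card, Nat.card_eq_fintype_card, QuaternionGroup.card]
  simp [Nat.card_eq_fintype_card]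

/-- Two homomorphisms out of a quaternion group agreeing on the generators are equal. -/
theorem quaternion_hom_ext {n : ℕ} [NeZero n] {M : Type*} [Monoid M]
    (f g : QuaternionGroup n →* M) (ha : f (a 1) = g (a 1)) (hx : f (xa 0) = g (xa 0)) : f = g := by
  ext q
  rcases q with i | i
  · have : (a i : QuaternionGroup n) = a 1 ^ i.val := by rw [a_one_pow, ZMod.natCast_zmod_val]
    rw [this, map_pow, map_pow, ha]
  · have : (xa i : QuaternionGroup n) = xa 0 * a 1 ^ i.val := by
      rw [a_one_pow, ZMod.natCast_zmod_val, xa_mul_a, zero_add]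
    rw [this, map_mul, map_mul, map_pow, map_pow, ha, hx]

section lift

variable {X : Type u} [Group X] (f : QuaternionGroup 2 →* X) (c : X) (hc : c ^ 3 = 1)
  (hcompat : ∀ q, c * f q * c⁻¹ = f (q8Sigma q))

include hcompat in
theorem q8c3_compat_pow (k : ℕ) (q : QuaternionGroup 2) :
    f ((q8Sigma ^ k) q) = c ^ k * f q * (c ^ k)⁻¹ := by
  induction k with
  | zero => simp
  | succ k ih =>
    rw [pow_succ', MulAut.mul_apply, ← hcompat, ih, pow_succ']
    group

/-- The homomorphism `Q₈ ⋊ C₃ → X`. -/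
noncomputable def q8c3Lift : Q8C3 →* X :=
  SemidirectProduct.lift f (powHom3 c hc) (by
    intro i
    ext q
    simp only [MonoidHom.coe_comp, MulEquiv.coe_toMonoidHom, Function.comp_apply, powHom3_apply,
      MulAut.conj_apply]
    exact q8c3_compat_pow f c hcompat _ q)

theorem q8c3Lift_apply (x : Q8C3) :
    q8c3Lift f c hc hcompat x = f x.left * c ^ (Multiplicative.toAdd x.right).val := by
  conv_lhs => rw [← SemidirectProduct.inl_left_mul_inr_right x]
  rw [map_mul, q8c3Lift, SemidirectProduct.lift_inl, SemidirectProduct.lift_inr, powHom3_apply]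

include hc hcompat in
theorem q8c3Lift_injective
    (hinj : ∀ q (k : ℕ), k < 3 → f q * c ^ k = 1 → q = 1 ∧ k = 0) :
    Function.Injective (q8c3Lift f c hc hcompat) := by
  rw [injective_iff_map_eq_one]
  intro x hx
  rw [q8c3Lift_apply] at hx
  obtain ⟨h1, h2⟩ := hinj _ _ (ZMod.val_lt _) hx
  ext
  · exact h1
  · have h3 : Multiplicative.toAdd x.right = 0 := (ZMod.val_eq_zero _).mp h2
    exact h3

include hc hcompat in
theorem nonempty_mulEquiv_q8c3_of_card [Finite X]
    (hinj : ∀ q (k : ℕ), k < 3 → f q * c ^ k = 1 → q = 1 ∧ k = 0) (hcard : Nat.card X = 24) :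
    Nonempty (Q8C3 ≃* X) := by
  have h1 := q8c3Lift_injective f c hc hcompat hinj
  have : Finite Q8C3 := Nat.finite_of_card_ne_zero (by rw [card_Q8C3]; norm_num)
  have hb : Function.Bijective (q8c3Lift f c hc hcompat) :=
    (Nat.bijective_iff_injective_and_card _).mpr ⟨h1, by rw [card_Q8C3, hcard]⟩
  exact ⟨MulEquiv.ofBijective _ hb⟩

include hc hcompat in
theorem nonempty_mulEquiv_q8c3_of_surj
    (hinj : ∀ q (k : ℕ), k < 3 → f q * c ^ k = 1 → q = 1 ∧ k = 0)
    (hsurj : ∀ x : X, ∃ q, ∃ k : ℤ, x = f q * c ^ k) :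
    Nonempty (Q8C3 ≃* X) := by
  have h1 := q8c3Lift_injective f c hc hcompat hinj
  have h2 : Function.Surjective (q8c3Lift f c hc hcompat) := by
    intro x
    obtain ⟨q, k, rfl⟩ := hsurj x
    refine ⟨⟨q, Multiplicative.ofAdd ((k : ZMod 3))⟩, ?_⟩
    rw [q8c3Lift_apply]
    show f q * c ^ ((k : ZMod 3)).val = f q * c ^ k
    congr 1
    have hc' : c ^ (3 : ℤ) = 1 := by exact_mod_cast hc
    rw [zpow_eq_zpow_emod k hc', ← zpow_natCast, ZMod.val_intCast]
    norm_num
  exact ⟨MulEquiv.ofBijective _ ⟨h1, h2⟩⟩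

end lift

/-! ### `SL(2,3)` -/

def C3 : G3 := ⟨!![0, 1; -1, -1], by decide⟩

theorem card_G3 : Nat.card G3 = 24 := by
  have h := Q3.card_mul_index
  rw [card_Q3, Q3_index] at h
  omega

theorem nonempty_mulEquiv_q8c3_G3 : Nonempty (Q8C3 ≃* G3) := by
  have hc : C3 ^ 3 = 1 := by decide
  have hcompat : ∀ q, C3 * quaternionLift 2 A3 B3 hA hB hAB q * C3⁻¹
      = quaternionLift 2 A3 B3 hA hB hAB (q8Sigma q) := by
    have h : (MulAut.conj C3).toMonoidHom.comp (quaternionLift 2 A3 B3 hA hB hAB)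
        = (quaternionLift 2 A3 B3 hA hB hAB).comp q8Sigma.toMonoidHom := by
      apply quaternion_hom_ext
      · simp only [MonoidHom.coe_comp, MulEquiv.coe_toMonoidHom, Function.comp_apply,
          MulAut.conj_apply, q8Sigma_a]
        rw [quaternionLift_xa, zp_zero, mul_one, quaternionLift_a]
        have := zp_natCast 2 A3 hA 1
        rw [Nat.cast_one, pow_one] at this
        rw [this]
        decide
      · simp only [MonoidHom.coe_comp, MulEquiv.coe_toMonoidHom, Function.comp_apply,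
          MulAut.conj_apply, q8Sigma_xa]
        rw [map_mul, quaternionLift_xa, zp_zero, mul_one, quaternionLift_a]
        have := zp_natCast 2 A3 hA 1
        rw [Nat.cast_one, pow_one] at this
        rw [this]
        decide
    intro q
    exact DFunLike.congr_fun h q
  refine nonempty_mulEquiv_q8c3_of_card _ C3 hc hcompat ?_ card_G3
  intro q k hk hq
  have hmem : C3 ^ k ∈ Q3 := by
    have h1 : C3 ^ k = (quaternionLift 2 A3 B3 hA hB hAB q)⁻¹ := eq_inv_of_mul_eq_one_right hq
    rw [h1]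
    exact inv_mem ⟨q, rfl⟩
  have h8 : (C3 ^ k) ^ 8 = 1 := by
    have := pow_card_eq_one' (G := Q3) (x := ⟨C3 ^ k, hmem⟩)
    rw [card_Q3] at this
    have := congrArg Subtype.val this
    simpa using this
  have hk0 : k = 0 := by
    interval_cases k
    · rfl
    · exfalso; revert h8; decide
    · exfalso; revert h8; decide
  subst hk0
  refine ⟨?_, rfl⟩
  rw [pow_zero, mul_one] at hq
  exact lift_injective (hq.trans (map_one _).symm)

end Cfsg.Agent.Helper9
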