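import Mathlib
import Cfsg.Agent.Helper9.SL23Recog
import Cfsg.Agent.Helper9.Q8Sylow
import Cfsg.Agent.Helper9.QuatBasic
import Cfsg.Agent.Helper14.StrongEmb3
import Cfsg.Agent.Helper1.UniqueOrderP
import Cfsg.Agent.Helper16.AutTwoGroup

/-! A subgroup `Q` of a generalized quaternion 2-group admitting an odd-order element that
normalizes but does not centralize it is `Q₈`, and then `Q⟨g⟩ / C_{⟨g⟩}(Q) ≅ Q₈ ⋊ C₃ ≅ SL(2,3)`. -/

set_option autoImplicit false

namespace Cfsg.Agent.Helper9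

open Subgroup QuaternionGroup Cfsg.Agent.Helper2.QLift

universe u

theorem mem_of_mul_self_mem_of_odd {G : Type u} [Group G] (C : Subgroup G) (g : G)
    (hodd : Nat.Coprime (orderOf g) 2) (h : g * g ∈ C) : g ∈ C := by
  have hoddg : Odd (orderOf g) := by
    rcases Nat.even_or_odd (orderOf g) with he | ho
    · exfalso
      have h2 : 2 ∣ orderOf g := he.two_dvd
      have := Nat.Coprime.eq_one_of_dvd (Nat.Coprime.symm hodd) h2
      omega
    · exact ho
  obtain ⟨m, hm⟩ := hoddg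
  have hg : g = (g * g) ^ (m + 1) := by
    rw [← sq, ← pow_mul]
    have : 2 * (m + 1) = orderOf g + 1 := by omega
    rw [this, pow_succ, pow_orderOf_eq_one, one_mul]
  rw [hg]
  exact pow_mem h _

theorem coprime_orderOf_mul_self {G : Type u} [Group G] (g : G)
    (hodd : Nat.Coprime (orderOf g) 2) : Nat.Coprime (orderOf (g * g)) 2 := by
  have hd : orderOf (g * g) ∣ orderOf g := by
    rw [← sq]; exact orderOf_pow_dvd 2
  exact Nat.Coprime.coprime_dvd_left hd hodd

/-- An odd-order element normalizing a subgroup whose automorphism group is a 2-group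
centralizes it. -/
theorem mem_centralizer_of_isPGroup_mulAut {G : Type u} [Group G]
    (Q : Subgroup G) (hA : IsPGroup 2 (MulAut Q)) (g : G)
    (hg : g ∈ normalizer (Q : Set G)) (hodd : Nat.Coprime (orderOf g) 2) :
    g ∈ centralizer (Q : Set G) := by
  obtain ⟨k, hk⟩ := hA (Q.normalizerMonoidHom ⟨g, hg⟩)
  have h1 : orderOf (Q.normalizerMonoidHom ⟨g, hg⟩) ∣ orderOf g := by
    have := orderOf_map_dvd Q.normalizerMonoidHom (⟨g, hg⟩ : normalizer (Q : Set G))
    rwa [Subgroup.orderOf_mk] at this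
  have h2 : orderOf (Q.normalizerMonoidHom ⟨g, hg⟩) ∣ 2 ^ k := orderOf_dvd_of_pow_eq_one hk
  have h3 : orderOf (Q.normalizerMonoidHom ⟨g, hg⟩) = 1 :=
    Nat.Coprime.eq_one_of_dvd (Nat.Coprime.coprime_dvd_left h1 (hodd.pow_right k)) h2
  have h4 : (⟨g, hg⟩ : normalizer (Q : Set G)) ∈ Q.normalizerMonoidHom.ker :=
    MonoidHom.mem_ker.mpr (orderOf_eq_one_iff.mp h3)
  rw [normalizerMonoidHom_ker, mem_subgroupOf] at h4
  exact h4

/-- The automorphism group of a generalized quaternion group of order at least 16 is a 2-group. -/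
theorem isPGroup_mulAut_quaternion (m : ℕ) (hm : 2 ≤ m) :
    IsPGroup 2 (MulAut (QuaternionGroup (2 ^ m))) := by
  have : NeZero (2 ^ m) := ⟨by positivity⟩
  refine Cfsg.Agent.Helper16.isPGroup_mulAut_of_index_two (a 1) (m + 1) (by omega) ?_ ?_ ?_
  · rw [orderOf_a_one, pow_succ']
  · rw [← quatRot_eq_zpowers]; exact quatRot_index _
  · intro g hg
    rw [← quatRot_eq_zpowers] at hg
    rcases g with i | i
    · exact absurd ⟨i, rfl⟩ hg
    · rw [orderOf_xa]
      intro h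
      have h4 : (4 : ℕ) = 2 ^ 2 := by norm_num
      rw [h4] at h
      have := Nat.pow_right_injective (le_refl 2) h
      omega

section reduction

variable {G : Type u} [Group G] [Finite G]

/-- A subgroup of a generalized quaternion group with an odd-order element acting
nontrivially on it is quaternion of order 8. -/
theorem nonempty_mulEquiv_q8_of_quaternion (T : Subgroup G) (hT : IsPGroup 2 T) (n : ℕ)
    (e : T ≃* QuaternionGroup (2 ^ n)) (Q : Subgroup G) (hQT : Q ≤ T) (g : G)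
    (hgN : g ∈ normalizer (Q : Set G)) (hodd : Nat.Coprime (orderOf g) 2)
    (hgC : g ∉ centralizer (Q : Set G)) : Nonempty (Q ≃* QuaternionGroup 2) := by
  have : Fact (Nat.Prime 2) := ⟨Nat.prime_two⟩
  have hU := Cfsg.Agent.Helper14.uniqueOmega_of_quaternion (p := 2) T hT (2 ^ n) e
  have hQ2 : IsPGroup 2 Q := hT.to_le hQT
  have hUQ : Cfsg.Agent.Helper1.UniqP 2 ↥Q := by
    intro H₁ H₂ h₁ h₂
    have key : ∀ H₁ H₂ : Subgroup Q, Nat.card H₁ = 2 → Nat.card H₂ = 2 → H₁ ≤ H₂ := by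
      intro H₁ H₂ h₁ h₂ x hx
      have hx2 : x ^ 2 = 1 := by
        have := pow_card_eq_one' (G := H₁) (x := ⟨x, hx⟩)
        rw [h₁] at this
        have := congrArg Subtype.val this
        simpa using this
      have hx2' : (x : G) ^ 2 = 1 := by
        have := congrArg Subtype.val hx2
        simpa using this
      have hne : H₂.map Q.subtype ≠ ⊥ := by
        intro h
        have hc : Nat.card (H₂.map Q.subtype) = 2 := by
          rw [Subgroup.card_map_of_injective Q.subtype_injective, h₂]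
        rw [h, Subgroup.card_bot] at hc
        omega
      have hle : H₂.map Q.subtype ≤ T := by
        rintro _ ⟨y, _, rfl⟩
        exact hQT y.2
      obtain ⟨y, hy, hyx⟩ := hU (x : G) (hQT x.2) hx2' _ hle hne
      have : y = x := Subtype.ext hyx
      rwa [← this]
    exact le_antisymm (key H₁ H₂ h₁ h₂) (key H₂ H₁ h₂ h₁)
  rcases Cfsg.Agent.Helper1.UniqP.cyclic_or_quaternion 2 hQ2 hUQ with hc | ⟨_, m, ⟨eQ⟩⟩
  · exact absurd (mem_centralizer_of_mem_normalizer_cyclic_two Q hc hQ2 g hgN hodd) hgC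
  · rcases Nat.lt_or_ge m 2 with hm | hm
    · interval_cases m
      · exfalso
        have h1 : (2 : ℕ) ^ 0 = 1 := pow_zero 2
        rw [h1] at eQ
        have hc : IsCyclic Q := by
          have := quaternionGroup_one_isCyclic
          exact isCyclic_of_surjective eQ.symm eQ.symm.surjective
        exact hgC (mem_centralizer_of_mem_normalizer_cyclic_two Q hc hQ2 g hgN hodd)
      · have h1 : (2 : ℕ) ^ 1 = 2 := pow_one 2
        rw [h1] at eQ
        exact ⟨eQ⟩
    · exfalso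
      have hA : IsPGroup 2 (MulAut Q) :=
        (isPGroup_mulAut_quaternion m hm).of_equiv (MulAut.congr eQ).symm
      exact hgC (mem_centralizer_of_isPGroup_mulAut Q hA g hgN hodd)

end reduction

theorem q8_rel : ∀ x y : QuaternionGroup 2, (x ^ 2 ≠ 1 ∧ y ^ 2 ≠ 1 ∧ y ≠ x ∧ y ≠ x⁻¹) →
    (y * y = x ^ 2 ∧ y * x * y⁻¹ = x⁻¹) := by decide

set_option maxRecDepth 100000 in
set_option synthInstance.maxSize 1000 in
set_option synthInstance.maxHeartbeats 400000 in
theorem q8_third : ∀ x y z : QuaternionGroup 2,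
    (x ^ 2 ≠ 1 ∧ y ^ 2 ≠ 1 ∧ z ^ 2 ≠ 1 ∧ y ≠ x ∧ y ≠ x⁻¹ ∧ z ≠ x ∧ z ≠ x⁻¹ ∧ z ≠ y ∧ z ≠ y⁻¹) →
    (z = x * y ∨ z = y * x) := by decide

section main

variable {G : Type u} [Group G] (Q : Subgroup G) (eQ : Q ≃* QuaternionGroup 2)

include eQ

theorem q8sub_rel {x y : G} (hx : x ∈ Q) (hy : y ∈ Q) (hx2 : x ^ 2 ≠ 1) (hy2 : y ^ 2 ≠ 1)
    (hyx : y ≠ x) (hyx' : y ≠ x⁻¹) : y * y = x ^ 2 ∧ y * x * y⁻¹ = x⁻¹ := by
  have key := q8_rel (eQ ⟨x, hx⟩) (eQ ⟨y, hy⟩)
  simp only [← map_pow, ← map_inv, ← map_mul, ne_eq, EmbeddingLike.map_eq_one_iff,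
    EmbeddingLike.apply_eq_iff_eq, Subtype.ext_iff, Subgroup.coe_pow, Subgroup.coe_inv,
    Subgroup.coe_mul, Subgroup.coe_one] at key
  exact key ⟨hx2, hy2, hyx, hyx'⟩

theorem q8sub_third {x y z : G} (hx : x ∈ Q) (hy : y ∈ Q) (hz : z ∈ Q) (hx2 : x ^ 2 ≠ 1)
    (hy2 : y ^ 2 ≠ 1) (hz2 : z ^ 2 ≠ 1) (hyx : y ≠ x) (hyx' : y ≠ x⁻¹) (hzx : z ≠ x)
    (hzx' : z ≠ x⁻¹) (hzy : z ≠ y) (hzy' : z ≠ y⁻¹) : z = x * y ∨ z = y * x := by
  have key := q8_third (eQ ⟨x, hx⟩) (eQ ⟨y, hy⟩) (eQ ⟨z, hz⟩)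
  simp only [← map_pow, ← map_inv, ← map_mul, ne_eq, EmbeddingLike.map_eq_one_iff,
    EmbeddingLike.apply_eq_iff_eq, Subtype.ext_iff, Subgroup.coe_pow, Subgroup.coe_inv,
    Subgroup.coe_mul, Subgroup.coe_one] at key
  exact key ⟨hx2, hy2, hz2, hyx, hyx', hzx, hzx', hzy, hzy'⟩

theorem q8sub_exists_order_four : ∃ x ∈ Q, x ^ 2 ≠ 1 := by
  refine ⟨(eQ.symm (a 1) : G), (eQ.symm (a 1)).2, ?_⟩
  intro h
  have h1 : (eQ.symm (a 1)) ^ 2 = 1 := Subtype.ext (by simpa using h)
  rw [← map_pow, EmbeddingLike.map_eq_one_iff] at h1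
  revert h1
  decide

variable [Finite G]

/-- an odd-order element of `N(Q) \ C(Q)` moves every element of order 4 of `Q ≅ Q₈`
away from itself and its inverse -/
theorem q8sub_conj_ne {u : G} (hu : u ∈ Q) (hu2 : u ^ 2 ≠ 1) (n : G)
    (hn : n ∈ normalizer (Q : Set G)) (hodd : Nat.Coprime (orderOf n) 2)
    (hnC : n ∉ centralizer (Q : Set G)) : n * u * n⁻¹ ≠ u ∧ n * u * n⁻¹ ≠ u⁻¹ := by
  have ho := q8sub_orderOf_eq_four Q eQ hu hu2
  have hcard : Nat.card (zpowers u) = 4 := by rw [Nat.card_zpowers, ho]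
  have hle : zpowers u ≤ Q := zpowers_le.mpr hu
  have hmap : (zpowers u).map (MulAut.conj n).toMonoidHom = zpowers (n * u * n⁻¹) := by
    rw [MonoidHom.map_zpowers]
    rfl
  have key : zpowers (n * u * n⁻¹) ≠ zpowers u := by
    intro h
    rw [← hmap] at h
    exact hnC (q8sub_mem_centralizer Q eQ (zpowers u) hle hcard n hn
      (mem_normalizer_of_map_conj_eq _ n h) hodd)
  constructor
  · intro h; apply key; rw [h]
  · intro h; apply key; rw [h, zpowers_inv]

/-- adapted generators -/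
theorem q8sub_exists_adapted (g : G) (hgN : g ∈ normalizer (Q : Set G))
    (hodd : Nat.Coprime (orderOf g) 2) (hgC : g ∉ centralizer (Q : Set G)) :
    ∃ x y : G, x ∈ Q ∧ y ∈ Q ∧ x ^ 2 ≠ 1 ∧ y * y = x ^ 2 ∧ y * x * y⁻¹ = x⁻¹ ∧
      g * x * g⁻¹ = y ∧ g * y * g⁻¹ = x * y := by
  obtain ⟨x, hx, hx2⟩ := q8sub_exists_order_four Q eQ
  have hconjQ : ∀ u ∈ Q, g * u * g⁻¹ ∈ Q := fun u hu => (mem_normalizer_iff.mp hgN u).mp hu
  have hconj2 : ∀ u : G, u ^ 2 ≠ 1 → (g * u * g⁻¹) ^ 2 ≠ 1 := by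
    intro u hu h
    apply hu
    rw [conj_pow] at h
    have : u ^ 2 = g⁻¹ * (g * u ^ 2 * g⁻¹) * g := by group
    rw [this, h]; group
  set y := g * x * g⁻¹ with hy
  set z := g * y * g⁻¹ with hz
  have hyQ : y ∈ Q := hconjQ x hx
  have hzQ : z ∈ Q := hconjQ y hyQ
  have hy2 : y ^ 2 ≠ 1 := hconj2 x hx2
  have hz2 : z ^ 2 ≠ 1 := hconj2 y hy2
  obtain ⟨hyx, hyx'⟩ := q8sub_conj_ne Q eQ hx hx2 g hgN hodd hgC
  obtain ⟨hzy, hzy'⟩ := q8sub_conj_ne Q eQ hyQ hy2 g hgN hodd hgC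
  have hggC : g * g ∉ centralizer (Q : Set G) := fun h =>
    hgC (mem_of_mul_self_mem_of_odd _ g hodd h)
  obtain ⟨hzx, hzx'⟩ := q8sub_conj_ne Q eQ hx hx2 (g * g) (mul_mem hgN hgN)
    (coprime_orderOf_mul_self g hodd) hggC
  have hzgg : g * g * x * (g * g)⁻¹ = z := by rw [hz, hy]; group
  rw [hzgg] at hzx hzx'
  obtain ⟨hyy, hyxy⟩ := q8sub_rel Q eQ hx hyQ hx2 hy2 hyx hyx'
  rcases q8sub_third Q eQ hx hyQ hzQ hx2 hy2 hz2 hyx hyx' hzx hzx' hzy hzy' with h | h
  · exact ⟨x, y, hx, hyQ, hx2, hyy, hyxy, rfl, h⟩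
  · refine ⟨x⁻¹, y⁻¹, inv_mem hx, inv_mem hyQ, ?_, ?_, ?_, ?_, ?_⟩
    · rw [inv_pow]; exact inv_ne_one.mpr hx2
    · rw [inv_pow, ← hyy]; group
    · rw [inv_inv, inv_inv]
      have : x = y⁻¹ * (y * x * y⁻¹)⁻¹⁻¹ * y := by group
      rw [hyxy] at this
      rw [inv_inv] at this
      exact this.symm
    · rw [hy]; group
    · have : g * y⁻¹ * g⁻¹ = z⁻¹ := by rw [hz]; group
      rw [this, h]; group

omit eQ [Finite G] in
/-- every element of `Q ⊔ ⟨g⟩` is `q * g ^ i` -/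
theorem exists_mul_zpow_of_mem_sup (g : G) (hgN : g ∈ normalizer (Q : Set G)) (h : G)
    (hh : h ∈ Q ⊔ zpowers g) : ∃ u ∈ Q, ∃ i : ℤ, h = u * g ^ i := by
  have hN : ∀ i : ℤ, g ^ i ∈ normalizer (Q : Set G) := fun i => zpow_mem hgN i
  rw [sup_eq_closure] at hh
  induction hh using Subgroup.closure_induction with
  | mem w hw =>
    rcases hw with hw | hw
    · exact ⟨w, hw, 0, by simp⟩
    · obtain ⟨i, rfl⟩ := mem_zpowers_iff.mp hw
      exact ⟨1, one_mem _, i, by simp⟩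
  | one => exact ⟨1, one_mem _, 0, by simp⟩
  | mul a b _ _ iha ihb =>
    obtain ⟨u, hu, i, rfl⟩ := iha
    obtain ⟨v, hv, j, rfl⟩ := ihb
    refine ⟨u * (g ^ i * v * (g ^ i)⁻¹), mul_mem hu ((mem_normalizer_iff.mp (hN i) v).mp hv),
      i + j, ?_⟩
    rw [zpow_add]; group
  | inv a _ iha =>
    obtain ⟨u, hu, i, rfl⟩ := iha
    refine ⟨g ^ (-i) * u⁻¹ * (g ^ (-i))⁻¹,
      (mem_normalizer_iff.mp (hN (-i)) _).mp (inv_mem hu), -i, ?_⟩
    group

theorem exists_section_q8c3 (g : G) (hgN : g ∈ normalizer (Q : Set G))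
    (hodd : Nat.Coprime (orderOf g) 2) (hgC : g ∉ centralizer (Q : Set G)) :
    ∃ (H K : Subgroup G) (_hK : (K.subgroupOf H).Normal),
      Nonempty (Q8C3 ≃* (H ⧸ K.subgroupOf H)) := by
  classical
  obtain ⟨x, y, hx, hy, hx2, hyy, hyxy, hgx, hgy⟩ := q8sub_exists_adapted Q eQ g hgN hodd hgC
  have hx4 : x ^ (2 * 2) = 1 := q8sub_pow_four Q eQ hx
  have hox : orderOf x = 2 * 2 := q8sub_orderOf_eq_four Q eQ hx hx2
  have hynz : y ∉ zpowers x := not_mem_zpowers_of_sq_ne x y hyxy hx2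
  set f := quaternionLift 2 x y hx4 hyy hyxy with hf
  have hfinj : Function.Injective f := quaternionLift_injective 2 x y hx4 hyy hyxy hox hynz
  have hfa : f (a 1) = x := by
    rw [hf, quaternionLift_a]
    have := zp_natCast 2 x hx4 1
    rwa [Nat.cast_one, pow_one] at this
  have hfxa : f (xa 0) = y := by
    rw [hf, quaternionLift_xa, zp_zero, mul_one]
  have hrange : f.range = Q := by
    apply Subgroup.eq_of_le_of_card_ge (range_le 2 x y hx4 hyy hyxy Q hx hy)
    rw [q8sub_card Q eQ, ← Nat.card_congr (MonoidHom.ofInjective hfinj).toEquiv,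
      Nat.card_eq_fintype_card, QuaternionGroup.card]
  have hfQ : ∀ q, f q ∈ Q := fun q => hrange ▸ (⟨q, rfl⟩ : f q ∈ f.range)
  have hcompat : ∀ q, g * f q * g⁻¹ = f (q8Sigma q) := by
    have h : (MulAut.conj g).toMonoidHom.comp f = f.comp q8Sigma.toMonoidHom := by
      apply quaternion_hom_ext
      · simp only [MonoidHom.coe_comp, MulEquiv.coe_toMonoidHom, Function.comp_apply,
          MulAut.conj_apply, q8Sigma_a]
        rw [hfa, hfxa, hgx]
      · simp only [MonoidHom.coe_comp, MulEquiv.coe_toMonoidHom, Function.comp_apply,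
          MulAut.conj_apply, q8Sigma_xa]
        rw [map_mul, hfa, hfxa, hgy]
    intro q
    exact DFunLike.congr_fun h q
  -- `g ^ 3` centralizes `Q`
  have hg3 : g ^ 3 ∈ centralizer (Q : Set G) := by
    rw [mem_centralizer_iff]
    intro u hu
    have hu' : u ∈ f.range := by rw [hrange]; exact hu
    obtain ⟨q, rfl⟩ := hu'
    have := q8c3_compat_pow f g hcompat 3 q
    rw [q8Sigma_pow_three, MulAut.one_apply] at this
    calc f q * g ^ 3 = (g ^ 3 * f q * (g ^ 3)⁻¹) * g ^ 3 := by rw [← this]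
      _ = g ^ 3 * f q := by group
  set H := Q ⊔ zpowers g with hH
  set K := centralizer (Q : Set G) ⊓ zpowers g with hKdef
  have hQH : Q ≤ H := le_sup_left
  have hgH : g ∈ H := (le_sup_right : zpowers g ≤ H) (mem_zpowers g)
  have hKH : K ≤ H := inf_le_right.trans le_sup_right
  have hnorm : H ≤ normalizer (K : Set G) := by
    rw [hH]
    apply sup_le
    · intro u hu
      rw [mem_normalizer_iff]
      intro k
      have hk : k ∈ K → u * k * u⁻¹ = k := by
        intro hk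
        have := mem_centralizer_iff.mp hk.1 u hu
        rw [this]; group
      constructor
      · intro hk'; rw [hk hk']; exact hk'
      · intro hk'
        have h1 : k = u⁻¹ * (u * k * u⁻¹) * u := by group
        have h2 := mem_centralizer_iff.mp hk'.1 u⁻¹ (inv_mem hu)
        have h3 : u⁻¹ * (u * k * u⁻¹) * u = u * k * u⁻¹ := by
          rw [h2]; group
        rw [h1, h3]; exact hk'
    · rw [zpowers_le]
      rw [mem_normalizer_iff]
      intro k
      have hk : k ∈ zpowers g → g * k * g⁻¹ = k := by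
        intro hk
        obtain ⟨i, rfl⟩ := mem_zpowers_iff.mp hk
        group
      constructor
      · intro hk'; rw [hk hk'.2]; exact hk'
      · intro hk'
        have h1 : k ∈ zpowers g := by
          have h2 := hk'.2
          have h3 : k = g⁻¹ * (g * k * g⁻¹) * g := by group
          rw [h3]
          exact mul_mem (mul_mem (inv_mem (mem_zpowers g)) h2) (mem_zpowers g)
        rw [hk h1] at hk'; exact hk'
  have hK : (K.subgroupOf H).Normal := (normal_subgroupOf_iff_le_normalizer hKH).mpr hnorm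
  refine ⟨H, K, hK, ?_⟩
  -- the data in the quotient
  set fH : QuaternionGroup 2 →* H := f.codRestrict H (fun q => hQH (hfQ q)) with hfH
  set fX : QuaternionGroup 2 →* (H ⧸ K.subgroupOf H) :=
    (QuotientGroup.mk' (K.subgroupOf H)).comp fH with hfX
  set c : H ⧸ K.subgroupOf H := QuotientGroup.mk' (K.subgroupOf H) ⟨g, hgH⟩ with hc
  have hc3 : c ^ 3 = 1 := by
    rw [hc, ← map_pow, QuotientGroup.mk'_apply, QuotientGroup.eq_one_iff, mem_subgroupOf]
    show g ^ 3 ∈ K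
    exact ⟨hg3, pow_mem (mem_zpowers g) 3⟩
  have hcompatX : ∀ q, c * fX q * c⁻¹ = fX (q8Sigma q) := by
    intro q
    rw [hc, hfX, MonoidHom.comp_apply, MonoidHom.comp_apply, ← map_inv, ← map_mul, ← map_mul]
    congr 1
    apply Subtype.ext
    exact hcompat q
  have hdisj : Q ⊓ zpowers g = ⊥ := by
    apply (Subgroup.disjoint_of_coprime_natCard ?_).eq_bot
    rw [q8sub_card Q eQ, Nat.card_zpowers]
    have : (8 : ℕ) = 2 ^ 3 := by norm_num
    rw [this]
    exact (hodd.pow_right 3).symm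
  have hinj : ∀ q (k : ℕ), k < 3 → fX q * c ^ k = 1 → q = 1 ∧ k = 0 := by
    intro q k hk hq
    rw [hc, hfX, MonoidHom.comp_apply, ← map_pow, ← map_mul, QuotientGroup.mk'_apply,
      QuotientGroup.eq_one_iff, mem_subgroupOf] at hq
    have hq' : f q * g ^ k ∈ K := hq
    have h1 : f q ∈ zpowers g := by
      have h2 : f q = (f q * g ^ k) * (g ^ k)⁻¹ := by group
      rw [h2]
      exact mul_mem hq'.2 (inv_mem (pow_mem (mem_zpowers g) k))
    have h2 : f q ∈ Q ⊓ zpowers g := ⟨hfQ q, h1⟩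
    rw [hdisj, mem_bot] at h2
    have hq1 : q = 1 := hfinj (h2.trans (map_one f).symm)
    rw [h2, one_mul] at hq'
    refine ⟨hq1, ?_⟩
    interval_cases k
    · rfl
    · exfalso; apply hgC; simpa using hq'.1
    · exfalso; apply hgC
      apply mem_of_mul_self_mem_of_odd _ g hodd
      have := hq'.1
      rwa [sq] at this
  have hsurj : ∀ ξ : H ⧸ K.subgroupOf H, ∃ q, ∃ k : ℤ, ξ = fX q * c ^ k := by
    intro ξ
    obtain ⟨⟨h, hh⟩, rfl⟩ := QuotientGroup.mk'_surjective (K.subgroupOf H) ξ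
    obtain ⟨u, hu, i, hui⟩ := exists_mul_zpow_of_mem_sup Q g hgN h hh
    have hu' : u ∈ f.range := by rw [hrange]; exact hu
    obtain ⟨q, hq⟩ := hu'
    refine ⟨q, i, ?_⟩
    rw [hc, hfX, MonoidHom.comp_apply, ← map_zpow, ← map_mul]
    congr 1
    apply Subtype.ext
    show h = f q * (g ^ i)
    rw [hq, hui]
  exact nonempty_mulEquiv_q8c3_of_surj fX c hc3 hcompatX hinj hsurj

end main

end Cfsg.Agent.Helper9
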