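import Mathlib

set_option autoImplicit false

namespace Cfsg.Agent.Helper9

open Subgroup
open scoped commutatorElement

universe u v

theorem finite_monoidHom (B : Type u) (Z : Type v) [Group B] [Group Z] [Finite B] [Finite Z] :
    Finite (B →* Z) :=
  Finite.of_injective (fun f => (f : B → Z)) DFunLike.coe_injective

/-- A finite group has at most `|B|` homomorphisms into a group of prime order. -/
theorem card_monoidHom_le_aux (Z : Type v) [Group Z] {p : ℕ} [Fact p.Prime] (hZ : Nat.card Z = p) :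
    ∀ (n : ℕ) (B : Type u) [Group B] [Finite B], Nat.card B = n →
      Nat.card (B →* Z) ≤ Nat.card B := by
  have hp : p.Prime := Fact.out
  have hZfin : Finite Z := Nat.finite_of_card_ne_zero (by rw [hZ]; exact hp.ne_zero)
  intro n
  induction n using Nat.strong_induction_on with
  | _ n ih =>
  intro B _ _ hn
  have hfin : Finite (B →* Z) := finite_monoidHom B Z
  by_cases h : ∃ χ : B →* Z, χ ≠ 1
  · obtain ⟨χ₀, hχ₀⟩ := h
    obtain ⟨b₀, hb₀⟩ : ∃ b₀ : B, χ₀ b₀ ≠ 1 := by
      by_contra hcon
      push Not at hcon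
      exact hχ₀ (MonoidHom.ext hcon)
    have hrange : χ₀.range = ⊤ := by
      have : Fact (Nat.card Z).Prime := ⟨by rw [hZ]; exact hp⟩
      rcases Subgroup.eq_bot_or_eq_top_of_prime_card χ₀.range with h1 | h1
      · exfalso
        have : χ₀ b₀ ∈ χ₀.range := ⟨b₀, rfl⟩
        rw [h1, Subgroup.mem_bot] at this
        exact hb₀ this
      · exact h1
    have hindex : χ₀.ker.index = p := by
      rw [Subgroup.index_ker, hrange, Subgroup.card_top, hZ]
    have hb₀K : b₀ ∉ χ₀.ker := fun h => hb₀ (MonoidHom.mem_ker.mp h)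
    have hcardK : Nat.card χ₀.ker * p = Nat.card B := by
      rw [← hindex]; exact Subgroup.card_mul_index χ₀.ker
    have hKlt : Nat.card χ₀.ker < n := by
      rw [← hn, ← hcardK]
      have : 0 < Nat.card χ₀.ker := Nat.card_pos
      have := hp.two_le
      nlinarith
    have hK := ih _ hKlt χ₀.ker rfl
    -- the injection
    have hfinK : Finite (χ₀.ker →* Z) := finite_monoidHom _ Z
    have hinj : Function.Injective
        (fun χ : B →* Z => ((χ.comp χ₀.ker.subtype, χ b₀) : (χ₀.ker →* Z) × Z)) := by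
      intro χ χ' hχ
      simp only [Prod.mk.injEq] at hχ
      obtain ⟨h1, h2⟩ := hχ
      have hle : χ₀.ker ≤ MonoidHom.eqLocus χ χ' := by
        intro k hk
        have := DFunLike.congr_fun h1 ⟨k, hk⟩
        exact this
      have hb : b₀ ∈ MonoidHom.eqLocus χ χ' := h2
      have htop : MonoidHom.eqLocus χ χ' = ⊤ := by
        have h3 := Subgroup.relIndex_mul_index hle
        rw [hindex] at h3
        have h4 : (MonoidHom.eqLocus χ χ').index ∣ p := Dvd.intro_left _ h3
        rcases (Nat.dvd_prime hp).mp h4 with h5 | h5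
        · exact Subgroup.index_eq_one.mp h5
        · exfalso
          rw [h5] at h3
          have h6 : χ₀.ker.relIndex (MonoidHom.eqLocus χ χ') = 1 := by
            have := hp.pos
            nlinarith
          exact hb₀K (Subgroup.relIndex_eq_one.mp h6 hb)
      ext b
      have : b ∈ MonoidHom.eqLocus χ χ' := by rw [htop]; exact Subgroup.mem_top b
      exact this
    calc Nat.card (B →* Z) ≤ Nat.card ((χ₀.ker →* Z) × Z) := Nat.card_le_card_of_injective _ hinj
      _ = Nat.card (χ₀.ker →* Z) * p := by rw [Nat.card_prod, hZ]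
      _ ≤ Nat.card χ₀.ker * p := Nat.mul_le_mul_right _ hK
      _ = Nat.card B := hcardK
  · push Not at h
    have : Subsingleton (B →* Z) := ⟨fun a b => by rw [h a, h b]⟩
    have h1 : Nat.card (B →* Z) ≤ 1 := Finite.card_le_one_iff_subsingleton.mpr this
    have h2 : 0 < Nat.card B := Nat.card_pos
    omega

/-- A finite group has at most `|B|` homomorphisms into a group of prime order. -/
theorem card_monoidHom_le (B : Type u) (Z : Type v) [Group B] [Finite B] [Group Z] {p : ℕ}
    [Fact p.Prime] (hZ : Nat.card Z = p) : Nat.card (B →* Z) ≤ Nat.card B :=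
  card_monoidHom_le_aux Z hZ _ B rfl

/-- There are at most `|B : N|` homomorphisms from `B` into a group of prime order which are trivial
on the normal subgroup `N`. -/
theorem card_monoidHom_killing_le (B : Type u) (Z : Type v) [Group B] [Finite B] [Group Z] {p : ℕ}
    [Fact p.Prime] (hZ : Nat.card Z = p) (N : Subgroup B) [N.Normal] :
    Nat.card {χ : B →* Z // N ≤ χ.ker} ≤ N.index := by
  have hp : p.Prime := Fact.out
  have hZfin : Finite Z := Nat.finite_of_card_ne_zero (by rw [hZ]; exact hp.ne_zero)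
  have hfin : Finite ((B ⧸ N) →* Z) := finite_monoidHom _ Z
  have hinj : Function.Injective
      (fun χ : {χ : B →* Z // N ≤ χ.ker} => QuotientGroup.lift N χ.1 χ.2) := by
    intro χ χ' h
    apply Subtype.ext
    ext b
    have := DFunLike.congr_fun h (b : B ⧸ N)
    simpa using this
  calc Nat.card {χ : B →* Z // N ≤ χ.ker} ≤ Nat.card ((B ⧸ N) →* Z) :=
        Nat.card_le_card_of_injective _ hinj
    _ ≤ Nat.card (B ⧸ N) := card_monoidHom_le _ Z hZ
    _ = N.index := rfl

/-- The pairing lemma: if all commutators `[a, b]`, `a ∈ A`, `b ∈ B`, lie in a subgroup `Z` of prime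
order centralized by `A` and `B`, then `|A : C_A(B)| ≤ |B : C_B(A)|`. -/
theorem relIndex_centralizer_le {G : Type u} [Group G] [Finite G] {p : ℕ} [Fact p.Prime]
    (Z A B : Subgroup G) (hZ : Nat.card Z = p)
    (hAZ : A ≤ Subgroup.centralizer (Z : Set G)) (hBZ : B ≤ Subgroup.centralizer (Z : Set G))
    (hAB : ∀ a ∈ A, ∀ b ∈ B, ⁅a, b⁆ ∈ Z) :
    (Subgroup.centralizer (B : Set G)).relIndex A ≤ (Subgroup.centralizer (A : Set G)).relIndex B := by
  classical
  have hcyc : IsCyclic Z := isCyclic_of_prime_card hZ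
  letI : CommGroup Z := IsCyclic.commGroup
  -- conjugation by elements of `A`, `B` fixes `Z`
  have hconjA : ∀ a ∈ A, ∀ z ∈ Z, a * z * a⁻¹ = z := by
    intro a ha z hz
    have := hAZ ha z hz
    rw [← this, mul_assoc, mul_inv_cancel, mul_one]
  have hconjB : ∀ b ∈ B, ∀ z ∈ Z, b * z * b⁻¹ = z := by
    intro b hb z hz
    have := hBZ hb z hz
    rw [← this, mul_assoc, mul_inv_cancel, mul_one]
  let χ : A → (B →* Z) := fun a =>
    MonoidHom.mk' (fun b => ⟨⁅(a : G), (b : G)⁆, hAB a a.2 b b.2⟩) (by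
      intro b b'
      apply Subtype.ext
      show ⁅(a : G), (b : G) * (b' : G)⁆ = ⁅(a : G), (b : G)⁆ * ⁅(a : G), (b' : G)⁆
      have e1 : ⁅(a : G), (b : G) * (b' : G)⁆ =
          ⁅(a : G), (b : G)⁆ * ((b : G) * ⁅(a : G), (b' : G)⁆ * (b : G)⁻¹) := by
        simp only [commutatorElement_def]; group
      rw [e1, hconjB b b.2 _ (hAB a a.2 b' b'.2)])
  have hχ : ∀ (a : A) (b : B), ((χ a b : Z) : G) = ⁅(a : G), (b : G)⁆ := fun a b => rfl
  let Ψ : A →* (B →* Z) := MonoidHom.mk' χ (by
    intro a a'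
    ext b
    rw [MonoidHom.mul_apply, Subgroup.coe_mul, hχ, hχ, hχ]
    show ⁅(a : G) * (a' : G), (b : G)⁆ = ⁅(a : G), (b : G)⁆ * ⁅(a' : G), (b : G)⁆
    have e1 : ⁅(a : G) * (a' : G), (b : G)⁆ =
        ((a : G) * ⁅(a' : G), (b : G)⁆ * (a : G)⁻¹) * ⁅(a : G), (b : G)⁆ := by
      simp only [commutatorElement_def]; group
    rw [e1, hconjA a a.2 _ (hAB a' a'.2 b b.2)]
    have := mul_comm (χ a' b) (χ a b)
    have := congrArg Subtype.val this
    simpa [hχ] using this)
  have hΨ : ∀ (a : A) (b : B), ((Ψ a b : Z) : G) = ⁅(a : G), (b : G)⁆ := fun a b => rfl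
  have hker : Ψ.ker = (Subgroup.centralizer (B : Set G)).subgroupOf A := by
    ext a
    rw [MonoidHom.mem_ker, Subgroup.mem_subgroupOf, Subgroup.mem_centralizer_iff_commutator_eq_one']
    constructor
    · intro h b hb
      have := DFunLike.congr_fun h ⟨b, hb⟩
      have := congrArg Subtype.val this
      simpa [hΨ] using this
    · intro h
      ext b
      rw [hΨ]
      simpa using h b b.2
  -- normality of `C_B(A)` in `B`
  have hNn : ((Subgroup.centralizer (A : Set G)).subgroupOf B).Normal := by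
    constructor
    intro n hn b
    rw [Subgroup.mem_subgroupOf] at hn ⊢
    rw [Subgroup.mem_centralizer_iff_commutator_eq_one]
    intro a ha
    have h1 : χ ⟨a, ha⟩ n = 1 := by
      apply Subtype.ext
      rw [hχ]
      exact (Subgroup.mem_centralizer_iff_commutator_eq_one.mp hn) a ha
    have h2 : χ ⟨a, ha⟩ (b * n * b⁻¹) = 1 := by
      rw [map_mul, map_mul, h1, mul_one, ← map_mul, mul_inv_cancel, map_one]
    have h3 : ((χ ⟨a, ha⟩ (b * n * b⁻¹) : Z) : G) = 1 := by rw [h2]; rfl
    rw [hχ] at h3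
    exact h3
  have hfin : Finite (B →* Z) := by
    have hZfin : Finite Z := inferInstance
    exact finite_monoidHom _ Z
  have hsub : (Ψ.range : Set (B →* Z)) ⊆
      {χ : B →* Z | (Subgroup.centralizer (A : Set G)).subgroupOf B ≤ χ.ker} := by
    rintro _ ⟨a, rfl⟩
    intro n hn
    rw [Subgroup.mem_subgroupOf] at hn
    rw [MonoidHom.mem_ker]
    apply Subtype.ext
    rw [hΨ]
    exact (Subgroup.mem_centralizer_iff_commutator_eq_one.mp hn) a a.2
  calc (Subgroup.centralizer (B : Set G)).relIndex A = Ψ.ker.index := by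
        rw [hker]; rfl
    _ = Nat.card Ψ.range := Subgroup.index_ker Ψ
    _ ≤ Nat.card {χ : B →* Z | (Subgroup.centralizer (A : Set G)).subgroupOf B ≤ χ.ker} :=
        Nat.card_mono (Set.toFinite _) hsub
    _ ≤ ((Subgroup.centralizer (A : Set G)).subgroupOf B).index :=
        card_monoidHom_killing_le B Z hZ _
    _ = (Subgroup.centralizer (A : Set G)).relIndex B := rfl

/-- The pairing lemma, symmetric form. -/
theorem relIndex_centralizer_eq {G : Type u} [Group G] [Finite G] {p : ℕ} [Fact p.Prime]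
    (Z A B : Subgroup G) (hZ : Nat.card Z = p)
    (hAZ : A ≤ Subgroup.centralizer (Z : Set G)) (hBZ : B ≤ Subgroup.centralizer (Z : Set G))
    (hAB : ∀ a ∈ A, ∀ b ∈ B, ⁅a, b⁆ ∈ Z) :
    (Subgroup.centralizer (B : Set G)).relIndex A = (Subgroup.centralizer (A : Set G)).relIndex B := by
  apply le_antisymm (relIndex_centralizer_le Z A B hZ hAZ hBZ hAB)
  apply relIndex_centralizer_le Z B A hZ hBZ hAZ
  intro b hb a ha
  have := Z.inv_mem (hAB a ha b hb)
  rwa [commutatorElement_inv] at this

end Cfsg.Agent.Helper9
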