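import Mathlib
import Cfsg.Prelude.Def_OddOrderLocal
import Cfsg.Agent.Helper9.BG12e
import Cfsg.Agent.Lead.PiHall
import Cfsg.Agent.Helper17.Basic

set_option autoImplicit false
set_option linter.unusedSectionVars false
set_option linter.unusedVariables false
set_option linter.style.haveILetI false

/-! # general lemmas for B&G 12.16: `σ`-subgroups of `M`, complements as Hall subgroups,
Sylow subgroups of nilpotent (normal) subgroups -/

namespace Cfsg.Agent.H9.BG12

open Subgroup Cfsg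
open Cfsg.Agent.Helper14 (IsSylowIn cj map_cj_le_iff map_cj_mul map_cj_one map_cj_normalizer
  mem_normalizer_iff_map_cj map_cj_eq_self_of_mem le_normalizer_of_map_cj_le mem_map_cj
  exists_isSylowIn_ge exists_isSylowIn isSylowIn_of_sylow)
open Cfsg.Agent.Helper21.BG10 (Ctl101 Uniq96)

universe u
variable {G : Type u} [Group G] [Finite G]

/-- a subgroup `K ≤ M` of order coprime to `|M : N|`, `N ≤ M` normalized by `M`, lies in `N`
(ambient version) -/
theorem le_of_coprime_card_relIndex {K N M : Subgroup G} (hKM : K ≤ M) (hNM : N ≤ M)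
    (hn : M ≤ normalizer (N : Set G)) (h : (Nat.card K).Coprime (N.relIndex M)) : K ≤ N := by
  haveI : (N.subgroupOf M).Normal :=
    (Subgroup.normal_subgroupOf_iff_le_normalizer hNM).mpr hn
  have h1 : Nat.card (K.subgroupOf M) = Nat.card K :=
    Nat.card_congr (Subgroup.subgroupOfEquivOfLe hKM).toEquiv
  have h2 : K.subgroupOf M ≤ N.subgroupOf M := by
    apply le_of_coprime_card_index
    rw [h1]; exact h
  intro x hx
  exact h2 (show (⟨x, hKM hx⟩ : ↥M) ∈ K.subgroupOf M from hx)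

/-- a `σ(M)`-subgroup of `M` lies in `M_σ` -/
theorem le_sigmaCore_of_sigma (h1350 : St1350 G) {M : Subgroup G} (hM : IsCoatom M)
    {Y : Subgroup G} (hYM : Y ≤ M)
    (hY : ∀ p : ℕ, p.Prime → p ∣ Nat.card Y → p ∈ Cfsg.sigma M) : Y ≤ Cfsg.sigmaCore M := by
  obtain ⟨⟨hle, hπ, hidx⟩, -, -⟩ := h1350 M hM
  apply le_of_coprime_card_relIndex hYM hle (le_normalizer_sigmaCore M)
  apply Nat.coprime_of_dvd
  intro k hk hk1 hk2
  exact hidx k hk (hY k hk hk1) hk2

/-- a `q`-subgroup of `M`, `q ∈ σ(M)`, lies in `M_σ` -/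
theorem le_sigmaCore_of_isPGroup (h1350 : St1350 G) {M : Subgroup G} (hM : IsCoatom M)
    {q : ℕ} [Fact q.Prime] (hq : q ∈ Cfsg.sigma M) {Y : Subgroup G} (hYM : Y ≤ M)
    (hY : IsPGroup q Y) : Y ≤ Cfsg.sigmaCore M := by
  apply le_sigmaCore_of_sigma h1350 hM hYM
  intro p hp hd
  obtain ⟨k, hk⟩ := IsPGroup.iff_card.mp hY
  rw [hk] at hd
  have := (Nat.prime_dvd_prime_iff_eq hp (Fact.out : q.Prime)).mp (hp.dvd_of_dvd_pow hd)
  rw [this]; exact hq

/-- cardinalities for a complement -/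
theorem card_mul_of_isComplIn {A B M : Subgroup G} (h : Cfsg.IsComplIn A B M) :
    Nat.card A * Nat.card B = Nat.card M := by
  have h1 := (isComplement'_subgroupOf h).card_mul_card
  rw [Nat.card_congr (Subgroup.subgroupOfEquivOfLe h.1).toEquiv,
    Nat.card_congr (Subgroup.subgroupOfEquivOfLe h.2.1).toEquiv] at h1
  exact h1

/-- a complement `E` to `M_σ` in `M` is a Hall `σ(M)'`-subgroup of `M` -/
theorem isPiHallOf_compl (h1350 : St1350 G) {M : Subgroup G} (hM : IsCoatom M) {E : Subgroup G}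
    (hE : Cfsg.IsComplIn E (Cfsg.sigmaCore M) M) :
    Cfsg.IsPiHallOf (Cfsg.sigma M)ᶜ E M := by
  obtain ⟨⟨hle, hπ, hidx⟩, -, -⟩ := h1350 M hM
  have hcard := card_mul_of_isComplIn hE
  have h1 : E.relIndex M * Nat.card E = Nat.card M := Cfsg.Agent.Lead.relIndex_mul_card' hE.1
  have h2 : (Cfsg.sigmaCore M).relIndex M * Nat.card (Cfsg.sigmaCore M) = Nat.card M :=
    Cfsg.Agent.Lead.relIndex_mul_card' hle
  have hE0 : 0 < Nat.card E := Nat.card_pos
  have hS0 : 0 < Nat.card (Cfsg.sigmaCore M) := Nat.card_pos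
  have h3 : E.relIndex M = Nat.card (Cfsg.sigmaCore M) := by
    have : E.relIndex M * Nat.card E = Nat.card (Cfsg.sigmaCore M) * Nat.card E := by
      rw [h1, ← hcard, mul_comm]
    exact Nat.eq_of_mul_eq_mul_right hE0 this
  have h4 : (Cfsg.sigmaCore M).relIndex M = Nat.card E := by
    have : (Cfsg.sigmaCore M).relIndex M * Nat.card (Cfsg.sigmaCore M) =
        Nat.card E * Nat.card (Cfsg.sigmaCore M) := by
      rw [h2, ← hcard]
    exact Nat.eq_of_mul_eq_mul_right hS0 this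
  refine ⟨hE.1, ?_, ?_⟩
  · intro p hp hd hpσ
    exact hidx p hp hpσ (h4 ▸ hd)
  · intro p hp hpσ hd
    exact hpσ (hπ p hp (h3 ▸ hd))

/-- a nilpotent subgroup normalizes its Sylow subgroups -/
theorem le_normalizer_of_isSylowIn_nilpotent {D S : Subgroup G} {p : ℕ} [Fact p.Prime]
    (hD : Group.IsNilpotent D) (hS : IsSylowIn p S D) : D ≤ normalizer (S : Set G) := by
  have hall : ∀ (p : ℕ) (_hp : Fact p.Prime) (P : Sylow p ↥D), (↑P : Subgroup ↥D).Normal :=
    ((Group.isNilpotent_of_finite_tfae (G := ↥D)).out 0 3).mp hD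
  have hn : ((hS.toSylow : Sylow p ↥D) : Subgroup ↥D).Normal := hall p inferInstance hS.toSylow
  apply le_normalizer_of_map_cj_le
  intro d hd
  rintro _ ⟨x, hx, rfl⟩
  have hxD : x ∈ D := hS.1 hx
  have h1 : (⟨x, hxD⟩ : ↥D) ∈ ((hS.toSylow : Sylow p ↥D) : Subgroup ↥D) :=
    Subgroup.mem_subgroupOf.mpr hx
  have h2 := hn.conj_mem _ h1 ⟨d, hd⟩
  have h3 := Subgroup.mem_subgroupOf.mp h2
  simpa using h3

/-- Sylow subgroups of a nilpotent subgroup `N` normalized by `M` are normalized by `M` -/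
theorem le_normalizer_sylow_of_nilpotent {M N T : Subgroup G} {p : ℕ} [Fact p.Prime]
    (hN : Group.IsNilpotent N) (hMN : M ≤ normalizer (N : Set G)) (hT : IsSylowIn p T N) :
    M ≤ normalizer (T : Set G) := by
  apply le_normalizer_of_map_cj_le
  intro m hm
  have h1 : IsSylowIn p (T.map (cj m)) (N.map (cj m)) := hT.map_cj m
  rw [mem_normalizer_iff_map_cj.mp (hMN hm)] at h1
  obtain ⟨s, hs, hs2⟩ := hT.exists_conj h1
  rw [hs2]
  have h2 := le_normalizer_of_isSylowIn_nilpotent hN hT hs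
  rw [mem_normalizer_iff_map_cj.mp h2]

end Cfsg.Agent.H9.BG12
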