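import Mathlib
import Cfsg.Prelude.Def_OddOrderLocal
import Cfsg.Agent.Helper9.BG12f
import Cfsg.Agent.Helper4.BG10f
import Cfsg.Agent.Lead.TT7

set_option autoImplicit false
set_option linter.unusedSectionVars false
set_option linter.unusedVariables false
set_option linter.style.haveILetI false

/-! # B&G Corollary 12.16 (= S1425): preparations -/

namespace Cfsg.Agent.H9.BG12

open Subgroup Cfsg
open Cfsg.Agent.Helper14 (IsSylowIn cj map_cj_le_iff map_cj_mul map_cj_one map_cj_normalizer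
  mem_normalizer_iff_map_cj map_cj_eq_self_of_mem le_normalizer_of_map_cj_le mem_map_cj
  exists_isSylowIn_ge exists_isSylowIn isSylowIn_of_sylow)
open Cfsg.Agent.Helper21.BG10 (Ctl101 Uniq96)
open Cfsg.Agent.Helper4.BG10 (Uniq)
open Cfsg.Agent.Lead (IsPiNum)
open scoped Pointwise

universe u

/-- frozen statement S1414 -/
def St1414 (G : Type u) [Group G] : Prop :=
  ∀ M : Subgroup G, IsCoatom M →
    Cfsg.IsPiHallOf (Cfsg.beta M) (Cfsg.piCoreOf (Cfsg.beta M) M) M ∧ Cfsg.IsPiHall (Cfsg.beta M) (Cfsg.piCoreOf (Cfsg.beta M) M) ∧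
      (∃ H : Subgroup G, Cfsg.IsPiHallOf {q | q.Prime ∧ q ∉ Cfsg.beta M} H ⁅M, M⁆ ∧ Group.IsNilpotent H) ∧
      (∃ H : Subgroup G, Cfsg.IsPiHallOf {q | q.Prime ∧ q ∉ Cfsg.beta M} H (Cfsg.sigmaCore M) ∧ Group.IsNilpotent H) ∧
      ∀ p : ℕ, p.Prime → p ∣ Nat.card M → p ∉ Cfsg.beta M →
        Cfsg.HasNormalPComplement p ↥⁅M, M⁆ ∧ Cfsg.HasNormalPComplement p ↥(Cfsg.sigmaCore M) ∧
        ∀ q : ℕ, q.Prime → q ∣ (Cfsg.pPrimeCore p ↥M).index → q ≤ p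

/-- frozen statement S1417 -/
def St1417 (G : Type u) [Group G] : Prop :=
  ∀ M : Subgroup G, IsCoatom M → ∀ (p : ℕ) [Fact p.Prime], p ∈ Cfsg.tau2 M → ∀ A : Subgroup G,
    (A ≤ M ∧ Cfsg.IsElementaryAbelian p A ∧ Nat.card A = p ^ 2) →
    Group.IsNilpotent (Cfsg.sigmaCore M) ∧
      (∀ P : Sylow p M, IsMulCommutative (P : Subgroup M) ∧
        (A ≤ (P : Subgroup M).map M.subtype →
          (∀ x ∈ (P : Subgroup M).map M.subtype, x ^ p = 1 ↔ x ∈ A) ∧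
          ¬ Subgroup.normalizer ((((P : Subgroup M).map M.subtype : Subgroup G)) : Set G) ≤ M)) ∧
      M ≤ Subgroup.normalizer ((Cfsg.sigmaCore M ⊔ A : Subgroup G) : Set G) ∧
      Cfsg.sigmaCore M ⊓ Subgroup.centralizer (A : Set G) = ⊥ ∧
      (∀ Mstar : Subgroup G, IsCoatom Mstar → Mstar ≠ M → A ≤ Mstar → Cfsg.sigmaCore M ⊓ Mstar = ⊥) ∧
      ∃ A₁ : Subgroup G, A₁ ≤ A ∧ Nat.card A₁ = p ∧ Cfsg.sigmaCore M ⊓ Subgroup.centralizer (A₁ : Set G) = ⊥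

/-- frozen statement S1418 -/
def St1418 (G : Type u) [Group G] : Prop :=
  ∀ M : Subgroup G, IsCoatom M → ∀ E : Subgroup G, Cfsg.IsComplIn E (Cfsg.sigmaCore M) M →
    ∀ (p : ℕ) [Fact p.Prime], p ∈ Cfsg.tau2 M → ∀ A : Subgroup G,
    (A ≤ E ∧ Cfsg.IsElementaryAbelian p A ∧ Nat.card A = p ^ 2) →
    (E ≤ Subgroup.normalizer (A : Set G) ∧ ∀ X : Subgroup G, X ≤ E → Nat.card X = p → X ≤ A) ∧
      (Subgroup.centralizer (A : Set G) ≤ M ⊓ Subgroup.normalizer (A : Set G) ∧ M ⊓ Subgroup.normalizer (A : Set G) = E ∧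
        ¬ Subgroup.normalizer (A : Set G) ≤ M) ∧
      ∀ X : Subgroup G, X ≤ A → Nat.card X = p → Cfsg.sigmaCore M ⊓ Subgroup.centralizer (X : Set G) ≠ ⊥ → (Subgroup.centralizer (X : Set G) ≤ M ∧ ∀ L : Subgroup G, IsCoatom L → Subgroup.centralizer (X : Set G) ≤ L → L = M)

variable {G : Type u} [Group G] [Finite G]

theorem smul_eq_map_cj (g : G) (H : Subgroup G) : MulAut.conj g • H = H.map (cj g) := rfl

/-- Hall: a `π`-subgroup of a solvable subgroup `L` is `L`-conjugate into any subgroup of `L`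
containing a Hall `π`-subgroup of `L`. -/
theorem exists_conj_le_of_hall {L H₁ Y : Subgroup G} (hsolv : Group.IsSolvable L) {π : Set ℕ}
    (hH₁ : Cfsg.IsPiHallOf π H₁ L) (hYL : Y ≤ L) (hY : IsPiNum π (Nat.card Y)) :
    ∃ m ∈ L, Y.map (cj m) ≤ H₁ := by
  obtain ⟨H₂, hH₂, hYH₂⟩ := Cfsg.Agent.Lead.exists_isPiHallOf_ge hsolv hYL hY
  obtain ⟨g, hg, hgH⟩ := Cfsg.Agent.Lead.isPiHallOf_trans hsolv hH₂ hH₁
  refine ⟨g, hg, ?_⟩
  rw [← hgH, smul_eq_map_cj]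
  exact Subgroup.map_mono hYH₂

/-- a prime in `σ(M) ∩ σ(L)` whose Sylow subgroup in `L` is normal in `L` forces `L` to be a
conjugate of `M` -/
theorem conj_of_normal_sylow (hG : Cfsg.IsMinSimpleOddOrder G) {M L : Subgroup G}
    (hM : IsCoatom M) (hL : IsCoatom L) {t : ℕ} [Fact t.Prime] (htM : t ∈ Cfsg.sigma M)
    (htL : t ∈ Cfsg.sigma L) {T : Subgroup G} (hT : IsSylowIn t T L)
    (hLT : L ≤ normalizer (T : Set G)) : ∃ g : G, L = M.map (cj g) := by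
  have hS : IsSimpleGroup G := hG.2.1
  have hTtop := Cfsg.Agent.Helper4.BG10.sigma_isSylowIn_top htL hT
  have hT1 := Cfsg.Agent.Helper4.BG10.sigma_ne_bot htL hT
  have hTt : T ≠ ⊤ := fun h => hL.1 (top_le_iff.mp (h ▸ hT.1))
  obtain ⟨P, hP⟩ := exists_isSylowIn (p := t) M
  have hPtop := Cfsg.Agent.Helper4.BG10.sigma_isSylowIn_top htM hP
  have hNP := Cfsg.Agent.Helper4.BG10.sigma_normalizer_le htM hP
  obtain ⟨g, -, hg⟩ := hPtop.exists_conj hTtop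
  refine ⟨g, ?_⟩
  have h1 : normalizer (T : Set G) ≤ M.map (cj g) := by
    rw [hg, ← map_cj_normalizer]
    exact Subgroup.map_mono hNP
  have h2 : L ≤ M.map (cj g) := hLT.trans h1
  have h3 := Cfsg.Agent.Lead.BG9.isCoatom_map_cj hM g
  rcases eq_or_lt_of_le h2 with h | h
  · exact h
  · exact absurd (hL.2 _ h) h3.1

/-- primes of `β(L)` are not in `σ(M)` when `L` is not conjugate to `M` -/
theorem not_mem_sigma_of_mem_beta (hG : Cfsg.IsMinSimpleOddOrder G) (hU : Uniq G)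
    {M L : Subgroup G} (hM : IsCoatom M) (hL : IsCoatom L) (ha : ∀ g : G, L ≠ M.map (cj g))
    {t : ℕ} (ht : t ∈ Cfsg.beta L) : t ∉ Cfsg.sigma M := by
  intro htM
  haveI : Fact t.Prime := ⟨ht.1.1⟩
  obtain ⟨F, hFL, hFe, hFcard⟩ :=
    Cfsg.Agent.Lead.TT.exists_elementary_of_not_pRankLE' 2 L ht.1.2
  have hFU := Cfsg.Agent.Helper4.BG10.uniq_of_cube hG hU hFe hFcard
  obtain ⟨P, hP⟩ := exists_isSylowIn (p := t) M
  have hPtop := Cfsg.Agent.Helper4.BG10.sigma_isSylowIn_top htM hP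
  have hFp := Cfsg.Agent.Helper4.BG10.isPGroup_of_elementary hFe
  obtain ⟨T', hT', hFT'⟩ := exists_isSylowIn_ge (le_top : F ≤ ⊤) hFp
  obtain ⟨g, -, hg⟩ := hPtop.exists_conj hT'
  have h1 : F ≤ M.map (cj g) := by
    calc F ≤ T' := hFT'
      _ = P.map (cj g) := hg
      _ ≤ M.map (cj g) := Subgroup.map_mono hP.1
  have h3 := Cfsg.Agent.Lead.BG9.isCoatom_map_cj hM g
  exact ha g (hFU.unique ⟨hL, hFL⟩ ⟨h3, h1⟩)

end Cfsg.Agent.H9.BG12
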