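import Mathlib
import Cfsg.Prelude.Def_OddOrderLocal
import Cfsg.Agent.Helper9.BG12g

set_option autoImplicit false
set_option linter.unusedSectionVars false
set_option linter.unusedVariables false
set_option linter.style.haveILetI false

/-! # B&G Corollary 12.16 (= S1425): the case `q ∈ σ(M*)` (12.15(d)) -/

namespace Cfsg.Agent.H9.BG12

open Subgroup Cfsg
open Cfsg.Agent.Helper14 (IsSylowIn cj map_cj_le_iff map_cj_mul map_cj_one map_cj_normalizer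
  mem_normalizer_iff_map_cj map_cj_eq_self_of_mem le_normalizer_of_map_cj_le mem_map_cj
  exists_isSylowIn_ge exists_isSylowIn isSylowIn_of_sylow)
open Cfsg.Agent.Helper21.BG10 (Ctl101 Uniq96)
open Cfsg.Agent.Helper4.BG10 (Uniq)
open Cfsg.Agent.Lead (IsPiNum)
open scoped Pointwise

universe u
variable {G : Type u} [Group G] [Finite G]

theorem solvable_of_le_coatom (hG : Cfsg.IsMinSimpleOddOrder G) {L K : Subgroup G}
    (hL : IsCoatom L) (hKL : K ≤ L) : Group.IsSolvable K :=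
  hG.2.2.2 K (fun h => hL.1 (top_le_iff.mp (h ▸ hKL)))

/-- a `p`-group is a `π`-group if `p ∈ π` -/
theorem isPiNum_of_isPGroup {π : Set ℕ} {q : ℕ} [Fact q.Prime] (hq : q ∈ π) {S : Subgroup G}
    (hS : IsPGroup q S) : IsPiNum π (Nat.card S) := by
  intro r hr hd
  obtain ⟨k, hk⟩ := IsPGroup.iff_card.mp hS
  rw [hk] at hd
  have := (Nat.prime_dvd_prime_iff_eq hr (Fact.out : q.Prime)).mp (hr.dvd_of_dvd_pow hd)
  rw [this]; exact hq

/-- Frattini argument in ambient form -/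
theorem le_sup_normalizer_of_isSylowIn {L N S : Subgroup G} {q : ℕ} [Fact q.Prime]
    (hNL : N ≤ L) (hLN : L ≤ normalizer (N : Set G)) (hS : IsSylowIn q S N) :
    L ≤ N ⊔ (normalizer (S : Set G) ⊓ L) := by
  intro m hm
  have h1 : IsSylowIn q (S.map (cj m)) (N.map (cj m)) := hS.map_cj m
  rw [mem_normalizer_iff_map_cj.mp (hLN hm)] at h1
  obtain ⟨x, hx, hx2⟩ := hS.exists_conj h1
  have h2 : x⁻¹ * m ∈ normalizer (S : Set G) := by
    rw [mem_normalizer_iff_map_cj, ← map_cj_mul, hx2, map_cj_mul, inv_mul_cancel, map_cj_one]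
  have h3 : m = x * (x⁻¹ * m) := by group
  rw [h3]
  have h4 : x ∈ N ⊔ (normalizer (S : Set G) ⊓ L) := le_sup_left (b := normalizer (S : Set G) ⊓ L) hx
  have h5 : x⁻¹ * m ∈ N ⊔ (normalizer (S : Set G) ⊓ L) :=
    le_sup_right (a := N) (mem_inf.2 ⟨h2, mul_mem (inv_mem (hNL hx)) hm⟩)
  exact mul_mem h4 h5

/-- **12.15(d) + 12.16**: the case `q ∈ σ(M*)`. -/
theorem case_d (hG : Cfsg.IsMinSimpleOddOrder G) (hU : Uniq G) (h1350 : St1350 G)
    (h1414 : St1414 G) {M Mstar : Subgroup G} (hM : IsCoatom M) (hMs : IsCoatom Mstar)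
    (ha : ∀ g : G, Mstar ≠ M.map (cj g)) {q : ℕ} [Fact q.Prime] (hqM : q ∈ Cfsg.sigma M)
    (hqs : q ∈ Cfsg.sigma Mstar) {S : Subgroup G} (hS : IsSylowIn q S Mstar)
    (hNS : normalizer (S : Set G) ≤ M) {Y : Subgroup G} (hYL : Y ≤ Mstar)
    (hY : ∀ p : ℕ, p.Prime → p ∣ Nat.card Y → p ∈ Cfsg.sigma M) :
    ∃ m ∈ Mstar, Y.map (cj m) ≤ M := by
  set π' : Set ℕ := {r | r.Prime ∧ r ∉ Cfsg.beta Mstar} with hπ'
  set Ms := Cfsg.sigmaCore Mstar with hMs'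
  have hsolvL : Group.IsSolvable Mstar := hG.2.2.2 Mstar hMs.1
  have hMsle : Ms ≤ Mstar := sigmaCore_le _
  have hsolvMs : Group.IsSolvable Ms := solvable_of_le_coatom hG hMs hMsle
  obtain ⟨hβH, -, -, ⟨D, hD, hDnil⟩, -⟩ := h1414 Mstar hMs
  have hqβ : q ∉ Cfsg.beta Mstar := fun h => not_mem_sigma_of_mem_beta hG hU hM hMs ha h hqM
  have hSMs : S ≤ Ms := le_sigmaCore_of_isPGroup h1350 hMs hqs hS.1 hS.2.1
  have hSπ : IsPiNum π' (Nat.card S) :=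
    isPiNum_of_isPGroup (π := π') ⟨(Fact.out : q.Prime), hqβ⟩ hS.2.1
  obtain ⟨D₁, hD₁, hSD₁⟩ := Cfsg.Agent.Lead.exists_isPiHallOf_ge hsolvMs hSMs hSπ
  obtain ⟨s, hs, hsD⟩ := Cfsg.Agent.Lead.isPiHallOf_trans hsolvMs hD hD₁
  have hD₁nil : Group.IsNilpotent D₁ := by
    rw [← hsD]
    exact Group.nilpotent_of_mulEquiv (Subgroup.equivSMul (MulAut.conj s) D)
  have hD₁Ms : D₁ ≤ Ms := hD₁.1
  have hSD₁syl : IsSylowIn q S D₁ :=
    ⟨hSD₁, hS.2.1, fun Q hQ hQq hSQ => hS.2.2 Q (hQ.trans (hD₁Ms.trans hMsle)) hQq hSQ⟩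
  have hD₁N : D₁ ≤ normalizer (S : Set G) :=
    le_normalizer_of_isSylowIn_nilpotent hD₁nil hSD₁syl
  set Mβ := Cfsg.piCoreOf (Cfsg.beta Mstar) Mstar with hMβ
  have hMβle : Mβ ≤ Mstar := Cfsg.Agent.Lead.TT.piCoreOf_le _ _
  have hMβn : Mstar ≤ normalizer (Mβ : Set G) := Cfsg.Agent.Lead.TT.le_normalizer_piCoreOf _ _
  have hMβMs : Mβ ≤ Ms := by
    apply le_sigmaCore_of_sigma h1350 hMs hMβle
    intro p hp hd
    haveI : Fact p.Prime := ⟨hp⟩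
    exact Cfsg.Agent.Helper4.BG10.alpha_subset_sigma hG hU hMs (hβH.2.1 p hp hd).1
  -- orders
  have hinf : Mβ ⊓ D₁ = ⊥ := by
    by_contra hne
    have hc1 : Nat.card ↥(Mβ ⊓ D₁) ≠ 1 := fun h => hne (Subgroup.card_eq_one.mp h)
    obtain ⟨r, hr, hrd⟩ := Nat.exists_prime_and_dvd hc1
    have h1 : r ∈ Cfsg.beta Mstar := hβH.2.1 r hr (hrd.trans (Subgroup.card_dvd_of_le inf_le_left))
    have h2 : r ∈ π' := hD₁.2.1 r hr (hrd.trans (Subgroup.card_dvd_of_le inf_le_right))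
    exact h2.2 h1
  have hcardMs : Nat.card Mβ * Nat.card D₁ = Nat.card Ms := by
    have e1 : D₁.relIndex Ms * Nat.card D₁ = Nat.card Ms := Cfsg.Agent.Lead.relIndex_mul_card' hD₁Ms
    have e2 : Mβ.relIndex Ms * Nat.card Mβ = Nat.card Ms := Cfsg.Agent.Lead.relIndex_mul_card' hMβMs
    have hd : IsPiNum π' (Nat.card D₁) := hD₁.2.1
    have hi : IsPiNum π'ᶜ (D₁.relIndex Ms) := fun r hr hrd hrπ => hD₁.2.2 r hr hrπ hrd
    have hj : IsPiNum π' (Mβ.relIndex Ms) := by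
      intro r hr hrd
      refine ⟨hr, fun hrβ => ?_⟩
      have h3 : Mβ.relIndex Ms ∣ Mβ.relIndex Mstar :=
        ⟨_, (Subgroup.relIndex_mul_relIndex Mβ Ms Mstar hMβMs hMsle).symm⟩
      exact hβH.2.2 r hr hrβ (hrd.trans h3)
    have ha' : IsPiNum π'ᶜ (Nat.card Mβ) := fun r hr hrd hrπ => hrπ.2 (hβH.2.1 r hr hrd)
    have h4 : Nat.card D₁ * D₁.relIndex Ms = Mβ.relIndex Ms * Nat.card Mβ := by
      rw [mul_comm, e1, e2]
    have h5 := Cfsg.Agent.Lead.pi_split_unique h4 hd hi hj ha'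
    rw [h5, mul_comm]; exact e2
  have hsupMs : Mβ ⊔ D₁ = Ms := by
    apply Subgroup.eq_of_le_of_card_ge (sup_le hMβMs hD₁Ms)
    have h1 := Cfsg.Agent.Helper17.card_sup_mul_card_inf Mβ D₁ ((hD₁Ms.trans hMsle).trans hMβn)
    rw [hinf, Subgroup.card_bot, mul_one, hcardMs] at h1
    exact h1.ge
  -- Frattini
  have hSsylMs : IsSylowIn q S Ms :=
    ⟨hSMs, hS.2.1, fun Q hQ hQq hSQ => hS.2.2 Q (hQ.trans hMsle) hQq hSQ⟩
  have hfr := le_sup_normalizer_of_isSylowIn hMsle (le_normalizer_sigmaCore Mstar) hSsylMs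
  set Dd := M ⊓ Mstar with hDd
  have hNSD : normalizer (S : Set G) ⊓ Mstar ≤ Dd := le_inf (inf_le_left.trans hNS) inf_le_right
  have hsup : Mβ ⊔ Dd = Mstar := by
    apply le_antisymm (sup_le hMβle inf_le_right)
    calc Mstar ≤ Ms ⊔ (normalizer (S : Set G) ⊓ Mstar) := hfr
      _ = Mβ ⊔ D₁ ⊔ (normalizer (S : Set G) ⊓ Mstar) := by rw [hsupMs]
      _ ≤ Mβ ⊔ Dd := by
        refine sup_le (sup_le le_sup_left ?_) (hNSD.trans le_sup_right)
        exact (le_inf hD₁N (hD₁Ms.trans hMsle)).trans (hNSD.trans le_sup_right)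
  -- cardinalities
  have hDdle : Dd ≤ Mstar := inf_le_right
  have hc1 := Cfsg.Agent.Helper17.card_sup_mul_card_inf Mβ Dd (hDdle.trans hMβn)
  rw [hsup] at hc1
  have hc2 : Mβ.relIndex Mstar * Nat.card Mβ = Nat.card Mstar :=
    Cfsg.Agent.Lead.relIndex_mul_card' hMβle
  set c := Mβ.relIndex Mstar with hc
  set i := Nat.card ↥(Mβ ⊓ Dd) with hi
  have hcardD : Nat.card Dd = c * i := by
    have hpos : 0 < Nat.card Mβ := Nat.card_pos
    have : Nat.card Mβ * Nat.card Dd = Nat.card Mβ * (c * i) := by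
      rw [← hc1, ← hc2]; ring
    exact Nat.eq_of_mul_eq_mul_left hpos this
  have hcπ : IsPiNum π' c := fun r hr hrd => ⟨hr, fun hrβ => hβH.2.2 r hr hrβ hrd⟩
  have hiπ : IsPiNum π'ᶜ i := fun r hr hrd hrπ =>
    hrπ.2 (hβH.2.1 r hr (hrd.trans (Subgroup.card_dvd_of_le inf_le_left)))
  have hbπ : IsPiNum π'ᶜ (Nat.card Mβ) := fun r hr hrd hrπ => hrπ.2 (hβH.2.1 r hr hrd)
  have hsolvD : Group.IsSolvable Dd := solvable_of_le_coatom hG hMs hDdle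
  obtain ⟨H₁, hH₁⟩ := Cfsg.Agent.Lead.exists_isPiHallOf π' hsolvD
  have hH₁c := (Cfsg.Agent.Lead.isPiHallOf_iff_card hcardD hcπ hiπ).mp hH₁
  have hH₁L : Cfsg.IsPiHallOf π' H₁ Mstar :=
    (Cfsg.Agent.Lead.isPiHallOf_iff_card hc2.symm hcπ hbπ).mpr ⟨hH₁c.1.trans hDdle, hH₁c.2⟩
  have hYπ : IsPiNum π' (Nat.card Y) := fun r hr hrd =>
    ⟨hr, fun hrβ => not_mem_sigma_of_mem_beta hG hU hM hMs ha hrβ (hY r hr hrd)⟩
  obtain ⟨m, hm, hmY⟩ := exists_conj_le_of_hall hsolvL hH₁L hYL hYπ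
  exact ⟨m, hm, hmY.trans (hH₁c.1.trans inf_le_left)⟩

end Cfsg.Agent.H9.BG12
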