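import Mathlib
import Cfsg.Prelude.Def_OddOrderLocal
import Cfsg.Agent.Helper9.BG12h
import Cfsg.Agent.Helper9.NormalElemAb
import Cfsg.Agent.Helper1.MinNormal

set_option autoImplicit false
set_option linter.unusedSectionVars false
set_option linter.unusedVariables false
set_option linter.style.haveILetI false

/-! # B&G Corollary 12.16 (= S1425): the case `q ∉ σ(M*)` (12.15(e)) and the main theorem -/

namespace Cfsg.Agent.H9.BG12

open Subgroup Cfsg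
open Cfsg.Agent.Helper14 (IsSylowIn cj map_cj_le_iff map_cj_mul map_cj_one map_cj_normalizer
  mem_normalizer_iff_map_cj map_cj_eq_self_of_mem le_normalizer_of_map_cj_le mem_map_cj
  exists_isSylowIn_ge exists_isSylowIn isSylowIn_of_sylow)
open Cfsg.Agent.Helper21.BG10 (Ctl101 Uniq96)
open Cfsg.Agent.Helper4.BG10 (Uniq)
open Cfsg.Agent.Lead (IsPiNum)
open scoped Pointwise

universe u
variable {G : Type u} [Group G] [Finite G]

theorem prime_ne_two_of_dvd (hG : Cfsg.IsMinSimpleOddOrder G) {q : ℕ} (hd : q ∣ Nat.card G) :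
    q ≠ 2 := by
  rintro rfl
  exact (Nat.not_even_iff_odd.mpr hG.1) (even_iff_two_dvd.mpr hd)

/-- a noncyclic `q`-subgroup (`q` odd) contains an elementary abelian subgroup of order `q ^ 2` -/
theorem exists_elemAb_sq_le (hG : Cfsg.IsMinSimpleOddOrder G) {q : ℕ} [Fact q.Prime]
    {S : Subgroup G} (hSq : IsPGroup q S) (hSnc : ¬ IsCyclic S) :
    ∃ A : Subgroup G, A ≤ S ∧ Cfsg.IsElementaryAbelian q A ∧ Nat.card A = q ^ 2 := by
  have hq2 : q ≠ 2 := by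
    apply prime_ne_two_of_dvd hG
    obtain ⟨k, hk⟩ := IsPGroup.iff_card.mp hSq
    have hk0 : k ≠ 0 := by
      rintro rfl
      rw [pow_zero] at hk
      apply hSnc
      have : S = ⊥ := Subgroup.card_eq_one.mp hk
      rw [this]; exact isCyclic_of_subsingleton
    exact ((dvd_pow_self q hk0).trans (hk ▸ dvd_rfl)).trans (Subgroup.card_subgroup_dvd_card S)
  obtain ⟨A₀, -, hA₀e, hA₀c⟩ := Cfsg.Agent.Helper9.exists_normal_elemAb_sq (R := ↥S) hq2 hSq hSnc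
  refine ⟨A₀.map S.subtype, Cfsg.Agent.Helper14.map_subtype_le _,
    Cfsg.Agent.Helper26.isElementaryAbelian_map S.subtype hA₀e, ?_⟩
  rw [Cfsg.Agent.Helper14.card_map_subtype]; exact hA₀c

/-- **12.15(e) + 12.16**: the case `q ∉ σ(M*)`. -/
theorem case_e (hG : Cfsg.IsMinSimpleOddOrder G) (hU : Uniq G) (h1350 : St1350 G)
    (hNC : NC1210 G) (h1417 : St1417 G) (h1418 : St1418 G) {M Mstar : Subgroup G}
    (hM : IsCoatom M) (hMs : IsCoatom Mstar) (hne : Mstar ≠ M)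
    (ha : ∀ g : G, Mstar ≠ M.map (cj g)) {q : ℕ} [Fact q.Prime] (hqM : q ∈ Cfsg.sigma M)
    (hqs : q ∉ Cfsg.sigma Mstar) {S : Subgroup G} (hS : IsSylowIn q S Mstar) (hSM : S ≤ M)
    (hSnc : ¬ IsCyclic S) {Y : Subgroup G} (hYL : Y ≤ Mstar)
    (hY : ∀ p : ℕ, p.Prime → p ∣ Nat.card Y → p ∈ Cfsg.sigma M) :
    ∃ m ∈ Mstar, Y.map (cj m) ≤ M := by
  have hq : q.Prime := Fact.out
  have hsolvL : Group.IsSolvable Mstar := hG.2.2.2 Mstar hMs.1
  obtain ⟨A, hAS, hAe, hAc⟩ := exists_elemAb_sq_le hG hS.2.1 hSnc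
  have hAL : A ≤ Mstar := hAS.trans hS.1
  have hAM : A ≤ M := hAS.trans hSM
  have hτ : q ∈ Cfsg.tau2 Mstar := by
    refine ⟨hq, hqs, Cfsg.Agent.Helper4.BG10.sigma'_pRankLE_two hG hU hMs hqs, ?_⟩
    apply Cfsg.Agent.Lead.BG9.not_pRankLE_of_elementary hAL hAe
    rw [hAc]
    exact Nat.pow_lt_pow_right hq.one_lt (by norm_num)
  obtain ⟨hnil, -, -, -, hdisj, -⟩ := h1417 Mstar hMs q hτ A ⟨hAL, hAe, hAc⟩
  -- σ(M) ∩ σ(M*) = ∅
  have hσ : ∀ t : ℕ, t ∈ Cfsg.sigma Mstar → t ∉ Cfsg.sigma M := by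
    intro t htL htM
    haveI : Fact t.Prime := ⟨htL.1⟩
    obtain ⟨T, hT⟩ := exists_isSylowIn (p := t) Mstar
    have hTMs : T ≤ Cfsg.sigmaCore Mstar := le_sigmaCore_of_isPGroup h1350 hMs htL hT.1 hT.2.1
    have hTsyl : IsSylowIn t T (Cfsg.sigmaCore Mstar) :=
      ⟨hTMs, hT.2.1, fun Q hQ hQq hSQ => hT.2.2 Q (hQ.trans (sigmaCore_le Mstar)) hQq hSQ⟩
    have hLT := le_normalizer_sylow_of_nilpotent hnil (le_normalizer_sigmaCore Mstar) hTsyl
    obtain ⟨g, hg⟩ := conj_of_normal_sylow hG hM hMs htM htL hT hLT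
    exact ha g hg
  -- the complement
  obtain ⟨E₀, hE₀⟩ := exists_complIn_sigmaCore h1350 hMs
  have hE₀H := isPiHallOf_compl h1350 hMs hE₀
  have hAπ : IsPiNum (Cfsg.sigma Mstar)ᶜ (Nat.card A) :=
    isPiNum_of_isPGroup (π := (Cfsg.sigma Mstar)ᶜ) hqs
      (Cfsg.Agent.Helper4.BG10.isPGroup_of_elementary hAe)
  obtain ⟨g, hg, hgA⟩ := exists_conj_le_of_hall hsolvL hE₀H hAL hAπ
  -- A' = A^g ≤ E₀
  have hA'e : Cfsg.IsElementaryAbelian q (A.map (cj g)) :=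
    Cfsg.Agent.Helper26.isElementaryAbelian_map (cj g) hAe
  have hA'c : Nat.card (A.map (cj g)) = q ^ 2 := by
    rw [Subgroup.card_map_of_injective (Cfsg.Agent.Helper14.cj_injective g)]; exact hAc
  obtain ⟨⟨hE₀N, -⟩, -, -⟩ := h1418 Mstar hMs E₀ hE₀ q hτ (A.map (cj g)) ⟨hgA, hA'e, hA'c⟩
  -- H₂ = E₀^{g⁻¹} normalizes A, hence lies in M
  have hAnc : ¬ IsCyclic A := Cfsg.Agent.Lead.BG9.not_isCyclic_of_sq_le hAe hAc.ge
  have hNA : normalizer (A : Set G) ≤ M :=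
    hNC M hM q A hqM (Cfsg.Agent.Helper4.BG10.isPGroup_of_elementary hAe) hAM hAnc
  have hH₂M : E₀.map (cj g⁻¹) ≤ M := by
    refine le_trans ?_ hNA
    have h1 : E₀.map (cj g⁻¹) ≤ (normalizer ((A.map (cj g) : Subgroup G) : Set G)).map (cj g⁻¹) :=
      Subgroup.map_mono hE₀N
    rw [map_cj_normalizer, Cfsg.Agent.Helper14.map_cj_map_cj_inv] at h1
    exact h1
  have hH₂H : Cfsg.IsPiHallOf (Cfsg.sigma Mstar)ᶜ (E₀.map (cj g⁻¹)) Mstar := by
    have := Cfsg.Agent.Lead.isPiHallOf_conj (g := g⁻¹) (le_normalizer (inv_mem hg)) hE₀H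
    rwa [smul_eq_map_cj] at this
  have hYπ : IsPiNum (Cfsg.sigma Mstar)ᶜ (Nat.card Y) := fun r hr hrd hrσ =>
    hσ r hrσ (hY r hr hrd)
  obtain ⟨m, hm, hmY⟩ := exists_conj_le_of_hall hsolvL hH₂H hYL hYπ
  exact ⟨m, hm, hmY.trans hH₂M⟩

end Cfsg.Agent.H9.BG12
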