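import Mathlib
import Cfsg.Prelude.Def_OddOrderLocal
import Cfsg.Agent.Helper9.BG12i

set_option autoImplicit false
set_option linter.unusedSectionVars false
set_option linter.unusedVariables false
set_option linter.style.haveILetI false

/-! # B&G Corollary 12.16 (= S1425) relative to S1350, S1403, S1404, S1414, S1417, S1418, S1420 -/

namespace Cfsg.Agent.H9.BG12

open Subgroup Cfsg
open Cfsg.Agent.Helper14 (IsSylowIn cj map_cj_le_iff map_cj_mul map_cj_one map_cj_normalizer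
  mem_normalizer_iff_map_cj map_cj_eq_self_of_mem le_normalizer_of_map_cj_le mem_map_cj
  exists_isSylowIn_ge exists_isSylowIn isSylowIn_of_sylow)
open Cfsg.Agent.Helper21.BG10 (Ctl101 Uniq96)
open Cfsg.Agent.Helper4.BG10 (Uniq)
open Cfsg.Agent.Lead (IsPiNum)
open scoped Pointwise

universe u
variable {G : Type u} [Group G] [Finite G]

/-- a `σ(M)`-subgroup is proper -/
theorem ne_top_of_sigma (h1350 : St1350 G) {M : Subgroup G} (hM : IsCoatom M) {Y : Subgroup G}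
    (hY : ∀ p : ℕ, p.Prime → p ∣ Nat.card Y → p ∈ Cfsg.sigma M) : Y ≠ ⊤ := by
  rintro rfl
  obtain ⟨-, ⟨-, hidx⟩, -⟩ := h1350 M hM
  have h1 : (Cfsg.sigmaCore M).index = 1 := by
    by_contra hne
    obtain ⟨r, hr, hrd⟩ := Nat.exists_prime_and_dvd hne
    have h2 : r ∣ Nat.card (⊤ : Subgroup G) := by
      rw [Subgroup.card_top]
      exact hrd.trans (Subgroup.index_dvd_card _)
    exact hidx r hr (hY r hr h2) hrd
  have h3 : Cfsg.sigmaCore M = ⊤ := Subgroup.index_eq_one.mp h1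
  exact hM.1 (top_le_iff.mp (h3 ▸ sigmaCore_le M))

/-- **B&G Corollary 12.16**: a nontrivial `σ(M)`-subgroup of `G` is conjugate into `M`. -/
theorem cor_12_16_aux (hG : Cfsg.IsMinSimpleOddOrder G) (hU : Uniq G) (h1350 : St1350 G)
    (hCtl : Ctl101 G) (hNC : NC1210 G) (h1414 : St1414 G) (h1417 : St1417 G) (h1418 : St1418 G)
    {M : Subgroup G} (hM : IsCoatom M) {Y : Subgroup G} (hY1 : Y ≠ ⊥)
    (hY : ∀ p : ℕ, p.Prime → p ∣ Nat.card Y → p ∈ Cfsg.sigma M) :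
    ∃ g : G, Y.map (cj g) ≤ M := by
  have hS : IsSimpleGroup G := hG.2.1
  have hYt : Y ≠ ⊤ := ne_top_of_sigma h1350 hM hY
  haveI hYs : Group.IsSolvable Y := hG.2.2.2 Y hYt
  haveI : Nontrivial Y := (Subgroup.nontrivial_iff_ne_bot Y).mpr hY1
  obtain ⟨q, N, hq, hNn, hN1, hNq, -, -⟩ :=
    Cfsg.Agent.Helper1.exists_normal_pgroup_of_solvable (G := ↥Y)
  haveI : Fact q.Prime := ⟨hq⟩
  set X : Subgroup G := N.map Y.subtype with hX
  have hXY : X ≤ Y := Cfsg.Agent.Helper14.map_subtype_le _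
  have hXq : IsPGroup q X := hNq.map _
  have hX1 : X ≠ ⊥ := by
    intro h
    apply hN1
    rw [eq_bot_iff]
    intro n hn
    have : (n : G) ∈ X := ⟨n, hn, rfl⟩
    rw [h, Subgroup.mem_bot] at this
    rw [Subgroup.mem_bot]
    exact Subtype.ext this
  have hYN : Y ≤ normalizer (X : Set G) := by
    apply le_normalizer_of_map_cj_le
    intro y hy
    rintro _ ⟨_, ⟨n, hn, rfl⟩, rfl⟩
    refine ⟨⟨y, hy⟩ * n * ⟨y, hy⟩⁻¹, hNn.conj_mem n hn ⟨y, hy⟩, ?_⟩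
    simp [Cfsg.Agent.Helper14.cj_apply]
  have hqM : q ∈ Cfsg.sigma M := by
    apply hY q hq
    obtain ⟨k, hk⟩ := IsPGroup.iff_card.mp hXq
    have hk0 : k ≠ 0 := by
      rintro rfl
      rw [pow_zero] at hk
      exact hX1 (Subgroup.card_eq_one.mp hk)
    exact ((dvd_pow_self q hk0).trans (hk ▸ dvd_rfl)).trans (Subgroup.card_dvd_of_le hXY)
  -- conjugate `X` into `M`
  obtain ⟨P, hP⟩ := exists_isSylowIn (p := q) M
  have hPtop := Cfsg.Agent.Helper4.BG10.sigma_isSylowIn_top hqM hP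
  obtain ⟨T', hT', hXT'⟩ := exists_isSylowIn_ge (le_top : X ≤ ⊤) hXq
  obtain ⟨g₀, -, hg₀⟩ := hPtop.exists_conj hT'
  set g := g₀⁻¹ with hg
  have hX₁M : X.map (cj g) ≤ M := by
    rw [map_cj_le_iff, hg, inv_inv]
    calc X ≤ T' := hXT'
      _ = P.map (cj g₀) := hg₀
      _ ≤ M.map (cj g₀) := Subgroup.map_mono hP.1
  set X₁ := X.map (cj g) with hX₁
  set Y₁ := Y.map (cj g) with hY₁
  have hX₁q : IsPGroup q X₁ := hXq.map _
  have hX₁1 : X₁ ≠ ⊥ := by
    intro h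
    apply hX1
    have := (Subgroup.map_eq_bot_iff_of_injective X (Cfsg.Agent.Helper14.cj_injective g)).mp h
    exact this
  have hY₁N : Y₁ ≤ normalizer (X₁ : Set G) := by
    rw [hX₁, ← map_cj_normalizer]
    exact Subgroup.map_mono hYN
  have hY₁c : Nat.card Y₁ = Nat.card Y :=
    Subgroup.card_map_of_injective (Cfsg.Agent.Helper14.cj_injective g)
  have hY₁σ : ∀ p : ℕ, p.Prime → p ∣ Nat.card Y₁ → p ∈ Cfsg.sigma M := by
    intro p hp hd
    exact hY p hp (hY₁c ▸ hd)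
  suffices h : ∃ m : G, Y₁.map (cj m) ≤ M by
    obtain ⟨m, hm⟩ := h
    refine ⟨m * g, ?_⟩
    rw [← map_cj_mul]
    exact hm
  have hX₁t : X₁ ≠ ⊤ := fun h => hM.1 (top_le_iff.mp (h ▸ hX₁M))
  obtain ⟨Mstar, hMs, hNMs⟩ :=
    Cfsg.Agent.Helper21.BG10.exists_coatom_normalizer_le hS hX₁1 hX₁t
  by_cases hne : Mstar = M
  · exact ⟨1, by rw [map_cj_one]; exact hne ▸ hY₁N.trans hNMs⟩
  have hX₁Ms : X₁ ≤ Mstar := le_normalizer.trans hNMs
  obtain ⟨S, hS', hXS⟩ := exists_isSylowIn_ge (le_inf hX₁M hX₁Ms) hX₁q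
  obtain ⟨ha, hb, hc⟩ := lem_12_15 hCtl hNC hM hqM hX₁q hX₁1 hX₁M hMs hne hNMs hS' hXS
  have hY₁L : Y₁ ≤ Mstar := hY₁N.trans hNMs
  have hSM : S ≤ M := hS'.1.trans inf_le_left
  by_cases hqs : q ∈ Cfsg.sigma Mstar
  · obtain ⟨m, -, hm⟩ := case_d hG hU h1350 h1414 hM hMs ha hqM hqs hc hb hY₁L hY₁σ
    exact ⟨m, hm⟩
  · have hSnc : ¬ IsCyclic S := by
      intro hcyc
      apply hqs
      refine ⟨hq, ?_, hc.toSylow, ?_⟩
      · obtain ⟨k, hk⟩ := IsPGroup.iff_card.mp hX₁q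
        have hk0 : k ≠ 0 := by
          rintro rfl
          rw [pow_zero] at hk
          exact hX₁1 (Subgroup.card_eq_one.mp hk)
        exact ((dvd_pow_self q hk0).trans (hk ▸ dvd_rfl)).trans (Subgroup.card_dvd_of_le hX₁Ms)
      · rw [hc.toSylow_map]
        exact (normalizer_le_normalizer_of_isCyclic hcyc hXS).trans hNMs
    obtain ⟨m, -, hm⟩ := case_e hG hU h1350 hNC h1417 h1418 hM hMs hne ha hqM hqs hc hSM hSnc
      hY₁L hY₁σ
    exact ⟨m, hm⟩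

/-- **S1425** relative to S1350, S1403, S1404, S1414, S1417, S1418, S1420. -/
theorem s1425_of (hG : Cfsg.IsMinSimpleOddOrder G) (hU : Uniq G) (h1350 : St1350 G)
    (h1404 : St1404 G) (h1414 : St1414 G) (h1417 : St1417 G) (h1418 : St1418 G)
    (h1420 : St1420 G)
    (M : Subgroup G) (hM : IsCoatom M) (Y : Subgroup G) (hY1 : Y ≠ ⊥) (hY : ∀ p : ℕ, p.Prime → p ∣ Nat.card Y → p ∈ Cfsg.sigma M) :
    ∃ g : G, Y.map (MulAut.conj g).toMonoidHom ≤ Cfsg.sigmaCore M := by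
  obtain ⟨g, hg⟩ := cor_12_16_aux hG hU h1350 (ctl101_of h1404) (nc1210_of h1350 h1420) h1414
    h1417 h1418 hM hY1 hY
  refine ⟨g, ?_⟩
  apply le_sigmaCore_of_sigma h1350 hM hg
  intro p hp hd
  apply hY p hp
  have hc : Nat.card (Y.map (cj g)) = Nat.card Y :=
    Subgroup.card_map_of_injective (Cfsg.Agent.Helper14.cj_injective g)
  exact hc ▸ hd

end Cfsg.Agent.H9.BG12
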