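import Mathlib
import Cfsg.Prelude.Def_OddOrderLocal
import Cfsg.Agent.Helper9.BG12j
import Cfsg.Agent.Helper9.NPC
import Cfsg.Agent.Lead.TT11
import Cfsg.Agent.Lead.Coprime3

set_option autoImplicit false
set_option linter.unusedSectionVars false
set_option linter.unusedVariables false
set_option linter.style.haveILetI false

/-! # towards B&G 13.1/13.2: `M_σ ∩ (H_σ)' = 1` for distinct maximal subgroups `M`, `H` -/

namespace Cfsg.Agent.H9.BG12

open Subgroup Cfsg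
open Cfsg.Agent.Helper14 (IsSylowIn cj map_cj_le_iff map_cj_mul map_cj_one map_cj_normalizer
  mem_normalizer_iff_map_cj map_cj_eq_self_of_mem le_normalizer_of_map_cj_le mem_map_cj
  exists_isSylowIn_ge exists_isSylowIn isSylowIn_of_sylow)
open Cfsg.Agent.Helper21.BG10 (Ctl101 Uniq96)
open Cfsg.Agent.Helper4.BG10 (Uniq)
open Cfsg.Agent.Lead (IsPiNum)
open scoped Pointwise

universe u

/-- frozen statement S1422 -/
def St1422 (G : Type u) [Group G] : Prop :=
  ∀ (p : ℕ) [Fact p.Prime] (P : Subgroup G), IsPGroup p P → ¬ IsMulCommutative P →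
    Cfsg.InUniqueMaximal P

variable {G : Type u} [Group G] [Finite G]

/-- focal subgroup consequence of a normal `t`-complement: `V ∩ L' ≤ V'` for a Sylow
`t`-subgroup `V` of the subgroup `L` (ambient form). -/
theorem sylow_inf_commutator_le {L V : Subgroup G} {t : ℕ} [Fact t.Prime]
    (hV : IsSylowIn t V L) (hnpc : Cfsg.HasNormalPComplement t ↥L) :
    V ⊓ ⁅L, L⁆ ≤ ⁅V, V⁆ := by
  obtain ⟨N, hNn, hNc⟩ := (Cfsg.Agent.Helper9.hasNormalPComplement_iff (hV.toSylow)).mp hnpc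
  set K : Subgroup G := N.map L.subtype with hK
  have hKL : K ≤ L := Cfsg.Agent.Helper14.map_subtype_le _
  have hLK : L ≤ normalizer (K : Set G) := by
    apply le_normalizer_of_map_cj_le
    intro l hl
    rintro _ ⟨_, ⟨n, hn, rfl⟩, rfl⟩
    refine ⟨⟨l, hl⟩ * n * ⟨l, hl⟩⁻¹, hNn.conj_mem n hn ⟨l, hl⟩, ?_⟩
    simp
  have hfac : ∀ n ∈ L, ∃ k ∈ K, ∃ n₁ ∈ V, n = k * n₁ := by
    intro n hn
    obtain ⟨⟨a, b⟩, hab, -⟩ := hNc.existsUnique (⟨n, hn⟩ : ↥L)
    refine ⟨((a : ↥L) : G), ⟨a, a.2, rfl⟩, ((b : ↥L) : G), ?_, ?_⟩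
    · have := b.2
      exact Subgroup.mem_subgroupOf.mp this
    · have := congrArg (fun x : ↥L => (x : G)) hab
      simpa using this.symm
  have hcop : (Nat.card V).Coprime (Nat.card K) := by
    have h1 : Nat.card K = Nat.card N :=
      Subgroup.card_map_of_injective (Subgroup.subtype_injective L)
    have h2 : Nat.card N = ((hV.toSylow : Sylow t ↥L) : Subgroup ↥L).index :=
      hNc.index_eq_card.symm
    obtain ⟨k, hk⟩ := IsPGroup.iff_card.mp hV.2.1
    rw [h1, h2, hk]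
    apply Nat.Coprime.pow_left
    exact (Nat.Prime.coprime_iff_not_dvd (Fact.out : t.Prime)).mpr (hV.toSylow).not_dvd_index
  exact Cfsg.Agent.Lead.TT.inf_commutator_le_of_factorization hLK hV.1 hfac le_rfl hcop

/-- **key lemma**: for distinct maximal subgroups `M ≠ H`, `M_σ ∩ (H_σ)' = 1`. -/
theorem sigmaCore_inf_commutator_eq_bot (hG : Cfsg.IsMinSimpleOddOrder G) (hU : Uniq G)
    (h1350 : St1350 G) (h1404 : St1404 G) (hNC : NC1210 G) (h1414 : St1414 G)
    (h1422 : St1422 G) (h1423 : St1423 G) {M H : Subgroup G} (hM : IsCoatom M)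
    (hH : IsCoatom H) (hne : H ≠ M) :
    Cfsg.sigmaCore M ⊓ ⁅Cfsg.sigmaCore H, Cfsg.sigmaCore H⁆ = ⊥ := by
  by_contra hbot
  set Z := Cfsg.sigmaCore M ⊓ ⁅Cfsg.sigmaCore H, Cfsg.sigmaCore H⁆ with hZ
  have hc1 : Nat.card ↥Z ≠ 1 := fun h => hbot (Subgroup.card_eq_one.mp h)
  obtain ⟨t, ht, htd⟩ := Nat.exists_prime_and_dvd hc1
  haveI : Fact t.Prime := ⟨ht⟩
  obtain ⟨x, hx⟩ := exists_prime_orderOf_dvd_card' t htd
  have hx' : orderOf (x : G) = t := by rw [Subgroup.orderOf_coe]; exact hx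
  set X : Subgroup G := zpowers (x : G) with hX
  have hXcard : Nat.card X = t := by rw [hX, Nat.card_zpowers, hx']
  have hXt : IsPGroup t X := IsPGroup.of_card (n := 1) (by rw [hXcard, pow_one])
  have hX1 : X ≠ ⊥ := by
    intro h
    rw [h, Subgroup.card_bot] at hXcard
    exact ht.one_lt.ne hXcard
  have hXZ : X ≤ Z := by rw [hX, zpowers_le]; exact x.2
  have hXMs : X ≤ Cfsg.sigmaCore M := hXZ.trans inf_le_left
  have hXM : X ≤ M := hXMs.trans (sigmaCore_le M)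
  have hXHd : X ≤ ⁅Cfsg.sigmaCore H, Cfsg.sigmaCore H⁆ := hXZ.trans inf_le_right
  have hHd : ⁅Cfsg.sigmaCore H, Cfsg.sigmaCore H⁆ ≤ Cfsg.sigmaCore H :=
    Cfsg.Agent.Lead.commutator_le_of_le_normalizer le_normalizer
  have hXHs : X ≤ Cfsg.sigmaCore H := hXHd.trans hHd
  have hXH : X ≤ H := hXHs.trans (sigmaCore_le H)
  have hdvd : ∀ {K : Subgroup G}, X ≤ K → t ∣ Nat.card K := fun hXK =>
    hXcard ▸ Subgroup.card_dvd_of_le hXK
  have htM : t ∈ Cfsg.sigma M := mem_sigma_of_dvd_card_sigmaCore ht (hdvd hXMs)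
  have htH : t ∈ Cfsg.sigma H := mem_sigma_of_dvd_card_sigmaCore ht (hdvd hXHs)
  -- N_G(X) ≤ H
  have hCX : centralizer (X : Set G) ≤ H :=
    centralizer_le_of_1423 h1423 hH htH hXH hXcard (Or.inr hXHd)
  have hNX : normalizer (X : Set G) ≤ H := by
    rw [(h1404 H hH t htH X hXt hX1 hXH).2]
    exact sup_le inf_le_left hCX
  obtain ⟨V, hV, hXV⟩ := exists_isSylowIn_ge (le_inf hXM hXH) hXt
  obtain ⟨ha, hb, hc⟩ := lem_12_15 (ctl101_of h1404) hNC hM htM hXt hX1 hXM hH hne hNX hV hXV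
  have htβ : t ∉ Cfsg.beta H := fun h => not_mem_sigma_of_mem_beta hG hU hM hH ha h htM
  have hnpc : Cfsg.HasNormalPComplement t ↥(Cfsg.sigmaCore H) :=
    ((h1414 H hH).2.2.2.2 t ht (hdvd hXH) htβ).2.1
  have hVHs : V ≤ Cfsg.sigmaCore H := le_sigmaCore_of_isPGroup h1350 hH htH hc.1 hc.2.1
  have hVsyl : IsSylowIn t V (Cfsg.sigmaCore H) :=
    ⟨hVHs, hc.2.1, fun Q hQ hQq hSQ => hc.2.2 Q (hQ.trans (sigmaCore_le H)) hQq hSQ⟩
  have hfocal := sylow_inf_commutator_le hVsyl hnpc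
  have hXVV : X ≤ ⁅V, V⁆ := (le_inf hXV hXHd).trans hfocal
  have hVnc : ¬ IsMulCommutative V := by
    intro hcomm
    apply hX1
    have : ⁅V, V⁆ = ⊥ := by
      rw [Subgroup.commutator_eq_bot_iff_le_centralizer]
      intro a ha
      rw [Subgroup.mem_centralizer_iff]
      intro b hb
      have := hcomm.is_comm.comm ⟨b, hb⟩ ⟨a, ha⟩
      exact congrArg Subtype.val this
    rw [eq_bot_iff, ← this]; exact hXVV
  have hVU := h1422 t V hc.2.1 hVnc
  exact hne (hVU.unique ⟨hH, hc.1⟩ ⟨hM, hV.1.trans inf_le_left⟩)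

end Cfsg.Agent.H9.BG12
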