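import Mathlib
import Cfsg.Prelude.Def_OddOrderLocal
import Cfsg.Agent.Helper9.BG13a
import Cfsg.Agent.Helper7.Hyperplane
import Cfsg.Agent.Helper7.RankSylow
import Cfsg.Agent.Helper14.BasicProp2

set_option autoImplicit false
set_option linter.unusedSectionVars false
set_option linter.unusedVariables false
set_option linter.style.haveILetI false

/-! # towards B&G 13.1/13.2: auxiliary lemmas -/

namespace Cfsg.Agent.H9.BG12

open Subgroup Cfsg
open Cfsg.Agent.Helper14 (IsSylowIn cj map_cj_le_iff map_cj_mul map_cj_one map_cj_normalizer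
  mem_normalizer_iff_map_cj map_cj_eq_self_of_mem le_normalizer_of_map_cj_le mem_map_cj
  exists_isSylowIn_ge exists_isSylowIn isSylowIn_of_sylow)
open Cfsg.Agent.Helper21.BG10 (Ctl101 Uniq96)
open Cfsg.Agent.Helper4.BG10 (Uniq)
open Cfsg.Agent.Lead (IsPiNum)
open scoped Pointwise

universe u
variable {G : Type u} [Group G] [Finite G]

/-- the case `p ∈ σ(H)` of B&G 13.1(a): a `p`-subgroup of `M ∩ H` (`p ∉ σ(M)`) centralizes
`M_σ ∩ H`, provided `M_σ ∩ (H_σ)' = 1`. -/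
theorem inf_le_centralizer_of_mem_sigma (hG : Cfsg.IsMinSimpleOddOrder G) (h1350 : St1350 G)
    {M H : Subgroup G} (hM : IsCoatom M) (hH : IsCoatom H)
    (hdisj : Cfsg.sigmaCore M ⊓ ⁅Cfsg.sigmaCore H, Cfsg.sigmaCore H⁆ = ⊥)
    {p : ℕ} [Fact p.Prime] (hpH : p ∈ Cfsg.sigma H) (hpM : p ∉ Cfsg.sigma M) {S' : Subgroup G}
    (hS'p : IsPGroup p S') (hS'M : S' ≤ M) (hS'H : S' ≤ H) :
    Cfsg.sigmaCore M ⊓ H ≤ centralizer (S' : Set G) := by
  have hp : p.Prime := Fact.out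
  set T := Cfsg.sigmaCore M ⊓ H with hT
  have hS'T : S' ≤ normalizer (T : Set G) := by
    refine le_trans ?_ (Cfsg.Agent.Helper7.normalizer_inf_normalizer_le_normalizer_inf _ _)
    exact le_inf (hS'M.trans (le_normalizer_sigmaCore M)) (hS'H.trans le_normalizer)
  have hcop : (Nat.card S').Coprime (Nat.card T) := by
    obtain ⟨k, hk⟩ := IsPGroup.iff_card.mp hS'p
    rw [hk]
    apply Nat.Coprime.pow_left
    rw [Nat.Prime.coprime_iff_not_dvd hp]
    intro hd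
    exact hpM (mem_sigma_of_dvd_card_sigmaCore hp (hd.trans (Subgroup.card_dvd_of_le inf_le_left)))
  have hTM : T ≤ M := inf_le_left.trans (sigmaCore_le M)
  have hsolv : Group.IsSolvable S' ∨ Group.IsSolvable T :=
    Or.inr (solvable_of_le_coatom hG hM hTM)
  have h1 := Cfsg.Agent.Lead.coprime_commutator_commutator S' T hS'T hcop hsolv
  have h2 : ⁅T, S'⁆ ≤ T := Cfsg.Agent.Lead.commutator_le_of_le_normalizer hS'T
  have hS'Hs : S' ≤ Cfsg.sigmaCore H := le_sigmaCore_of_isPGroup h1350 hH hpH hS'H hS'p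
  have h3 : ⁅T, S'⁆ ≤ Cfsg.sigmaCore H := by
    have h4 : ⁅T, S'⁆ ≤ ⁅H, Cfsg.sigmaCore H⁆ := Subgroup.commutator_mono inf_le_right hS'Hs
    have h5 : ⁅Cfsg.sigmaCore H, H⁆ ≤ Cfsg.sigmaCore H :=
      Cfsg.Agent.Lead.commutator_le_of_le_normalizer (le_normalizer_sigmaCore H)
    rw [Subgroup.commutator_comm] at h5
    exact h4.trans h5
  have h6 : ⁅⁅T, S'⁆, S'⁆ ≤ ⁅Cfsg.sigmaCore H, Cfsg.sigmaCore H⁆ :=
    Subgroup.commutator_mono h3 hS'Hs
  rw [h1] at h6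
  have h7 : ⁅T, S'⁆ ≤ Cfsg.sigmaCore M ⊓ ⁅Cfsg.sigmaCore H, Cfsg.sigmaCore H⁆ :=
    le_inf (h2.trans inf_le_left) h6
  rw [hdisj, le_bot_iff] at h7
  exact Subgroup.commutator_eq_bot_iff_le_centralizer.mp h7

/-- complements may be conjugated inside `L` -/
theorem isComplIn_map_cj {A B L : Subgroup G} (h : Cfsg.IsComplIn A B L)
    (hLB : L ≤ normalizer (B : Set G)) {g : G} (hg : g ∈ L) :
    Cfsg.IsComplIn (A.map (cj g)) B L := by
  obtain ⟨hA, hB, hAB, hmul⟩ := h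
  refine ⟨?_, hB, ?_, ?_⟩
  · rintro _ ⟨a, ha, rfl⟩
    exact mul_mem (mul_mem hg (hA ha)) (inv_mem hg)
  · rw [eq_bot_iff]
    rintro _ ⟨⟨a, ha, rfl⟩, hx2⟩
    have h1 : g⁻¹ * (g * a * g⁻¹) * g⁻¹⁻¹ ∈ B :=
      (mem_normalizer_iff.mp (hLB (inv_mem hg)) _).mp hx2
    have h2 : g⁻¹ * (g * a * g⁻¹) * g⁻¹⁻¹ = a := by group
    rw [h2] at h1
    have h3 : a ∈ A ⊓ B := ⟨ha, h1⟩
    rw [hAB, Subgroup.mem_bot] at h3
    rw [Subgroup.mem_bot, h3]
    simp
  · intro m hm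
    obtain ⟨a, ha, b, hb, hab⟩ := hmul (g⁻¹ * m * g) (mul_mem (mul_mem (inv_mem hg) hm) hg)
    refine ⟨g * a * g⁻¹, ⟨a, ha, rfl⟩, g * b * g⁻¹, ?_, ?_⟩
    · exact (mem_normalizer_iff.mp (hLB hg) b).mp hb
    · have h1 : m = g * (g⁻¹ * m * g) * g⁻¹ := by group
      rw [h1, hab]; group

/-- a subgroup with a cyclic Sylow `p`-subgroup has `p`-rank at most `1` -/
theorem pRankLE_one_of_cyclic_sylow {M S' : Subgroup G} {p : ℕ} [Fact p.Prime]
    (hS : IsSylowIn p S' M) (hc : IsCyclic S') : Cfsg.PRankLE p 1 M := by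
  by_contra h
  obtain ⟨F, hFM, hFe, hFcard⟩ := Cfsg.Agent.Lead.TT.exists_elementary_of_not_pRankLE' 1 M h
  have hFp := Cfsg.Agent.Helper4.BG10.isPGroup_of_elementary hFe
  obtain ⟨P, hP, hFP⟩ := exists_isSylowIn_ge hFM hFp
  obtain ⟨g, hg, rfl⟩ := hS.exists_conj hP
  have hPc : IsCyclic ↥(S'.map (cj g)) := by
    have e : ↥S' ≃* ↥(S'.map (cj g)) :=
      S'.equivMapOfInjective (cj g) (Cfsg.Agent.Helper14.cj_injective g)
    exact isCyclic_of_surjective e e.surjective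
  have hFc : IsCyclic ↥F := by
    have : IsCyclic ↥(F.subgroupOf (S'.map (cj g))) := inferInstance
    have e := Subgroup.subgroupOfEquivOfLe hFP
    exact isCyclic_of_surjective e e.surjective
  exact Cfsg.Agent.Lead.BG9.not_isCyclic_of_sq_le hFe (by simpa using hFcard) hFc

/-- `p`-rank is invariant under conjugation -/
theorem pRankLE_map_cj {M : Subgroup G} {p k : ℕ} (g : G) (h : Cfsg.PRankLE p k M) :
    Cfsg.PRankLE p k ↥(M.map (cj g)) := by
  have e : ↥M ≃* ↥(M.map (cj g)) :=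
    M.equivMapOfInjective (cj g) (Cfsg.Agent.Helper14.cj_injective g)
  exact Cfsg.Agent.Helper7.PRankLE.of_injective e.symm.toMonoidHom e.symm.injective h

end Cfsg.Agent.H9.BG12
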