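import Mathlib
import Cfsg.Prelude.Def_OddOrderLocal
import Cfsg.Agent.Helper9.BG13b
import Cfsg.Agent.Helper4.BG10g
import Cfsg.Agent.Lead.PiHall2

set_option autoImplicit false
set_option linter.unusedSectionVars false
set_option linter.unusedVariables false
set_option linter.style.haveILetI false

/-! # B&G Corollary 13.2(a) (= S1427) relative to earlier statements -/

namespace Cfsg.Agent.H9.BG12

open Subgroup Cfsg
open Cfsg.Agent.Helper14 (IsSylowIn cj map_cj_le_iff map_cj_mul map_cj_one map_cj_normalizer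
  mem_normalizer_iff_map_cj map_cj_eq_self_of_mem le_normalizer_of_map_cj_le mem_map_cj
  exists_isSylowIn_ge exists_isSylowIn isSylowIn_of_sylow)
open Cfsg.Agent.Helper21.BG10 (Ctl101 Uniq96)
open Cfsg.Agent.Helper4.BG10 (Uniq)
open Cfsg.Agent.Lead (IsPiNum)
open scoped Pointwise

universe u
variable {G : Type u} [Group G] [Finite G]

/-- **B&G 13.2(a), core**: for a cyclic Sylow `p`-subgroup `S'` of a complement `E` of `M_σ`
and `X ≤ S'` of order `p`, `C_{M_σ}(X)` centralizes `S'`. -/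
theorem prime_action_cyclic (hG : Cfsg.IsMinSimpleOddOrder G) (hU : Uniq G) (h1350 : St1350 G)
    (h1404 : St1404 G) (hNC : NC1210 G) (h1414 : St1414 G) (h1417 : St1417 G)
    (h1418 : St1418 G) (h1422 : St1422 G) (h1423 : St1423 G) {M : Subgroup G} (hM : IsCoatom M)
    {E : Subgroup G} (hE : Cfsg.IsComplIn E (Cfsg.sigmaCore M) M) {p : ℕ} [Fact p.Prime]
    {S' : Subgroup G} (hS' : IsSylowIn p S' E) (hSc : IsCyclic S') {X : Subgroup G}
    (hXS : X ≤ S') (hXc : Nat.card X = p) :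
    Cfsg.sigmaCore M ⊓ centralizer (X : Set G) ≤ centralizer (S' : Set G) := by
  have hS : IsSimpleGroup G := hG.2.1
  have hp : p.Prime := Fact.out
  have hEH := isPiHallOf_compl h1350 hM hE
  have hS'p := hS'.2.1
  have hX1 : X ≠ ⊥ := by
    intro h
    rw [h, Subgroup.card_bot] at hXc
    exact hp.one_lt.ne hXc
  have hpdvd : ∀ {K : Subgroup G}, X ≤ K → p ∣ Nat.card K := fun hXK =>
    hXc ▸ Subgroup.card_dvd_of_le hXK
  have hpσ : p ∉ Cfsg.sigma M := hEH.2.1 p hp (hpdvd (hXS.trans hS'.1))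
  have hS'M : IsSylowIn p S' M :=
    Cfsg.Agent.Helper14.isSylowIn_of_not_dvd_relIndex hS' hE.1 (hEH.2.2 p hp hpσ)
  have hr1 : Cfsg.PRankLE p 1 M := pRankLE_one_of_cyclic_sylow hS'M hSc
  have hXM : X ≤ M := hXS.trans hS'M.1
  have hXt : X ≠ ⊤ := fun h => hM.1 (top_le_iff.mp (h ▸ hXM))
  have hNXM : ¬ normalizer (X : Set G) ≤ M := fun h =>
    (Cfsg.Agent.Helper4.BG10.sigma'_norm hG hU hM hpσ hXc h).1.2 hr1
  obtain ⟨H, hH, hNH⟩ := Cfsg.Agent.Helper21.BG10.exists_coatom_normalizer_le hS hX1 hXt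
  have hne : H ≠ M := fun h => hNXM (h ▸ hNH)
  set Y := Cfsg.sigmaCore M ⊓ centralizer (X : Set G) with hY
  have hCH : centralizer (X : Set G) ≤ H := (centralizer_le_normalizer _).trans hNH
  have hYH : Y ≤ H := inf_le_right.trans hCH
  have hS'C : S' ≤ centralizer (X : Set G) := by
    intro s hs
    rw [Subgroup.mem_centralizer_iff]
    intro x hx
    obtain ⟨g, hg⟩ := hSc.exists_generator
    obtain ⟨i, hi⟩ := mem_zpowers_iff.mp (hg ⟨s, hs⟩)
    obtain ⟨j, hj⟩ := mem_zpowers_iff.mp (hg ⟨x, hXS hx⟩)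
    have h1 : (⟨x, hXS hx⟩ : ↥S') * ⟨s, hs⟩ = ⟨s, hs⟩ * ⟨x, hXS hx⟩ := by
      rw [← hi, ← hj]
      exact (Commute.zpow_zpow_self g j i).eq
    exact congrArg Subtype.val h1
  have hS'H : S' ≤ H := hS'C.trans hCH
  by_cases hpH : p ∈ Cfsg.sigma H
  · have hdisj := sigmaCore_inf_commutator_eq_bot hG hU h1350 h1404 hNC h1414 h1422 h1423 hM hH hne
    have h1 := inf_le_centralizer_of_mem_sigma hG h1350 hM hH hdisj hpH hpσ hS'p hS'M.1 hS'H
    exact (le_inf inf_le_left hYH).trans h1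
  · obtain ⟨⟨hr2H, hr1H⟩, -, -⟩ := Cfsg.Agent.Helper4.BG10.sigma'_norm hG hU hH hpH hXc hNH
    have hτ : p ∈ Cfsg.tau2 H := ⟨hp, hpH, hr2H, hr1H⟩
    have hsolvH : Group.IsSolvable H := hG.2.2.2 H hH.1
    obtain ⟨A₀, hA₀H, hA₀e, hA₀c⟩ := Cfsg.Agent.Helper4.BG10.exists_elementary_sq hr2H hr1H
    obtain ⟨hnil, -⟩ := h1417 H hH p hτ A₀ ⟨hA₀H, hA₀e, hA₀c⟩
    have hσ : ∀ t : ℕ, t ∈ Cfsg.sigma H → t ∉ Cfsg.sigma M := by
      intro t htH htM
      haveI : Fact t.Prime := ⟨htH.1⟩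
      obtain ⟨T, hT⟩ := exists_isSylowIn (p := t) H
      have hTMs : T ≤ Cfsg.sigmaCore H := le_sigmaCore_of_isPGroup h1350 hH htH hT.1 hT.2.1
      have hTsyl : IsSylowIn t T (Cfsg.sigmaCore H) :=
        ⟨hTMs, hT.2.1, fun Q hQ hQq hSQ => hT.2.2 Q (hQ.trans (sigmaCore_le H)) hQq hSQ⟩
      have hLT := le_normalizer_sylow_of_nilpotent hnil (le_normalizer_sigmaCore H) hTsyl
      obtain ⟨g, hg⟩ := conj_of_normal_sylow hG hM hH htM htH hT hLT
      have h1 := pRankLE_map_cj g hr1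
      rw [← hg] at h1
      exact hr1H h1
    -- `W = Y S'` is a `σ(H)'`-group
    have hS'Y : S' ≤ normalizer (Y : Set G) := by
      refine le_trans ?_ (Cfsg.Agent.Helper7.normalizer_inf_normalizer_le_normalizer_inf _ _)
      refine le_inf (hS'M.1.trans (le_normalizer_sigmaCore M)) ?_
      exact (hS'C.trans (centralizer_le_normalizer _)).trans
        (Cfsg.Agent.Lead.normalizer_le_normalizer_centralizer X)
    set W := Y ⊔ S' with hW
    have hWH : W ≤ H := sup_le hYH hS'H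
    have hcardW : Nat.card W ∣ Nat.card Y * Nat.card S' :=
      ⟨_, (Cfsg.Agent.Helper17.card_sup_mul_card_inf Y S' hS'Y).symm⟩
    have hWπ : IsPiNum (Cfsg.sigma H)ᶜ (Nat.card W) := by
      intro r hr hrd hrH
      rcases (Nat.Prime.dvd_mul hr).mp (hrd.trans hcardW) with h | h
      · exact hσ r hrH (mem_sigma_of_dvd_card_sigmaCore hr
          (h.trans (Subgroup.card_dvd_of_le inf_le_left)))
      · obtain ⟨k, hk⟩ := IsPGroup.iff_card.mp hS'p
        rw [hk] at h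
        have := (Nat.prime_dvd_prime_iff_eq hr hp).mp (hr.dvd_of_dvd_pow h)
        exact hpH (this ▸ hrH)
    obtain ⟨E₀, hE₀⟩ := exists_complIn_sigmaCore h1350 hH
    have hE₀H := isPiHallOf_compl h1350 hH hE₀
    obtain ⟨m, hm, hmW⟩ := exists_conj_le_of_hall hsolvH hE₀H hWH hWπ
    have hE₁ : Cfsg.IsComplIn (E₀.map (cj m⁻¹)) (Cfsg.sigmaCore H) H :=
      isComplIn_map_cj hE₀ (le_normalizer_sigmaCore H) (inv_mem hm)
    set E₁ := E₀.map (cj m⁻¹) with hE₁def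
    have hWE₁ : W ≤ E₁ := (map_cj_le_iff _ _ _).mp hmW
    have hE₁H := isPiHallOf_compl h1350 hH hE₁
    have hA₀π : IsPiNum (Cfsg.sigma H)ᶜ (Nat.card A₀) :=
      isPiNum_of_isPGroup (π := (Cfsg.sigma H)ᶜ) hpH
        (Cfsg.Agent.Helper4.BG10.isPGroup_of_elementary hA₀e)
    obtain ⟨h, hh, hhA⟩ := exists_conj_le_of_hall hsolvH hE₁H hA₀H hA₀π
    set A := A₀.map (cj h) with hA
    have hAe : Cfsg.IsElementaryAbelian p A :=
      Cfsg.Agent.Helper26.isElementaryAbelian_map (cj h) hA₀e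
    have hAc : Nat.card A = p ^ 2 := by
      rw [hA, Subgroup.card_map_of_injective (Cfsg.Agent.Helper14.cj_injective h)]; exact hA₀c
    obtain ⟨⟨hE₁N, -⟩, -, -⟩ := h1418 H hH E₁ hE₁ p hτ A ⟨hhA, hAe, hAc⟩
    have hA1 : A ≠ ⊥ := by
      intro hbot
      rw [hbot, Subgroup.card_bot] at hAc
      have : 1 < p ^ 2 := Nat.one_lt_pow (by norm_num) hp.one_lt
      omega
    have hAt : A ≠ ⊤ := Cfsg.Agent.Helper4.BG10.elementary_ne_top hG hAe
    obtain ⟨L, hL, hNL⟩ := Cfsg.Agent.Helper21.BG10.exists_coatom_normalizer_le hS hA1 hAt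
    have hAL : A ≤ L := le_normalizer.trans hNL
    have hsolvL : Group.IsSolvable L := hG.2.2.2 L hL.1
    have hpL : p ∈ Cfsg.sigma L := by
      by_contra hpL
      have hr2L := Cfsg.Agent.Helper4.BG10.sigma'_pRankLE_two hG hU hL hpL
      have hr1L : ¬ Cfsg.PRankLE p 1 L := by
        apply Cfsg.Agent.Lead.BG9.not_pRankLE_of_elementary hAL hAe
        rw [hAc]
        exact Nat.pow_lt_pow_right hp.one_lt (by norm_num)
      have hτL : p ∈ Cfsg.tau2 L := ⟨hp, hpL, hr2L, hr1L⟩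
      obtain ⟨F₀, hF₀⟩ := exists_complIn_sigmaCore h1350 hL
      have hF₀H := isPiHallOf_compl h1350 hL hF₀
      have hAπL : IsPiNum (Cfsg.sigma L)ᶜ (Nat.card A) :=
        isPiNum_of_isPGroup (π := (Cfsg.sigma L)ᶜ) hpL
          (Cfsg.Agent.Helper4.BG10.isPGroup_of_elementary hAe)
      obtain ⟨l, hl, hlA⟩ := exists_conj_le_of_hall hsolvL hF₀H hAL hAπL
      have hF₁ : Cfsg.IsComplIn (F₀.map (cj l⁻¹)) (Cfsg.sigmaCore L) L :=
        isComplIn_map_cj hF₀ (le_normalizer_sigmaCore L) (inv_mem hl)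
      have hAF₁ : A ≤ F₀.map (cj l⁻¹) := (map_cj_le_iff _ _ _).mp hlA
      obtain ⟨-, ⟨-, -, hnot⟩, -⟩ := h1418 L hL _ hF₁ p hτL A ⟨hAF₁, hAe, hAc⟩
      exact hnot hNL
    have hLM : L ≠ M := fun h => hpσ (h ▸ hpL)
    have hdisj := sigmaCore_inf_commutator_eq_bot hG hU h1350 h1404 hNC h1414 h1422 h1423 hM hL hLM
    have hE₁L : E₁ ≤ L := hE₁N.trans hNL
    have hS'L : S' ≤ L := ((le_sup_right : S' ≤ W).trans hWE₁).trans hE₁L
    have h1 := inf_le_centralizer_of_mem_sigma hG h1350 hM hL hdisj hpL hpσ hS'p hS'M.1 hS'L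
    have hYL : Y ≤ L := ((le_sup_left : Y ≤ W).trans hWE₁).trans hE₁L
    exact (le_inf inf_le_left hYL).trans h1

end Cfsg.Agent.H9.BG12
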