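import Mathlib
import Cfsg.Prelude.Def_OddOrderLocal
import Cfsg.Agent.Helper9.BG13b
import Cfsg.Agent.Helper4.BG10g

set_option autoImplicit false
set_option linter.unusedSectionVars false
set_option linter.unusedVariables false
set_option linter.style.haveILetI false

/-! # B&G Lemma 12.14 (= S1423) relative to earlier statements and two p-group lemmas -/

namespace Cfsg.Agent.H9.BG12

open Subgroup Cfsg
open Cfsg.Agent.Helper14 (IsSylowIn cj exists_isSylowIn_ge isSylowIn_of_sylow)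
open Cfsg.Agent.Helper4.BG10 (Uniq)
open scoped Pointwise

universe u

/-- frozen statement S1412 -/
def St1412 (G : Type u) [Group G] : Prop :=
  ∀ (p : ℕ) [Fact p.Prime] (P : Sylow p G), Cfsg.PRankLE p 2 (P : Subgroup G) →
    IsMulCommutative (P : Subgroup G) ∨ ∃ P₁ P₂ : Subgroup G, P₁ ⊔ P₂ = (P : Subgroup G) ∧
      (∀ a ∈ P₁, ∀ b ∈ P₂, a * b = b * a) ∧
        ¬ IsMulCommutative P₁ ∧ Nat.card P₁ = p ^ 3 ∧ Monoid.exponent P₁ = p ∧ IsCyclic P₂ ∧
        Subgroup.closure {x : G | x ∈ P₂ ∧ x ^ p = 1} = P₁ ⊓ Subgroup.centralizer (P₁ : Set G)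

/-- p-group lemma: in a `p`-group `R` of rank at least `3` (`p` odd), a subgroup of order `p` of
`R'` is centralized by an elementary abelian subgroup of `R` of order at least `p ^ 3`. -/
def PG1 (G : Type u) [Group G] : Prop :=
  ∀ (p : ℕ) [Fact p.Prime], p ≠ 2 → ∀ R X : Subgroup G, IsPGroup p R → ¬ Cfsg.PRankLE p 2 R →
    X ≤ ⁅R, R⁆ → Nat.card X = p →
    ∃ B : Subgroup G, B ≤ R ∧ B ≤ Subgroup.centralizer (X : Set G) ∧
      Cfsg.IsElementaryAbelian p B ∧ p ^ 3 ≤ Nat.card B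

/-- p-group lemma: a central product of a group of order `p ^ 3` and a cyclic group has class
at most `2`. -/
def PG2 (G : Type u) [Group G] : Prop :=
  ∀ (p : ℕ) [Fact p.Prime] (R P₁ P₂ : Subgroup G), P₁ ⊔ P₂ = R →
    (∀ a ∈ P₁, ∀ b ∈ P₂, a * b = b * a) → Nat.card P₁ = p ^ 3 → IsCyclic P₂ →
    ⁅R, R⁆ ≤ Subgroup.centralizer (R : Set G)

variable {G : Type u} [Group G] [Finite G]

theorem pRankLE_of_isSylowIn {M S' : Subgroup G} {p k : ℕ} [Fact p.Prime]
    (hS : IsSylowIn p S' M) (h : Cfsg.PRankLE p k S') : Cfsg.PRankLE p k M := by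
  by_contra hn
  have hp : p.Prime := Fact.out
  obtain ⟨F, hFM, hFe, hFcard⟩ := Cfsg.Agent.Lead.TT.exists_elementary_of_not_pRankLE' k M hn
  have hFp := Cfsg.Agent.Helper4.BG10.isPGroup_of_elementary hFe
  obtain ⟨P, hP, hFP⟩ := exists_isSylowIn_ge hFM hFp
  obtain ⟨g, hg, rfl⟩ := hS.exists_conj hP
  have hlt : p ^ k < Nat.card F :=
    lt_of_lt_of_le (Nat.pow_lt_pow_right hp.one_lt (Nat.lt_succ_self k)) hFcard
  exact Cfsg.Agent.Lead.BG9.not_pRankLE_of_elementary hFP hFe hlt (pRankLE_map_cj g h)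

theorem centralizer_ne_top_of_le_coatom (hG : Cfsg.IsMinSimpleOddOrder G) {M X : Subgroup G}
    (hM : IsCoatom M) (hXM : X ≤ M) (hX1 : X ≠ ⊥) : centralizer (X : Set G) ≠ ⊤ := by
  obtain ⟨⟨x, hx⟩, hx1'⟩ := (Subgroup.ne_bot_iff_exists_ne_one (H := X)).mp hX1
  have hx1 : x ≠ 1 := fun h => hx1' (Subtype.ext h)
  intro h
  have h1 : centralizer (X : Set G) ≤ centralizer ({x} : Set G) :=
    Subgroup.centralizer_le (Set.singleton_subset_iff.mpr hx)
  exact Cfsg.Agent.Lead.TT.centralizer_singleton_ne_top hG.2.1 hM.1 (hXM hx) hx1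
    (top_le_iff.mp (h ▸ h1))

theorem not_isMulCommutative_of_le_commutator {V X : Subgroup G} (hX1 : X ≠ ⊥)
    (hXVV : X ≤ ⁅V, V⁆) : ¬ IsMulCommutative V := by
  intro hcomm
  apply hX1
  have : ⁅V, V⁆ = ⊥ := by
    rw [Subgroup.commutator_eq_bot_iff_le_centralizer]
    intro a ha
    rw [Subgroup.mem_centralizer_iff]
    intro b hb
    have := hcomm.is_comm.comm ⟨b, hb⟩ ⟨a, ha⟩
    exact congrArg Subtype.val this
  rw [eq_bot_iff, ← this]; exact hXVV

/-- **S1423** relative to the earlier frozen statements (and two p-group lemmas). -/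
theorem s1423_of (hG : Cfsg.IsMinSimpleOddOrder G) (hU : Uniq G) (h1350 : St1350 G)
    (h1412 : St1412 G) (h1414 : St1414 G) (h1422 : St1422 G) (hPG1 : PG1 G) (hPG2 : PG2 G)
    (M : Subgroup G) (hM : IsCoatom M) (p : ℕ) [Fact p.Prime] (hp : p ∈ Cfsg.sigma M)
    (X : Subgroup G) (hXM : X ≤ M) (hX : Nat.card X = p)
    (P : Sylow p ↥(Cfsg.sigmaCore M))
    (h : p ∈ Cfsg.beta M ∨ X ≤ ⁅Cfsg.sigmaCore M, Cfsg.sigmaCore M⁆) :
    (Subgroup.centralizer (X : Set G) ≤ M ∧ ∀ L : Subgroup G, IsCoatom L →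
        Subgroup.centralizer (X : Set G) ≤ L → L = M) ∧
      Cfsg.InUniqueMaximal ((P : Subgroup ↥(Cfsg.sigmaCore M)).map (Cfsg.sigmaCore M).subtype) ∧
      (P : Subgroup ↥(Cfsg.sigmaCore M)).map (Cfsg.sigmaCore M).subtype ≤ M := by
  have hpp : p.Prime := Fact.out
  have hXp : IsPGroup p X := IsPGroup.of_card (n := 1) (by rw [hX, pow_one])
  have hX1 : X ≠ ⊥ := by
    intro h0
    rw [h0, Subgroup.card_bot] at hX
    exact hpp.one_lt.ne hX
  have hp2 : p ≠ 2 :=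
    prime_ne_two_of_dvd hG (hp.2.1.trans (Subgroup.card_subgroup_dvd_card M))
  set P' : Subgroup G := (P : Subgroup ↥(Cfsg.sigmaCore M)).map (Cfsg.sigmaCore M).subtype
    with hP'
  have hP'Ms : IsSylowIn p P' (Cfsg.sigmaCore M) := isSylowIn_of_sylow P
  have hP'M : IsSylowIn p P' M :=
    Cfsg.Agent.Helper14.isSylowIn_of_not_dvd_relIndex hP'Ms (sigmaCore_le M)
      ((h1350 M hM).1.2.2 p hpp hp)
  obtain ⟨P₁, hP₁, hXP₁⟩ := exists_isSylowIn_ge hXM hXp
  have hP₁top := Cfsg.Agent.Helper4.BG10.sigma_isSylowIn_top hp hP₁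
  have hP₁ne : P₁ ≠ ⊤ := fun h0 => hM.1 (top_le_iff.mp (h0 ▸ hP₁.1))
  have hCtop := centralizer_ne_top_of_le_coatom hG hM hXM hX1
  -- key
  have key : ∃ B : Subgroup G, B ≤ P₁ ∧ B ≤ centralizer (X : Set G) ∧
      Cfsg.InUniqueMaximal B := by
    by_cases hβ : p ∈ Cfsg.beta M
    · obtain ⟨⟨-, hα⟩, hideal⟩ := hβ
      have hr : ¬ Cfsg.PRankLE p 2 P₁ := fun hr => hα (pRankLE_of_isSylowIn hP₁ hr)
      have hnc : ¬ IsCyclic P₁ := by
        intro hc
        apply hα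
        intro A hA hAp
        exact (pRankLE_one_of_cyclic_sylow hP₁ hc A hA hAp).trans
          (Nat.pow_le_pow_right hpp.pos (by norm_num))
      obtain ⟨A, hAP, hAe, hAc, hXA⟩ :=
        Cfsg.Agent.Helper4.BG10.exists_elementary_sq_ge hp2 hP₁.2.1 hnc hXP₁ hX
      obtain ⟨B, hBP, hBe, hAB⟩ :=
        hideal.2.2 (Cfsg.Agent.Helper4.BG10.sylowOfTop hP₁top) A hAP hAe hAc
      have hBcard : p ^ 3 ≤ Nat.card B := by
        obtain ⟨n, hn⟩ := IsPGroup.iff_card.mp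
          (Cfsg.Agent.Helper4.BG10.isPGroup_of_elementary hBe)
        rw [hn]
        apply Nat.pow_le_pow_right hpp.pos
        by_contra hlt
        have hn2 : n ≤ 2 := by omega
        have hle : Nat.card B ≤ Nat.card A := by
          rw [hn, hAc]
          exact Nat.pow_le_pow_right hpp.pos hn2
        exact hAB.ne (Subgroup.eq_of_le_of_card_ge hAB.le hle)
      refine ⟨B, hBP, ?_, Cfsg.Agent.Helper4.BG10.uniq_of_cube hG hU hBe hBcard⟩
      intro b hb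
      rw [Subgroup.mem_centralizer_iff]
      intro x hx
      exact Cfsg.Agent.Helper7.IsElementaryAbelian.commute hBe (hAB.le (hXA hx)) hb
    · have hXd := h.resolve_left hβ
      have hP₁Ms : P₁ ≤ Cfsg.sigmaCore M :=
        le_sigmaCore_of_isPGroup h1350 hM hp hP₁.1 hP₁.2.1
      have hP₁syl : IsSylowIn p P₁ (Cfsg.sigmaCore M) :=
        ⟨hP₁Ms, hP₁.2.1, fun Q hQ hQq hSQ =>
          hP₁.2.2 Q (hQ.trans (sigmaCore_le M)) hQq hSQ⟩
      have hnpc : Cfsg.HasNormalPComplement p ↥(Cfsg.sigmaCore M) :=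
        ((h1414 M hM).2.2.2.2 p hpp hp.2.1 hβ).2.1
      have hfocal := sylow_inf_commutator_le hP₁syl hnpc
      have hXRR : X ≤ ⁅P₁, P₁⁆ := (le_inf hXP₁ hXd).trans hfocal
      have hnab : ¬ IsMulCommutative P₁ := not_isMulCommutative_of_le_commutator hX1 hXRR
      have hP₁U := h1422 p P₁ hP₁.2.1 hnab
      by_cases hr : Cfsg.PRankLE p 2 P₁
      · rcases h1412 p (Cfsg.Agent.Helper4.BG10.sylowOfTop hP₁top) hr with
          hab | ⟨Q₁, Q₂, hsup, hcomm, -, hcard, -, hcyc, -⟩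
        · exact absurd hab hnab
        · have h2 := hPG2 p P₁ Q₁ Q₂ hsup hcomm hcard hcyc
          refine ⟨P₁, le_rfl, ?_, hP₁U⟩
          intro g hg
          rw [Subgroup.mem_centralizer_iff]
          intro x hx
          have h3 := h2 (hXRR hx)
          rw [Subgroup.mem_centralizer_iff] at h3
          exact (h3 g hg).symm
      · obtain ⟨B, hBR, hBC, hBe, hBcard⟩ := hPG1 p hp2 P₁ X hP₁.2.1 hr hXRR hX
        exact ⟨B, hBR, hBC, Cfsg.Agent.Helper4.BG10.uniq_of_cube hG hU hBe hBcard⟩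
  obtain ⟨B, hBP, hBC, hBU⟩ := key
  have hBM : B ≤ M := hBP.trans hP₁.1
  refine ⟨Cfsg.Agent.Helper4.BG10.onlyIn_of_uniq hM hBU hBM hBC hCtop, ?_, hP'M.1⟩
  obtain ⟨m, hm, hmeq⟩ := hP₁.exists_conj hP'M
  rw [hmeq]
  exact Cfsg.Agent.Lead.BG9.InUniqueMaximal.map_cj
    (Cfsg.Agent.Lead.BG9.InUniqueMaximal.mono hBU hBP hP₁ne) m

end Cfsg.Agent.H9.BG12
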