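import Mathlib
import Cfsg.Prelude.Def_OddOrderLocal
import Cfsg.Agent.Helper9.BG12k

set_option autoImplicit false
set_option linter.unusedSectionVars false
set_option linter.unusedVariables false
set_option linter.style.haveILetI false

/-! # p-group lemma PG2 for B&G Lemma 12.14 -/

namespace Cfsg.Agent.H9.BG12

open Subgroup Cfsg
open scoped commutatorElement

universe u

/-- a group of order `p ^ 3` has class at most `2` -/
theorem commutator_le_center_of_card_cube {H : Type*} [Group H] [Finite H] {p : ℕ}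
    [Fact p.Prime] (hcard : Nat.card H = p ^ 3) : commutator H ≤ center H := by
  have hp : p.Prime := Fact.out
  have hH : IsPGroup p H := IsPGroup.of_card hcard
  haveI : Nontrivial H := by
    rw [← Finite.one_lt_card_iff_nontrivial, hcard]
    exact Nat.one_lt_pow (by norm_num) hp.one_lt
  haveI hZ : Nontrivial (center H) := hH.center_nontrivial
  apply Subgroup.Normal.quotient_commutative_iff_commutator_le.mp
  have hmul : Nat.card (H ⧸ center H) * Nat.card (center H) = p ^ 3 := by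
    rw [← hcard]; exact (Subgroup.card_eq_card_quotient_mul_card_subgroup _).symm
  obtain ⟨k, hk⟩ := IsPGroup.iff_card.mp (hH.to_subgroup (center H))
  have hk1 : 1 ≤ k := by
    by_contra h0
    have : k = 0 := by omega
    rw [this, pow_zero] at hk
    have := Finite.one_lt_card_iff_nontrivial.mpr hZ
    omega
  have hk3 : k ≤ 3 := by
    by_contra h3
    have h4 : p ^ 3 < p ^ k := Nat.pow_lt_pow_right hp.one_lt (by omega)
    have h5 : Nat.card (center H) ≤ p ^ 3 := by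
      rw [← hmul]
      exact Nat.le_mul_of_pos_left _ Nat.card_pos
    omega
  have hq : Nat.card (H ⧸ center H) = p ^ (3 - k) := by
    have h1 : p ^ 3 = p ^ (3 - k) * p ^ k := by rw [← pow_add]; congr 1; omega
    rw [hk, h1] at hmul
    exact Nat.eq_of_mul_eq_mul_right (pow_pos hp.pos k) hmul
  have hcases : 3 - k = 0 ∨ 3 - k = 1 ∨ 3 - k = 2 := by omega
  rcases hcases with h0 | h1 | h2
  · rw [h0, pow_zero] at hq
    haveI : Subsingleton (H ⧸ center H) := (Nat.card_eq_one_iff_unique.mp hq).1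
    exact ⟨⟨fun a b => Subsingleton.elim _ _⟩⟩
  · rw [h1, pow_one] at hq
    haveI : IsCyclic (H ⧸ center H) := isCyclic_of_prime_card hq
    exact ⟨⟨fun a b => (IsCyclic.commGroup (α := H ⧸ center H)).mul_comm a b⟩⟩
  · rw [h2] at hq
    exact IsPGroup.isMulCommutative_of_card_eq_prime_sq hq

variable {G : Type u} [Group G] [Finite G]

/-- ambient form: for a subgroup of order `p ^ 3`, `P' ≤ C(P)` -/
theorem commutator_le_centralizer_of_card_cube {P : Subgroup G} {p : ℕ} [Fact p.Prime]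
    (hcard : Nat.card P = p ^ 3) : ⁅P, P⁆ ≤ centralizer (P : Set G) := by
  have h1 := commutator_le_center_of_card_cube (H := ↥P) hcard
  rw [Subgroup.commutator_le]
  intro a ha b hb
  rw [Subgroup.mem_centralizer_iff]
  intro g hg
  have h2 : ⁅(⟨a, ha⟩ : ↥P), ⟨b, hb⟩⁆ ∈ center ↥P :=
    h1 (Subgroup.commutator_mem_commutator (Subgroup.mem_top _) (Subgroup.mem_top _))
  rw [Subgroup.mem_center_iff] at h2
  have h3 := h2 ⟨g, hg⟩
  exact congrArg Subtype.val h3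

/-- **PG2**: a central product of a group of order `p ^ 3` with a cyclic group has class at
most `2`. -/
theorem pg2 : PG2 G := by
  intro p _ R P₁ P₂ hsup hcomm hcard hcyc
  have hP₁R : P₁ ≤ R := hsup ▸ le_sup_left
  have hP₂R : P₂ ≤ R := hsup ▸ le_sup_right
  -- P₂ is central in R
  have hP₂ab : ∀ b ∈ P₂, ∀ b' ∈ P₂, b * b' = b' * b := by
    intro b hb b' hb'
    haveI := hcyc
    have := (IsCyclic.commGroup (α := ↥P₂)).mul_comm ⟨b, hb⟩ ⟨b', hb'⟩
    exact congrArg Subtype.val this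
  have hdecomp : ∀ g ∈ R, ∃ a ∈ P₁, ∃ b ∈ P₂, g = a * b := by
    intro g hg
    have hle : P₁ ≤ Subgroup.normalizer (P₂ : Set G) := by
      intro a ha
      apply Subgroup.centralizer_le_normalizer
      rw [Subgroup.mem_centralizer_iff]
      intro c hc
      exact (hcomm a ha c hc).symm
    have h1 := Subgroup.coe_mul_of_left_le_normalizer_right P₁ P₂ hle
    have hg' : g ∈ ((P₁ ⊔ P₂ : Subgroup G) : Set G) := by rw [hsup]; exact hg
    rw [h1] at hg'
    obtain ⟨a, ha, c, hc, rfl⟩ := Set.mem_mul.mp hg'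
    exact ⟨a, ha, c, hc, rfl⟩
  have hP₂Z : ∀ b ∈ P₂, ∀ g ∈ R, b * g = g * b := by
    intro b hb g hg
    obtain ⟨a, ha, c, hc, rfl⟩ := hdecomp g hg
    calc b * (a * c) = (b * a) * c := by group
      _ = (a * b) * c := by rw [hcomm a ha b hb]
      _ = a * (b * c) := by group
      _ = a * (c * b) := by rw [hP₂ab b hb c hc]
      _ = a * c * b := by group
  have hD := commutator_le_centralizer_of_card_cube (P := P₁) hcard
  rw [Subgroup.commutator_le]
  intro g hg h hh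
  obtain ⟨a, ha, b, hb, rfl⟩ := hdecomp g hg
  obtain ⟨a', ha', b', hb', rfl⟩ := hdecomp h hh
  have hba' : b * a' = a' * b := (hcomm a' ha' b hb).symm
  have hb'a : b' * a = a * b' := (hcomm a ha b' hb').symm
  have hbb' : b * b' = b' * b := hP₂ab b hb b' hb'
  have hcomm_eq : ⁅a * b, a' * b'⁆ = ⁅a, a'⁆ := by
    rw [commutatorElement_def, commutatorElement_def]
    have e1 : (a * b) * (a' * b') = (a * a') * (b * b') := by
      calc (a * b) * (a' * b') = a * (b * a') * b' := by group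
        _ = a * (a' * b) * b' := by rw [hba']
        _ = (a * a') * (b * b') := by group
    have e2 : (a * b)⁻¹ * (a' * b')⁻¹ = (a⁻¹ * a'⁻¹) * (b⁻¹ * b'⁻¹) := by
      have hbinv : b⁻¹ * a⁻¹ = a⁻¹ * b⁻¹ := by
        have := hcomm a ha b hb
        calc b⁻¹ * a⁻¹ = (a * b)⁻¹ := by group
          _ = (b * a)⁻¹ := by rw [this]
          _ = a⁻¹ * b⁻¹ := by group
      have hb'inv : b'⁻¹ * a'⁻¹ = a'⁻¹ * b'⁻¹ := by
        have := hcomm a' ha' b' hb'
        calc b'⁻¹ * a'⁻¹ = (a' * b')⁻¹ := by group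
          _ = (b' * a')⁻¹ := by rw [this]
          _ = a'⁻¹ * b'⁻¹ := by group
      have hbinva' : b⁻¹ * a'⁻¹ = a'⁻¹ * b⁻¹ := by
        have := hcomm a' ha' b hb
        calc b⁻¹ * a'⁻¹ = (a' * b)⁻¹ := by group
          _ = (b * a')⁻¹ := by rw [this]
          _ = a'⁻¹ * b⁻¹ := by group
      calc (a * b)⁻¹ * (a' * b')⁻¹ = (b⁻¹ * a⁻¹) * (b'⁻¹ * a'⁻¹) := by group
        _ = (a⁻¹ * b⁻¹) * (a'⁻¹ * b'⁻¹) := by rw [hbinv, hb'inv]
        _ = a⁻¹ * (b⁻¹ * a'⁻¹) * b'⁻¹ := by group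
        _ = a⁻¹ * (a'⁻¹ * b⁻¹) * b'⁻¹ := by rw [hbinva']
        _ = (a⁻¹ * a'⁻¹) * (b⁻¹ * b'⁻¹) := by group
    have e3 : (b * b') * (a⁻¹ * a'⁻¹) = (a⁻¹ * a'⁻¹) * (b * b') := by
      have hx : a⁻¹ * a'⁻¹ ∈ R := R.mul_mem (R.inv_mem (hP₁R ha)) (R.inv_mem (hP₁R ha'))
      exact hP₂Z (b * b') (P₂.mul_mem hb hb') _ hx
    have e4 : (b * b') * (b⁻¹ * b'⁻¹) = 1 := by
      calc (b * b') * (b⁻¹ * b'⁻¹) = (b' * b) * (b⁻¹ * b'⁻¹) := by rw [hbb']
        _ = 1 := by group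
    calc (a * b) * (a' * b') * (a * b)⁻¹ * (a' * b')⁻¹
        = ((a * b) * (a' * b')) * ((a * b)⁻¹ * (a' * b')⁻¹) := by group
      _ = ((a * a') * (b * b')) * ((a⁻¹ * a'⁻¹) * (b⁻¹ * b'⁻¹)) := by rw [e1, e2]
      _ = (a * a') * ((b * b') * (a⁻¹ * a'⁻¹)) * (b⁻¹ * b'⁻¹) := by group
      _ = (a * a') * ((a⁻¹ * a'⁻¹) * (b * b')) * (b⁻¹ * b'⁻¹) := by rw [e3]
      _ = (a * a') * (a⁻¹ * a'⁻¹) * ((b * b') * (b⁻¹ * b'⁻¹)) := by group
      _ = (a * a') * (a⁻¹ * a'⁻¹) * 1 := by rw [e4]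
      _ = a * a' * a⁻¹ * a'⁻¹ := by group
  rw [hcomm_eq]
  have hmem : ⁅a, a'⁆ ∈ ⁅P₁, P₁⁆ := Subgroup.commutator_mem_commutator ha ha'
  have hc1 := hD hmem
  rw [Subgroup.mem_centralizer_iff] at hc1 ⊢
  intro g hg
  obtain ⟨a₂, ha₂, b₂, hb₂, rfl⟩ := hdecomp g hg
  have hDP₁ : ⁅a, a'⁆ ∈ P₁ := by
    rw [commutatorElement_def]
    exact P₁.mul_mem (P₁.mul_mem (P₁.mul_mem ha ha') (P₁.inv_mem ha)) (P₁.inv_mem ha')
  have h1 := hc1 a₂ ha₂
  have h2 := hcomm _ hDP₁ b₂ hb₂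
  calc a₂ * b₂ * ⁅a, a'⁆ = a₂ * (b₂ * ⁅a, a'⁆) := by group
    _ = a₂ * (⁅a, a'⁆ * b₂) := by rw [h2]
    _ = (a₂ * ⁅a, a'⁆) * b₂ := by group
    _ = (⁅a, a'⁆ * a₂) * b₂ := by rw [h1]
    _ = ⁅a, a'⁆ * (a₂ * b₂) := by group

end Cfsg.Agent.H9.BG12
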