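import Mathlib
import Cfsg.Prelude.Def_OddOrderLocal
import Cfsg.Agent.Helper9.BG12l
import Cfsg.Agent.Lead.GenCent
import Cfsg.Agent.Helper4.NMTools

set_option autoImplicit false
set_option linter.unusedSectionVars false
set_option linter.unusedVariables false
set_option linter.style.haveILetI false

/-! # General lemmas for B&G Lemma 12.13 (= S1422) -/

namespace Cfsg.Agent.H9.BG12

open Subgroup Cfsg
open Cfsg.Agent.Helper14 (IsSylowIn cj exists_isSylowIn_ge isSylowIn_of_sylow)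
open Cfsg.Agent.Helper4.BG10 (Uniq)
open Cfsg.Agent.Lead (RelQ relMk bar ker_relMk relMk_commute_iff bar_le_normalizer_bar
  card_bar_dvd pgroup_le_of_centralizers)
open scoped Pointwise

universe u
variable {G : Type u} [Group G] [Finite G]

/-- Generation by centralizers for a `q`-group `Q` acted on by two elements `x, y` which commute
and have order dividing `r` *modulo a subgroup `X` centralizing... meeting `Q` trivially*. -/
theorem pgroup_le_of_centralizers_mod {q : ℕ} [Fact q.Prime] (Q : Subgroup G)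
    (hQ : IsPGroup q Q) {r : ℕ} (hr : r.Prime) (hrq : (Nat.card Q).Coprime r) (X : Subgroup G)
    (hQX : Q ≤ normalizer (X : Set G)) (hXQ : X ⊓ Q = ⊥)
    {x y : G} (hxQ : x ∈ normalizer (Q : Set G)) (hyQ : y ∈ normalizer (Q : Set G))
    (hxX : x ∈ normalizer (X : Set G)) (hyX : y ∈ normalizer (X : Set G))
    (hxy : x * y * x⁻¹ * y⁻¹ ∈ X) (hx : x ^ r ∈ X) (hy : y ^ r ∈ X) (J : Subgroup G)
    (hJy : Q ⊓ centralizer {y} ≤ J) (hJxy : ∀ j < r, Q ⊓ centralizer {x * y ^ j} ≤ J) :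
    Q ≤ J := by
  have hQbar : IsPGroup q (bar X Q) := (hQ.comap_subtype).map (relMk X)
  have hcop : (Nat.card (bar X Q)).Coprime r := hrq.coprime_dvd_left (card_bar_dvd X Q)
  have hbarnorm : ∀ z : G, z ∈ normalizer (Q : Set G) → ∀ hzX : z ∈ normalizer (X : Set G),
      relMk X ⟨z, hzX⟩ ∈ normalizer (bar X Q : Set (RelQ X)) := by
    intro z hz hzX
    have h1 := bar_le_normalizer_bar X (A := zpowers z) (S := Q) (zpowers_le.mpr hz)
    exact h1 ⟨⟨z, hzX⟩, mem_zpowers z, rfl⟩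
  have hone : ∀ z : G, ∀ hzX : z ∈ normalizer (X : Set G), z ^ r ∈ X →
      relMk X ⟨z, hzX⟩ ^ r = 1 := by
    intro z hzX hzr
    rw [← map_pow, ← MonoidHom.mem_ker, ker_relMk, mem_subgroupOf]
    simpa using hzr
  have hgen : ∀ z : G, z ∈ normalizer (Q : Set G) → ∀ hzX : z ∈ normalizer (X : Set G),
      Q ⊓ centralizer {z} ≤ J →
      bar X Q ⊓ centralizer {relMk X ⟨z, hzX⟩} ≤ bar X (J ⊓ Q) := by
    intro z hz hzX hJz
    rintro w ⟨hwV, hwc⟩
    obtain ⟨v, hv, rfl⟩ := hwV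
    have hvQ : (v : G) ∈ Q := hv
    have hwc' : relMk X v ∈ centralizer {relMk X ⟨z, hzX⟩} := hwc
    rw [mem_centralizer_singleton_iff] at hwc'
    have h1 := (relMk_commute_iff X ⟨z, hzX⟩ v).mp hwc'.symm
    have h1' : z * (v : G) * z⁻¹ * (v : G)⁻¹ ∈ X := h1
    have h2 : z * (v : G) * z⁻¹ * (v : G)⁻¹ ∈ Q := by
      have := (mem_normalizer_iff.mp hz (v : G)).mp hvQ
      exact Q.mul_mem this (Q.inv_mem hvQ)
    have h3 : z * (v : G) * z⁻¹ * (v : G)⁻¹ = 1 := by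
      have : z * (v : G) * z⁻¹ * (v : G)⁻¹ ∈ X ⊓ Q := ⟨h1', h2⟩
      rw [hXQ] at this
      exact mem_bot.mp this
    have h4 : (v : G) ∈ centralizer {z} := by
      rw [mem_centralizer_singleton_iff]
      have : z * (v : G) = (v : G) * z := by
        calc z * (v : G) = (z * (v : G) * z⁻¹ * (v : G)⁻¹) * ((v : G) * z) := by group
          _ = (v : G) * z := by rw [h3, one_mul]
      exact this.symm
    have h5 : (v : G) ∈ J ⊓ Q := ⟨hJz ⟨hvQ, h4⟩, hvQ⟩
    exact ⟨v, h5, rfl⟩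
  have hmain : bar X Q ≤ bar X (J ⊓ Q) := by
    refine pgroup_le_of_centralizers (bar X Q) hQbar hr hcop (x := relMk X ⟨x, hxX⟩)
      (y := relMk X ⟨y, hyX⟩) (hbarnorm x hxQ hxX) (hbarnorm y hyQ hyX) ?_
      (hone x hxX hx) (hone y hyX hy) (bar X (J ⊓ Q)) (hgen y hyQ hyX hJy) ?_
    · exact (relMk_commute_iff X ⟨x, hxX⟩ ⟨y, hyX⟩).mpr hxy
    · intro j hj
      have hz : x * y ^ j ∈ normalizer (Q : Set G) := mul_mem hxQ (pow_mem hyQ j)
      have hzX : x * y ^ j ∈ normalizer (X : Set G) := mul_mem hxX (pow_mem hyX j)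
      have := hgen (x * y ^ j) hz hzX (hJxy j hj)
      have he : relMk X ⟨x * y ^ j, hzX⟩ =
          relMk X ⟨x, hxX⟩ * relMk X ⟨y, hyX⟩ ^ j := by
        rw [← map_pow, ← map_mul]
        rfl
      rw [he] at this
      exact this
  intro v hv
  have hvX : v ∈ normalizer (X : Set G) := hQX hv
  have h1 : relMk X ⟨v, hvX⟩ ∈ bar X Q := ⟨⟨v, hvX⟩, hv, rfl⟩
  obtain ⟨u, hu, hue⟩ := hmain h1
  have huJ : (u : G) ∈ J ⊓ Q := hu
  have h2 : relMk X (u⁻¹ * ⟨v, hvX⟩) = 1 := by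
    rw [map_mul, map_inv, hue, inv_mul_cancel]
  rw [← MonoidHom.mem_ker, ker_relMk, mem_subgroupOf] at h2
  have h3 : (u : G)⁻¹ * v ∈ X := by simpa using h2
  have h4 : (u : G)⁻¹ * v ∈ Q := Q.mul_mem (Q.inv_mem huJ.2) hv
  have h5 : (u : G)⁻¹ * v = 1 := by
    have : (u : G)⁻¹ * v ∈ X ⊓ Q := ⟨h3, h4⟩
    rw [hXQ] at this
    exact mem_bot.mp this
  have h6 : v = (u : G) := by
    calc v = (u : G) * ((u : G)⁻¹ * v) := by group
      _ = (u : G) := by rw [h5, mul_one]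
  rw [h6]
  exact huJ.1

end Cfsg.Agent.H9.BG12
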