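import Mathlib
import Cfsg.Prelude.Def_OddOrderLocal
import Cfsg.Agent.Helper9.BG12m
import Cfsg.Agent.Helper26.Thompson
import Cfsg.Agent.Helper7.Layer

set_option autoImplicit false
set_option linter.unusedSectionVars false
set_option linter.unusedVariables false
set_option linter.style.haveILetI false

/-! # Further lemmas for B&G Lemma 12.13 (= S1422): ideal primes, groups of order `p ^ 3` -/

namespace Cfsg.Agent.H9.BG12

open Subgroup Cfsg
open Cfsg.Agent.Helper14 (IsSylowIn cj exists_isSylowIn_ge isSylowIn_of_sylow)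
open Cfsg.Agent.Helper4.BG10 (Uniq)
open scoped Pointwise

universe u
variable {G : Type u} [Group G] [Finite G]

/-- an elementary abelian subgroup of order `p ^ 2` properly contained in an elementary abelian
subgroup is a uniqueness subgroup -/
theorem uniq_of_sq_lt (hG : Cfsg.IsMinSimpleOddOrder G) (hU : Uniq G) {p : ℕ} [hp : Fact p.Prime]
    {A B : Subgroup G} (hAe : Cfsg.IsElementaryAbelian p A) (hAcard : Nat.card A = p ^ 2)
    (hBe : Cfsg.IsElementaryAbelian p B) (hAB : A < B) : Cfsg.InUniqueMaximal A := by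
  have hBcard := Cfsg.Agent.Helper4.BG10.card_eq_sq_of_lt hBe hAcard hAB
  have hp1 := hp.out.one_lt
  have h12 : p ^ 1 < p ^ 2 := Nat.pow_lt_pow_right hp1 (by norm_num)
  have h23 : p ^ 2 < p ^ 3 := Nat.pow_lt_pow_right hp1 (by norm_num)
  have hBC : B ≤ centralizer (A : Set G) := by
    intro b hb
    rw [mem_centralizer_iff]
    intro a ha
    exact Cfsg.Agent.Helper7.IsElementaryAbelian.commute hBe (hAB.le ha) hb
  refine hU A (Cfsg.Agent.Helper4.BG10.elementary_ne_top hG hAe)
    (Cfsg.Agent.Helper4.BG10.rankLE_of_elementary hAe (by omega)) (Or.inr ?_)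
  intro h
  exact Cfsg.Agent.Lead.BG9.not_pRankLE_of_elementary hBC hBe (by omega) (h p hp.out)

/-- for an ideal prime `r`, every subgroup of rank at least `2` of a Sylow `r`-subgroup of `G`
is a uniqueness subgroup -/
theorem uniq_of_ideal (hG : Cfsg.IsMinSimpleOddOrder G) (hU : Uniq G) {r : ℕ} [hr : Fact r.Prime]
    (hideal : Cfsg.IsIdealPrime r G) {R : Subgroup G} (hR : IsSylowIn r R ⊤) {R₀ : Subgroup G}
    (hR₀ : R₀ ≤ R) (hne : R₀ ≠ ⊤) (hrk : ¬ Cfsg.PRankLE r 1 R₀) : Cfsg.InUniqueMaximal R₀ := by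
  obtain ⟨F, hFR, hFe, hFcard⟩ := Cfsg.Agent.Lead.TT.exists_elementary_of_not_pRankLE' 1 R₀ hrk
  by_cases h3 : r ^ 3 ≤ Nat.card F
  · exact Cfsg.Agent.Lead.BG9.InUniqueMaximal.mono
      (Cfsg.Agent.Helper4.BG10.uniq_of_cube hG hU hFe h3) hFR hne
  · have hcard : Nat.card F = r ^ 2 := by
      obtain ⟨k, hk⟩ := IsPGroup.iff_card.mp (Cfsg.Agent.Helper4.BG10.isPGroup_of_elementary hFe)
      rw [hk] at hFcard h3 ⊢
      have h1 : 2 ≤ k := (Nat.pow_le_pow_iff_right hr.out.one_lt).mp hFcard
      have h2 : k < 3 := by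
        by_contra hk3
        exact h3 (Nat.pow_le_pow_right hr.out.pos (by omega))
      have : k = 2 := by omega
      rw [this]
    obtain ⟨B, -, hBe, hFB⟩ := hideal.2.2 (Cfsg.Agent.Helper4.BG10.sylowOfTop hR) F
      (hFR.trans hR₀) hFe hcard
    exact Cfsg.Agent.Lead.BG9.InUniqueMaximal.mono
      (uniq_of_sq_lt hG hU hFe hcard hBe hFB) hFR hne

/-- an `r`-subgroup (`r` odd) of `r`-rank at most `1` is cyclic -/
theorem isCyclic_of_pRankLE_one (hG : Cfsg.IsMinSimpleOddOrder G) {r : ℕ} [hr : Fact r.Prime]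
    {C : Subgroup G} (hC : IsPGroup r C) (hrk : Cfsg.PRankLE r 1 C) : IsCyclic C := by
  by_contra hnc
  obtain ⟨A, hAC, hAe, hAcard⟩ := exists_elemAb_sq_le hG hC hnc
  have h12 : r ^ 1 < Nat.card A := by
    rw [hAcard]; exact Nat.pow_lt_pow_right hr.out.one_lt (by norm_num)
  exact Cfsg.Agent.Lead.BG9.not_pRankLE_of_elementary hAC hAe h12 hrk

/-- a subgroup of prime order `p` is elementary abelian -/
theorem isElementaryAbelian_of_card_prime {p : ℕ} [hp : Fact p.Prime] {X : Subgroup G}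
    (hX : Nat.card X = p) : Cfsg.IsElementaryAbelian p X := by
  rw [Cfsg.Agent.Helper26.isElementaryAbelian_iff]
  haveI : IsCyclic X := isCyclic_of_prime_card hX
  refine ⟨fun a ha b hb => ?_, fun a ha => ?_⟩
  · have := (IsCyclic.commGroup (α := ↥X)).mul_comm ⟨a, ha⟩ ⟨b, hb⟩
    exact congrArg Subtype.val this
  · have h1 : (⟨a, ha⟩ : ↥X) ^ p = 1 := by
      rw [← hX]; exact pow_card_eq_one'
    exact congrArg Subtype.val h1

/-- a subgroup of prime order is generated by any of its non-identity elements -/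
theorem zpowers_eq_of_card_prime' {p : ℕ} [hp : Fact p.Prime] {X : Subgroup G}
    (hX : Nat.card X = p) {a : G} (ha : a ∈ X) (ha1 : a ≠ 1) : zpowers a = X := by
  apply Subgroup.eq_of_le_of_card_ge (zpowers_le.mpr ha)
  rw [Nat.card_zpowers, hX]
  have h1 : orderOf a ∣ p := by
    have := orderOf_dvd_natCard (⟨a, ha⟩ : ↥X)
    rw [hX] at this
    rwa [← Subgroup.orderOf_coe] at this
  rcases (Nat.dvd_prime hp.out).mp h1 with h | h
  · exact absurd (orderOf_eq_one_iff.mp h) ha1
  · exact h.ge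

/-- the centre of a nonabelian group of order `p ^ 3` has order `p` -/
theorem card_center_of_card_cube {H : Type*} [Group H] [Finite H] {p : ℕ}
    [Fact p.Prime] (hcard : Nat.card H = p ^ 3) (hnab : ¬ IsMulCommutative H) :
    Nat.card (center H) = p := by
  have hp : p.Prime := Fact.out
  have hH : IsPGroup p H := IsPGroup.of_card hcard
  haveI : Nontrivial H := by
    rw [← Finite.one_lt_card_iff_nontrivial, hcard]
    exact Nat.one_lt_pow (by norm_num) hp.one_lt
  haveI hZ : Nontrivial (center H) := hH.center_nontrivial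
  have hmul : Nat.card (H ⧸ center H) * Nat.card (center H) = p ^ 3 := by
    rw [← hcard]; exact (Subgroup.card_eq_card_quotient_mul_card_subgroup _).symm
  obtain ⟨k, hk⟩ := IsPGroup.iff_card.mp (hH.to_subgroup (center H))
  have hk1 : 1 ≤ k := by
    by_contra h0
    have : k = 0 := by omega
    rw [this, pow_zero] at hk
    have := Finite.one_lt_card_iff_nontrivial.mpr hZ
    omega
  have hk3 : k ≤ 3 := by
    by_contra h3
    have h4 : p ^ 3 < p ^ k := Nat.pow_lt_pow_right hp.one_lt (by omega)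
    have h5 : Nat.card (center H) ≤ p ^ 3 := by
      rw [← hmul]
      exact Nat.le_mul_of_pos_left _ Nat.card_pos
    omega
  have hq : Nat.card (H ⧸ center H) = p ^ (3 - k) := by
    have h1 : p ^ 3 = p ^ (3 - k) * p ^ k := by rw [← pow_add]; congr 1; omega
    rw [hk, h1] at hmul
    exact Nat.eq_of_mul_eq_mul_right (pow_pos hp.pos k) hmul
  have hcases : k = 1 ∨ k = 2 ∨ k = 3 := by omega
  rcases hcases with h1 | h2 | h3
  · rw [hk, h1, pow_one]
  · exfalso
    apply hnab
    rw [h2] at hq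
    have hq' : Nat.card (H ⧸ center H) = p := by simpa using hq
    haveI : IsCyclic (H ⧸ center H) := isCyclic_of_prime_card hq'
    exact MonoidHom.isMulCommutative_of_isCyclic_of_ker_le_center (QuotientGroup.mk' (center H))
      (by rw [QuotientGroup.ker_mk'])
  · exfalso
    apply hnab
    have htop : center H = ⊤ := by
      apply Subgroup.eq_top_of_card_eq
      rw [hk, h3, hcard]
    refine ⟨⟨fun a b => ?_⟩⟩
    have ha : a ∈ center H := htop ▸ Subgroup.mem_top a
    exact ((Subgroup.mem_center_iff.mp ha) b).symm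

section Extraspecial

variable {p : ℕ} [hp : Fact p.Prime] {P₁ : Subgroup G}

/-- `Z(P₁)` has order `p` for a nonabelian subgroup `P₁` of order `p ^ 3` -/
theorem card_inf_centralizer_of_card_cube (hcard : Nat.card P₁ = p ^ 3)
    (hnab : ¬ IsMulCommutative P₁) :
    Nat.card (P₁ ⊓ centralizer (P₁ : Set G) : Subgroup G) = p := by
  rw [← Cfsg.Agent.Helper7.map_subtype_center P₁,
    Subgroup.card_map_of_injective (Subgroup.subtype_injective P₁)]
  exact card_center_of_card_cube hcard hnab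

theorem commutator_le_inf_centralizer_of_card_cube (hcard : Nat.card P₁ = p ^ 3) :
    ⁅P₁, P₁⁆ ≤ P₁ ⊓ centralizer (P₁ : Set G) := by
  refine le_inf ?_ (commutator_le_centralizer_of_card_cube hcard)
  rw [Subgroup.commutator_le]
  intro a ha b hb
  rw [commutatorElement_def]
  exact P₁.mul_mem (P₁.mul_mem (P₁.mul_mem ha hb) (P₁.inv_mem ha)) (P₁.inv_mem hb)

/-- a non-central element `s` of `P₁` has a commutator `t s t⁻¹ s⁻¹ ≠ 1` in `Z(P₁)` -/
theorem exists_commutator_ne_one (hcard : Nat.card P₁ = p ^ 3) {s : G} (hs : s ∈ P₁)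
    (hsX : s ∉ P₁ ⊓ centralizer (P₁ : Set G)) :
    ∃ t ∈ P₁, t * s * t⁻¹ * s⁻¹ ∈ P₁ ⊓ centralizer (P₁ : Set G) ∧ t * s * t⁻¹ * s⁻¹ ≠ 1 := by
  have h1 : s ∉ centralizer (P₁ : Set G) := fun h => hsX ⟨hs, h⟩
  rw [Subgroup.mem_centralizer_iff] at h1
  push Not at h1
  obtain ⟨t, ht, hts⟩ := h1
  refine ⟨t, ht, ?_, ?_⟩
  · apply commutator_le_inf_centralizer_of_card_cube hcard
    have := Subgroup.commutator_mem_commutator (H₁ := P₁) (H₂ := P₁) ht hs
    rwa [commutatorElement_def] at this
  · intro h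
    apply hts
    calc t * s = (t * s * t⁻¹ * s⁻¹) * (s * t) := by group
      _ = s * t := by rw [h, one_mul]

end Extraspecial

end Cfsg.Agent.H9.BG12
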