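import Mathlib
import Cfsg.Prelude.Def_OddOrderLocal
import Cfsg.Agent.Helper9.BG12n

set_option autoImplicit false
set_option linter.unusedSectionVars false
set_option linter.unusedVariables false
set_option linter.style.haveILetI false

/-! # B&G Lemma 12.13 (= S1422): ownership of subgroups of order `p`, lines of `X × ⟨s⟩` -/

namespace Cfsg.Agent.H9.BG12

open Subgroup Cfsg
open Cfsg.Agent.Helper14 (IsSylowIn cj cj_apply map_cj_le_iff map_cj_normalizer
  map_cj_eq_self_of_mem map_cj_inv_map_cj mem_map_cj)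
open Cfsg.Agent.Helper4.BG10 (Uniq)
open scoped Pointwise

universe u
variable {G : Type u} [Group G] [Finite G]

/-- `L` is the unique maximal subgroup containing `N_G(A₀)` -/
def Owns (L A₀ : Subgroup G) : Prop :=
  normalizer (A₀ : Set G) ≤ L ∧
    ∀ L' : Subgroup G, IsCoatom L' → normalizer (A₀ : Set G) ≤ L' → L' = L

theorem Owns.eq {L L' A₀ : Subgroup G} (h : Owns L A₀) (h' : Owns L' A₀) (hL : IsCoatom L) :
    L = L' := h'.2 L hL h.1

theorem Owns.map_cj {L A₀ : Subgroup G} (h : Owns L A₀) (hL : IsCoatom L) {g : G}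
    (hg : g ∈ L) : Owns L (A₀.map (cj g)) := by
  constructor
  · rw [← map_cj_normalizer]
    calc (normalizer (A₀ : Set G)).map (cj g) ≤ L.map (cj g) := Subgroup.map_mono h.1
      _ = L := map_cj_eq_self_of_mem hg
  · intro L' hL' hN
    rw [← map_cj_normalizer, map_cj_le_iff] at hN
    have h1 := h.2 (L'.map (cj g⁻¹)) (Cfsg.Agent.Lead.BG9.isCoatom_map_cj hL' g⁻¹) hN
    have h2 : L' = (L'.map (cj g⁻¹)).map (cj g) := (map_cj_inv_map_cj L' g).symm
    rw [h2, h1]
    exact map_cj_eq_self_of_mem hg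

section Lines

variable {p : ℕ} [hp : Fact p.Prime] {P₁ : Subgroup G}

/-- `X × ⟨s⟩` is elementary abelian of order `p ^ 2` (for `X` central of order `p`, `s ∉ X` of
order `p`). -/
theorem isElementaryAbelian_sup_zpowers {X : Subgroup G} (hX : Nat.card X = p) {s : G}
    (hsp : s ^ p = 1) (hsX : ∀ x ∈ X, x * s = s * x) :
    Cfsg.IsElementaryAbelian p (X ⊔ zpowers s) := by
  apply Cfsg.Agent.Helper26.isElementaryAbelian_sup (isElementaryAbelian_of_card_prime hX)
  · rw [Cfsg.Agent.Helper26.isElementaryAbelian_iff]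
    refine ⟨fun a ha b hb => ?_, fun a ha => ?_⟩
    · obtain ⟨i, rfl⟩ := mem_zpowers_iff.mp ha
      obtain ⟨j, rfl⟩ := mem_zpowers_iff.mp hb
      exact (Commute.zpow_zpow_self s i j).eq
    · obtain ⟨i, rfl⟩ := mem_zpowers_iff.mp ha
      rw [← zpow_natCast, ← zpow_mul, mul_comm, zpow_mul, zpow_natCast, hsp, one_zpow]
  · intro a ha b hb
    obtain ⟨i, rfl⟩ := mem_zpowers_iff.mp hb
    exact ((Commute.zpow_right (hsX a ha) i)).eq

theorem card_sup_zpowers {X : Subgroup G} (hX : Nat.card X = p) {s : G}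
    (hsp : s ^ p = 1) (hs : s ∉ X) (hsX : ∀ x ∈ X, x * s = s * x) :
    Nat.card (X ⊔ zpowers s : Subgroup G) = p ^ 2 := by
  have hs1 : s ≠ 1 := fun h => hs (h ▸ X.one_mem)
  have hord : orderOf s = p := orderOf_eq_prime hsp hs1
  have hZ : Nat.card (zpowers s) = p := by rw [Nat.card_zpowers, hord]
  have hnorm : zpowers s ≤ normalizer (X : Set G) := by
    refine le_trans ?_ (centralizer_le_normalizer _)
    rw [zpowers_le, Subgroup.mem_centralizer_iff]
    intro x hx
    exact hsX x hx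
  have h1 := Cfsg.Agent.Helper17.card_sup_mul_card_inf X (zpowers s) hnorm
  have hinf : X ⊓ zpowers s = ⊥ := by
    by_contra hne
    obtain ⟨⟨a, ha⟩, ha1'⟩ := (Subgroup.ne_bot_iff_exists_ne_one (H := X ⊓ zpowers s)).mp hne
    have ha1 : a ≠ 1 := fun h' => ha1' (Subtype.ext h')
    have h2 : zpowers a = zpowers s := zpowers_eq_of_card_prime' hZ ha.2 ha1
    apply hs
    have : s ∈ zpowers a := h2 ▸ mem_zpowers s
    exact (zpowers_le.mpr ha.1) this
  rw [hinf, Subgroup.card_bot, mul_one, hX, hZ] at h1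
  rw [h1, sq]

/-- **lines of `X × ⟨s⟩`**: every subgroup of order `p` of `X ⊔ ⟨s⟩` other than `X = Z(P₁)` is
`P₁`-conjugate to `⟨s⟩`. -/
theorem exists_conj_of_line (hcard : Nat.card P₁ = p ^ 3) (hnab : ¬ IsMulCommutative P₁)
    {s : G} (hs : s ∈ P₁) (hsp : s ^ p = 1) (hsX : s ∉ P₁ ⊓ centralizer (P₁ : Set G))
    {A₀ : Subgroup G} (hA₀ : A₀ ≤ (P₁ ⊓ centralizer (P₁ : Set G)) ⊔ zpowers s)
    (hA₀c : Nat.card A₀ = p) (hne : A₀ ≠ P₁ ⊓ centralizer (P₁ : Set G)) :
    ∃ g ∈ P₁, A₀ = (zpowers s).map (cj g) := by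
  set X : Subgroup G := P₁ ⊓ centralizer (P₁ : Set G) with hXdef
  have hXc : Nat.card X = p := card_inf_centralizer_of_card_cube hcard hnab
  have hXcomm : ∀ x ∈ X, ∀ y ∈ P₁, x * y = y * x := by
    intro x hx y hy
    exact ((Subgroup.mem_centralizer_iff.mp hx.2) y hy).symm
  have hs1 : s ≠ 1 := fun h => hsX (h ▸ X.one_mem)
  have hord : orderOf s = p := orderOf_eq_prime hsp hs1
  have hZc : Nat.card (zpowers s) = p := by rw [Nat.card_zpowers, hord]
  -- a generator of A₀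
  have hA₀ne : A₀ ≠ ⊥ := by
    intro h
    rw [h, Subgroup.card_bot] at hA₀c
    exact hp.out.one_lt.ne hA₀c
  obtain ⟨⟨a, haA⟩, ha1'⟩ := (Subgroup.ne_bot_iff_exists_ne_one (H := A₀)).mp hA₀ne
  have ha1 : a ≠ 1 := fun h => ha1' (Subtype.ext h)
  have hgenA : zpowers a = A₀ := zpowers_eq_of_card_prime' hA₀c haA ha1
  -- decompose `a = x' * s ^ i`
  have hdec : ∃ x' ∈ X, ∃ z ∈ zpowers s, a = x' * z := by
    have hle : X ≤ Subgroup.normalizer ((zpowers s : Subgroup G) : Set G) := by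
      refine le_trans ?_ (centralizer_le_normalizer _)
      intro x hx
      rw [Subgroup.mem_centralizer_iff]
      intro z hz
      obtain ⟨i, rfl⟩ := mem_zpowers_iff.mp hz
      exact ((Commute.zpow_right (hXcomm x hx s hs) i).eq).symm
    have h1 := Subgroup.coe_mul_of_left_le_normalizer_right X (zpowers s) hle
    have hg' : a ∈ ((X ⊔ zpowers s : Subgroup G) : Set G) := hA₀ haA
    rw [h1] at hg'
    obtain ⟨x', hx', z, hz, rfl⟩ := Set.mem_mul.mp hg'
    exact ⟨x', hx', z, hz, rfl⟩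
  obtain ⟨x', hx', z, hz, haz⟩ := hdec
  have hz1 : z ≠ 1 := by
    intro h
    apply hne
    rw [h, mul_one] at haz
    have : A₀ ≤ X := by rw [← hgenA, zpowers_le, haz]; exact hx'
    exact Subgroup.eq_of_le_of_card_ge this (by rw [hXc, hA₀c])
  have hgenz : zpowers z = zpowers s := zpowers_eq_of_card_prime' hZc hz hz1
  have hsz : s ∈ zpowers z := hgenz ▸ mem_zpowers s
  obtain ⟨j, hj⟩ := mem_zpowers_iff.mp hsz
  have hx'z : Commute x' z := by
    obtain ⟨i, rfl⟩ := mem_zpowers_iff.mp hz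
    exact Commute.zpow_right (hXcomm x' hx' s hs) i
  have haj : a ^ j = x' ^ j * s := by
    rw [haz, hx'z.mul_zpow, hj]
  have hx'' : x' ^ j ∈ X := X.zpow_mem hx' j
  have haj1 : a ^ j ≠ 1 := by
    intro h
    rw [haj] at h
    apply hsX
    have : s = (x' ^ j)⁻¹ := by
      calc s = (x' ^ j)⁻¹ * (x' ^ j * s) := by group
        _ = (x' ^ j)⁻¹ := by rw [h, mul_one]
    rw [this]
    exact X.inv_mem hx''
  have hgen2 : zpowers (a ^ j) = A₀ :=
    zpowers_eq_of_card_prime' hA₀c (A₀.zpow_mem haA j) haj1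
  -- the commutator `c`
  obtain ⟨t, ht, hcX, hc1⟩ := exists_commutator_ne_one hcard hs hsX
  set c := t * s * t⁻¹ * s⁻¹ with hc
  have hgenX : zpowers c = X := zpowers_eq_of_card_prime' hXc hcX hc1
  have hx''c : x' ^ j ∈ zpowers c := hgenX ▸ hx''
  rw [← mem_powers_iff_mem_zpowers] at hx''c
  obtain ⟨m, hm⟩ := (Submonoid.mem_powers_iff _ _).mp hx''c
  have htst : t * s * t⁻¹ = c * s := by rw [hc]; group
  have hct : c * t = t * c := hXcomm c hcX t ht
  have hconj : ∀ n : ℕ, t ^ n * s * (t ^ n)⁻¹ = c ^ n * s := by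
    intro n
    induction n with
    | zero => simp
    | succ n ih =>
      have hctn : t * c ^ n = c ^ n * t := ((Commute.pow_left hct n).eq).symm
      calc t ^ (n + 1) * s * (t ^ (n + 1))⁻¹
          = t * (t ^ n * s * (t ^ n)⁻¹) * t⁻¹ := by rw [pow_succ']; group
        _ = t * (c ^ n * s) * t⁻¹ := by rw [ih]
        _ = (t * c ^ n) * s * t⁻¹ := by group
        _ = (c ^ n * t) * s * t⁻¹ := by rw [hctn]
        _ = c ^ n * (t * s * t⁻¹) := by group
        _ = c ^ n * (c * s) := by rw [htst]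
        _ = c ^ (n + 1) * s := by rw [pow_succ]; group
  refine ⟨t ^ m, P₁.pow_mem ht m, ?_⟩
  rw [MonoidHom.map_zpowers, cj_apply, hconj m, hm, ← haj, hgen2]

end Lines

end Cfsg.Agent.H9.BG12
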