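import Mathlib
import Cfsg.Prelude.Def_OddOrderLocal
import Cfsg.Agent.Helper9.BG12o
import Cfsg.Agent.Helper9.CharPChain

set_option autoImplicit false
set_option linter.unusedSectionVars false
set_option linter.unusedVariables false
set_option linter.style.haveILetI false
set_option maxHeartbeats 800000

/-! # B&G Lemma 12.13 (= S1422) relative to earlier statements: the rank-two Sylow case -/

namespace Cfsg.Agent.H9.BG12

open Subgroup Cfsg
open Cfsg.Agent.Helper14 (IsSylowIn cj cj_apply map_cj_le_iff map_cj_normalizer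
  map_cj_eq_self_of_mem map_cj_inv_map_cj mem_map_cj map_cj_mul map_cj_one
  exists_isSylowIn_ge isSylowIn_of_sylow)
open Cfsg.Agent.Helper4.BG10 (Uniq sylowOfTop)
open scoped Pointwise

universe u

/-- frozen statement S1416 -/
def St1416 (G : Type u) [Group G] : Prop :=
  ∀ M : Subgroup G, IsCoatom M → ∀ (p : ℕ) [Fact p.Prime] (A : Subgroup G),
    (A ≤ M ∧ Cfsg.IsElementaryAbelian p A ∧ Nat.card A = p ^ 2) →
    Subgroup.centralizer (A : Set G) ≤ M ∧
      ((∀ A₀ : Subgroup G, A₀ ≤ A → Nat.card A₀ = p →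
          ¬ (Subgroup.normalizer (A₀ : Set G) ≤ M ∧ ∀ L : Subgroup G, IsCoatom L →
            Subgroup.normalizer (A₀ : Set G) ≤ L → L = M)) →
        p ∈ Cfsg.sigma M ∧ Cfsg.alphaCore M = ⊥ ∧ Group.IsNilpotent (Cfsg.sigmaCore M))

variable {G : Type u} [Group G] [Finite G]

theorem not_isCyclic_of_not_comm {S : Subgroup G} (hnab : ¬ IsMulCommutative S) :
    ¬ IsCyclic S := by
  intro hc
  apply hnab
  haveI := hc
  exact ⟨⟨fun a b => (IsCyclic.commGroup (α := ↥S)).mul_comm a b⟩⟩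

theorem pRankLE_succ {p k : ℕ} [hp : Fact p.Prime] {H : Type*} [Group H]
    (h : Cfsg.PRankLE p k H) : Cfsg.PRankLE p (k + 1) H := by
  intro A hA hAp
  exact (h A hA hAp).trans (Nat.pow_le_pow_right hp.out.pos (Nat.le_succ k))

/-- **B&G 12.13, rank two**: a nonabelian Sylow `p`-subgroup of rank `2` lies in at most one
maximal subgroup (given that `p ∈ σ(L)` for every maximal `L ≥ S`). -/
theorem sylow_rank_two_unique (hG : Cfsg.IsMinSimpleOddOrder G) (hU : Uniq G) (h1350 : St1350 G)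
    (h1412 : St1412 G) (h1414 : St1414 G) (h1416 : St1416 G) (hNC : NC1210 G)
    {p : ℕ} [Fact p.Prime] {S : Subgroup G} (hS : IsSylowIn p S ⊤)
    (hnab : ¬ IsMulCommutative S) (hr : Cfsg.PRankLE p 2 S)
    (hσ : ∀ L : Subgroup G, IsCoatom L → S ≤ L → p ∈ Cfsg.sigma L)
    {M H : Subgroup G} (hM : IsCoatom M) (hH : IsCoatom H) (hSM : S ≤ M) (hSH : S ≤ H) :
    M = H := by
  by_contra hne
  have hpp : p.Prime := Fact.out
  have hSp : IsPGroup p S := hS.2.1
  have hSnc : ¬ IsCyclic S := not_isCyclic_of_not_comm hnab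
  rcases h1412 p (sylowOfTop hS) hr with hab | ⟨P₁, P₂, hsup, hcomm, hP₁nab, hP₁card, hP₁exp,
    hP₂cyc, -⟩
  · exact hnab hab
  have hsup' : P₁ ⊔ P₂ = S := hsup
  have hP₁S : P₁ ≤ S := hsup' ▸ le_sup_left
  have hP₂S : P₂ ≤ S := hsup' ▸ le_sup_right
  set X : Subgroup G := P₁ ⊓ centralizer (P₁ : Set G) with hXdef
  have hXc : Nat.card X = p := card_inf_centralizer_of_card_cube hP₁card hP₁nab
  have hXP₁ : X ≤ P₁ := inf_le_left
  have hXcomm : ∀ x ∈ X, ∀ y ∈ P₁, x * y = y * x := by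
    intro x hx y hy
    exact ((Subgroup.mem_centralizer_iff.mp hx.2) y hy).symm
  have hexp : ∀ s ∈ P₁, s ^ p = 1 := by
    intro s hs
    have h1 : (⟨s, hs⟩ : ↥P₁) ^ p = 1 := by
      rw [← hP₁exp]; exact Monoid.pow_exponent_eq_one _
    exact congrArg Subtype.val h1
  -- facts for maximal subgroups containing `S`
  have hSyl : ∀ L : Subgroup G, S ≤ L → IsSylowIn p S L := fun L hSL =>
    ⟨hSL, hSp, fun Q _ hQp hSQ => hS.2.2 Q le_top hQp hSQ⟩
  have hNS : ∀ L : Subgroup G, IsCoatom L → S ≤ L → normalizer (S : Set G) ≤ L :=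
    fun L hL hSL => hNC L hL p S (hσ L hL hSL) hSp hSL hSnc
  have notnil : ∀ L L' : Subgroup G, IsCoatom L → IsCoatom L' → S ≤ L → S ≤ L' → L ≠ L' →
      ¬ Group.IsNilpotent (Cfsg.sigmaCore L) := by
    intro L L' hL hL' hSL hSL' hLL' hnil
    have hpL := hσ L hL hSL
    have hSLs : S ≤ Cfsg.sigmaCore L := le_sigmaCore_of_isPGroup h1350 hL hpL hSL hSp
    have hSsyl' : IsSylowIn p S (Cfsg.sigmaCore L) :=
      ⟨hSLs, hSp, fun Q _ hQp hSQ => hS.2.2 Q le_top hQp hSQ⟩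
    have h1 : L ≤ normalizer (S : Set G) :=
      le_normalizer_sylow_of_nilpotent hnil (le_normalizer_sigmaCore L) hSsyl'
    have h3 : L ≤ L' := h1.trans (hNS L' hL' hSL')
    exact hLL' ((hL.le_iff_eq hL'.1).mp h3).symm
  have own : ∀ L L' : Subgroup G, IsCoatom L → IsCoatom L' → S ≤ L → S ≤ L' → L ≠ L' →
      ∀ A : Subgroup G, A ≤ S → Cfsg.IsElementaryAbelian p A → Nat.card A = p ^ 2 →
      ∃ A₀ : Subgroup G, A₀ ≤ A ∧ Nat.card A₀ = p ∧ Owns L A₀ := by
    intro L L' hL hL' hSL hSL' hLL' A hAS hAe hAc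
    by_contra hno
    push Not at hno
    have h1 := (h1416 L hL p A ⟨hAS.trans hSL, hAe, hAc⟩).2
      (fun A₀ hA₀ hA₀c hown => hno A₀ hA₀ hA₀c hown)
    exact notnil L L' hL hL' hSL hSL' hLL' h1.2.2
  have ownXs : ∀ L L' : Subgroup G, IsCoatom L → IsCoatom L' → S ≤ L → S ≤ L' → L ≠ L' →
      ∀ s ∈ P₁, s ∉ X → Owns L X ∨ Owns L (zpowers s) := by
    intro L L' hL hL' hSL hSL' hLL' s hs hsX
    have hsp := hexp s hs
    have hsX' : ∀ x ∈ X, x * s = s * x := fun x hx => hXcomm x hx s hs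
    have hAS : X ⊔ zpowers s ≤ S :=
      sup_le (hXP₁.trans hP₁S) (zpowers_le.mpr (hP₁S hs))
    obtain ⟨A₀, hA₀, hA₀c, hown⟩ := own L L' hL hL' hSL hSL' hLL' (X ⊔ zpowers s) hAS
      (isElementaryAbelian_sup_zpowers hXc hsp hsX')
      (card_sup_zpowers hXc hsp (fun h => hsX h) hsX')
    by_cases h : A₀ = X
    · left; rw [← h]; exact hown
    · right
      obtain ⟨g, hg, rfl⟩ := exists_conj_of_line hP₁card hP₁nab hs hsp hsX hA₀ hA₀c h
      have h1 := hown.map_cj hL (g := g⁻¹) (L.inv_mem (hSL (hP₁S hg)))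
      rwa [map_cj_mul, inv_mul_cancel, map_cj_one] at h1
  -- choose the pair
  have key : ∃ M' H' : Subgroup G, IsCoatom M' ∧ IsCoatom H' ∧ S ≤ M' ∧ S ≤ H' ∧ M' ≠ H' ∧
      ∀ s ∈ P₁, s ∉ X → Owns M' (zpowers s) := by
    by_cases hMall : ∀ s ∈ P₁, s ∉ X → Owns M (zpowers s)
    · exact ⟨M, H, hM, hH, hSM, hSH, hne, hMall⟩
    · push Not at hMall
      obtain ⟨s₀, hs₀, hs₀X, hnot⟩ := hMall
      have hMX : Owns M X := (ownXs M H hM hH hSM hSH hne s₀ hs₀ hs₀X).resolve_right hnot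
      refine ⟨H, M, hH, hM, hSH, hSM, Ne.symm hne, ?_⟩
      intro s hs hsX
      rcases ownXs H M hH hM hSH hSM (Ne.symm hne) s hs hsX with h | h
      · exact absurd (hMX.eq h hM) hne
      · exact h
  obtain ⟨M₁, H₁, hM₁, hH₁, hSM₁, hSH₁, hne₁, hown⟩ := key
  have hcentM : ∀ s ∈ P₁, s ∉ X → centralizer ({s} : Set G) ≤ M₁ := by
    intro s hs hsX
    rw [← Cfsg.Agent.Helper4.BG10.centralizer_zpowers_eq]
    exact (centralizer_le_normalizer _).trans (hown s hs hsX).1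
  -- a prime of β(H₁)
  have hpH := hσ H₁ hH₁ hSH₁
  have hpβ : p ∉ Cfsg.beta H₁ := by
    intro h
    exact h.1.2 (pRankLE_of_isSylowIn (hSyl H₁ hSH₁) hr)
  have hexr : ∃ r : ℕ, r ∈ Cfsg.beta H₁ ∧ r ∣ Nat.card (Cfsg.sigmaCore H₁) := by
    by_contra hno
    push Not at hno
    obtain ⟨N, hN, hNnil⟩ := (h1414 H₁ hH₁).2.2.2.1
    have hrel : N.relIndex (Cfsg.sigmaCore H₁) = 1 := by
      by_contra hne1
      obtain ⟨q, hq, hqd⟩ := Nat.exists_prime_and_dvd hne1
      have hqc : q ∣ Nat.card (Cfsg.sigmaCore H₁) :=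
        hqd.trans (Subgroup.relIndex_dvd_card N (Cfsg.sigmaCore H₁))
      exact hN.2.2 q hq ⟨hq, fun hqβ => hno q hqβ hqc⟩ hqd
    have hle : Cfsg.sigmaCore H₁ ≤ N := Subgroup.relIndex_eq_one.mp hrel
    have heq : N = Cfsg.sigmaCore H₁ := le_antisymm hN.1 hle
    rw [heq] at hNnil
    exact notnil H₁ M₁ hH₁ hM₁ hSH₁ hSM₁ (Ne.symm hne₁) hNnil
  obtain ⟨r, hrβ, hrd⟩ := hexr
  haveI : Fact r.Prime := ⟨hrβ.1.1⟩
  have hrp : r.Prime := hrβ.1.1
  have hrne : r ≠ p := fun h => hpβ (h ▸ hrβ)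
  set Hβ : Subgroup G := Cfsg.piCoreOf (Cfsg.beta H₁) H₁ with hHβ
  have hHall : Cfsg.IsPiHallOf (Cfsg.beta H₁) Hβ H₁ := (h1414 H₁ hH₁).1
  have hSnorm : S ≤ normalizer (Hβ : Set G) :=
    hSH₁.trans (Cfsg.Agent.Lead.TT.le_normalizer_piCoreOf _ _)
  have hcopS : (Nat.card S).Coprime (Nat.card Hβ) := by
    obtain ⟨k, hk⟩ := IsPGroup.iff_card.mp hSp
    rw [hk]
    apply Nat.Coprime.pow_left
    rw [Nat.Prime.coprime_iff_not_dvd hpp]
    intro hd
    exact hpβ (hHall.2.1 p hpp hd)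
  obtain ⟨R₀, hR₀⟩ := Cfsg.Agent.Lead.coprime_exists_invariant_sylow S Hβ hSnorm hcopS
    (Or.inr (solvable_of_le_coatom hG hH₁ hHall.1)) r
  set R : Subgroup G := (R₀ : Subgroup ↥Hβ).map Hβ.subtype with hRdef
  have hRHβ : IsSylowIn r R Hβ := isSylowIn_of_sylow R₀
  have hRH : IsSylowIn r R H₁ :=
    Cfsg.Agent.Helper14.isSylowIn_of_not_dvd_relIndex hRHβ hHall.1 (hHall.2.2 r hrp hrβ)
  have hrσ : r ∈ Cfsg.sigma H₁ := Cfsg.Agent.Helper4.BG10.alpha_subset_sigma hG hU hH₁ hrβ.1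
  have hRtop : IsSylowIn r R ⊤ := Cfsg.Agent.Helper4.BG10.sigma_isSylowIn_top hrσ hRH
  have hRr : IsPGroup r R := hRH.2.1
  have hRrk2 : ¬ Cfsg.PRankLE r 2 R := fun h => hrβ.1.2 (pRankLE_of_isSylowIn hRH h)
  have hRrk1 : ¬ Cfsg.PRankLE r 1 R := fun h => hRrk2 (pRankLE_succ h)
  have hRne : R ≠ ⊤ := fun h => hH₁.1 (top_le_iff.mp (h ▸ hRH.1))
  have hRU : Cfsg.InUniqueMaximal R := uniq_of_ideal hG hU hrβ.2 hRtop le_rfl hRne hRrk1
  -- `C = M₁ ∩ R` is cyclic
  set C : Subgroup G := M₁ ⊓ R with hCdef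
  have hCrk : Cfsg.PRankLE r 1 C := by
    by_contra hrk
    have hCne : C ≠ ⊤ := fun h => hM₁.1 (top_le_iff.mp (h ▸ inf_le_left))
    have hCU := uniq_of_ideal hG hU hrβ.2 hRtop (inf_le_right : C ≤ R) hCne hrk
    exact hne₁ (hCU.unique ⟨hM₁, inf_le_left⟩ ⟨hH₁, inf_le_right.trans hRH.1⟩)
  have hCcyc : IsCyclic C := isCyclic_of_pRankLE_one hG (hRr.to_le inf_le_right) hCrk
  have hSC : S ≤ normalizer (C : Set G) := by
    refine le_trans ?_ (Cfsg.Agent.Helper7.normalizer_inf_normalizer_le_normalizer_inf M₁ R)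
    exact le_inf (hSM₁.trans le_normalizer) hR₀
  -- elements `s, t` of `P₁` with `c = t s t⁻¹ s⁻¹` generating `X`
  have hXlt : X < P₁ := by
    refine lt_of_le_of_ne hXP₁ ?_
    intro h
    have h1 : Nat.card X = Nat.card P₁ := by rw [h]
    rw [hXc, hP₁card] at h1
    have h2 : p ^ 1 < p ^ 3 := Nat.pow_lt_pow_right hpp.one_lt (by norm_num)
    rw [pow_one] at h2
    omega
  obtain ⟨s, hs, hsX⟩ := SetLike.exists_of_lt hXlt
  obtain ⟨t, ht, hcX, hc1⟩ := exists_commutator_ne_one hP₁card hs hsX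
  set c := t * s * t⁻¹ * s⁻¹ with hc
  have hgenX : zpowers c = X := zpowers_eq_of_card_prime' hXc hcX hc1
  have htX : t ∉ X := by
    intro h
    apply hc1
    have := hXcomm t h s hs
    rw [hc, this]; group
  -- X centralizes C
  have hXcentC : X ≤ centralizer (C : Set G) := by
    rw [← hgenX, zpowers_le]
    haveI := hCcyc
    exact Cfsg.Agent.Helper4.NMTools.commutator_mem_centralizer C (hSC (hP₁S ht)) (hSC (hP₁S hs))
  have hCcentX : C ≤ centralizer (X : Set G) := Subgroup.le_centralizer_iff.mp hXcentC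
  -- X centralizes R
  have hsp := hexp s hs
  have hsX' : ∀ x ∈ X, x * s = s * x := fun x hx => hXcomm x hx s hs
  have hAe := isElementaryAbelian_sup_zpowers hXc hsp hsX'
  have hAc := card_sup_zpowers hXc hsp (fun h => hsX h) hsX'
  have hAP₁ : X ⊔ zpowers s ≤ P₁ := sup_le hXP₁ (zpowers_le.mpr hs)
  have hRcentX : R ≤ centralizer (X : Set G) := by
    haveI : IsMulCommutative ↥(X ⊔ zpowers s) := hAe.1
    have hAnc : ¬ IsCyclic ↥(X ⊔ zpowers s) := by
      apply Cfsg.Agent.Helper7.IsElementaryAbelian.not_isCyclic hAe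
      rw [hAc, sq]
      exact lt_mul_of_one_lt_left hpp.pos hpp.one_lt
    have hAR : X ⊔ zpowers s ≤ normalizer (R : Set G) := (hAP₁.trans hP₁S).trans hR₀
    have hcopA : (Nat.card ↥(X ⊔ zpowers s)).Coprime (Nat.card R) := by
      rw [hAc]
      obtain ⟨k, hk⟩ := IsPGroup.iff_card.mp hRr
      rw [hk]
      apply Nat.Coprime.pow
      exact (Nat.coprime_primes hpp hrp).mpr (Ne.symm hrne)
    have hgen := Cfsg.Agent.Lead.generated_by_centralizers (X ⊔ zpowers s) R hAnc hAR hcopA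
    rw [← hgen]
    apply iSup₂_le
    intro a ha
    obtain ⟨haA, ha1⟩ := ha
    by_cases haX : a ∈ X
    · have h1 : zpowers a = X := zpowers_eq_of_card_prime' hXc haX ha1
      rw [← h1, Cfsg.Agent.Helper4.BG10.centralizer_zpowers_eq]
      exact inf_le_right
    · have h1 := hcentM a (hAP₁ haA) haX
      have h2 : R ⊓ centralizer ({a} : Set G) ≤ C := le_inf (inf_le_right.trans h1) inf_le_left
      exact h2.trans hCcentX
  -- generation modulo X
  have hRM : R ≤ M₁ := by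
    have hXR : X ⊓ R = ⊥ := by
      apply disjoint_iff.mp
      apply Subgroup.disjoint_of_coprime_natCard
      rw [hXc]
      obtain ⟨k, hk⟩ := IsPGroup.iff_card.mp hRr
      rw [hk]
      apply Nat.Coprime.pow_right
      exact (Nat.coprime_primes hpp hrp).mpr (Ne.symm hrne)
    have hcopR : (Nat.card R).Coprime p := by
      obtain ⟨k, hk⟩ := IsPGroup.iff_card.mp hRr
      rw [hk]
      apply Nat.Coprime.pow_left
      exact (Nat.coprime_primes hrp hpp).mpr hrne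
    have hP₁X : P₁ ≤ normalizer (X : Set G) := by
      refine le_trans ?_ (centralizer_le_normalizer _)
      intro y hy
      rw [Subgroup.mem_centralizer_iff]
      intro x hx
      exact hXcomm x hx y hy
    have hst : s * t * s⁻¹ * t⁻¹ ∈ X := by
      apply commutator_le_inf_centralizer_of_card_cube hP₁card
      have := Subgroup.commutator_mem_commutator (H₁ := P₁) (H₂ := P₁) hs ht
      rwa [commutatorElement_def] at this
    have htp := hexp t ht
    have hts : t * s ≠ s * t := by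
      intro h
      apply hc1
      rw [hc, h]; group
    refine pgroup_le_of_centralizers_mod R hRr hpp hcopR X
      (hRcentX.trans (centralizer_le_normalizer _)) hXR (hR₀ (hP₁S hs)) (hR₀ (hP₁S ht))
      (hP₁X hs) (hP₁X ht) hst (hsp ▸ X.one_mem) (htp ▸ X.one_mem) M₁ ?_ ?_
    · exact inf_le_right.trans (hcentM t ht htX)
    · intro j _
      have hmem : s * t ^ j ∈ P₁ := P₁.mul_mem hs (P₁.pow_mem ht j)
      have hnX : s * t ^ j ∉ X := by
        intro h
        apply hts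
        have h1 := hXcomm (s * t ^ j) h t ht
        have h2 : s * t ^ j * t = s * (t * t ^ j) := by
          rw [mul_assoc, ← pow_succ, ← pow_succ']
        rw [h2, ← mul_assoc, ← mul_assoc] at h1
        exact (mul_right_cancel h1).symm
      exact inf_le_right.trans (hcentM _ hmem hnX)
  exact hne₁ (hRU.unique ⟨hM₁, hRM⟩ ⟨hH₁, hRH.1⟩)

end Cfsg.Agent.H9.BG12
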