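import Mathlib
import Cfsg.Prelude.Def_OddOrderLocal
import Cfsg.Agent.Helper9.BG12p

set_option autoImplicit false
set_option linter.unusedSectionVars false
set_option linter.unusedVariables false
set_option linter.style.haveILetI false

/-! # B&G Lemma 12.13 (= S1422) relative to earlier statements: final assembly -/

namespace Cfsg.Agent.H9.BG12

open Subgroup Cfsg
open Cfsg.Agent.Helper14 (IsSylowIn cj exists_isSylowIn_ge isSylowIn_of_sylow)
open Cfsg.Agent.Helper4.BG10 (Uniq sylowOfTop)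
open scoped Pointwise

universe u
variable {G : Type u} [Group G] [Finite G]

theorem isPGroup_ne_top' (hG : Cfsg.IsMinSimpleOddOrder G) {q : ℕ} [Fact q.Prime]
    {R : Subgroup G} (hR : IsPGroup q R) : R ≠ ⊤ := by
  intro htop
  haveI := hG.2.1
  have hGp : IsPGroup q G := by
    intro g
    obtain ⟨k, hk⟩ := hR ⟨g, htop ▸ mem_top g⟩
    exact ⟨k, by simpa using congrArg Subtype.val hk⟩
  haveI : Group.IsNilpotent G := hGp.isNilpotent
  have hsolv : Group.IsSolvable G := inferInstance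
  exact hG.2.2.1 ⟨⟨fun a b => IsSimpleGroup.comm_iff_isSolvable.mpr hsolv a b⟩⟩

/-- **S1422** (B&G Lemma 12.13) relative to the earlier frozen statements. -/
theorem s1422_of (hG : Cfsg.IsMinSimpleOddOrder G) (hU : Uniq G) (h1350 : St1350 G)
    (h1412 : St1412 G) (h1414 : St1414 G) (h1416 : St1416 G) (h1420 : St1420 G) :
    St1422 G := by
  intro p _ P hP hPna
  have hpp : p.Prime := Fact.out
  have hNC := nc1210_of h1350 h1420
  have h0 : ∀ P' : Subgroup G, IsPGroup p P' → ¬ IsMulCommutative P' →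
      ∀ L : Subgroup G, IsCoatom L → P' ≤ L → p ∈ Cfsg.sigma L := by
    intro P' hP' hna L hL hP'L
    by_contra hpσ
    obtain ⟨E, hE⟩ := exists_complIn_sigmaCore h1350 hL
    apply hna
    refine (h1420 L hL E hE).1 P' hP'L hP'.isNilpotent ?_
    intro q hq hqd
    obtain ⟨k, hk⟩ := IsPGroup.iff_card.mp hP'
    rw [hk] at hqd
    have := (Nat.prime_dvd_prime_iff_eq hq hpp).mp (hq.dvd_of_dvd_pow hqd)
    rw [this]; exact hpσ
  have h0N : ∀ P' : Subgroup G, IsPGroup p P' → ¬ IsMulCommutative P' →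
      ∀ L : Subgroup G, IsCoatom L → P' ≤ L → normalizer (P' : Set G) ≤ L :=
    fun P' hP' hna L hL hP'L =>
      hNC L hL p P' (h0 P' hP' hna L hL hP'L) hP' hP'L (not_isCyclic_of_not_comm hna)
  -- a maximal `p`-subgroup with the same maximal overgroups
  let Pfam : Set (Subgroup G) :=
    {Q | IsPGroup p Q ∧ P ≤ Q ∧ ∀ L : Subgroup G, IsCoatom L → P ≤ L → Q ≤ L}
  obtain ⟨Ps, hPs, hmax⟩ := (Set.toFinite Pfam).exists_maximal ⟨P, hP, le_rfl, fun L _ h => h⟩
  obtain ⟨hPsp, hPPs, hPsL⟩ := hPs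
  have hPsna : ¬ IsMulCommutative Ps := by
    intro h
    apply hPna
    refine ⟨⟨fun a b => ?_⟩⟩
    have h1 := h.is_comm.comm ⟨a.1, hPPs a.2⟩ ⟨b.1, hPPs b.2⟩
    have h2 : (a : G) * (b : G) = (b : G) * (a : G) := congrArg Subtype.val h1
    exact Subtype.ext h2
  obtain ⟨S, hS, hPsS⟩ := exists_isSylowIn_ge (le_top : Ps ≤ ⊤) hPsp
  have hPsS' : Ps = S := by
    by_contra hne
    have hlt : Ps < S := lt_of_le_of_ne hPsS hne
    have h1 := Cfsg.Agent.Helper9.lt_inf_normalizer_of_lt hS.2.1 hlt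
    have hmem : (S ⊓ normalizer (Ps : Set G)) ∈ Pfam :=
      ⟨hS.2.1.to_le inf_le_left, hPPs.trans h1.le, fun L hL hPL =>
        inf_le_right.trans (h0N Ps hPsp hPsna L hL (hPsL L hL hPL))⟩
    exact (not_le_of_gt h1) (hmax hmem h1.le)
  have hPstop : Ps ≠ ⊤ := isPGroup_ne_top' hG hPsp
  have hPsU : Cfsg.InUniqueMaximal Ps := by
    by_cases hr : Cfsg.PRankLE p 2 Ps
    · obtain ⟨M, hM, hPsM⟩ := (eq_top_or_exists_le_coatom Ps).resolve_left hPstop
      refine ⟨M, ⟨hM, hPsM⟩, ?_⟩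
      rintro L ⟨hL, hPsL'⟩
      have hS' : IsSylowIn p Ps ⊤ := hPsS' ▸ hS
      exact (sylow_rank_two_unique hG hU h1350 h1412 h1414 h1416 hNC hS' hPsna hr
        (fun L hL h => h0 Ps hPsp hPsna L hL h) hM hL hPsM hPsL').symm
    · obtain ⟨F, hFS, hFe, hFc⟩ := Cfsg.Agent.Lead.TT.exists_elementary_of_not_pRankLE' 2 Ps hr
      exact Cfsg.Agent.Lead.BG9.InUniqueMaximal.mono
        (Cfsg.Agent.Helper4.BG10.uniq_of_cube hG hU hFe hFc) hFS hPstop
  obtain ⟨M, ⟨hM, hPsM⟩, huniq⟩ := hPsU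
  refine ⟨M, ⟨hM, hPPs.trans hPsM⟩, ?_⟩
  rintro L ⟨hL, hPL⟩
  exact huniq L ⟨hL, hPsL L hL hPL⟩

end Cfsg.Agent.H9.BG12
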