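import Mathlib
import Cfsg.Prelude.Def_OddOrderLocal
import Cfsg.Agent.Helper9.BG12q

set_option autoImplicit false
set_option linter.unusedSectionVars false
set_option linter.unusedVariables false
set_option linter.style.haveILetI false

/-! # B&G Corollary 12.6 (= S1418) relative to S1350, S1416, S1417 -/

namespace Cfsg.Agent.H9.BG12

open Subgroup Cfsg
open Cfsg.Agent.Helper14 (IsSylowIn cj cj_apply exists_isSylowIn_ge isSylowIn_of_sylow
  le_normalizer_of_map_cj_le mem_normalizer_iff_map_cj)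
open scoped Pointwise

universe u
variable {G : Type u} [Group G] [Finite G]

/-- **S1418** (B&G Corollary 12.6) relative to S1350, S1416, S1417. -/
theorem s1418_of (hG : Cfsg.IsMinSimpleOddOrder G) (h1350 : St1350 G) (h1416 : St1416 G)
    (h1417 : St1417 G) : St1418 G := by
  intro M hM E hE p _ hp A hA
  obtain ⟨hAE, hAe, hAc⟩ := hA
  have hpp : p.Prime := Fact.out
  obtain ⟨hEM, hMsM, hEMs, hfac⟩ := hE
  have hAM : A ≤ M := hAE.trans hEM
  obtain ⟨hnil, hsyl, hnormK, hcent, hother, -⟩ := h1417 M hM p hp A ⟨hAM, hAe, hAc⟩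
  have hpσ : p ∉ Cfsg.sigma M := hp.2.1
  have hEH := isPiHallOf_compl h1350 hM (E := E) ⟨hEM, hMsM, hEMs, hfac⟩
  have hAp : IsPGroup p A := Cfsg.Agent.Helper4.BG10.isPGroup_of_elementary hAe
  -- (M_σ ⊔ A) ⊓ E = A
  have hDed : (Cfsg.sigmaCore M ⊔ A) ⊓ E ≤ A := by
    intro g hg
    obtain ⟨hgK, hgE⟩ := hg
    have hle : Cfsg.sigmaCore M ≤ Subgroup.normalizer ((A : Subgroup G) : Set G) ∨ True :=
      Or.inr trivial
    have hAn : A ≤ Subgroup.normalizer ((Cfsg.sigmaCore M : Subgroup G) : Set G) :=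
      hAM.trans (le_normalizer_sigmaCore M)
    have h1 := Subgroup.coe_mul_of_right_le_normalizer_left (Cfsg.sigmaCore M) A hAn
    have hg' : g ∈ ((Cfsg.sigmaCore M ⊔ A : Subgroup G) : Set G) := hgK
    rw [h1] at hg'
    obtain ⟨n, hn, a, ha, rfl⟩ := Set.mem_mul.mp hg'
    have hnE : n ∈ E := by
      have : n = (n * a) * a⁻¹ := by group
      rw [this]
      exact E.mul_mem hgE (E.inv_mem (hAE ha))
    have hn1 : n = 1 := by
      have : n ∈ E ⊓ Cfsg.sigmaCore M := ⟨hnE, hn⟩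
      rw [hEMs] at this
      exact mem_bot.mp this
    rw [hn1, one_mul]
    exact ha
  -- E normalizes A
  have hEA : E ≤ normalizer (A : Set G) := by
    apply le_normalizer_of_map_cj_le
    intro e he
    rintro _ ⟨a, ha, rfl⟩
    apply hDed
    refine ⟨?_, ?_⟩
    · have h1 : e ∈ normalizer ((Cfsg.sigmaCore M ⊔ A : Subgroup G) : Set G) := hnormK (hEM he)
      have h2 : a ∈ Cfsg.sigmaCore M ⊔ A := (le_sup_right : A ≤ _) ha
      exact (mem_normalizer_iff.mp h1 a).mp h2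
    · rw [cj_apply]
      exact E.mul_mem (E.mul_mem he (hAE ha)) (E.inv_mem he)
  -- a Sylow `p`-subgroup of `E` containing `A ⊔ X`, for a `p`-subgroup `X` of `E`
  have hsylE : ∀ X : Subgroup G, X ≤ E → IsPGroup p X →
      ∃ Q : Subgroup G, IsSylowIn p Q M ∧ A ≤ Q ∧ X ≤ Q ∧ Q ≤ E := by
    intro X hXE hXp
    have hAX : IsPGroup p ↥(A ⊔ X) := by
      have hXn : X ≤ normalizer (A : Set G) := hXE.trans hEA
      obtain ⟨k, hk⟩ := IsPGroup.iff_card.mp hAp
      obtain ⟨l, hl⟩ := IsPGroup.iff_card.mp hXp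
      have h1 := Cfsg.Agent.Helper17.card_sup_mul_card_inf A X hXn
      have h2 : Nat.card ↥(A ⊔ X) ∣ p ^ (k + l) := by
        rw [pow_add, ← hk, ← hl, ← h1]
        exact dvd_mul_right _ _
      obtain ⟨m, -, hm⟩ := (Nat.dvd_prime_pow hpp).mp h2
      exact IsPGroup.of_card hm
    obtain ⟨Q, hQ, hAXQ⟩ := exists_isSylowIn_ge (sup_le hAE hXE) hAX
    have hQM : IsSylowIn p Q M :=
      Cfsg.Agent.Helper14.isSylowIn_of_not_dvd_relIndex hQ hEM (hEH.2.2 p hpp hpσ)
    exact ⟨Q, hQM, le_sup_left.trans hAXQ, le_sup_right.trans hAXQ, hQ.1⟩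
  have hOmega : ∀ Q : Subgroup G, IsSylowIn p Q M → A ≤ Q →
      (∀ x ∈ Q, x ^ p = 1 ↔ x ∈ A) ∧ ¬ normalizer (Q : Set G) ≤ M := by
    intro Q hQ hAQ
    have h1 := (hsyl hQ.toSylow).2
    rw [hQ.toSylow_map] at h1
    exact h1 hAQ
  refine ⟨⟨hEA, ?_⟩, ⟨?_, ?_, ?_⟩, ?_⟩
  · intro X hXE hXc
    have hXp : IsPGroup p X := IsPGroup.of_card (n := 1) (by rw [hXc, pow_one])
    obtain ⟨Q, hQ, hAQ, hXQ, -⟩ := hsylE X hXE hXp
    intro x hx
    apply ((hOmega Q hQ hAQ).1 x (hXQ hx)).mp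
    have h1 : (⟨x, hx⟩ : ↥X) ^ p = 1 := by
      rw [← hXc]; exact pow_card_eq_one'
    exact congrArg Subtype.val h1
  · exact le_inf (h1416 M hM p A ⟨hAM, hAe, hAc⟩).1 (centralizer_le_normalizer _)
  · apply le_antisymm
    · rintro m ⟨hmM, hmN⟩
      obtain ⟨a, ha, b, hb, rfl⟩ := hfac m hmM
      have hbN : b ∈ normalizer (A : Set G) := by
        have : b = a⁻¹ * (a * b) := by group
        rw [this]
        exact (normalizer (A : Set G)).mul_mem ((normalizer (A : Set G)).inv_mem (hEA ha)) hmN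
      have hbC : b ∈ centralizer (A : Set G) := by
        rw [Subgroup.mem_centralizer_iff]
        intro x hx
        have h1 : b * x * b⁻¹ ∈ A := (mem_normalizer_iff.mp hbN x).mp hx
        have h2 : b * x * b⁻¹ * x⁻¹ ∈ A := A.mul_mem h1 (A.inv_mem hx)
        have h3 : b * x * b⁻¹ * x⁻¹ ∈ Cfsg.sigmaCore M := by
          have hxn : x ∈ normalizer ((Cfsg.sigmaCore M : Subgroup G) : Set G) :=
            le_normalizer_sigmaCore M (hAM hx)
          have h4 : x * b⁻¹ * x⁻¹ ∈ Cfsg.sigmaCore M :=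
            (mem_normalizer_iff.mp hxn b⁻¹).mp ((Cfsg.sigmaCore M).inv_mem hb)
          have : b * x * b⁻¹ * x⁻¹ = b * (x * b⁻¹ * x⁻¹) := by group
          rw [this]
          exact (Cfsg.sigmaCore M).mul_mem hb h4
        have h5 : b * x * b⁻¹ * x⁻¹ = 1 := by
          have : b * x * b⁻¹ * x⁻¹ ∈ E ⊓ Cfsg.sigmaCore M := ⟨hAE h2, h3⟩
          rw [hEMs] at this
          exact mem_bot.mp this
        calc x * b = (b * x * b⁻¹ * x⁻¹)⁻¹ * (b * x) := by group
          _ = b * x := by rw [h5, inv_one, one_mul]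
      have hb1 : b = 1 := by
        have : b ∈ Cfsg.sigmaCore M ⊓ centralizer (A : Set G) := ⟨hb, hbC⟩
        rw [hcent] at this
        exact mem_bot.mp this
      rw [hb1, mul_one]
      exact ha
    · exact le_inf hEM hEA
  · intro hNA
    obtain ⟨Q, hQ, hAQ, -, -⟩ := hsylE A hAE hAp
    obtain ⟨hΩ, hNQ⟩ := hOmega Q hQ hAQ
    apply hNQ
    refine le_trans ?_ hNA
    apply le_normalizer_of_map_cj_le
    intro g hg
    rintro _ ⟨a, ha, rfl⟩
    rw [cj_apply]
    have h1 : g * a * g⁻¹ ∈ Q := (mem_normalizer_iff.mp hg a).mp (hAQ ha)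
    apply (hΩ _ h1).mp
    rw [conj_pow, (hΩ a (hAQ ha)).mpr ha, mul_one, mul_inv_cancel]
  · intro X hXA hXc hne
    have hX1 : X ≠ ⊥ := by
      intro h0
      rw [h0, Subgroup.card_bot] at hXc
      exact hpp.one_lt.ne hXc
    have hCtop := centralizer_ne_top_of_le_coatom hG hM (hXA.trans hAM) hX1
    have hAC : A ≤ centralizer (X : Set G) := by
      intro a ha
      rw [Subgroup.mem_centralizer_iff]
      intro x hx
      exact Cfsg.Agent.Helper7.IsElementaryAbelian.commute hAe (hXA hx) ha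
    have huniq : ∀ L : Subgroup G, IsCoatom L → centralizer (X : Set G) ≤ L → L = M := by
      intro L hL hCL
      by_contra hLM
      apply hne
      rw [eq_bot_iff, ← hother L hL hLM (hAC.trans hCL)]
      exact inf_le_inf_left _ hCL
    obtain ⟨L, hL, hCL⟩ := (eq_top_or_exists_le_coatom _).resolve_left hCtop
    have := huniq L hL hCL
    exact ⟨this ▸ hCL, huniq⟩

end Cfsg.Agent.H9.BG12
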