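import Mathlib

/-!
# The centralizer of a transvection in `SL(5,2)`; Sylow 2-subgroups of involution centralizers

* `comm_transv`: the entries of a matrix commuting with a transvection.
* `sylow_of_small_center`: if `C_G(z)` has a normal `2`-subgroup `Q ∋ z` with
  `C_{C_G(z)}(Q) = {1, z}`, then a Sylow `2`-subgroup of `C_G(z)` is Sylow in `G`.
-/

set_option autoImplicit false

namespace Cfsg.Agent.Helper9.TransvCent

open Matrix Subgroup

section comm

variable {n R : Type*} [Fintype n] [DecidableEq n] [CommRing R]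

/-- Entries of a matrix commuting with the transvection `1 + E_{ij}`. -/
theorem comm_transv {i j : n} (hij : i ≠ j) (M : Matrix n n R)
    (h : M * transvection i j (1 : R) = transvection i j (1 : R) * M) :
    (∀ a, a ≠ i → M a i = 0) ∧ (∀ b, b ≠ j → M j b = 0) ∧ M i i = M j j := by
  refine ⟨fun a ha => ?_, fun b hb => ?_, ?_⟩
  · have h1 := congrFun (congrFun h a) j
    rw [mul_transvection_apply_same, transvection_mul_apply_of_ne i j a j ha] at h1
    simpa using h1
  · have h1 := congrFun (congrFun h i) b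
    rw [mul_transvection_apply_of_ne i j i b hb, transvection_mul_apply_same] at h1
    simpa using h1.symm
  · have h1 := congrFun (congrFun h i) j
    rw [mul_transvection_apply_same, transvection_mul_apply_same] at h1
    simpa using h1

/-- Converse of `comm_transv`. -/
theorem comm_transv_of {i j : n} (M : Matrix n n R)
    (h1 : ∀ a, a ≠ i → M a i = 0) (h2 : ∀ b, b ≠ j → M j b = 0) (h3 : M i i = M j j) :
    M * transvection i j (1 : R) = transvection i j (1 : R) * M := by
  ext a b
  by_cases ha : a = i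
  · subst ha
    by_cases hb : b = j
    · subst hb
      rw [mul_transvection_apply_same, transvection_mul_apply_same, h3]
    · rw [mul_transvection_apply_of_ne a j a b hb, transvection_mul_apply_same, h2 b hb]
      simp
  · by_cases hb : b = j
    · subst hb
      rw [mul_transvection_apply_same, transvection_mul_apply_of_ne i b a b ha, h1 a ha]
      simp
    · rw [mul_transvection_apply_of_ne i j a b hb, transvection_mul_apply_of_ne i j a b ha]

end comm

section sylow

variable {G : Type*} [Group G] [Finite G]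

/-- A proper subgroup of a `2`-subgroup grows in its normalizer. -/
theorem exists_normalizer_not_mem {p : ℕ} [Fact p.Prime] {U V : Subgroup G} (hU : IsPGroup p U)
    (hVU : V < U) : ∃ x ∈ U, x ∈ normalizer (V : Set G) ∧ x ∉ V := by
  have hnil : Group.IsNilpotent ↥U := hU.isNilpotent
  have hlt : V.subgroupOf U < ⊤ := by
    rw [lt_top_iff_ne_top, Ne, Subgroup.subgroupOf_eq_top]
    exact not_le_of_gt hVU
  have h1 := Group.normalizerCondition_of_isNilpotent (G := ↥U) (V.subgroupOf U) hlt
  rw [← Subgroup.subgroupOf_normalizer_eq hVU.le] at h1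
  obtain ⟨u, hu1, hu2⟩ := SetLike.exists_of_lt h1
  rw [Subgroup.mem_subgroupOf] at hu1 hu2
  exact ⟨u, u.2, hu1, hu2⟩

/-- If the centralizer `C` of an involution `z` has a normal `2`-subgroup `Q` containing `z`
whose centralizer in `C` is `{1, z}`, then a Sylow `2`-subgroup of `C` is Sylow in `G`. -/
theorem sylow_of_small_center (z : G) (hz1 : z ≠ 1)
    (Q : Subgroup (centralizer ({z} : Set G))) [Q.Normal] (hQ : IsPGroup 2 Q)
    (hzC : z ∈ centralizer ({z} : Set G))
    (hzQ : (⟨z, hzC⟩ : centralizer ({z} : Set G)) ∈ Q)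
    (hcen : ∀ w : centralizer ({z} : Set G), (∀ q ∈ Q, w * q = q * w) →
      w = 1 ∨ (w : G) = z)
    (T : Sylow 2 (centralizer ({z} : Set G))) :
    ¬ 2 ∣ ((T : Subgroup (centralizer ({z} : Set G))).map
      (Subgroup.subtype (centralizer ({z} : Set G)))).index := by
  have : Fact (Nat.Prime 2) := ⟨Nat.prime_two⟩
  have hQT : Q ≤ (T : Subgroup (centralizer ({z} : Set G))) := hQ.le_sylow_of_normal T
  have hTGp : IsPGroup 2 ((T : Subgroup (centralizer ({z} : Set G))).map
      (Subgroup.subtype (centralizer ({z} : Set G)))) := T.isPGroup'.map _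
  have hTGle : (T : Subgroup (centralizer ({z} : Set G))).map
      (Subgroup.subtype (centralizer ({z} : Set G))) ≤ centralizer ({z} : Set G) := by
    rintro _ ⟨y, _, rfl⟩
    exact y.2
  have hzTG : z ∈ (T : Subgroup (centralizer ({z} : Set G))).map
      (Subgroup.subtype (centralizer ({z} : Set G))) := ⟨⟨z, hzC⟩, hQT hzQ, rfl⟩
  obtain ⟨S, hS⟩ := hTGp.exists_le_sylow
  have hST : (S : Subgroup G) = (T : Subgroup (centralizer ({z} : Set G))).map
      (Subgroup.subtype (centralizer ({z} : Set G))) := by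
    by_contra hne
    have hlt : (T : Subgroup (centralizer ({z} : Set G))).map
      (Subgroup.subtype (centralizer ({z} : Set G))) < (S : Subgroup G) :=
      lt_of_le_of_ne hS (Ne.symm hne)
    obtain ⟨x, hxS, hxN, hxT⟩ := exists_normalizer_not_mem S.isPGroup' hlt
    -- `x z x⁻¹` is central in `TG`
    have hxz := (mem_normalizer_iff.mp hxN z).mp hzTG
    obtain ⟨w, hwT, hw⟩ := hxz
    have hw' : (w : G) = x * z * x⁻¹ := hw
    have hwcen : ∀ q ∈ Q, w * q = q * w := by
      intro q hq
      have hqTG : (q : G) ∈ (T : Subgroup (centralizer ({z} : Set G))).map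
          (Subgroup.subtype (centralizer ({z} : Set G))) := ⟨q, hQT hq, rfl⟩
      have h1 : x⁻¹ * (q : G) * x ∈ (T : Subgroup (centralizer ({z} : Set G))).map
          (Subgroup.subtype (centralizer ({z} : Set G))) := by
        have := (mem_normalizer_iff.mp (inv_mem hxN) (q : G)).mp hqTG
        simpa using this
      have h2 := hTGle h1
      rw [mem_centralizer_iff] at h2
      have h3 := h2 z (Set.mem_singleton z)
      apply Subtype.ext
      rw [Subgroup.coe_mul, Subgroup.coe_mul, hw']
      have h4 : x * (z * (x⁻¹ * (q : G) * x)) * x⁻¹ = x * ((x⁻¹ * (q : G) * x) * z) * x⁻¹ := by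
        rw [h3]
      simpa [mul_assoc] using h4
    rcases hcen w hwcen with h1 | h1
    · apply hz1
      rw [h1] at hw'
      have h5 : x * z * x⁻¹ = 1 := by simpa using hw'.symm
      have h2 : x * z = x := by
        have := congrArg (· * x) h5
        simpa [mul_assoc] using this
      exact mul_left_cancel (a := x) (by simpa using h2)
    · rw [h1] at hw'
      have hxC : x ∈ centralizer ({z} : Set G) := by
        rw [mem_centralizer_iff]
        intro y hy
        rw [Set.mem_singleton_iff] at hy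
        subst hy
        have := congrArg (· * x) hw'
        simpa [mul_assoc] using this
      have hlarge : (T : Subgroup (centralizer ({z} : Set G))) ≤
          ((S : Subgroup G).subgroupOf (centralizer ({z} : Set G))) := by
        intro y hy
        rw [mem_subgroupOf]
        exact hS ⟨y, hy, rfl⟩
      have hp2 : IsPGroup 2 ((S : Subgroup G).subgroupOf (centralizer ({z} : Set G))) :=
        S.isPGroup'.comap_subtype
      have heq := T.is_maximal' hp2 hlarge
      apply hxT
      have hmem : (⟨x, hxC⟩ : centralizer ({z} : Set G)) ∈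
          (S : Subgroup G).subgroupOf (centralizer ({z} : Set G)) := by
        rw [mem_subgroupOf]; exact hxS
      rw [heq] at hmem
      exact ⟨⟨x, hxC⟩, hmem, rfl⟩
  rw [← hST]
  exact S.not_dvd_index

end sylow

section sl5

/-- `SL(5,2)`. -/
abbrev SL5 := Matrix.SpecialLinearGroup (Fin 5) (ZMod 2)

/-- The indices `2,3,4`. -/
def emb (i : Fin 3) : Fin 5 := ⟨i.val + 2, by omega⟩

theorem emb_zero : emb 0 = 2 := rfl
theorem emb_one : emb 1 = 3 := rfl
theorem emb_two : emb 2 = 4 := rfl

theorem emb_injective : Function.Injective emb := by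
  intro i j h
  simp only [emb, Fin.mk.injEq] at h
  exact Fin.ext (by omega)

/-- Matrix entries of elements of the centralizer of the transvection `1 + E₀₁`. -/
theorem cent_entries (s : SL5)
    (hs : (s : Matrix (Fin 5) (Fin 5) (ZMod 2)) = transvection 0 1 1) (g : SL5)
    (hg : g ∈ centralizer ({s} : Set SL5)) :
    (∀ a, a ≠ 0 → (g : Matrix (Fin 5) (Fin 5) (ZMod 2)) a 0 = 0) ∧
    (∀ b, b ≠ 1 → (g : Matrix (Fin 5) (Fin 5) (ZMod 2)) 1 b = 0) ∧
    (g : Matrix (Fin 5) (Fin 5) (ZMod 2)) 0 0 = (g : Matrix (Fin 5) (Fin 5) (ZMod 2)) 1 1 := by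
  rw [mem_centralizer_iff] at hg
  have h1 := hg s (Set.mem_singleton s)
  have h2 : (s : Matrix (Fin 5) (Fin 5) (ZMod 2)) * (g : Matrix (Fin 5) (Fin 5) (ZMod 2)) =
      (g : Matrix (Fin 5) (Fin 5) (ZMod 2)) * (s : Matrix (Fin 5) (Fin 5) (ZMod 2)) := by
    rw [← Matrix.SpecialLinearGroup.coe_mul, ← Matrix.SpecialLinearGroup.coe_mul, h1]
  rw [hs] at h2
  exact comm_transv (by decide) _ h2.symm

theorem zmod2_cases (x : ZMod 2) : x = 0 ∨ x = 1 := by
  revert x; decide

/-- The `(0,0)` entry of an element of the centralizer is `1`. -/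
theorem cent_entry00 (g : SL5)
    (h0 : ∀ a, a ≠ 0 → (g : Matrix (Fin 5) (Fin 5) (ZMod 2)) a 0 = 0) :
    (g : Matrix (Fin 5) (Fin 5) (ZMod 2)) 0 0 = 1 := by
  rcases zmod2_cases ((g : Matrix (Fin 5) (Fin 5) (ZMod 2)) 0 0) with h | h
  · exfalso
    have hdet : (g : Matrix (Fin 5) (Fin 5) (ZMod 2)).det = 0 := by
      apply Matrix.det_eq_zero_of_column_eq_zero 0
      intro a
      by_cases ha : a = 0
      · subst ha; exact h
      · exact h0 a ha
    rw [g.2] at hdet
    exact one_ne_zero hdet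
  · exact h

/-- The middle `3 × 3` block as a monoid homomorphism on the centralizer. -/
def blockHom (s : SL5) (hs : (s : Matrix (Fin 5) (Fin 5) (ZMod 2)) = transvection 0 1 1) :
    centralizer ({s} : Set SL5) →* Matrix (Fin 3) (Fin 3) (ZMod 2) where
  toFun g := ((g : SL5) : Matrix (Fin 5) (Fin 5) (ZMod 2)).submatrix emb emb
  map_one' := by
    rw [Subgroup.coe_one, Matrix.SpecialLinearGroup.coe_one]
    exact Matrix.submatrix_one emb emb_injective
  map_mul' g h := by
    obtain ⟨hg0, -, -⟩ := cent_entries s hs g g.2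
    obtain ⟨-, hh1, -⟩ := cent_entries s hs h h.2
    have a2 := hg0 2 (by decide)
    have a3 := hg0 3 (by decide)
    have a4 := hg0 4 (by decide)
    have b2 := hh1 2 (by decide)
    have b3 := hh1 3 (by decide)
    have b4 := hh1 4 (by decide)
    ext i j
    rw [Subgroup.coe_mul, Matrix.SpecialLinearGroup.coe_mul]
    simp only [Matrix.submatrix_apply, Matrix.mul_apply, Fin.sum_univ_five, Fin.sum_univ_three,
      emb_zero, emb_one, emb_two]
    fin_cases i <;> fin_cases j <;>
      simp [emb_zero, emb_one, emb_two, a2, a3, a4, b2, b3, b4]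

/-- The explicit shape of the elements of the kernel of `blockHom`. -/
def kerMat (a1 a2 a3 a4 b2 b3 b4 : ZMod 2) : Matrix (Fin 5) (Fin 5) (ZMod 2) :=
  !![1, a1, a2, a3, a4; 0, 1, 0, 0, 0; 0, b2, 1, 0, 0; 0, b3, 0, 1, 0; 0, b4, 0, 0, 1]

theorem kerMat_pow : ∀ a1 a2 a3 a4 b2 b3 b4 : ZMod 2,
    kerMat a1 a2 a3 a4 b2 b3 b4 ^ 4 = 1 := by
  decide +kernel

/-- Elements of the kernel of `blockHom` have the shape `kerMat`. -/
theorem ker_eq_kerMat (s : SL5) (hs : (s : Matrix (Fin 5) (Fin 5) (ZMod 2)) = transvection 0 1 1)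
    (g : centralizer ({s} : Set SL5)) (hg : g ∈ (blockHom s hs).ker) :
    ((g : SL5) : Matrix (Fin 5) (Fin 5) (ZMod 2)) =
      kerMat (((g : SL5) : Matrix (Fin 5) (Fin 5) (ZMod 2)) 0 1)
        (((g : SL5) : Matrix (Fin 5) (Fin 5) (ZMod 2)) 0 2)
        (((g : SL5) : Matrix (Fin 5) (Fin 5) (ZMod 2)) 0 3)
        (((g : SL5) : Matrix (Fin 5) (Fin 5) (ZMod 2)) 0 4)
        (((g : SL5) : Matrix (Fin 5) (Fin 5) (ZMod 2)) 2 1)
        (((g : SL5) : Matrix (Fin 5) (Fin 5) (ZMod 2)) 3 1)
        (((g : SL5) : Matrix (Fin 5) (Fin 5) (ZMod 2)) 4 1) := by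
  obtain ⟨h0, h1, h01⟩ := cent_entries s hs g g.2
  have h00 := cent_entry00 (g : SL5) h0
  have h11 : ((g : SL5) : Matrix (Fin 5) (Fin 5) (ZMod 2)) 1 1 = 1 := by rw [← h01, h00]
  rw [MonoidHom.mem_ker] at hg
  have hblk : ∀ i j : Fin 3, ((g : SL5) : Matrix (Fin 5) (Fin 5) (ZMod 2)) (emb i) (emb j) =
      (1 : Matrix (Fin 3) (Fin 3) (ZMod 2)) i j := by
    intro i j
    have := congrFun (congrFun hg i) j
    exact this
  have c10 := h0 1 (by decide)
  have c20 := h0 2 (by decide)
  have c30 := h0 3 (by decide)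
  have c40 := h0 4 (by decide)
  have r10 := h1 0 (by decide)
  have r12 := h1 2 (by decide)
  have r13 := h1 3 (by decide)
  have r14 := h1 4 (by decide)
  have e22 := hblk 0 0
  have e23 := hblk 0 1
  have e24 := hblk 0 2
  have e32 := hblk 1 0
  have e33 := hblk 1 1
  have e34 := hblk 1 2
  have e42 := hblk 2 0
  have e43 := hblk 2 1
  have e44 := hblk 2 2
  simp only [emb_zero, emb_one, emb_two] at e22 e23 e24 e32 e33 e34 e42 e43 e44
  ext i j
  fin_cases i <;> fin_cases j <;>
    simp [kerMat, h00, h11, c10, c20, c30, c40, r10, r12, r13, r14,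
      e22, e23, e24, e32, e33, e34, e42, e43, e44]

/-- The kernel of `blockHom` has exponent dividing `4`. -/
theorem ker_pow_four (s : SL5) (hs : (s : Matrix (Fin 5) (Fin 5) (ZMod 2)) = transvection 0 1 1)
    (g : centralizer ({s} : Set SL5)) (hg : g ∈ (blockHom s hs).ker) : g ^ 4 = 1 := by
  apply Subtype.ext
  apply Subtype.ext
  rw [Subgroup.coe_pow, Matrix.SpecialLinearGroup.coe_pow, Subgroup.coe_one,
    Matrix.SpecialLinearGroup.coe_one, ker_eq_kerMat s hs g hg]
  exact kerMat_pow _ _ _ _ _ _ _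

theorem ker_isPGroup (s : SL5) (hs : (s : Matrix (Fin 5) (Fin 5) (ZMod 2)) = transvection 0 1 1) :
    IsPGroup 2 (blockHom s hs).ker := by
  intro g
  refine ⟨2, ?_⟩
  have := ker_pow_four s hs (g : centralizer ({s} : Set SL5)) g.2
  apply Subtype.ext
  rw [Subgroup.coe_pow, Subgroup.coe_one]
  exact this

/-- The transvection `1 + E_{ij}` as an element of `SL(5,2)`. -/
def tSL (i j : Fin 5) (hij : i ≠ j) : SL5 :=
  ⟨transvection i j 1, det_transvection_of_ne i j hij 1⟩

theorem tSL_mem_cent (s : SL5) (hs : (s : Matrix (Fin 5) (Fin 5) (ZMod 2)) = transvection 0 1 1)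
    (i j : Fin 5) (hij : i ≠ j) (hi1 : i ≠ 1) (hj0 : j ≠ 0) :
    tSL i j hij ∈ centralizer ({s} : Set SL5) := by
  rw [mem_centralizer_iff]
  intro h hh
  rw [Set.mem_singleton_iff] at hh
  subst hh
  apply Subtype.ext
  rw [Matrix.SpecialLinearGroup.coe_mul, Matrix.SpecialLinearGroup.coe_mul, hs]
  symm
  apply comm_transv_of
  · intro a ha
    show transvection i j (1 : ZMod 2) a 0 = 0
    simp [transvection, Matrix.one_apply, ha, Matrix.single_apply, hj0]
  · intro b hb
    show transvection i j (1 : ZMod 2) 1 b = 0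
    simp [transvection, Matrix.one_apply, hb.symm, Matrix.single_apply, hi1]
  · show transvection i j (1 : ZMod 2) 0 0 = transvection i j (1 : ZMod 2) 1 1
    simp [transvection, Matrix.one_apply, Matrix.single_apply, hj0, hi1]

theorem tSL_mem_ker (s : SL5) (hs : (s : Matrix (Fin 5) (Fin 5) (ZMod 2)) = transvection 0 1 1)
    (i j : Fin 5) (hij : i ≠ j) (hi1 : i ≠ 1) (hj0 : j ≠ 0)
    (hmid : ∀ a b : Fin 3, ¬ (i = emb a ∧ j = emb b)) :
    (⟨tSL i j hij, tSL_mem_cent s hs i j hij hi1 hj0⟩ : centralizer ({s} : Set SL5)) ∈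
      (blockHom s hs).ker := by
  rw [MonoidHom.mem_ker]
  ext a b
  show transvection i j (1 : ZMod 2) (emb a) (emb b) = (1 : Matrix (Fin 3) (Fin 3) (ZMod 2)) a b
  have h := hmid a b
  simp only [transvection, Matrix.add_apply, Matrix.one_apply, Matrix.single_apply]
  rw [if_neg h, add_zero]
  by_cases hab : a = b
  · simp [hab]
  · rw [if_neg hab, if_neg (fun h' => hab (emb_injective h'))]

theorem emb_ne_zero (a : Fin 3) : (0 : Fin 5) ≠ emb a := by
  intro h
  have := congrArg Fin.val h
  simp [emb] at this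

theorem emb_ne_one (a : Fin 3) : (1 : Fin 5) ≠ emb a := by
  intro h
  have := congrArg Fin.val h
  simp [emb] at this

theorem comm_to_matrix (s : SL5) (w q : centralizer ({s} : Set SL5)) (h : w * q = q * w) :
    ((w : SL5) : Matrix (Fin 5) (Fin 5) (ZMod 2)) * ((q : SL5) : Matrix (Fin 5) (Fin 5) (ZMod 2)) =
      ((q : SL5) : Matrix (Fin 5) (Fin 5) (ZMod 2)) * ((w : SL5) : Matrix (Fin 5) (Fin 5) (ZMod 2)) := by
  have := congrArg (fun x : centralizer ({s} : Set SL5) =>
    ((x : SL5) : Matrix (Fin 5) (Fin 5) (ZMod 2))) h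
  simpa using this

/-- The centralizer in `C` of the kernel of `blockHom` is `{1, s}`. -/
theorem cent_ker (s : SL5) (hs : (s : Matrix (Fin 5) (Fin 5) (ZMod 2)) = transvection 0 1 1)
    (w : centralizer ({s} : Set SL5))
    (hw : ∀ q ∈ (blockHom s hs).ker, w * q = q * w) : w = 1 ∨ (w : SL5) = s := by
  obtain ⟨h0, h1, h01⟩ := cent_entries s hs w w.2
  have h00 := cent_entry00 (w : SL5) h0
  have h11 : ((w : SL5) : Matrix (Fin 5) (Fin 5) (ZMod 2)) 1 1 = 1 := by rw [← h01, h00]
  -- rows 2,3,4
  have hrow : ∀ j : Fin 5, j ≠ 0 → j ≠ 1 →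
      (∀ b, b ≠ j → ((w : SL5) : Matrix (Fin 5) (Fin 5) (ZMod 2)) j b = 0) ∧
      ((w : SL5) : Matrix (Fin 5) (Fin 5) (ZMod 2)) j j = 1 := by
    intro j hj0 hj1
    have hmem := tSL_mem_ker s hs 0 j (Ne.symm hj0) (by decide) hj0
      (fun a b h => emb_ne_zero a h.1)
    have hc := comm_to_matrix s w _ (hw _ hmem)
    have hc' := comm_transv (Ne.symm hj0) _ hc
    exact ⟨hc'.2.1, by rw [← hc'.2.2, h00]⟩
  -- columns 2,3,4
  have hcol : ∀ i : Fin 5, i ≠ 0 → i ≠ 1 →
      (∀ a, a ≠ i → ((w : SL5) : Matrix (Fin 5) (Fin 5) (ZMod 2)) a i = 0) := by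
    intro i hi0 hi1
    have hmem := tSL_mem_ker s hs i 1 hi1 hi1 (by decide)
      (fun a b h => emb_ne_one b h.2)
    have hc := comm_to_matrix s w _ (hw _ hmem)
    have hc' := comm_transv hi1 _ hc
    exact hc'.1
  obtain ⟨r2, d2⟩ := hrow 2 (by decide) (by decide)
  obtain ⟨r3, d3⟩ := hrow 3 (by decide) (by decide)
  obtain ⟨r4, d4⟩ := hrow 4 (by decide) (by decide)
  have c2 := hcol 2 (by decide) (by decide)
  have c3 := hcol 3 (by decide) (by decide)
  have c4 := hcol 4 (by decide) (by decide)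
  have e10 := h0 1 (by decide)
  have e20 := h0 2 (by decide)
  have e30 := h0 3 (by decide)
  have e40 := h0 4 (by decide)
  have f10 := h1 0 (by decide)
  have f12 := h1 2 (by decide)
  have f13 := h1 3 (by decide)
  have f14 := h1 4 (by decide)
  have g21 := r2 1 (by decide)
  have g23 := r2 3 (by decide)
  have g24 := r2 4 (by decide)
  have g31 := r3 1 (by decide)
  have g32 := r3 2 (by decide)
  have g34 := r3 4 (by decide)
  have g41 := r4 1 (by decide)
  have g42 := r4 2 (by decide)
  have g43 := r4 3 (by decide)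
  have k02 := c2 0 (by decide)
  have k03 := c3 0 (by decide)
  have k04 := c4 0 (by decide)
  rcases zmod2_cases (((w : SL5) : Matrix (Fin 5) (Fin 5) (ZMod 2)) 0 1) with h | h
  · left
    apply Subtype.ext
    apply Subtype.ext
    rw [Subgroup.coe_one, Matrix.SpecialLinearGroup.coe_one]
    ext a b
    fin_cases a <;> fin_cases b <;>
      simp [h, h00, h11, d2, d3, d4, e10, e20, e30, e40, f10, f12, f13, f14, g21, g23, g24,
        g31, g32, g34, g41, g42, g43, k02, k03, k04]
  · right
    apply Subtype.ext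
    rw [hs]
    ext a b
    fin_cases a <;> fin_cases b <;>
      simp [transvection, Matrix.single_apply, h, h00, h11, d2, d3, d4, e10, e20, e30, e40,
        f10, f12, f13, f14, g21, g23, g24,
        g31, g32, g34, g41, g42, g43, k02, k03, k04]

/-- `s` itself lies in the kernel of `blockHom`. -/
theorem s_mem_ker (s : SL5) (hs : (s : Matrix (Fin 5) (Fin 5) (ZMod 2)) = transvection 0 1 1) :
    (⟨s, by
      rw [mem_centralizer_iff]
      intro h hh
      rw [Set.mem_singleton_iff] at hh
      rw [hh]⟩ : centralizer ({s} : Set SL5)) ∈ (blockHom s hs).ker := by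
  rw [MonoidHom.mem_ker]
  ext a b
  show (s : Matrix (Fin 5) (Fin 5) (ZMod 2)) (emb a) (emb b) =
    (1 : Matrix (Fin 3) (Fin 3) (ZMod 2)) a b
  rw [hs]
  simp only [transvection, Matrix.add_apply, Matrix.one_apply, Matrix.single_apply]
  have hneg : ¬ ((0 : Fin 5) = emb a ∧ (1 : Fin 5) = emb b) := fun h => emb_ne_zero a h.1
  rw [if_neg hneg, add_zero]
  by_cases hab : a = b
  · simp [hab]
  · rw [if_neg hab, if_neg (fun h' => hab (emb_injective h'))]

end sl5

end Cfsg.Agent.Helper9.TransvCent
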