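import Mathlib
import Cfsg.Prelude.Def_OddOrderLocal
import Cfsg.Agent.Helper9.BG12r
import Cfsg.Agent.Helper16.BG11d
import Cfsg.Agent.Helper28.BG11SIG

set_option autoImplicit false
set_option linter.unusedSectionVars false
set_option linter.unusedVariables false
set_option linter.style.haveILetI false

/-! # B&G Lemma 12.3 (in the form needed) relative to B&G 11.7 -/

namespace Cfsg.Agent.H9.BG12

open Subgroup Cfsg
open Cfsg.Agent.Helper14 (IsSylowIn cj cj_apply exists_isSylowIn_ge exists_isSylowIn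
  isSylowIn_of_sylow le_normalizer_of_map_cj_le mem_normalizer_iff_map_cj map_cj_le_iff
  map_cj_map_cj_inv map_cj_inv_map_cj map_cj_eq_self_of_mem mem_map_cj map_cj_normalizer)
open Cfsg.Agent.Helper16.BG11 (BG Exc)

universe u
variable {G : Type u} [Group G] [Finite G]

/-- **B&G 11.7** as a hypothesis: for an exceptional maximal subgroup, `M_σ A ⊴ M`. -/
def E117 (G : Type u) [Group G] [Finite G] : Prop :=
  ∀ (M : Subgroup G) (p : ℕ) [Fact p.Prime] (A A₀ : Subgroup G), Exc M p A A₀ →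
    M ≤ normalizer ((Cfsg.sigmaCore M ⊔ A : Subgroup G) : Set G)

/-- if `J` is normalized by `L ≥ D`, `A ≤ J` normalizes `D` and `D ∩ J = 1`, then `D`
centralizes `A` -/
theorem le_centralizer_of_inf_eq_bot {L J A D : Subgroup G}
    (hLJ : L ≤ normalizer (J : Set G)) (hAJ : A ≤ J) (hDL : D ≤ L)
    (hAD : A ≤ normalizer (D : Set G)) (hDJ : D ⊓ J = ⊥) : D ≤ centralizer (A : Set G) := by
  intro d hd
  rw [mem_centralizer_iff]
  intro a ha
  have h1 : d * a * d⁻¹ ∈ J := (mem_normalizer_iff.mp (hLJ (hDL hd)) a).mp (hAJ ha)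
  have h2 : d * a * d⁻¹ * a⁻¹ ∈ J := J.mul_mem h1 (J.inv_mem (hAJ ha))
  have h3 : a * d⁻¹ * a⁻¹ ∈ D := (mem_normalizer_iff.mp (hAD ha) d⁻¹).mp (D.inv_mem hd)
  have h4 : d * a * d⁻¹ * a⁻¹ ∈ D := by
    have : d * a * d⁻¹ * a⁻¹ = d * (a * d⁻¹ * a⁻¹) := by group
    rw [this]
    exact D.mul_mem hd h3
  have h5 : d * a * d⁻¹ * a⁻¹ = 1 := by
    have : d * a * d⁻¹ * a⁻¹ ∈ D ⊓ J := ⟨h4, h2⟩
    rw [hDJ] at this
    exact mem_bot.mp this
  calc a * d = (d * a * d⁻¹ * a⁻¹)⁻¹ * (d * a) := by group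
    _ = d * a := by rw [h5, inv_one, one_mul]

/-- a `p'`-subgroup of `N A` (`A` a `p`-group normalizing `N`) lies in `N` -/
theorem le_of_le_sup_of_not_dvd {N A X : Subgroup G} {p : ℕ} [hp : Fact p.Prime]
    (hAN : A ≤ normalizer (N : Set G)) (hA : IsPGroup p A) (hX : ¬ p ∣ Nat.card X)
    (hXNA : X ≤ N ⊔ A) : X ≤ N := by
  have hJ : N ⊔ A ≤ normalizer (N : Set G) := sup_le le_normalizer hAN
  apply le_of_coprime_card_relIndex hXNA le_sup_left hJ
  have h1 : N.relIndex (N ⊔ A) = N.relIndex A := by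
    rw [sup_comm]
    exact Cfsg.Agent.Helper26.relIndex_sup_of_le_normalizer hAN
  obtain ⟨k, hk⟩ := IsPGroup.iff_card.mp hA
  have h2 : N.relIndex A ∣ p ^ k := hk ▸ Subgroup.relIndex_dvd_card N A
  rw [h1]
  obtain ⟨m, -, hm⟩ := (Nat.dvd_prime_pow hp.out).mp h2
  rw [hm]
  exact Nat.Coprime.pow_right m ((Nat.Prime.coprime_iff_not_dvd hp.out).mpr hX).symm

theorem le_centralizer_of_elementary {A A₀ : Subgroup G} {p : ℕ}
    (hAe : Cfsg.IsElementaryAbelian p A) (hA₀A : A₀ ≤ A) : A ≤ centralizer (A₀ : Set G) := by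
  intro a ha
  rw [mem_centralizer_iff]
  intro b hb
  exact congrArg Subtype.val (hAe.1.is_comm.comm (⟨b, hA₀A hb⟩ : ↥A) ⟨a, ha⟩)

/-- **B&G 12.3** (in the form we need): `A ∈ E_p^2(M)`, `A₀ ∈ E^1(A)` with `N_G(A₀) ≤ L ≠ M`;
then every `A`-invariant `p'`-subgroup of `M_σ ∩ L` is centralized by `A`. -/
theorem le_centralizer_of_normalizer_le (h : BG G) (h117 : E117 G) {M L A A₀ D : Subgroup G}
    {p : ℕ} [hp : Fact p.Prime] (hM : IsCoatom M) (hL : IsCoatom L) (hLM : L ≠ M) (hAM : A ≤ M)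
    (hAe : Cfsg.IsElementaryAbelian p A) (hA2 : Nat.card A = p ^ 2) (hA₀A : A₀ ≤ A)
    (hA₀p : Nat.card A₀ = p) (hNL : normalizer (A₀ : Set G) ≤ L)
    (hDσ : D ≤ Cfsg.sigmaCore M) (hDL : D ≤ L) (hAD : A ≤ normalizer (D : Set G))
    (hDp : ¬ p ∣ Nat.card D) : D ≤ centralizer (A : Set G) := by
  have hAp : IsPGroup p A := Cfsg.Agent.Helper4.BG10.isPGroup_of_elementary hAe
  have hA₀pg : IsPGroup p A₀ := hAp.to_le hA₀A
  have hCL : centralizer (A₀ : Set G) ≤ L := (centralizer_le_normalizer _).trans hNL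
  have hAL : A ≤ L := (le_centralizer_of_elementary hAe hA₀A).trans hCL
  have hA₀1 : A₀ ≠ ⊥ := by
    intro h0
    rw [h0, Subgroup.card_bot] at hA₀p
    exact hp.out.one_lt.ne hA₀p
  by_cases hpL : p ∈ Cfsg.sigma L
  · -- `L` is not conjugate to `M`
    have hnc : ∀ g : G, L.map (cj g) ≠ M := by
      intro g hg
      have h1 : A₀ ≤ L.map (cj g) := hg ▸ (hA₀A.trans hAM)
      have h2 : g ∈ L := Cfsg.Agent.Helper16.BG11.mem_of_le_map_cj h hL hpL hA₀pg hA₀1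
        (hA₀A.trans hAL) hCL h1
      exact hLM (by rw [← hg, map_cj_eq_self_of_mem h2])
    apply Cfsg.Agent.Helper16.BG11.le_centralizer_of_mem_sigma h hL hpL hAp hAL hDL hAD hDp
    apply Nat.Coprime.coprime_dvd_left (Subgroup.card_dvd_of_le hDσ)
    apply Nat.coprime_of_dvd
    intro q hq h1 h2
    exact Cfsg.Agent.Helper16.BG11.alpha_sigma_disjoint h hL hM hnc
      (Cfsg.Agent.Helper16.BG11.prime_mem_alpha_of_dvd_card_alphaCore h hL hq h2)
      (mem_sigma_of_dvd_card_sigmaCore hq h1)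
  · have e : Exc L p A A₀ := ⟨hL, hpL, hAL, hAe, hA2, hA₀A, hA₀p, hNL⟩
    have hLJ := h117 L p A A₀ e
    apply le_centralizer_of_inf_eq_bot hLJ le_sup_right hDL hAD
    apply le_bot_iff.mp
    have hAn : A ≤ normalizer (Cfsg.sigmaCore L : Set G) := hAL.trans (le_normalizer_sigmaCore L)
    have hXp : ¬ p ∣ Nat.card (D ⊓ (Cfsg.sigmaCore L ⊔ A) : Subgroup G) := fun hd =>
      hDp (hd.trans (Subgroup.card_dvd_of_le inf_le_left))
    have h1 : D ⊓ (Cfsg.sigmaCore L ⊔ A) ≤ Cfsg.sigmaCore L :=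
      le_of_le_sup_of_not_dvd hAn hAp hXp inf_le_right
    have h2 : Cfsg.sigmaCore M ⊓ Cfsg.sigmaCore L = ⊥ := by
      by_contra hne
      exact hLM (e.eq_of_sigmaCore_inf_ne_bot h hM hAM hne).symm
    rw [← h2]
    exact le_inf (inf_le_left.trans hDσ) h1

end Cfsg.Agent.H9.BG12
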