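import Mathlib
import Cfsg.Prelude.Def_OddOrderLocal
import Cfsg.Agent.Helper9.BG12s
import Cfsg.Agent.Helper16.BG11e
import Cfsg.Agent.Helper21.BG10d

set_option autoImplicit false
set_option linter.unusedSectionVars false
set_option linter.unusedVariables false
set_option linter.style.haveILetI false

/-! # B&G Proposition 12.4 (= S1416) relative to B&G 11.7 -/

namespace Cfsg.Agent.H9.BG12

open Subgroup Cfsg
open Cfsg.Agent.Helper14 (IsSylowIn cj cj_apply exists_isSylowIn_ge exists_isSylowIn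
  isSylowIn_of_sylow le_normalizer_of_map_cj_le mem_normalizer_iff_map_cj map_cj_le_iff
  map_cj_map_cj_inv map_cj_inv_map_cj map_cj_eq_self_of_mem mem_map_cj map_cj_normalizer)
open Cfsg.Agent.Helper16.BG11 (BG Exc)

universe u
variable {G : Type u} [Group G] [Finite G]

/-- the hypothesis of B&G 12.4(b): `A ∈ E_p^2(M)` and no line `A₀` of `A` has
`𝓜(N_G(A₀)) = {M}` -/
structure NU (M : Subgroup G) (p : ℕ) (A : Subgroup G) : Prop where
  hM : IsCoatom M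
  hAM : A ≤ M
  hAe : Cfsg.IsElementaryAbelian p A
  hA2 : Nat.card A = p ^ 2
  hH : ∀ A₀ : Subgroup G, A₀ ≤ A → Nat.card A₀ = p →
    ¬ (normalizer (A₀ : Set G) ≤ M ∧
      ∀ L : Subgroup G, IsCoatom L → normalizer (A₀ : Set G) ≤ L → L = M)

namespace NU

variable {p : ℕ} [hp : Fact p.Prime] {M A : Subgroup G}

theorem hAp (e : NU M p A) : IsPGroup p A :=
  Cfsg.Agent.Helper4.BG10.isPGroup_of_elementary e.hAe

theorem hA1 (e : NU M p A) : A ≠ ⊥ := by
  intro h0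
  have := e.hA2
  rw [h0, Subgroup.card_bot] at this
  have h2 : 1 < p ^ 2 := Nat.one_lt_pow (by norm_num) hp.out.one_lt
  omega

theorem ne_bot_of_card {A₀ : Subgroup G} (hA₀p : Nat.card A₀ = p) : A₀ ≠ ⊥ := by
  intro h0
  rw [h0, Subgroup.card_bot] at hA₀p
  exact hp.out.one_lt.ne hA₀p

/-- every line of `A` has its normalizer in a maximal subgroup other than `M` -/
theorem exists_coatom (h : BG G) (e : NU M p A) {A₀ : Subgroup G} (hA₀A : A₀ ≤ A)
    (hA₀p : Nat.card A₀ = p) :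
    ∃ L : Subgroup G, IsCoatom L ∧ normalizer (A₀ : Set G) ≤ L ∧ L ≠ M := by
  by_contra hcon
  push Not at hcon
  have hA₀1 : A₀ ≠ ⊥ := ne_bot_of_card hA₀p
  have hA₀t : A₀ ≠ ⊤ := fun h' => e.hM.1 (top_le_iff.mp (h' ▸ hA₀A.trans e.hAM))
  have hNt := Cfsg.Agent.Lead.TT.normalizer_ne_top_of_simple h.hS hA₀1 hA₀t
  obtain ⟨L, hL, hNL⟩ := (eq_top_or_exists_le_coatom _).resolve_left hNt
  have hLM := hcon L hL hNL
  exact e.hH A₀ hA₀A hA₀p ⟨hLM ▸ hNL, fun L' hL' hNL' => hcon L' hL' hNL'⟩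

theorem le_normalizer_line (e : NU M p A) {A₀ : Subgroup G} (hA₀A : A₀ ≤ A) :
    A ≤ normalizer (A₀ : Set G) :=
  (le_centralizer_of_elementary e.hAe hA₀A).trans (centralizer_le_normalizer _)

/-- a line of `A` -/
theorem exists_line (e : NU M p A) : ∃ A₀ : Subgroup G, A₀ ≤ A ∧ Nat.card A₀ = p := by
  obtain ⟨a, ha, ha1⟩ : ∃ a ∈ A, a ≠ 1 := by
    by_contra hcon
    push Not at hcon
    exact e.hA1 ((Subgroup.eq_bot_iff_forall A).mpr hcon)
  refine ⟨zpowers a, zpowers_le.mpr ha, ?_⟩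
  rw [Nat.card_zpowers]
  exact orderOf_eq_prime (e.hAe.2 a ha) ha1

/-- `A` lies in a maximal subgroup other than `M`; in particular `A ∉ 𝒰` -/
theorem rank_centralizer (h : BG G) (e : NU M p A) :
    Cfsg.RankLE 2 (centralizer (A : Set G)) := by
  by_contra hr
  obtain ⟨A₀, hA₀A, hA₀p⟩ := e.exists_line
  obtain ⟨L, hL, hNL, hLM⟩ := e.exists_coatom h hA₀A hA₀p
  have hAt : A ≠ ⊤ := fun h' => e.hM.1 (top_le_iff.mp (h' ▸ e.hAM))
  have hr1 : ¬ Cfsg.RankLE 1 A := by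
    apply Cfsg.Agent.Helper4.BG10.rankLE_of_elementary e.hAe
    rw [e.hA2]
    exact Nat.pow_lt_pow_right hp.out.one_lt (by norm_num)
  have hU := h.s1403 A hAt hr1 (Or.inr hr)
  exact hLM (hU.unique ⟨hL, (e.le_normalizer_line hA₀A).trans hNL⟩ ⟨e.hM, e.hAM⟩)

theorem mem_iff (h : BG G) (e : NU M p A) :
    ∀ x ∈ centralizer (A : Set G), x ^ p = 1 ↔ x ∈ A := by
  intro x hx
  constructor
  · intro hxp
    have hz : Cfsg.IsElementaryAbelian p (zpowers x) := by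
      refine ⟨inferInstance, ?_⟩
      intro a ha
      obtain ⟨k, rfl⟩ := mem_zpowers_iff.mp ha
      rw [← zpow_natCast, ← zpow_mul, mul_comm, zpow_mul, zpow_natCast, hxp, one_zpow]
    have hB : Cfsg.IsElementaryAbelian p (A ⊔ zpowers x) :=
      Cfsg.Agent.Helper7.isElementaryAbelian_sup_of_commute e.hAe hz (by
        intro a ha b hb
        obtain ⟨k, rfl⟩ := mem_zpowers_iff.mp hb
        have hc : Commute a x := mem_centralizer_iff.mp hx a ha
        exact (hc.zpow_right k).eq)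
    have hBC : A ⊔ zpowers x ≤ centralizer (A : Set G) :=
      sup_le (le_centralizer_of_elementary e.hAe le_rfl) (zpowers_le.mpr hx)
    have hcard := Cfsg.Agent.Helper16.BG11.card_le_of_pRankLE hBC hB
      (e.rank_centralizer h p hp.out)
    have h1 : A = A ⊔ zpowers x :=
      Subgroup.eq_of_le_of_card_ge le_sup_left (by rw [e.hA2]; exact hcard)
    rw [h1]
    exact (le_sup_right : zpowers x ≤ A ⊔ zpowers x) (mem_zpowers x)
  · exact e.hAe.2 x

/-- **B&G 12.3 + generation**: an `A`-invariant `p'`-subgroup of `M_σ` is centralized by `A` -/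
theorem le_centralizer_of_le_sigmaCore (h : BG G) (h117 : E117 G) (e : NU M p A) {K : Subgroup G}
    (hKσ : K ≤ Cfsg.sigmaCore M) (hAK : A ≤ normalizer (K : Set G)) (hKp : ¬ p ∣ Nat.card K) :
    K ≤ centralizer (A : Set G) := by
  haveI := e.hAe.1
  have hnc : ¬ IsCyclic A := Cfsg.Agent.Lead.BG9.not_isCyclic_of_sq_le e.hAe (by rw [e.hA2])
  have hcop : (Nat.card A).Coprime (Nat.card K) := by
    rw [e.hA2]
    exact Nat.Coprime.pow_left 2 ((Nat.Prime.coprime_iff_not_dvd hp.out).mpr hKp)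
  have hgen := Cfsg.Agent.Lead.generated_by_centralizers A K hnc hAK hcop
  rw [← hgen]
  apply iSup₂_le
  rintro a ⟨ha, ha1⟩
  have hA₀A : zpowers a ≤ A := zpowers_le.mpr ha
  have hA₀p : Nat.card (zpowers a) = p := by
    rw [Nat.card_zpowers]
    exact orderOf_eq_prime (e.hAe.2 a ha) ha1
  obtain ⟨L, hL, hNL, hLM⟩ := e.exists_coatom h hA₀A hA₀p
  have hcomm : ∀ b ∈ A, b * a = a * b := fun b hb =>
    congrArg Subtype.val (e.hAe.1.is_comm.comm (⟨b, hb⟩ : ↥A) ⟨a, ha⟩)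
  apply le_centralizer_of_normalizer_le h h117 e.hM hL hLM e.hAM e.hAe e.hA2 hA₀A hA₀p hNL
  · exact inf_le_left.trans hKσ
  · refine inf_le_right.trans ?_
    rw [← Cfsg.Agent.Helper4.BG10.centralizer_zpowers_eq]
    exact (centralizer_le_normalizer _).trans hNL
  · exact Cfsg.Agent.Lead.le_normalizer_inf' hAK
      (Cfsg.Agent.Lead.TT.le_normalizer_centralizer_singleton hcomm)
  · exact fun hd => hKp (hd.trans (Subgroup.card_dvd_of_le inf_le_left))

/-- `p ∉ α(M)` -/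
theorem not_mem_alpha (h : BG G) (e : NU M p A) : p ∉ Cfsg.alpha M := by
  rintro ⟨-, hr⟩
  obtain ⟨F, hFM, hFe, hFc⟩ := Cfsg.Agent.Lead.TT.exists_elementary_of_not_pRankLE' 2 M hr
  obtain ⟨P, hP, hAP⟩ := exists_isSylowIn_ge e.hAM e.hAp
  have hFp := Cfsg.Agent.Helper4.BG10.isPGroup_of_elementary hFe
  obtain ⟨P', hP', hFP'⟩ := exists_isSylowIn_ge hFM hFp
  obtain ⟨m, hm, rfl⟩ := hP.exists_conj hP'
  have hF'P : F.map (cj m⁻¹) ≤ P := by
    rw [map_cj_le_iff, inv_inv]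
    exact hFP'
  have hF'e := Cfsg.Agent.Helper16.BG11.isElementaryAbelian_map_cj hFe m⁻¹
  have hF'c : p ^ 3 ≤ Nat.card (F.map (cj m⁻¹)) := by
    rw [Cfsg.Agent.Helper16.BG11.card_map_cj]
    exact hFc
  have hFU := Cfsg.Agent.Helper4.BG10.uniq_of_cube h.hG h.uniq hF'e hF'c
  have hP1 : P ≠ ⊥ := fun h0 => e.hA1 (le_bot_iff.mp (h0 ▸ hAP))
  have hZ1 := Cfsg.Agent.Helper16.BG11.ozc_ne_bot hP.2.1 hP1
  obtain ⟨z, hz, hz1⟩ : ∃ z ∈ Cfsg.Agent.Helper14.ozc p P, z ≠ 1 := by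
    by_contra hcon
    push Not at hcon
    exact hZ1 ((Subgroup.eq_bot_iff_forall _).mpr hcon)
  obtain ⟨hzZ, hzp⟩ := (Cfsg.Agent.Helper16.BG11.mem_ozc_iff p P).mp hz
  have hzA : z ∈ A :=
    (e.mem_iff h z (centralizer_le (by exact_mod_cast hAP) hzZ.2)).mp hzp
  have hA₀A : zpowers z ≤ A := zpowers_le.mpr hzA
  have hA₀p : Nat.card (zpowers z) = p := by
    rw [Nat.card_zpowers]
    exact orderOf_eq_prime hzp hz1
  obtain ⟨L, hL, hNL, hLM⟩ := e.exists_coatom h hA₀A hA₀p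
  have hPL : P ≤ L := by
    refine le_trans ?_ ((centralizer_le_normalizer _).trans hNL)
    rw [Cfsg.Agent.Helper4.BG10.centralizer_zpowers_eq]
    intro x hx
    rw [mem_centralizer_singleton_iff]
    exact mem_centralizer_iff.mp hzZ.2 x hx
  exact hLM (hFU.unique ⟨hL, hF'P.trans hPL⟩ ⟨e.hM, hF'P.trans hP.1⟩)

/-- a `q`-subgroup of `M`, `q ∈ α(M)`, lies in `M_α` -/
theorem le_alphaCore_of_isPGroup (h : BG G) {M F : Subgroup G} (hM : IsCoatom M) {q : ℕ}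
    [hq : Fact q.Prime] (hqα : q ∈ Cfsg.alpha M) (hFM : F ≤ M) (hFq : IsPGroup q F) :
    F ≤ Cfsg.alphaCore M := by
  apply le_of_coprime_card_relIndex hFM (Cfsg.Agent.Helper21.BG10.alphaCore_le M)
    (Cfsg.Agent.Helper21.BG10.le_normalizer_alphaCore M)
  obtain ⟨k, hk⟩ := IsPGroup.iff_card.mp hFq
  rw [hk]
  exact Nat.Coprime.pow_left k ((Nat.Prime.coprime_iff_not_dvd hq.out).mpr
    ((h.s1405 M hM).1.2.2 q hq.out hqα))

/-- no elementary abelian `q`-subgroup of order `q ^ 3` of `M_σ` is centralized by `A` -/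
theorem not_cube_le_centralizer (h : BG G) (e : NU M p A) {q : ℕ} [hq : Fact q.Prime]
    {F : Subgroup G} (hFM : F ≤ M) (hFe : Cfsg.IsElementaryAbelian q F)
    (hFc : q ^ 3 ≤ Nat.card F) (hFA : F ≤ centralizer (A : Set G)) : False := by
  have hFU := Cfsg.Agent.Helper4.BG10.uniq_of_cube h.hG h.uniq hFe hFc
  obtain ⟨A₀, hA₀A, hA₀p⟩ := e.exists_line
  obtain ⟨L, hL, hNL, hLM⟩ := e.exists_coatom h hA₀A hA₀p
  have hFL : F ≤ L :=
    hFA.trans ((centralizer_le (by exact_mod_cast hA₀A)).trans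
      ((centralizer_le_normalizer _).trans hNL))
  exact hLM (hFU.unique ⟨hL, hFL⟩ ⟨e.hM, hFM⟩)

/-- `M_α = 1` -/
theorem alphaCore_eq_bot (h : BG G) (h117 : E117 G) (e : NU M p A) :
    Cfsg.alphaCore M = ⊥ := by
  have hpα := e.not_mem_alpha h
  have hπ := (h.s1405 M e.hM).1.2.1
  have hMασ : Cfsg.alphaCore M ≤ Cfsg.sigmaCore M := (h.s1405 M e.hM).2.2.1
  have hAα : A ≤ normalizer (Cfsg.alphaCore M : Set G) :=
    e.hAM.trans (Cfsg.Agent.Helper21.BG10.le_normalizer_alphaCore M)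
  have hpd : ¬ p ∣ Nat.card (Cfsg.alphaCore M) := fun hd => hpα (hπ p hp.out hd)
  have hcent := e.le_centralizer_of_le_sigmaCore h h117 hMασ hAα hpd
  by_contra hne
  have hc1 : Nat.card (Cfsg.alphaCore M) ≠ 1 := fun h1 => hne (Subgroup.card_eq_one.mp h1)
  obtain ⟨q, hq, hqd⟩ := Nat.exists_prime_and_dvd hc1
  haveI : Fact q.Prime := ⟨hq⟩
  have hqα := hπ q hq hqd
  obtain ⟨F, hFM, hFe, hFc⟩ := Cfsg.Agent.Lead.TT.exists_elementary_of_not_pRankLE' 2 M hqα.2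
  have hFα : F ≤ Cfsg.alphaCore M :=
    le_alphaCore_of_isPGroup h e.hM hqα hFM (Cfsg.Agent.Helper4.BG10.isPGroup_of_elementary hFe)
  exact e.not_cube_le_centralizer h hFM hFe hFc (hFα.trans hcent)

/-- `α(M) = ∅` -/
theorem alpha_empty (h : BG G) (h117 : E117 G) (e : NU M p A) (q : ℕ) : q ∉ Cfsg.alpha M := by
  intro hqα
  haveI : Fact q.Prime := ⟨hqα.1⟩
  obtain ⟨F, hFM, hFe, hFc⟩ := Cfsg.Agent.Lead.TT.exists_elementary_of_not_pRankLE' 2 M hqα.2
  have hFα : F ≤ Cfsg.alphaCore M :=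
    le_alphaCore_of_isPGroup h e.hM hqα hFM (Cfsg.Agent.Helper4.BG10.isPGroup_of_elementary hFe)
  rw [e.alphaCore_eq_bot h h117, le_bot_iff] at hFα
  rw [hFα, Subgroup.card_bot] at hFc
  have : 1 < q ^ (2 + 1) := Nat.one_lt_pow (by norm_num) hqα.1.one_lt
  omega

/-- `M_σ` is nilpotent -/
theorem nilpotent (h : BG G) (h117 : E117 G) (e : NU M p A) :
    Group.IsNilpotent (Cfsg.sigmaCore M) := by
  obtain ⟨H, ⟨hHle, hHπ, hHidx⟩, hHnil⟩ := (h.s1414 M e.hM).2.2.2.1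
  have h1 : H.relIndex (Cfsg.sigmaCore M) = 1 := by
    by_contra hne
    obtain ⟨q, hq, hqd⟩ := Nat.exists_prime_and_dvd hne
    exact hHidx q hq ⟨hq, fun hqβ => e.alpha_empty h h117 q hqβ.1⟩ hqd
  have h2 : H = Cfsg.sigmaCore M := le_antisymm hHle (Subgroup.relIndex_eq_one.mp h1)
  exact h2 ▸ hHnil

theorem isSylowIn_top_of_sylow {q : ℕ} (S : Sylow q G) : IsSylowIn q (S : Subgroup G) ⊤ :=
  ⟨le_top, S.isPGroup', fun Q _ hQ hle => S.is_maximal' hQ hle⟩

theorem isSylowIn_of_isSylowIn_top {q : ℕ} {S K : Subgroup G} (hS : IsSylowIn q S ⊤)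
    (hSK : S ≤ K) : IsSylowIn q S K :=
  ⟨hSK, hS.2.1, fun Q _ hQ hle => hS.2.2 Q le_top hQ hle⟩

/-- if `M_α = 1` then `M'` is nilpotent -/
theorem commutator_nilpotent_of_alphaCore_eq_bot (h : BG G) {M : Subgroup G} (hM : IsCoatom M)
    (hα : Cfsg.alphaCore M = ⊥) : Group.IsNilpotent ↥⁅M, M⁆ := by
  have h1 := (h.s1405 M hM).2.2.2.2
  have h2 : Cfsg.piCore (Cfsg.alpha M) ↥M = ⊥ := by
    unfold Cfsg.alphaCore at hα
    exact (Subgroup.map_eq_bot_iff_of_injective _ M.subtype_injective).mp hα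
  have hinj : Function.Injective (QuotientGroup.mk' (Cfsg.piCore (Cfsg.alpha M) ↥M)) := by
    rw [← MonoidHom.ker_eq_bot_iff, QuotientGroup.ker_mk', h2]
  haveI := h1
  have h3 : Group.IsNilpotent ↥(commutator ↥M) :=
    Group.nilpotent_of_mulEquiv (Subgroup.equivMapOfInjective (commutator ↥M) _ hinj).symm
  haveI := h3
  rw [← Subgroup.map_subtype_commutator]
  exact Group.nilpotent_of_mulEquiv
    (Subgroup.equivMapOfInjective (commutator ↥M) M.subtype M.subtype_injective)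

/-- `p ∈ σ(M)` -/
theorem mem_sigma (h : BG G) (h117 : E117 G) (e : NU M p A) : p ∈ Cfsg.sigma M := by
  by_contra hpσ
  have hα := e.alphaCore_eq_bot h h117
  have hKp := Cfsg.Agent.Helper16.BG11.not_dvd_card_sigmaCore (p := p) hpσ
  have hAσ : A ≤ normalizer (Cfsg.sigmaCore M : Set G) :=
    e.hAM.trans (le_normalizer_sigmaCore M)
  have hcent := e.le_centralizer_of_le_sigmaCore h h117 le_rfl hAσ hKp
  have hσ1 := Cfsg.Agent.Helper10.BG16.sigmaCore_ne_bot h.hG h.st1350 h.uniq96 e.hM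
  have hc1 : Nat.card (Cfsg.sigmaCore M) ≠ 1 := fun h1 => hσ1 (Subgroup.card_eq_one.mp h1)
  obtain ⟨q, hq, hqd⟩ := Nat.exists_prime_and_dvd hc1
  haveI : Fact q.Prime := ⟨hq⟩
  have hqσ : q ∈ Cfsg.sigma M := mem_sigma_of_dvd_card_sigmaCore hq hqd
  obtain ⟨Q, hQ⟩ := exists_isSylowIn (p := q) (Cfsg.sigmaCore M)
  have hQM := Cfsg.Agent.Helper16.BG11.isSylowIn_of_sigmaCore h e.hM hqσ hQ
  have hQtop := Cfsg.Agent.Helper4.BG10.sigma_isSylowIn_top hqσ hQM
  have hNQ := Cfsg.Agent.Helper4.BG10.sigma_normalizer_le hqσ hQM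
  have hQ1 := Cfsg.Agent.Helper4.BG10.sigma_ne_bot hqσ hQM
  have hQC : Q ≤ centralizer (A : Set G) := hQ.1.trans hcent
  have hqp : q ≠ p := by
    rintro rfl
    exact hKp hqd
  have hqC : q ∣ Nat.card (centralizer (A : Set G)) :=
    (Cfsg.Agent.Helper16.BG11.dvd_card_of_isPGroup_ne_bot hQ.2.1 hQ1).trans
      (Subgroup.card_dvd_of_le hQC)
  have hAQ : A ≤ normalizer (Q : Set G) := by
    refine le_trans ?_ (centralizer_le_normalizer _)
    intro a ha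
    rw [mem_centralizer_iff]
    intro x hx
    exact (mem_centralizer_iff.mp (hQC hx) a ha).symm
  have hQmax : Q ∈ Cfsg.maxInvSubgroups ⊤ A {q} := by
    refine ⟨⟨le_top, ?_, hAQ⟩, ?_⟩
    · intro r hr hrd
      obtain ⟨k, hk⟩ := IsPGroup.iff_card.mp hQ.2.1
      rw [hk] at hrd
      exact (Nat.prime_dvd_prime_iff_eq hr hq).mp (hr.dvd_of_dvd_pow hrd)
    · rintro R ⟨-, hRπ, -⟩ hQR
      have hRq : IsPGroup q R :=
        Cfsg.Agent.Helper21.BG10.isPGroup_of_forall_prime_dvd (fun r hr hrd => hRπ r hr hrd)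
      exact hQtop.2.2 R le_top hRq hQR
  obtain ⟨S, hAS, hSN, hSN', -⟩ := Cfsg.Agent.Helper28.BG11.sig_prop h.hG p (h.s1410 p)
    (h.s1411 p) A e.hAe e.hA2 (e.mem_iff h) q hq hqp hqC Q hQmax
  have hSM' : (S : Subgroup G) ≤ ⁅M, M⁆ := hSN'.trans (Subgroup.commutator_mono hNQ hNQ)
  have hnil := commutator_nilpotent_of_alphaCore_eq_bot h e.hM hα
  have hSsyl : IsSylowIn p (S : Subgroup G) ⁅M, M⁆ :=
    isSylowIn_of_isSylowIn_top (isSylowIn_top_of_sylow S) hSM'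
  have hMM' : M ≤ normalizer ((⁅M, M⁆ : Subgroup G) : Set G) := by
    apply le_normalizer_of_map_cj_le
    intro m hm
    rw [Subgroup.map_commutator]
    have hmm : M.map (cj m) = M := map_cj_eq_self_of_mem hm
    rw [hmm]
  have hMS : M ≤ normalizer ((S : Subgroup G) : Set G) :=
    le_normalizer_sylow_of_nilpotent hnil hMM' hSsyl
  have hSM : (S : Subgroup G) ≤ M := hSM'.trans (Subgroup.commutator_le_self M)
  have hS1 : (S : Subgroup G) ≠ ⊥ := fun h0 => e.hA1 (le_bot_iff.mp (h0 ▸ hAS))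
  have hNS := Cfsg.Agent.Helper16.BG11.normalizer_eq h e.hM hSM hS1 hMS
  exact hpσ (Cfsg.Agent.Helper16.BG11.mem_sigma_of_isSylowIn
    (isSylowIn_of_isSylowIn_top (isSylowIn_top_of_sylow S) hSM) hS1 hNS.le)

/-- `C_G(A) ≤ M` -/
theorem centralizer_le (h : BG G) (h117 : E117 G) (e : NU M p A) :
    centralizer (A : Set G) ≤ M := by
  have hpσ := e.mem_sigma h h117
  have hnil := e.nilpotent h h117
  obtain ⟨S, hS⟩ := exists_isSylowIn (p := p) (Cfsg.sigmaCore M)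
  have hMS : M ≤ normalizer (S : Set G) :=
    le_normalizer_sylow_of_nilpotent hnil (le_normalizer_sigmaCore M) hS
  have hAσ : A ≤ Cfsg.sigmaCore M :=
    le_sigmaCore_of_isPGroup h.st1350 e.hM hpσ e.hAM e.hAp
  have hAS : A ≤ S := by
    obtain ⟨S', hS', hAS'⟩ := exists_isSylowIn_ge hAσ e.hAp
    obtain ⟨g, hg, rfl⟩ := hS.exists_conj hS'
    have : S.map (cj g) = S := mem_normalizer_iff_map_cj.mp (hMS (sigmaCore_le M hg))
    rwa [this] at hAS'
  have hS1 : S ≠ ⊥ := fun h0 => e.hA1 (le_bot_iff.mp (h0 ▸ hAS))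
  have hZ1 := Cfsg.Agent.Helper16.BG11.ozc_ne_bot hS.2.1 hS1
  have hZA : Cfsg.Agent.Helper14.ozc p S ≤ A := by
    intro x hx
    obtain ⟨hxZ, hxp⟩ := (Cfsg.Agent.Helper16.BG11.mem_ozc_iff p S).mp hx
    exact (e.mem_iff h x (Subgroup.centralizer_le (by exact_mod_cast hAS) hxZ.2)).mp hxp
  have hMZ : M ≤ normalizer (Cfsg.Agent.Helper14.ozc p S : Set G) :=
    hMS.trans (Cfsg.Agent.Helper16.BG11.normalizer_le_normalizer_ozc p S)
  have hNZ := Cfsg.Agent.Helper16.BG11.normalizer_eq h e.hM (hZA.trans e.hAM) hZ1 hMZ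
  by_cases hZe : Cfsg.Agent.Helper14.ozc p S = A
  · rw [hZe] at hNZ
    exact (centralizer_le_normalizer _).trans hNZ.le
  · have hZp := Cfsg.Agent.Helper16.BG11.card_eq_prime_of_lt_sq hZA e.hA2 hZ1 hZe
    refine absurd ⟨hNZ.le, fun L hL hNL => ?_⟩ (e.hH _ hZA hZp)
    exact Cfsg.Agent.Lead.BG9.eq_of_coatom_le e.hM (hNZ ▸ hNL) hL.1

end NU

/-- **S1416** (B&G Proposition 12.4) relative to B&G 11.7. -/
theorem s1416_of (h : BG G) (h117 : E117 G) : St1416 G := by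
  intro M hM p _ A hA
  obtain ⟨hAM, hAe, hA2⟩ := hA
  by_cases hH : ∀ A₀ : Subgroup G, A₀ ≤ A → Nat.card A₀ = p →
      ¬ (normalizer (A₀ : Set G) ≤ M ∧
        ∀ L : Subgroup G, IsCoatom L → normalizer (A₀ : Set G) ≤ L → L = M)
  · have e : NU M p A := ⟨hM, hAM, hAe, hA2, hH⟩
    exact ⟨e.centralizer_le h h117,
      fun _ => ⟨e.mem_sigma h h117, e.alphaCore_eq_bot h h117, e.nilpotent h h117⟩⟩
  · refine ⟨?_, fun hH' => absurd hH' hH⟩
    push Not at hH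
    obtain ⟨A₀, hA₀A, hA₀p, hN, -⟩ := hH
    exact (Subgroup.centralizer_le (by exact_mod_cast hA₀A)).trans
      ((centralizer_le_normalizer _).trans hN)

end Cfsg.Agent.H9.BG12
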