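import Mathlib
import Cfsg.Prelude.Def_OddOrderLocal
import Cfsg.Agent.Helper9.BG12t

set_option autoImplicit false
set_option linter.unusedSectionVars false
set_option linter.unusedVariables false
set_option linter.style.haveILetI false

/-! # B&G Theorem 12.5 (= S1417) relative to B&G 11.7 -/

namespace Cfsg.Agent.H9.BG12

open Subgroup Cfsg
open Cfsg.Agent.Helper14 (IsSylowIn cj cj_apply exists_isSylowIn_ge exists_isSylowIn
  isSylowIn_of_sylow le_normalizer_of_map_cj_le mem_normalizer_iff_map_cj map_cj_le_iff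
  map_cj_map_cj_inv map_cj_inv_map_cj map_cj_eq_self_of_mem mem_map_cj map_cj_normalizer)
open Cfsg.Agent.Helper16.BG11 (BG Exc)

universe u
variable {G : Type u} [Group G] [Finite G]

/-- the exceptional hypothesis is invariant under conjugation by elements of `M` -/
theorem exc_map_cj {M A A₀ : Subgroup G} {p : ℕ} [Fact p.Prime] (e : Exc M p A A₀) {m : G}
    (hm : m ∈ M) : Exc M p (A.map (cj m)) (A₀.map (cj m)) := by
  have hmm : M.map (cj m) = M := map_cj_eq_self_of_mem hm
  refine ⟨e.hM, e.hp, ?_, Cfsg.Agent.Helper16.BG11.isElementaryAbelian_map_cj e.hAe m, ?_,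
    Subgroup.map_mono e.hA₀A, ?_, ?_⟩
  · calc A.map (cj m) ≤ M.map (cj m) := Subgroup.map_mono e.hAM
      _ = M := hmm
  · rw [Cfsg.Agent.Helper16.BG11.card_map_cj, e.hA2]
  · rw [Cfsg.Agent.Helper16.BG11.card_map_cj, e.hA₀p]
  · rw [← map_cj_normalizer]
    calc (normalizer (A₀ : Set G)).map (cj m) ≤ M.map (cj m) := Subgroup.map_mono e.hN
      _ = M := hmm

/-- B&G 12.4(b), contrapositive: for `p ∉ σ(M)` every `A ∈ E_p^2(M)` makes `M` exceptional -/
theorem exists_exc (h1416 : St1416 G) {M A : Subgroup G} {p : ℕ} [Fact p.Prime]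
    (hM : IsCoatom M) (hpσ : p ∉ Cfsg.sigma M) (hAM : A ≤ M)
    (hAe : Cfsg.IsElementaryAbelian p A) (hA2 : Nat.card A = p ^ 2) :
    ∃ A₀ : Subgroup G, Exc M p A A₀ := by
  have h1 := (h1416 M hM p A ⟨hAM, hAe, hA2⟩).2
  by_contra hcon
  apply hpσ
  refine (h1 ?_).1
  intro A₀ hA₀A hA₀p hN
  exact hcon ⟨A₀, hM, hpσ, hAM, hAe, hA2, hA₀A, hA₀p, hN.1⟩

/-- **S1417** (B&G Theorem 12.5) relative to B&G 11.7. -/
theorem s1417_of (h : BG G) (h117 : E117 G) : St1417 G := by
  have h1416 := s1416_of h h117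
  intro M hM p _ hp A hA
  obtain ⟨hAM, hAe, hA2⟩ := hA
  obtain ⟨hpp, hpσ, hr2, hr1⟩ := hp
  obtain ⟨A₀, e⟩ := exists_exc h1416 hM hpσ hAM hAe hA2
  have hAp := e.hAp
  refine ⟨e.nilpotent h, ?_, h117 M p A A₀ e, e.cent_inf_eq_bot h, ?_, ?_⟩
  · intro P
    have hP := isSylowIn_of_sylow P
    constructor
    · obtain ⟨P'', hP'', hAP''⟩ := exists_isSylowIn_ge hAM hAp
      obtain ⟨m, hm, rfl⟩ := hP.exists_conj hP''
      have hA' : A.map (cj m⁻¹) ≤ (P : Subgroup M).map M.subtype := by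
        rw [map_cj_le_iff, inv_inv]
        exact hAP''
      have e' := exc_map_cj e (M.inv_mem hm)
      have hcomm := e'.sylow_comm h hP hA'
      refine ⟨⟨fun a b => ?_⟩⟩
      apply Subtype.ext
      apply Subtype.ext
      exact hcomm _ ⟨a.1, a.2, rfl⟩ _ ⟨b.1, b.2, rfl⟩
    · intro hAP
      refine ⟨fun x hx => ⟨e.omega h hP hAP x hx, e.hAe.2 x⟩, ?_⟩
      intro hN
      obtain ⟨x, hx, hxM⟩ := e.exists_normalizer_not_mem hP hAP
      exact hxM (hN hx)
  · intro L hL hLM hAL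
    have hAσ : A ≤ normalizer (Cfsg.sigmaCore M : Set G) := e.hAσ
    have hAD : A ≤ normalizer ((Cfsg.sigmaCore M ⊓ L : Subgroup G) : Set G) :=
      Cfsg.Agent.Lead.le_normalizer_inf' hAσ (hAL.trans le_normalizer)
    by_cases hc : ∃ g : G, M.map (cj g) = L
    · obtain ⟨g, rfl⟩ := hc
      have hg : g ∉ M := fun hg => hLM (map_cj_eq_self_of_mem hg)
      exact e.inf_map_cj_eq_bot h hg hAL
    · push Not at hc
      have hσσ := Cfsg.Agent.Helper16.BG11.sigmaCore_inf_sigmaCore h hM hL (e.nilpotent h) hc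
      -- `D` centralizes `A`
      have hDA : Cfsg.sigmaCore M ⊓ L ≤ centralizer (A : Set G) := by
        by_cases hpL : p ∈ Cfsg.sigma L
        · have hAL' : A ≤ Cfsg.sigmaCore L :=
            le_sigmaCore_of_isPGroup h.st1350 hL hpL hAL hAp
          apply le_centralizer_of_inf_eq_bot (le_normalizer_sigmaCore L) hAL' inf_le_right hAD
          apply le_bot_iff.mp
          rw [← hσσ]
          exact le_inf (inf_le_left.trans inf_le_left) inf_le_right
        · obtain ⟨A₀', e'⟩ := exists_exc h1416 hL hpL hAL hAe hA2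
          have hLJ := h117 L p A A₀' e'
          apply le_centralizer_of_inf_eq_bot hLJ le_sup_right inf_le_right hAD
          apply le_bot_iff.mp
          have hAn : A ≤ normalizer (Cfsg.sigmaCore L : Set G) :=
            hAL.trans (le_normalizer_sigmaCore L)
          have hDp : ¬ p ∣ Nat.card (Cfsg.sigmaCore M ⊓ L : Subgroup G) := fun hd =>
            Cfsg.Agent.Helper16.BG11.not_dvd_card_sigmaCore (p := p) hpσ
              (hd.trans (Subgroup.card_dvd_of_le inf_le_left))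
          have hXp : ¬ p ∣ Nat.card ((Cfsg.sigmaCore M ⊓ L) ⊓ (Cfsg.sigmaCore L ⊔ A) :
              Subgroup G) := fun hd => hDp (hd.trans (Subgroup.card_dvd_of_le inf_le_left))
          have h1 : (Cfsg.sigmaCore M ⊓ L) ⊓ (Cfsg.sigmaCore L ⊔ A) ≤ Cfsg.sigmaCore L :=
            le_of_le_sup_of_not_dvd hAn hAp hXp inf_le_right
          rw [← hσσ]
          exact le_inf (inf_le_left.trans inf_le_left) h1
      apply le_bot_iff.mp
      rw [← e.cent_inf_eq_bot h]
      exact le_inf inf_le_left hDA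
  · obtain ⟨b₁, hb₁, -, -, hb₁1, -, -, hf, -⟩ := e.exists_fpf_pair h
    refine ⟨zpowers b₁, zpowers_le.mpr hb₁, ?_, ?_⟩
    · rw [Nat.card_zpowers]
      exact orderOf_eq_prime (e.hAe.2 b₁ hb₁) hb₁1
    · rw [Cfsg.Agent.Helper4.BG10.centralizer_zpowers_eq]
      exact hf

end Cfsg.Agent.H9.BG12
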