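import Mathlib
import Cfsg.Prelude.Def_OddOrderLocal
import Cfsg.Agent.Helper16.BG11a
import Cfsg.Agent.S1350
import Cfsg.Agent.S1403
import Cfsg.Agent.S1404
import Cfsg.Agent.S1405
import Cfsg.Agent.S1406
import Cfsg.Agent.S1408
import Cfsg.Agent.S1409
import Cfsg.Agent.S1410
import Cfsg.Agent.S1411
import Cfsg.Agent.S1412
import Cfsg.Agent.S1414

set_option autoImplicit false

/-! # The context `BG G` of Helper16's B&G §11 files, from the proved statements -/

namespace Cfsg.Agent.H9.BG12

universe u
variable {G : Type u} [Group G] [Finite G]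

theorem bg_of_minSimple (hG : Cfsg.IsMinSimpleOddOrder G) : Cfsg.Agent.Helper16.BG11.BG G where
  hG := hG
  s1403 := fun K => Cfsg.Agent.S1403.result hG K
  s1404 := fun M hM p _ hp X => Cfsg.Agent.S1404.result hG M hM p hp X
  s1405 := fun M hM => Cfsg.Agent.S1405.result hG M hM
  s1350 := fun M hM => Cfsg.Agent.S1350.result hG M hM
  s1406 := fun M hM X => Cfsg.Agent.S1406.result hG M hM X
  s1408 := fun M hM p _ => Cfsg.Agent.S1408.result hG M hM p
  s1409 := fun M hM p _ => Cfsg.Agent.S1409.result hG M hM p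
  s1410 := fun p _ H => Cfsg.Agent.S1410.result hG p H
  s1411 := fun p _ P V => Cfsg.Agent.S1411.result hG p P V
  s1412 := fun p _ P => Cfsg.Agent.S1412.result hG p P
  s1414 := fun M hM => Cfsg.Agent.S1414.result hG M hM

end Cfsg.Agent.H9.BG12
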