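import Mathlib
import Cfsg.Agent.Lead.Gaschutz

set_option autoImplicit false
set_option linter.style.haveILetI false

/-! Tate's theorem via Gaschütz: if `K ⊴ G` is generated by `p'`-elements, `Q = K ∩ P` and
`Q₀ ⊴ P` with `Q' ≤ Q₀ ≤ Q ≤ Q₀ Φ(P)`, then `Q = Q₀`. -/

namespace Cfsg.Agent.Helper9

open Subgroup
open scoped commutatorElement

universe u

section Tate

variable {G : Type u} [Group G] {p : ℕ} [Fact p.Prime] (P : Sylow p G) (K : Subgroup G)
  [K.Normal] (Q0 : Subgroup ↥(P : Subgroup G)) [Q0.Normal]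
  (hQ0K : Q0 ≤ K.subgroupOf (P : Subgroup G))

/-- The map `P/Q₀ → G/K`. -/
noncomputable def tateG : (↥(P : Subgroup G) ⧸ Q0) →* (G ⧸ K) :=
  QuotientGroup.lift Q0 ((QuotientGroup.mk' K).comp (P : Subgroup G).subtype) (by
    intro u hu
    rw [MonoidHom.mem_ker, MonoidHom.comp_apply, QuotientGroup.mk'_apply,
      QuotientGroup.eq_one_iff]
    exact Subgroup.mem_subgroupOf.mp (hQ0K hu))

theorem tateG_mk (u : ↥(P : Subgroup G)) :
    tateG P K Q0 hQ0K (QuotientGroup.mk' Q0 u) = ((u : G) : G ⧸ K) := rfl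

theorem tateG_mk_eq_one_iff (u : ↥(P : Subgroup G)) :
    tateG P K Q0 hQ0K (QuotientGroup.mk' Q0 u) = 1 ↔ (u : G) ∈ K := by
  rw [tateG_mk, QuotientGroup.eq_one_iff]

/-- The fibre product `G ×_{G/K} P/Q₀`. -/
noncomputable def tateE : Subgroup (G × (↥(P : Subgroup G) ⧸ Q0)) :=
  ((QuotientGroup.mk' K).comp (MonoidHom.fst G _)).eqLocus
    ((tateG P K Q0 hQ0K).comp (MonoidHom.snd G _))

theorem mem_tateE (x : G × (↥(P : Subgroup G) ⧸ Q0)) :
    x ∈ tateE P K Q0 hQ0K ↔ ((x.1 : G) : G ⧸ K) = tateG P K Q0 hQ0K x.2 := Iff.rfl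

/-- The diagonal map `P → E`. -/
noncomputable def tateDiag : ↥(P : Subgroup G) →* ↥(tateE P K Q0 hQ0K) :=
  MonoidHom.codRestrict (((P : Subgroup G).subtype).prod (QuotientGroup.mk' Q0))
    (tateE P K Q0 hQ0K) (by
      intro u
      rw [mem_tateE]
      rfl)

theorem tateDiag_fst (u : ↥(P : Subgroup G)) :
    ((tateDiag P K Q0 hQ0K u : ↥(tateE P K Q0 hQ0K)) : G × (↥(P : Subgroup G) ⧸ Q0)).1
      = (u : G) := rfl

theorem tateDiag_snd (u : ↥(P : Subgroup G)) :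
    ((tateDiag P K Q0 hQ0K u : ↥(tateE P K Q0 hQ0K)) : G × (↥(P : Subgroup G) ⧸ Q0)).2
      = QuotientGroup.mk' Q0 u := rfl

end Tate

/-- **Tate's theorem**, core form. -/
theorem tate_core {G : Type u} [Group G] [Finite G] {p : ℕ} [Fact p.Prime] (P : Sylow p G)
    (K : Subgroup G) [K.Normal]
    (hK : K ≤ Subgroup.closure {g : G | g ∈ K ∧ (orderOf g).Coprime p})
    (Q0 : Subgroup ↥(P : Subgroup G)) [Q0.Normal]
    (hQ0K : Q0 ≤ K.subgroupOf (P : Subgroup G))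
    (hab : ⁅K.subgroupOf (P : Subgroup G), K.subgroupOf (P : Subgroup G)⁆ ≤ Q0)
    (hΦ : K.subgroupOf (P : Subgroup G) ≤ Q0 ⊔ frattini ↥(P : Subgroup G)) :
    K.subgroupOf (P : Subgroup G) ≤ Q0 := by
  have hp : p.Prime := Fact.out
  set E := tateE P K Q0 hQ0K with hE
  set g := tateG P K Q0 hQ0K with hg
  set δ := tateDiag P K Q0 hQ0K with hδ
  let π₁ : ↥E →* G := (MonoidHom.fst G _).comp E.subtype
  let π₂ : ↥E →* (↥(P : Subgroup G) ⧸ Q0) := (MonoidHom.snd G _).comp E.subtype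
  have hπ₁ : ∀ x : ↥E, π₁ x = (x : G × (↥(P : Subgroup G) ⧸ Q0)).1 := fun _ => rfl
  have hπ₂ : ∀ x : ↥E, π₂ x = (x : G × (↥(P : Subgroup G) ⧸ Q0)).2 := fun _ => rfl
  have hmemE : ∀ x : ↥E, ((π₁ x : G) : G ⧸ K) = g (π₂ x) := fun x => x.2
  have hext : ∀ x y : ↥E, π₁ x = π₁ y → π₂ x = π₂ y → x = y := by
    intro x y h1 h2
    apply Subtype.ext
    exact Prod.ext h1 h2
  -- `P/Q₀` is a `p`-group
  have hPt : IsPGroup p (↥(P : Subgroup G) ⧸ Q0) := P.isPGroup'.to_quotient Q0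
  -- the kernel `Kz`
  set Kz : Subgroup ↥E := π₁.ker with hKz
  have hKzmem : ∀ x : ↥E, x ∈ Kz ↔ π₁ x = 1 := fun x => MonoidHom.mem_ker
  have hKzker : ∀ x : ↥E, x ∈ Kz → g (π₂ x) = 1 := by
    intro x hx
    rw [← hmemE x, (hKzmem x).mp hx]
    rfl
  -- elements of `ker g`
  have hkerg : ∀ e : ↥(P : Subgroup G) ⧸ Q0, g e = 1 →
      ∃ u : ↥(P : Subgroup G), u ∈ K.subgroupOf (P : Subgroup G) ∧ QuotientGroup.mk' Q0 u = e := by
    intro e he
    obtain ⟨u, rfl⟩ := QuotientGroup.mk'_surjective Q0 e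
    exact ⟨u, Subgroup.mem_subgroupOf.mpr ((tateG_mk_eq_one_iff P K Q0 hQ0K u).mp he), rfl⟩
  haveI hKzcomm : IsMulCommutative Kz := by
    refine ⟨⟨fun x y => ?_⟩⟩
    apply Subtype.ext
    apply hext
    · have hx := (hKzmem x.1).mp x.2
      have hy := (hKzmem y.1).mp y.2
      show π₁ (x.1 * y.1) = π₁ (y.1 * x.1)
      rw [map_mul, map_mul, hx, hy]
    · show π₂ (x.1 * y.1) = π₂ (y.1 * x.1)
      rw [map_mul, map_mul]
      obtain ⟨u, hu, hue⟩ := hkerg _ (hKzker x.1 x.2)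
      obtain ⟨v, hv, hve⟩ := hkerg _ (hKzker y.1 y.2)
      rw [← hue, ← hve, ← map_mul, ← map_mul]
      apply (QuotientGroup.eq).mpr
      have h1 : (u * v)⁻¹ * (v * u) = ⁅v⁻¹, u⁻¹⁆ := by
        rw [commutatorElement_def]; group
      rw [h1]
      exact hab (Subgroup.commutator_mem_commutator (Subgroup.inv_mem _ hv)
        (Subgroup.inv_mem _ hu))
  have hKzp : IsPGroup p Kz := by
    apply IsPGroup.of_injective hPt (π₂.comp Kz.subtype)
    intro x y hxy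
    apply Subtype.ext
    apply hext
    · rw [(hKzmem x.1).mp x.2, (hKzmem y.1).mp y.2]
    · exact hxy
  -- the subgroup `U`
  set U : Subgroup ↥E := (P : Subgroup G).comap π₁ with hU
  have hKU : Kz ≤ U := by
    intro x hx
    rw [hU, Subgroup.mem_comap, (hKzmem x).mp hx]
    exact Subgroup.one_mem _
  have hδ₁ : ∀ u, π₁ (δ u) = (u : G) := fun u => rfl
  have hδ₂ : ∀ u, π₂ (δ u) = QuotientGroup.mk' Q0 u := fun u => rfl
  have hPrange : (P : Subgroup G) ≤ π₁.range := by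
    intro a ha
    exact ⟨δ ⟨a, ha⟩, rfl⟩
  have hcop : (Nat.card Kz).Coprime U.index := by
    obtain ⟨k, hk⟩ := IsPGroup.iff_card.mp hKzp
    rw [hk, hU, Subgroup.index_comap]
    apply Nat.Coprime.pow_left
    have h1 : (P : Subgroup G).relIndex π₁.range ∣ (P : Subgroup G).index :=
      Dvd.intro _ (Subgroup.relIndex_mul_index hPrange)
    have h2 : Nat.Coprime p (P : Subgroup G).index :=
      hp.coprime_iff_not_dvd.mpr P.not_dvd_index
    exact Nat.Coprime.coprime_dvd_right h1 h2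
  -- the complement `A`
  set A : Subgroup ↥E := δ.range with hA
  have hAK : A ⊓ Kz = ⊥ := by
    rw [eq_bot_iff]
    rintro x ⟨⟨u, rfl⟩, hx⟩
    have h1 : (u : G) = 1 := by
      have := (hKzmem _).mp hx
      rwa [hδ₁] at this
    have h2 : u = 1 := Subtype.ext h1
    rw [h2, map_one]
    exact Subgroup.mem_bot.mpr rfl
  have hKA : Kz ⊔ A = U := by
    apply le_antisymm
    · apply sup_le hKU
      rintro _ ⟨u, rfl⟩
      rw [hU, Subgroup.mem_comap, hδ₁]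
      exact u.2
    · intro x hx
      rw [hU, Subgroup.mem_comap] at hx
      have h1 : x = (x * (δ ⟨π₁ x, hx⟩)⁻¹) * δ ⟨π₁ x, hx⟩ := by group
      rw [h1]
      apply Subgroup.mul_mem_sup
      · rw [hKzmem, map_mul, map_inv, hδ₁]
        exact mul_inv_cancel _
      · exact ⟨_, rfl⟩
  obtain ⟨H, hH⟩ := Cfsg.Agent.Lead.gaschutz_exists Kz U hKU hcop A hAK hKA
  -- decomposition
  have hdec : ∀ x : ↥E, ∃ z ∈ Kz, ∃ h ∈ H, x = z * h := by
    intro x
    have h1 : x ∈ Kz ⊔ H := by rw [hH.sup_eq_top]; exact Subgroup.mem_top x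
    obtain ⟨z, hz, h, hh, rfl⟩ := Subgroup.mem_sup_of_normal_left.mp h1
    exact ⟨z, hz, h, hh, rfl⟩
  have hinj : ∀ h ∈ H, ∀ h' ∈ H, π₁ h = π₁ h' → h = h' := by
    intro h hh h' hh' heq
    have h1 : h * h'⁻¹ ∈ Kz := by
      rw [hKzmem, map_mul, map_inv, heq]
      exact mul_inv_cancel _
    have h2 : h * h'⁻¹ ∈ H := H.mul_mem hh (H.inv_mem hh')
    have h3 : h * h'⁻¹ ∈ Kz ⊓ H := Subgroup.mem_inf.mpr ⟨h1, h2⟩
    rw [hH.disjoint.eq_bot, Subgroup.mem_bot] at h3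
    exact mul_inv_eq_one.mp h3
  -- Claim 1
  let M : Subgroup G :=
    { carrier := {k | ∃ h ∈ H, π₁ h = k ∧ π₂ h = 1}
      one_mem' := ⟨1, H.one_mem, map_one _, map_one _⟩
      mul_mem' := by
        rintro a b ⟨h, hh, rfl, h2⟩ ⟨h', hh', rfl, h2'⟩
        exact ⟨h * h', H.mul_mem hh hh', map_mul _ _ _, by rw [map_mul, h2, h2', one_mul]⟩
      inv_mem' := by
        rintro a ⟨h, hh, rfl, h2⟩
        exact ⟨h⁻¹, H.inv_mem hh, map_inv _ _, by rw [map_inv, h2, inv_one]⟩ }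
  have hKM : K ≤ M := by
    refine hK.trans ((Subgroup.closure_le M).mpr ?_)
    rintro k ⟨hkK, hkc⟩
    -- the element `(k, 1)` of `E`
    have hk1 : ((k, 1) : G × (↥(P : Subgroup G) ⧸ Q0)) ∈ E := by
      rw [hE, mem_tateE]
      show ((k : G) : G ⧸ K) = tateG P K Q0 hQ0K 1
      rw [map_one]
      exact (QuotientGroup.eq_one_iff k).mpr hkK
    obtain ⟨z, hz, h, hh, hx⟩ := hdec ⟨(k, 1), hk1⟩
    have hπh : π₁ h = k := by
      have := congrArg π₁ hx
      rw [map_mul, (hKzmem z).mp hz, one_mul] at this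
      exact this.symm
    refine ⟨h, hh, hπh, ?_⟩
    -- order argument
    have hinjH : Function.Injective (π₁.comp H.subtype) := by
      intro a b hab'
      exact Subtype.ext (hinj a.1 a.2 b.1 b.2 hab')
    have ho1 : orderOf (⟨h, hh⟩ : ↥H) = orderOf k := by
      rw [← orderOf_injective (π₁.comp H.subtype) hinjH ⟨h, hh⟩]
      show orderOf (π₁ h) = orderOf k
      rw [hπh]
    have ho2 : orderOf (π₂ h) ∣ orderOf k := by
      rw [← ho1]
      exact orderOf_map_dvd (π₂.comp H.subtype) ⟨h, hh⟩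
    obtain ⟨j, hj⟩ := hPt (π₂ h)
    have ho3 : orderOf (π₂ h) ∣ p ^ j := orderOf_dvd_of_pow_eq_one hj
    have ho4 : orderOf (π₂ h) = 1 :=
      Nat.eq_one_of_dvd_coprimes (Nat.Coprime.pow_right j hkc) ho2 ho3
    exact orderOf_eq_one_iff.mp ho4
  have claim1 : ∀ h ∈ H, π₁ h ∈ K → π₂ h = 1 := by
    intro h hh hk
    obtain ⟨h', hh', h1, h2⟩ := hKM hk
    rw [hinj h hh h' hh' h1.symm]
    exact h2
  -- Claim 2/3: `π₂ H` is everything
  have hRtop : H.map π₂ = ⊤ := by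
    apply frattini_nongenerating
    rw [eq_top_iff]
    intro e _
    obtain ⟨u, rfl⟩ := QuotientGroup.mk'_surjective Q0 e
    obtain ⟨z, hz, h, hh, hx⟩ := hdec (δ u)
    have h1 : QuotientGroup.mk' Q0 u = π₂ z * π₂ h := by
      rw [← hδ₂, hx, map_mul]
    rw [h1]
    have h2 : π₂ z ∈ frattini (↥(P : Subgroup G) ⧸ Q0) := by
      obtain ⟨v, hv, hve⟩ := hkerg _ (hKzker z hz)
      rw [← hve]
      obtain ⟨a, ha, b, hb, hab'⟩ := Subgroup.mem_sup_of_normal_left.mp (hΦ hv)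
      have ha1 : QuotientGroup.mk' Q0 a = 1 := (QuotientGroup.eq_one_iff a).mpr ha
      rw [← hab', map_mul, ha1, one_mul]
      exact frattini_le_comap_frattini_of_surjective (QuotientGroup.mk'_surjective Q0) hb
    have h3 : π₂ h ∈ H.map π₂ := Subgroup.mem_map_of_mem _ hh
    have h4 : π₂ z * π₂ h = π₂ h * ((π₂ h)⁻¹ * π₂ z * π₂ h) := by group
    rw [h4]
    apply Subgroup.mul_mem_sup h3
    have hn : (frattini (↥(P : Subgroup G) ⧸ Q0)).Normal := inferInstance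
    have := hn.conj_mem _ h2 (π₂ h)⁻¹
    simpa using this
  -- conclusion
  intro u hu
  have hge : g (QuotientGroup.mk' Q0 u) = 1 :=
    (tateG_mk_eq_one_iff P K Q0 hQ0K u).mpr (Subgroup.mem_subgroupOf.mp hu)
  have hmem : QuotientGroup.mk' Q0 u ∈ H.map π₂ := by rw [hRtop]; exact Subgroup.mem_top _
  obtain ⟨h, hh, hhe⟩ := hmem
  have h1 : π₁ h ∈ K := by
    have := hmemE h
    rw [hhe, hge] at this
    exact (QuotientGroup.eq_one_iff _).mp this
  have h2 := claim1 h hh h1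
  rw [hhe] at h2
  exact (QuotientGroup.eq_one_iff u).mp h2

end Cfsg.Agent.Helper9
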