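import Mathlib
import Cfsg.Agent.Helper9.TateSplit
import Cfsg.Agent.Helper9.NPC
import Cfsg.Agent.Helper17.Basic

set_option autoImplicit false
set_option linter.style.haveILetI false

/-! Tate's theorem: `N ⊴ G`, `N ∩ P ≤ Φ(P)` implies `N` has a normal `p`-complement. -/

namespace Cfsg.Agent.Helper9

open Subgroup
open scoped commutatorElement

universe u

/-- A solvable subgroup contained in its own derived subgroup is trivial. -/
theorem eq_bot_of_le_commutator_of_isSolvable {Γ : Type u} [Group Γ] (H : Subgroup Γ)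
    [Group.IsSolvable H] (h : H ≤ ⁅H, H⁆) : H = ⊥ := by
  by_contra hne
  haveI : Nontrivial H := (Subgroup.nontrivial_iff_ne_bot H).mpr hne
  have h1 : commutator H < ⊤ := Group.IsSolvable.commutator_lt_top_of_nontrivial H
  have h2 : (commutator H).map H.subtype < (⊤ : Subgroup H).map H.subtype :=
    (Subgroup.map_lt_map_iff_of_injective H.subtype_injective).mpr h1
  rw [Subgroup.map_subtype_commutator, ← MonoidHom.range_eq_map, Subgroup.range_subtype] at h2
  exact absurd h (not_le_of_gt h2)

/-- The image in `G` of `O^p(N)` is generated by its `p'`-elements. -/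
theorem map_pResidual_le_closure {G : Type u} [Group G] (p : ℕ) (N : Subgroup G) :
    (Cfsg.pResidual p N).map N.subtype ≤ Subgroup.closure
      {g : G | g ∈ (Cfsg.pResidual p N).map N.subtype ∧ (orderOf g).Coprime p} := by
  conv_lhs => rw [Cfsg.pResidual, MonoidHom.map_closure]
  apply Subgroup.closure_mono
  rintro _ ⟨n, hn, rfl⟩
  refine ⟨Subgroup.mem_map_of_mem _ (Subgroup.subset_closure hn), ?_⟩
  change (orderOf ((n : G))).Coprime p
  rw [Subgroup.orderOf_coe]
  exact hn

/-- If `K ⊴ G` meets a Sylow `p`-subgroup trivially then `|K|` is prime to `p`. -/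
theorem coprime_card_of_normal_of_inf_sylow_eq_bot {G : Type u} [Group G] [Finite G] {p : ℕ}
    [Fact p.Prime] (P : Sylow p G) (K : Subgroup G) [K.Normal]
    (h : K ⊓ (P : Subgroup G) = ⊥) : (Nat.card K).Coprime p := by
  have hp : p.Prime := Fact.out
  have h1 := Cfsg.Agent.Helper17.card_sup_mul_card_inf_of_normal K (P : Subgroup G)
  rw [h, Subgroup.card_bot, mul_one] at h1
  have h2 : Nat.card (K ⊔ (P : Subgroup G) : Subgroup G) ∣ Nat.card G :=
    Subgroup.card_subgroup_dvd_card _
  rw [h1, ← (P : Subgroup G).card_mul_index, mul_comm] at h2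
  have hPpos : 0 < Nat.card (P : Subgroup G) := Nat.card_pos
  have h3 : Nat.card K ∣ (P : Subgroup G).index := Nat.dvd_of_mul_dvd_mul_left hPpos h2
  have h4 : Nat.Coprime (P : Subgroup G).index p :=
    (hp.coprime_iff_not_dvd.mpr P.not_dvd_index).symm
  exact Nat.Coprime.coprime_dvd_left h3 h4

/-- **Tate's theorem.** -/
theorem hasNormalPComplement_of_inf_le_frattini {G : Type u} [Group G] [Finite G] {p : ℕ}
    [Fact p.Prime] (P : Sylow p G) (N : Subgroup G) [N.Normal]
    (h : N ⊓ (P : Subgroup G) ≤ (frattini P).map (P : Subgroup G).subtype) :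
    Cfsg.HasNormalPComplement p N := by
  have hp : p.Prime := Fact.out
  set K : Subgroup G := (Cfsg.pResidual p N).map N.subtype with hKdef
  haveI hKn : K.Normal := ConjAct.normal_of_characteristic_of_normal
  have hKN : K ≤ N := by
    rintro _ ⟨n, _, rfl⟩
    exact n.2
  have hK := map_pResidual_le_closure p N
  rw [← hKdef] at hK
  set Qs := K.subgroupOf (P : Subgroup G) with hQs
  have hQsn : Qs.Normal := Subgroup.normal_subgroupOf
  have hfr : Qs ≤ frattini ↥(P : Subgroup G) := by
    intro u hu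
    have h1 : (u : G) ∈ N ⊓ (P : Subgroup G) :=
      Subgroup.mem_inf.mpr ⟨hKN (Subgroup.mem_subgroupOf.mp hu), u.2⟩
    obtain ⟨v, hv, hvu⟩ := h h1
    have : v = u := Subtype.ext hvu
    rwa [← this]
  have hle : Qs ≤ ⁅Qs, Qs⁆ := by
    apply tate_core P K hK ⁅Qs, Qs⁆ (Subgroup.commutator_le_left Qs Qs) le_rfl
    exact hfr.trans le_sup_right
  have hQp : IsPGroup p Qs := P.isPGroup'.to_subgroup Qs
  haveI : Group.IsNilpotent Qs := hQp.isNilpotent
  haveI : Group.IsSolvable Qs := inferInstance
  have hbot : Qs = ⊥ := eq_bot_of_le_commutator_of_isSolvable Qs hle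
  have hKP : K ⊓ (P : Subgroup G) = ⊥ := by
    rw [hQs, Subgroup.subgroupOf_eq_bot] at hbot
    exact hbot.eq_bot
  have hcop : (Nat.card K).Coprime p := coprime_card_of_normal_of_inf_sylow_eq_bot P K hKP
  have hcardK : Nat.card K = Nat.card (Cfsg.pResidual p N) :=
    Subgroup.card_map_of_injective N.subtype_injective
  rw [hcardK] at hcop
  obtain ⟨PN⟩ : Nonempty (Sylow p N) := inferInstance
  rw [hasNormalPComplement_iff_inf_pResidual PN]
  apply Subgroup.inf_eq_bot_of_coprime
  obtain ⟨k, hk⟩ := IsPGroup.iff_card.mp PN.isPGroup'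
  rw [hk]
  exact (Nat.Coprime.pow_right k hcop).symm

end Cfsg.Agent.Helper9
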