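import Mathlib
import Cfsg.Prelude.Def_OddOrderLocal
import Cfsg.Agent.Helper9.BG13c

set_option autoImplicit false
set_option linter.unusedSectionVars false
set_option linter.unusedVariables false
set_option linter.style.haveILetI false

/-! # B&G Corollary 13.2(a) (= S1427) relative to earlier statements: final assembly -/

namespace Cfsg.Agent.H9.BG12

open Subgroup Cfsg
open Cfsg.Agent.Helper14 (IsSylowIn cj isSylowIn_of_sylow)
open Cfsg.Agent.Helper4.BG10 (Uniq)
open scoped Pointwise

universe u
variable {G : Type u} [Group G] [Finite G]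

/-- **S1427** relative to the earlier frozen statements. -/
theorem s1427_of (hG : Cfsg.IsMinSimpleOddOrder G) (hU : Uniq G) (h1350 : St1350 G)
    (h1404 : St1404 G) (h1414 : St1414 G) (h1417 : St1417 G)
    (h1418 : St1418 G) (h1420 : St1420 G) (h1422 : St1422 G) (h1423 : St1423 G)
    (M : Subgroup G) (hM : IsCoatom M) (E : Subgroup G)
    (hE : Cfsg.IsComplIn E (Cfsg.sigmaCore M) M) (p : ℕ) [Fact p.Prime] (S : Sylow p E)
    (hS1 : (S : Subgroup E) ≠ ⊥) (hSc : IsCyclic (S : Subgroup E)) :
    ∀ x ∈ (S : Subgroup E).map E.subtype, x ≠ 1 →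
        Cfsg.sigmaCore M ⊓ Subgroup.centralizer ({x} : Set G) =
          Cfsg.sigmaCore M ⊓ Subgroup.centralizer
            (((S : Subgroup E).map E.subtype : Subgroup G) : Set G) := by
  intro x hx hx1
  have hp : p.Prime := Fact.out
  have hNC := nc1210_of h1350 h1420
  set S' : Subgroup G := (S : Subgroup E).map E.subtype with hS'def
  have hS' : IsSylowIn p S' E := isSylowIn_of_sylow S
  have hSc' : IsCyclic S' := by
    have e : (S : Subgroup E) ≃* S' :=
      (S : Subgroup E).equivMapOfInjective E.subtype E.subtype_injective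
    haveI := hSc
    exact isCyclic_of_surjective e e.surjective
  -- an element of order p in ⟨x⟩
  have hxp : IsPGroup p (zpowers x) := hS'.2.1.to_le (zpowers_le.mpr hx)
  have hzne : zpowers x ≠ ⊥ := by
    intro h
    exact hx1 (zpowers_eq_bot.mp h)
  have hpd : p ∣ Nat.card (zpowers x) := by
    obtain ⟨n, hn⟩ := hxp.exists_card_eq
    rcases n with _ | n
    · exact absurd (Subgroup.card_eq_one.mp (by simpa using hn)) hzne
    · rw [hn, pow_succ]
      exact dvd_mul_left p _
  obtain ⟨y, hy⟩ := exists_prime_orderOf_dvd_card' p hpd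
  set X : Subgroup G := zpowers (y : G) with hXdef
  have hyo : orderOf (y : G) = p := by
    rw [← hy]
    exact (Subgroup.orderOf_coe y)
  have hXc : Nat.card X = p := by
    rw [hXdef, Nat.card_zpowers, hyo]
  have hXz : X ≤ zpowers x := zpowers_le.mpr y.2
  have hXS : X ≤ S' := hXz.trans (zpowers_le.mpr hx)
  have hmain := prime_action_cyclic hG hU h1350 h1404 hNC h1414 h1417 h1418 h1422 h1423 hM hE
    hS' hSc' hXS hXc
  apply le_antisymm
  · refine le_inf inf_le_left ?_
    refine le_trans ?_ hmain
    refine le_inf inf_le_left ?_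
    refine inf_le_right.trans ?_
    rw [← Cfsg.Agent.Helper4.BG10.centralizer_zpowers_eq x]
    exact Subgroup.centralizer_le hXz
  · refine le_inf inf_le_left ?_
    refine inf_le_right.trans ?_
    exact Subgroup.centralizer_le (by simpa using hx)

end Cfsg.Agent.H9.BG12
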