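import Mathlib
import Cfsg.Prelude.Def_Transfer

set_option autoImplicit false

namespace Cfsg.Agent.Helper9

/-- An automorphism of prime order `q` of a finite group `T` fixes a proper subgroup, and `q` divides
the number of non-fixed elements. -/
theorem prime_order_aut_card {T : Type*} [Group T] [Finite T] (α : MulAut T) (q : ℕ)
    (hq : q.Prime) (hα : orderOf α = q) :
    ∃ d : ℕ, d ∣ Nat.card T ∧ d < Nat.card T ∧ q ∣ Nat.card T - d := by
  haveI : Fact q.Prime := ⟨hq⟩
  let F : Subgroup T :=
    { carrier := {x | α x = x}
      mul_mem' := by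
        intro a b ha hb
        show α (a * b) = a * b
        rw [map_mul, ha, hb]
      one_mem' := map_one α
      inv_mem' := by
        intro a ha
        show α a⁻¹ = a⁻¹
        rw [map_inv, ha] }
  have hP : IsPGroup q (Subgroup.zpowers α) :=
    IsPGroup.of_card (n := 1) (by rw [Nat.card_zpowers, hα, pow_one])
  have hfix : (MulAction.fixedPoints (Subgroup.zpowers α) T) = (F : Set T) := by
    ext x
    constructor
    · intro hx
      exact hx ⟨α, Subgroup.mem_zpowers α⟩
    · rintro hx ⟨g, hg⟩
      obtain ⟨n, rfl⟩ := Subgroup.mem_zpowers_iff.mp hg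
      show (α ^ n) x = x
      have hx' : α x = x := hx
      have key : ∀ m : ℕ, (α ^ m) x = x := by
        intro m
        induction m with
        | zero => simp
        | succ m ih => rw [pow_succ, MulAut.mul_apply, hx', ih]
      have keyinv : ∀ m : ℕ, (α ^ m)⁻¹ x = x := by
        intro m
        have := key m
        rw [MulAut.inv_apply, MulEquiv.symm_apply_eq]
        exact this.symm
      cases n with
      | ofNat m => simpa using key m
      | negSucc m => simpa [zpow_negSucc] using keyinv (m + 1)
  have hmod := hP.card_modEq_card_fixedPoints T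
  have hcardF : Nat.card (MulAction.fixedPoints (Subgroup.zpowers α) T) = Nat.card F := by
    rw [hfix]; rfl
  rw [hcardF] at hmod
  refine ⟨Nat.card F, Subgroup.card_subgroup_dvd_card F, ?_, ?_⟩
  · refine lt_of_le_of_ne (Subgroup.card_le_card_group F) ?_
    intro h
    have htop : F = ⊤ := (Subgroup.card_eq_iff_eq_top F).mp h
    have h1 : α = 1 := by
      ext x
      have : x ∈ F := htop ▸ Subgroup.mem_top x
      exact this
    rw [h1, orderOf_one] at hα
    exact hq.one_lt.ne hα
  · exact (Nat.modEq_iff_dvd' (Subgroup.card_le_card_group F)).mp hmod.symm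

/-- If an abelian Sylow `p`-subgroup is not central in its normalizer, there is an automorphism of
it of prime order `q ≠ p`, where `q` divides `|G|`. -/
theorem exists_prime_aut_of_not_le_centralizer {G : Type*} [Group G] [Finite G] {p : ℕ}
    [Fact p.Prime] (P : Sylow p G) (hP : ∀ a ∈ (P : Subgroup G), ∀ b ∈ (P : Subgroup G), a * b = b * a)
    (hN : ¬ Subgroup.normalizer (P : Set G) ≤ Subgroup.centralizer (P : Set G)) :
    ∃ q : ℕ, q.Prime ∧ q ≠ p ∧ q ∣ Nat.card G ∧ ∃ α : MulAut (P : Subgroup G), orderOf α = q := by
  set φ := (P : Subgroup G).normalizerMonoidHom with hφ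
  have hker : φ.ker = (Subgroup.centralizer ((P : Subgroup G) : Set G)).subgroupOf
      (Subgroup.normalizer ((P : Subgroup G) : Set G)) := Subgroup.normalizerMonoidHom_ker _
  have hcard1 : Nat.card φ.range ≠ 1 := by
    intro h
    apply hN
    have h1 : φ.ker.index = 1 := by rw [Subgroup.index_ker, h]
    have h2 : φ.ker = ⊤ := Subgroup.index_eq_one.mp h1
    rw [hker, Subgroup.subgroupOf_eq_top] at h2
    exact h2
  set q := (Nat.card φ.range).minFac with hqdef
  have hq : q.Prime := Nat.minFac_prime hcard1
  have hqdvd : q ∣ Nat.card φ.range := Nat.minFac_dvd _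
  haveI : Fact q.Prime := ⟨hq⟩
  obtain ⟨⟨α, hαr⟩, hα⟩ := exists_prime_orderOf_dvd_card' q hqdvd
  refine ⟨q, hq, ?_, ?_, α, ?_⟩
  · -- q ≠ p
    intro hqp
    have hPker : (P : Subgroup G).subgroupOf (Subgroup.normalizer ((P : Subgroup G) : Set G)) ≤ φ.ker := by
      rw [hker]
      intro x hx
      rw [Subgroup.mem_subgroupOf] at hx ⊢
      rw [Subgroup.mem_centralizer_iff]
      intro y hy
      exact hP y hy x hx
    have h1 : φ.ker.index ∣ ((P : Subgroup G).subgroupOf
        (Subgroup.normalizer ((P : Subgroup G) : Set G))).index :=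
      Subgroup.index_dvd_of_le hPker
    have h2 : ((P : Subgroup G).subgroupOf
        (Subgroup.normalizer ((P : Subgroup G) : Set G))).index ∣ (P : Subgroup G).index :=
      Subgroup.relIndex_dvd_index_of_le Subgroup.le_normalizer
    rw [Subgroup.index_ker] at h1
    have h3 : q ∣ (P : Subgroup G).index := hqdvd.trans (h1.trans h2)
    rw [hqp] at h3
    exact P.not_dvd_index h3
  · exact hqdvd.trans ((Subgroup.card_range_dvd φ).trans (Subgroup.card_subgroup_dvd_card _))
  · rw [← hα]
    exact (Subgroup.orderOf_mk α hαr).symm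

/-- Burnside's normal `p`-complement theorem in the vocabulary of the statements. -/
theorem hasNormalPComplement_of_normalizer_le_centralizer {G : Type*} [Group G] [Finite G] {p : ℕ}
    [Fact p.Prime] (P : Sylow p G)
    (hN : Subgroup.normalizer (P : Set G) ≤ Subgroup.centralizer (P : Set G)) :
    Cfsg.HasNormalPComplement p G :=
  ⟨P, (MonoidHom.transferSylow P hN).ker, inferInstance,
    MonoidHom.ker_transferSylow_isComplement' P hN⟩

end Cfsg.Agent.Helper9
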