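import Mathlib

/-!
# Shult–Gross, part B: the order of `2` modulo powers of a prime `p` with `p ^ m = 2 ^ d + 1`
-/

set_option autoImplicit false

namespace Cfsg.Agent.Helper9.Shult

/-- if `p ^ m = 2 ^ d + 1` and `p ^ m ∣ 2 ^ e - 1` then `2 * d ∣ e` -/
theorem two_mul_dvd_of_dvd {p m d e : ℕ} (hpm : p ^ m = 2 ^ d + 1) (hd : 0 < d)
    (h : p ^ m ∣ 2 ^ e - 1) : 2 * d ∣ e := by
  have h1 : p ^ m ∣ 2 ^ (2 * d) - 1 := by
    have : 2 ^ (2 * d) - 1 = (2 ^ d - 1) * (2 ^ d + 1) := by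
      have h2 : 1 ≤ 2 ^ d := Nat.one_le_two_pow
      rw [mul_comm 2 d, pow_mul, Nat.sub_mul, one_mul]
      have : 2 ^ d * (2 ^ d + 1) = (2 ^ d) ^ 2 + 2 ^ d := by ring
      rw [this]
      omega
    rw [this, hpm]
    exact dvd_mul_left _ _
  have h2 : p ^ m ∣ Nat.gcd (2 ^ e - 1) (2 ^ (2 * d) - 1) := Nat.dvd_gcd h h1
  rw [Nat.pow_sub_one_gcd_pow_sub_one] at h2
  set g := Nat.gcd e (2 * d) with hg
  have hg2 : g ∣ 2 * d := Nat.gcd_dvd_right _ _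
  have hge : g ∣ e := Nat.gcd_dvd_left _ _
  have hgpos : 0 < g := Nat.gcd_pos_of_pos_right _ (by omega)
  -- `2 ^ g - 1 ≥ 2 ^ d + 1`, so `g > d`
  have h3 : 2 ^ d + 1 ≤ 2 ^ g - 1 := by
    rw [← hpm]
    apply Nat.le_of_dvd _ h2
    have : 2 ≤ 2 ^ g := by
      calc 2 = 2 ^ 1 := by norm_num
        _ ≤ 2 ^ g := Nat.pow_le_pow_right (by norm_num) hgpos
    omega
  have h4 : d < g := by
    by_contra hcon
    push Not at hcon
    have : 2 ^ g ≤ 2 ^ d := Nat.pow_le_pow_right (by norm_num) hcon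
    have h5 : 1 ≤ 2 ^ d := Nat.one_le_two_pow
    have h6 : 1 ≤ 2 ^ g := Nat.one_le_two_pow
    omega
  -- `g ∣ 2 * d` and `g > d` force `g = 2 * d`
  obtain ⟨c, hc⟩ := hg2
  have hc2 : c = 1 := by
    rcases Nat.lt_or_ge c 2 with h5 | h5
    · interval_cases c
      · omega
      · rfl
    · exfalso
      have : 2 * d ≥ g * 2 := by rw [hc]; exact Nat.mul_le_mul_left g h5
      omega
  rw [hc2, mul_one] at hc
  rw [hc]
  exact hge

/-- the order of `2` modulo `p ^ (m + k)` is a multiple of `2 * d * p ^ k` when `p ^ m = 2 ^ d + 1`, `p` odd -/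
theorem two_mul_pow_dvd_of_dvd {p m d k e : ℕ} (hp : p.Prime) (hp2 : p ≠ 2) (hpm : p ^ m = 2 ^ d + 1)
    (hm : 0 < m) (hd : 0 < d) (he : 0 < e) (h : p ^ (m + k) ∣ 2 ^ e - 1) : 2 * d * p ^ k ∣ e := by
  have : Fact p.Prime := ⟨hp⟩
  have hodd : Odd p := hp.odd_of_ne_two hp2
  have h0 : p ^ m ∣ 2 ^ e - 1 := (pow_dvd_pow p (Nat.le_add_right m k)).trans h
  obtain ⟨j, hj⟩ := two_mul_dvd_of_dvd hpm hd h0
  have hj0 : j ≠ 0 := by
    rintro rfl
    rw [mul_zero] at hj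
    omega
  set x := 2 ^ (2 * d) with hx
  have hx1 : 1 < x := by
    rw [hx]
    exact Nat.one_lt_two_pow (by omega)
  have hpx : ¬ p ∣ x := by
    intro hdvd
    have := hp.dvd_of_dvd_pow hdvd
    exact hp2 ((Nat.prime_dvd_prime_iff_eq hp Nat.prime_two).mp this)
  have hfac : x - 1 = (2 ^ d - 1) * p ^ m := by
    have h2 : 1 ≤ 2 ^ d := Nat.one_le_two_pow
    rw [hx, hpm, mul_comm 2 d, pow_mul, Nat.sub_mul, one_mul]
    have : 2 ^ d * (2 ^ d + 1) = (2 ^ d) ^ 2 + 2 ^ d := by ring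
    rw [this]
    omega
  have hpdvd : p ∣ x - 1 := by
    rw [hfac]
    exact (dvd_pow_self p hm.ne').trans (dvd_mul_left _ _)
  have hnd : ¬ p ∣ 2 ^ d - 1 := by
    intro hdvd
    have h3 : p ∣ 2 ^ d + 1 := by rw [← hpm]; exact dvd_pow_self p hm.ne'
    have h4 : p ∣ (2 ^ d + 1) - (2 ^ d - 1) := Nat.dvd_sub h3 hdvd
    have h5 : (2 ^ d + 1) - (2 ^ d - 1) = 2 := by
      have : 1 ≤ 2 ^ d := Nat.one_le_two_pow
      omega
    rw [h5] at h4
    exact hp2 ((Nat.prime_dvd_prime_iff_eq hp Nat.prime_two).mp h4)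
  have hd1 : 2 ^ d - 1 ≠ 0 := by
    have : 2 ≤ 2 ^ d := by
      calc 2 = 2 ^ 1 := by norm_num
        _ ≤ 2 ^ d := Nat.pow_le_pow_right (by norm_num) hd
    omega
  have hval : padicValNat p (x - 1) = m := by
    rw [hfac, padicValNat.mul hd1 (pow_ne_zero _ hp.ne_zero), padicValNat.prime_pow,
      padicValNat.eq_zero_of_not_dvd hnd, zero_add]
  have hlte := padicValNat.pow_sub_pow hodd hx1 hpdvd hpx hj0
  rw [one_pow, hval] at hlte
  have hxe : x ^ j = 2 ^ e := by rw [hx, ← pow_mul, hj]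
  rw [hxe] at hlte
  have hne : 2 ^ e - 1 ≠ 0 := by
    have : 2 ≤ 2 ^ e := by
      calc 2 = 2 ^ 1 := by norm_num
        _ ≤ 2 ^ e := Nat.pow_le_pow_right (by norm_num) he
    omega
  have hle : m + k ≤ padicValNat p (2 ^ e - 1) := (padicValNat_dvd_iff_le hne).mp h
  rw [hlte] at hle
  have hk : k ≤ padicValNat p j := by omega
  have hpk : p ^ k ∣ j := (pow_dvd_pow p hk).trans pow_padicValNat_dvd
  rw [hj]
  exact Nat.mul_dvd_mul_left _ hpk

end Cfsg.Agent.Helper9.Shult
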