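import Mathlib
import Cfsg.Agent.Helper5.HHModE

/-!
# Shult–Gross, part A: Heisenberg counting for twisting operators of arbitrary finite order

Generalisation of `Cfsg.Agent.Helper5.HHMod` (parts D, E, F) from automorphisms of prime order fixing `Z`
pointwise to automorphisms `σ` with `σ ^ N = 1` acting semiregularly on `Q ⧸ Z`, stabilising `Z` and
fixing `Z` only modulo the kernel of the representation.
-/

set_option autoImplicit false
set_option linter.style.haveILetI false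
set_option linter.unusedSectionVars false

universe u v w

namespace Cfsg.Agent.Helper9.Shult

open Module Cfsg.Agent.Helper5 Cfsg.Agent.Helper5.HHMod

section count

variable {Q : Type w} [Group Q]

theorem mem_iff_of_mem_zpowers (σ : MulAut Q) (Z : Subgroup Q) (hσZ : ∀ z, σ z ∈ Z ↔ z ∈ Z)
    {τ : MulAut Q} (hτ : τ ∈ Subgroup.zpowers σ) : ∀ z, τ z ∈ Z ↔ z ∈ Z := by
  let S : Subgroup (MulAut Q) :=
    { carrier := {τ | ∀ z, τ z ∈ Z ↔ z ∈ Z}
      one_mem' := fun z => Iff.rfl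
      mul_mem' := fun {a b} ha hb z => by
        rw [MulAut.mul_apply, ha, hb]
      inv_mem' := fun {a} ha z => by
        have := ha (a⁻¹ z)
        rw [MulAut.apply_inv_self] at this
        exact this.symm }
  have hle : Subgroup.zpowers σ ≤ S := by
    rw [Subgroup.zpowers_le]
    exact hσZ
  exact hle hτ

/-- the quotient action of the cyclic group generated by `σ` on `Q ⧸ Z` -/
theorem quotientAction_zpowers' (σ : MulAut Q) (Z : Subgroup Q) (hσZ : ∀ z, σ z ∈ Z ↔ z ∈ Z) :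
    MulAction.QuotientAction ↥(Subgroup.zpowers σ) Z where
  inv_mul_mem := fun s {a a'} h => by
    have h1 : (s • a)⁻¹ * s • a' = (s : MulAut Q) (a⁻¹ * a') := by
      show ((s : MulAut Q) a)⁻¹ * (s : MulAut Q) a' = _
      rw [map_mul, map_inv]
    rw [h1]
    exact (mem_iff_of_mem_zpowers σ Z hσZ s.2 _).mpr h

theorem exists_pow_of_mem_zpowers [Finite Q] (σ : MulAut Q) (N : ℕ) (hN : 0 < N) (hσN : σ ^ N = 1)
    {τ : MulAut Q} (hτ : τ ∈ Subgroup.zpowers σ) (hτ1 : τ ≠ 1) : ∃ j, 0 < j ∧ j < N ∧ σ ^ j = τ := by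
  obtain ⟨i, hi⟩ := Subgroup.mem_zpowers_iff.mp hτ
  have h1 : σ ^ (i % (N : ℤ)) = τ := by
    rw [← hi]
    conv_rhs => rw [← Int.emod_add_mul_ediv i (N : ℤ)]
    rw [zpow_add, zpow_mul, zpow_natCast, hσN, one_zpow, mul_one]
  have hNz : (N : ℤ) ≠ 0 := by exact_mod_cast hN.ne'
  have h2 : 0 ≤ i % (N : ℤ) := Int.emod_nonneg i hNz
  have h3 : i % (N : ℤ) < N := Int.emod_lt_of_pos i (by exact_mod_cast hN)
  obtain ⟨j, hj⟩ := Int.eq_ofNat_of_zero_le h2
  rw [hj, zpow_natCast] at h1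
  refine ⟨j, ?_, ?_, h1⟩
  · rcases Nat.eq_zero_or_pos j with h0 | h0
    · exfalso
      apply hτ1
      rw [← h1, h0, pow_zero]
    · exact h0
  · rw [hj] at h3
    exact_mod_cast h3

theorem card_orbits_semireg [Finite Q] (Z : Subgroup Q) [Z.Normal] (hZtop : Z ≠ ⊤) (σ : MulAut Q)
    (N : ℕ) (hN : 0 < N) (hσN : σ ^ N = 1) (hσZ : ∀ z, σ z ∈ Z ↔ z ∈ Z)
    (hsemi : ∀ j, 0 < j → j < N → ∀ k, (σ ^ j) k * k⁻¹ ∈ Z → k ∈ Z) :
    letI := quotientAction_zpowers' σ Z hσZ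
    Nat.card (Quotient (MulAction.orbitRel ↥(Subgroup.zpowers σ) (Q ⧸ Z))) * N = Z.index + (N - 1) := by
  letI := quotientAction_zpowers' σ Z hσZ
  have hord : orderOf σ = N := by
    have hdvd : orderOf σ ∣ N := orderOf_dvd_of_pow_eq_one hσN
    have hpos : 0 < orderOf σ := Nat.pos_of_dvd_of_pos hdvd hN
    by_contra hne
    have hlt : orderOf σ < N := lt_of_le_of_ne (Nat.le_of_dvd hN hdvd) hne
    apply hZtop
    rw [eq_top_iff]
    intro k _
    apply hsemi (orderOf σ) hpos hlt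
    rw [pow_orderOf_eq_one, MulAut.one_apply, mul_inv_cancel]
    exact Z.one_mem
  have hS : Nat.card ↥(Subgroup.zpowers σ) = N := by
    rw [Nat.card_zpowers, hord]
  have hfix : ∀ s : ↥(Subgroup.zpowers σ), s ≠ 1 → ∀ e : Q ⧸ Z, s • e = e ↔ e = QuotientGroup.mk 1 := by
    intro s hs e
    constructor
    · intro he
      have hs1 : (s : MulAut Q) ≠ 1 := fun h => hs (Subtype.ext h)
      obtain ⟨j, hj0, hjN, hj⟩ := exists_pow_of_mem_zpowers σ N hN hσN s.2 hs1
      induction e using QuotientGroup.induction_on with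
      | H k =>
        rw [MulAction.Quotient.smul_mk] at he
        have h2 : ((s : MulAut Q) k)⁻¹ * k ∈ Z := (QuotientGroup.eq (s := Z)).mp he
        have h3 : (s : MulAut Q) k * k⁻¹ ∈ Z := by
          have h4 : k⁻¹ * (s : MulAut Q) k ∈ Z := by
            have := Z.inv_mem h2
            rwa [mul_inv_rev, inv_inv] at this
          have h5 := (inferInstance : Z.Normal).conj_mem _ h4 k
          have h6 : k * (k⁻¹ * (s : MulAut Q) k) * k⁻¹ = (s : MulAut Q) k * k⁻¹ := by group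
          rwa [h6] at h5
        rw [← hj] at h3
        have h5 : k ∈ Z := hsemi j hj0 hjN k h3
        apply (QuotientGroup.eq (s := Z)).mpr
        rw [mul_one]
        exact Z.inv_mem h5
    · rintro rfl
      rw [MulAction.Quotient.smul_mk]
      congr 1
      exact map_one (s : MulAut Q)
  have := card_orbits_mul (S := ↥(Subgroup.zpowers σ)) (Ω0 := Q ⧸ Z) N hS (QuotientGroup.mk 1) hfix
  rw [this]
  rfl

end count

section bound

variable {K : Type u} [Field K] [IsAlgClosed K] {Y : Type v} [AddCommGroup Y] [Module K Y]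
  [FiniteDimensional K Y] [Nontrivial Y]
variable {Q : Type w} [Group Q] [Finite Q] {ρ : Representation K Q Y} {Z : Subgroup Q}

theorem normal_of_heis (H : Heis ρ Z) : Z.Normal :=
  ⟨fun n hn g => by
    have hc := H.central hn
    rw [Subgroup.mem_center_iff] at hc
    rw [hc g, mul_inv_cancel_right]
    exact hn⟩

theorem rho_pow_of_mem (σ : MulAut Q) (hσZ : ∀ z, σ z ∈ Z ↔ z ∈ Z) (hσρ : ∀ z ∈ Z, ρ (σ z) = ρ z)
    (j : ℕ) : ∀ z ∈ Z, (σ ^ j) z ∈ Z ∧ ρ ((σ ^ j) z) = ρ z := by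
  induction j with
  | zero => intro z hz; exact ⟨hz, rfl⟩
  | succ n ih =>
    intro z hz
    obtain ⟨h1, h2⟩ := ih z hz
    rw [pow_succ', MulAut.mul_apply]
    exact ⟨(hσZ _).mpr h1, by rw [hσρ _ h1, h2]⟩

theorem orbSum_mul_mem' (H : Heis ρ Z) (σ : MulAut Q) (r : ℕ) (hσZ : ∀ z, σ z ∈ Z ↔ z ∈ Z)
    (hσρ : ∀ z ∈ Z, ρ (σ z) = ρ z) (k : Q) {z : Q}
    (hz : z ∈ Z) : ∃ c : K, orbSum ρ σ r (k * z) = c • orbSum ρ σ r k := by
  obtain ⟨c, hc⟩ := H.scalar z hz
  refine ⟨c, ?_⟩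
  unfold orbSum
  rw [Finset.smul_sum]
  refine Finset.sum_congr rfl fun j _ => ?_
  have hj := (rho_pow_of_mem σ hσZ hσρ j z hz).2
  rw [map_mul, map_mul, hj, hc]
  simp

theorem finrank_commutant_le' (H : Heis ρ Z) (hZtop : Z ≠ ⊤) (σ : MulAut Q) (N : ℕ) (hN : 0 < N)
    (hNK : (N : K) ≠ 0) (hσN : σ ^ N = 1) (hσZ : ∀ z, σ z ∈ Z ↔ z ∈ Z) (hσρ : ∀ z ∈ Z, ρ (σ z) = ρ z)
    (hsemi : ∀ j, 0 < j → j < N → ∀ k, (σ ^ j) k * k⁻¹ ∈ Z → k ∈ Z)
    (T T' : Module.End K Y) (hT : ∀ g, T * ρ g = ρ (σ g) * T) (hTT' : T * T' = 1) :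
    finrank K (commutant T) * N ≤ Z.index + (N - 1) := by
  classical
  haveI := normal_of_heis H
  letI := quotientAction_zpowers' σ Z hσZ
  rw [← card_orbits_semireg Z hZtop σ N hN hσN hσZ hsemi]
  refine Nat.mul_le_mul_right N ?_
  have : Fintype (Quotient (MulAction.orbitRel ↥(Subgroup.zpowers σ) (Q ⧸ Z))) := Fintype.ofFinite _
  rw [Nat.card_eq_fintype_card]
  let v : Quotient (MulAction.orbitRel ↥(Subgroup.zpowers σ) (Q ⧸ Z)) → Module.End K Y :=
    fun ω => orbSum ρ σ N (Quotient.out (Quotient.out ω : Q ⧸ Z))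
  have hk : ∀ k : Q, orbSum ρ σ N k ∈ Submodule.span K (Set.range v) := by
    intro k
    set ω : Quotient (MulAction.orbitRel ↥(Subgroup.zpowers σ) (Q ⧸ Z)) :=
      Quotient.mk'' (QuotientGroup.mk k : Q ⧸ Z) with hω
    have h1 : (Quotient.out ω : Q ⧸ Z) ∈ MulAction.orbit ↥(Subgroup.zpowers σ) (QuotientGroup.mk k : Q ⧸ Z) := by
      have : Quotient.mk'' (Quotient.out ω) = ω := Quotient.out_eq' ω
      rw [hω] at this
      exact Quotient.exact' this
    obtain ⟨s, hs⟩ := h1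
    simp only at hs
    rw [MulAction.Quotient.smul_mk] at hs
    have h2 : (Quotient.out (Quotient.out ω : Q ⧸ Z))⁻¹ * (s : MulAut Q) k ∈ Z := by
      apply (QuotientGroup.eq (s := Z)).mp
      rw [QuotientGroup.out_eq']
      exact hs.symm
    obtain ⟨c, hc⟩ := orbSum_mul_mem' H σ N hσZ hσρ (Quotient.out (Quotient.out ω : Q ⧸ Z)) h2
    rw [mul_inv_cancel_left, orbSum_of_mem_zpowers ρ σ N hσN s.2] at hc
    rw [hc]
    exact Submodule.smul_mem _ _ (Submodule.subset_span ⟨ω, rfl⟩)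
  have hle : commutant T ≤ Submodule.span K (Set.range v) := by
    intro f hf
    have h1 : f = (N : K)⁻¹ • avg T T' N f := by
      rw [avg_of_mem_commutant hTT' N hf, smul_smul, inv_mul_cancel₀ hNK, one_smul]
    rw [h1]
    refine Submodule.smul_mem _ _ ?_
    have h2 : f ∈ Submodule.span K (Set.range ρ) := by rw [H.span_top]; trivial
    have h3 : avg T T' N f ∈ Submodule.map (avg T T' N) (Submodule.span K (Set.range ρ)) :=
      Submodule.mem_map_of_mem h2
    rw [Submodule.map_span] at h3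
    refine (Submodule.span_le.mpr ?_) h3
    rintro _ ⟨_, ⟨k, rfl⟩, rfl⟩
    rw [avg_rho ρ σ hT hTT']
    exact hk k
  exact (Submodule.finrank_mono hle).trans (finrank_range_le_card v)

/-- every `N`-th root of unity is an eigenvalue of the twisting operator, unless `N = dim Y + 1` -/
theorem eigen_or_eq' (H : Heis ρ Z) (hZtop : Z ≠ ⊤) (σ : MulAut Q) (N : ℕ) (hN : 0 < N)
    (hNK : (N : K) ≠ 0) (hσN : σ ^ N = 1) (hσZ : ∀ z, σ z ∈ Z ↔ z ∈ Z) (hσρ : ∀ z ∈ Z, ρ (σ z) = ρ z)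
    (hsemi : ∀ j, 0 < j → j < N → ∀ k, (σ ^ j) k * k⁻¹ ∈ Z → k ∈ Z)
    (T : Module.End K Y) (hT : ∀ g, T * ρ g = ρ (σ g) * T) (hTN : T ^ N = 1) (β : K) (hβ : β ^ N = 1) :
    (∃ y : Y, y ≠ 0 ∧ T y = β • y) ∨ N = finrank K Y + 1 := by
  classical
  have hN1 : 1 ≤ N := hN
  have hTT' : T * T ^ (N - 1) = 1 := by
    rw [← pow_succ', Nat.sub_add_cancel hN1, hTN]
  obtain ⟨ι, hι, b, d, hd⟩ := exists_eigenbasis T N hNK hTN
  have hNf : finrank K Y = Fintype.card ι := Module.finrank_eq_card_basis b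
  have hdr : ∀ i, d i ^ N = 1 := by
    intro i
    have h1 : ∀ n : ℕ, (T ^ n) (b i) = d i ^ n • b i := by
      intro n
      induction n with
      | zero => simp
      | succ n ih => rw [pow_succ', Module.End.mul_apply, ih, map_smul, hd, smul_smul, pow_succ]
    have h2 := h1 N
    rw [hTN, Module.End.one_apply] at h2
    have h3 : (d i ^ N - 1) • b i = 0 := by rw [sub_smul, ← h2, one_smul, sub_self]
    rcases smul_eq_zero.mp h3 with h | h
    · exact sub_eq_zero.mp h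
    · exact absurd h (b.ne_zero i)
  have hdS : ∀ i, d i ∈ Polynomial.nthRootsFinset N (1 : K) := fun i =>
    (Polynomial.mem_nthRootsFinset hN 1).mpr (hdr i)
  have hScard : (Polynomial.nthRootsFinset N (1 : K)).card ≤ N := by
    rw [Polynomial.nthRootsFinset_def]
    exact (Multiset.toFinset_card_le _).trans (Polynomial.card_nthRoots N 1)
  have hsq := H.finrank_sq
  have hidx : 2 ≤ Z.index := by
    have h1 : Z.index ≠ 1 := fun h => hZtop (Subgroup.index_eq_one.mp h)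
    have h0 : Z.index ≠ 0 := Subgroup.index_ne_zero_of_finite
    omega
  have hN2 : 2 ≤ Fintype.card ι := by
    rw [← hNf]
    by_contra hcon
    push Not at hcon
    have : finrank K Y ^ 2 ≤ 1 := by
      have : finrank K Y ≤ 1 := by omega
      calc finrank K Y ^ 2 ≤ 1 ^ 2 := Nat.pow_le_pow_left this 2
        _ = 1 := by norm_num
    omega
  have ht : Fintype.card {p : ι × ι // d p.1 = d p.2} ≤ finrank K (commutant T) := by
    rw [← Nat.card_eq_fintype_card]
    exact card_le_finrank_commutant b T d hd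
  have hbound := finrank_commutant_le' H hZtop σ N hN hNK hσN hσZ hσρ hsemi T (T ^ (N - 1)) hT hTT'
  have hrt : N * finrank K (commutant T) ≤ Fintype.card ι ^ 2 + N - 1 := by
    rw [← hNf, hsq, mul_comm]
    omega
  obtain ⟨_, h2⟩ := arith_core d (Polynomial.nthRootsFinset N (1 : K)) hdS N hScard hN2
    (finrank K (commutant T)) ht hrt
  by_cases hex : ∃ i, d i = β
  · obtain ⟨i, hi⟩ := hex
    left
    exact ⟨b i, b.ne_zero i, by rw [hd, hi]⟩
  · right
    push Not at hex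
    rw [hNf]
    exact h2 β ((Polynomial.mem_nthRootsFinset hN 1).mpr hβ) hex

/-- existence of the twisting operator -/
theorem exists_twist' (H : Heis ρ Z) (σ : MulAut Q) (N : ℕ) (hN : 0 < N) (hσN : σ ^ N = 1)
    (hσZ : ∀ z, σ z ∈ Z ↔ z ∈ Z) (hσρ : ∀ z ∈ Z, ρ (σ z) = ρ z)
    (hfpf : ∀ k, σ k * k⁻¹ ∈ Z → k ∈ Z) :
    ∃ T : Module.End K Y, (∀ g, T * ρ g = ρ (σ g) * T) ∧ T ^ N = 1 := by
  classical
  have : Fintype Q := Fintype.ofFinite Q
  set R : Module.End K Y := ∑ k : Q, ρ (σ k) * ρ k⁻¹ with hRdef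
  have hR : ∀ g, R * ρ g = ρ (σ g) * R := by
    intro g
    rw [hRdef, Finset.sum_mul, Finset.mul_sum]
    rw [← Equiv.sum_comp (Equiv.mulLeft g) (fun k => ρ (σ k) * ρ k⁻¹ * ρ g)]
    refine Finset.sum_congr rfl fun k _ => ?_
    simp only [Equiv.coe_mulLeft]
    rw [map_mul σ, map_mul ρ, mul_inv_rev, map_mul ρ, mul_assoc, mul_assoc, mul_assoc, rho_inv_mul, mul_one]
  have hQne : (Fintype.card Q : K) ≠ 0 := by
    have := H.card_ne
    rwa [Nat.card_eq_fintype_card] at this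
  have hPR : H.P 1 R = ((Fintype.card Q : K) * (Nat.card Z : K)) • 1 := by
    have h1 : ∀ k : Q, H.P 1 (ρ (σ k) * ρ k⁻¹) = if k ∈ Z then (Fintype.card Q : K) • 1 else 0 := by
      intro k
      rw [← map_mul, Heis.P_rho, inv_one, one_mul]
      by_cases hk : k ∈ Z
      · have h2 : σ k * k⁻¹ ∈ Z := Z.mul_mem ((hσZ k).mpr hk) (Z.inv_mem hk)
        have h3 : ρ (σ k * k⁻¹) = 1 := by
          rw [map_mul, hσρ k hk, rho_mul_inv]
        rw [if_pos h2, if_pos hk, h3]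
      · have : ¬ σ k * k⁻¹ ∈ Z := fun h => hk (hfpf k h)
        rw [if_neg this, if_neg hk, zero_smul]
    rw [hRdef, map_sum]
    simp only [h1]
    rw [Finset.sum_ite, Finset.sum_const_zero, add_zero, Finset.sum_const, ← Nat.cast_smul_eq_nsmul K, smul_smul,
      ← Fintype.card_subtype, Nat.card_eq_fintype_card, mul_comm]
  have hR0 : R ≠ 0 := by
    intro h0
    rw [h0, map_zero] at hPR
    have hne : ((Fintype.card Q : K) * (Nat.card Z : K)) ≠ 0 := mul_ne_zero hQne H.card_Z_ne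
    rcases smul_eq_zero.mp hPR.symm with h | h
    · exact hne h
    · exact one_ne_zero h
  have hker : LinearMap.ker R = ⊥ := by
    rcases H.irr (LinearMap.ker R) (fun u y hy => by
      rw [LinearMap.mem_ker] at hy ⊢
      have := congrArg (fun f : Module.End K Y => f y) (hR u)
      simp only [Module.End.mul_apply] at this
      rw [this, hy, map_zero]) with h | h
    · exact h
    · exfalso
      apply hR0
      exact LinearMap.ker_eq_top.mp h
  have hRinj : Function.Injective R := LinearMap.ker_eq_bot.mp hker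
  have hRpow : ∀ j : ℕ, ∀ g, R ^ j * ρ g = ρ ((σ ^ j) g) * R ^ j := by
    intro j
    induction j with
    | zero => intro g; simp
    | succ n ih =>
      intro g
      rw [pow_succ', mul_assoc, ih, ← mul_assoc, hR, mul_assoc, pow_succ' σ, MulAut.mul_apply]
  obtain ⟨c, hc⟩ := FrobMod.schur_scalar ρ H.irr (R ^ N) (fun u => by
    show ρ u * R ^ N = R ^ N * ρ u
    rw [hRpow N u, hσN, MulAut.one_apply])
  have hc' : R ^ N = c • 1 := hc
  have hc0 : c ≠ 0 := by
    intro h0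
    rw [h0, zero_smul] at hc'
    obtain ⟨y, hy⟩ := exists_ne (0 : Y)
    have hinj : Function.Injective (R ^ N) := by
      rw [Module.End.coe_pow]
      exact hRinj.iterate N
    apply hy
    apply hinj
    rw [hc', map_zero]
    rfl
  obtain ⟨γ, hγ⟩ := IsAlgClosed.exists_pow_nat_eq c⁻¹ hN
  refine ⟨γ • R, fun g => ?_, ?_⟩
  · rw [smul_mul_assoc, hR, mul_smul_comm]
  · rw [smul_pow, hγ, hc', smul_smul, inv_mul_cancel₀ hc0, one_smul]

/-- operator form of `HHMod.fixed_or_eq` for arbitrary finite order `N` -/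
theorem fixed_or_eq' {M : Type*} [AddCommGroup M] [Module K M] [FiniteDimensional K M]
    (ρM : Representation K Q M) (H : Heis ρ Z) (hZtop : Z ≠ ⊤) (σ : MulAut Q) (N : ℕ) (hN : 1 < N)
    (hNK : (N : K) ≠ 0) (hσN : σ ^ N = 1) (hσZ : ∀ z, σ z ∈ Z ↔ z ∈ Z) (hσρ : ∀ z ∈ Z, ρ (σ z) = ρ z)
    (hsemi : ∀ j, 0 < j → j < N → ∀ k, (σ ^ j) k * k⁻¹ ∈ Z → k ∈ Z)
    (X X' : Module.End K M) (hXX' : X * X' = 1) (hX'X : X' * X = 1)
    (hX : ∀ g, X * ρM g = ρM (σ g) * X) (hXN : X ^ N = 1)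
    (ι : Y →ₗ[K] M) (hι0 : ι ≠ 0) (hι : ∀ g, ρM g ∘ₗ ι = ι ∘ₗ ρ g) :
    (∃ m : M, m ≠ 0 ∧ X m = m) ∨ N = finrank K Y + 1 := by
  classical
  have hN0 : 0 < N := by omega
  have hfpf : ∀ k, σ k * k⁻¹ ∈ Z → k ∈ Z := fun k hk => hsemi 1 one_pos hN k (by rwa [pow_one])
  obtain ⟨T, hT, hTN⟩ := exists_twist' H σ N hN0 hσN hσZ hσρ hfpf
  -- the space of equivariant maps
  let W : Submodule K (Y →ₗ[K] M) :=
    { carrier := {φ | ∀ g, ρM g ∘ₗ φ = φ ∘ₗ ρ g}
      add_mem' := fun {a b} ha hb g => by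
        rw [LinearMap.comp_add, LinearMap.add_comp, ha g, hb g]
      zero_mem' := fun g => by simp
      smul_mem' := fun c a ha g => by
        rw [LinearMap.comp_smul, LinearMap.smul_comp, ha g] }
  have hxinv : ∀ g, X' ∘ₗ ρM (σ g) = ρM g ∘ₗ X' := by
    intro g
    show X' * ρM (σ g) = ρM g * X'
    calc X' * ρM (σ g) = X' * (ρM (σ g) * X) * X' := by
          rw [mul_assoc, mul_assoc, hXX', mul_one]
      _ = X' * (X * ρM g) * X' := by rw [hX]
      _ = ρM g * X' := by rw [← mul_assoc, hX'X, one_mul]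
  let B0 : (Y →ₗ[K] M) →ₗ[K] (Y →ₗ[K] M) :=
    { toFun := fun φ => X' ∘ₗ φ ∘ₗ T
      map_add' := fun a b => by
        rw [LinearMap.add_comp, LinearMap.comp_add]
      map_smul' := fun c a => by
        rw [LinearMap.smul_comp, LinearMap.comp_smul]; rfl }
  have hB0 : ∀ φ ∈ W, B0 φ ∈ W := by
    intro φ hφ g
    show ρM g ∘ₗ (X' ∘ₗ φ ∘ₗ T) = (X' ∘ₗ φ ∘ₗ T) ∘ₗ ρ g
    have hTg : T ∘ₗ ρ g = ρ (σ g) ∘ₗ T := hT g
    rw [← LinearMap.comp_assoc, ← hxinv g, LinearMap.comp_assoc, ← LinearMap.comp_assoc _ φ, hφ (σ g),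
      LinearMap.comp_assoc, LinearMap.comp_assoc, LinearMap.comp_assoc, hTg]
  let B : Module.End K W := B0.restrict hB0
  have hιW : ι ∈ W := hι
  haveI : Nontrivial W := ⟨⟨⟨ι, hιW⟩, 0, fun h => hι0 (congrArg Subtype.val h)⟩⟩
  obtain ⟨lam, hlam⟩ := Module.End.exists_eigenvalue B
  obtain ⟨φ', hφ'⟩ := hlam.exists_hasEigenvector
  have hφ'0 : φ' ≠ 0 := hφ'.2
  have hφ'e : B φ' = lam • φ' := hφ'.apply_eq_smul
  set φ : Y →ₗ[K] M := φ'.1 with hφdef
  have hφW : ∀ g, ρM g ∘ₗ φ = φ ∘ₗ ρ g := φ'.2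
  have hφ0 : φ ≠ 0 := fun h => hφ'0 (Subtype.ext h)
  have hφe : X' ∘ₗ φ ∘ₗ T = lam • φ := by
    have := congrArg Subtype.val hφ'e
    exact this
  -- `T` is invertible
  have hN1 : 1 ≤ N := hN0
  have hTT' : T * T ^ (N - 1) = 1 := by
    rw [← pow_succ', Nat.sub_add_cancel hN1, hTN]
  have hlam0 : lam ≠ 0 := by
    intro h0
    rw [h0, zero_smul] at hφe
    apply hφ0
    have h1 : X ∘ₗ (X' ∘ₗ φ ∘ₗ T) ∘ₗ T ^ (N - 1) = 0 := by rw [hφe]; simp
    have h2 : X ∘ₗ (X' ∘ₗ φ ∘ₗ T) ∘ₗ T ^ (N - 1) = φ := by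
      ext y
      simp only [LinearMap.comp_apply]
      have h3 : T ((T ^ (N - 1)) y) = y := by
        rw [← Module.End.mul_apply, hTT', Module.End.one_apply]
      rw [h3, ← Module.End.mul_apply, hXX', Module.End.one_apply]
    rw [← h2, h1]
  -- `φ` is injective
  have hφinj : Function.Injective φ := by
    rw [← LinearMap.ker_eq_bot]
    rcases H.irr (LinearMap.ker φ) (fun u y hy => by
      rw [LinearMap.mem_ker] at hy ⊢
      have := congrArg (fun f : Y →ₗ[K] M => f y) (hφW u)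
      simp only [LinearMap.comp_apply] at this
      rw [← this, hy, map_zero]) with h | h
    · exact h
    · exact absurd (LinearMap.ker_eq_top.mp h) hφ0
  -- the rescaled operator
  set T1 : Module.End K Y := lam⁻¹ • T with hT1
  have hφT1 : φ ∘ₗ T1 = X ∘ₗ φ := by
    have h1 : X ∘ₗ (X' ∘ₗ φ ∘ₗ T) = φ ∘ₗ T := by
      ext y
      simp only [LinearMap.comp_apply]
      rw [← Module.End.mul_apply, hXX', Module.End.one_apply]
    rw [hφe, LinearMap.comp_smul] at h1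
    rw [hT1, LinearMap.comp_smul, ← h1, smul_smul, inv_mul_cancel₀ hlam0, one_smul]
  have hφT1pow : ∀ n : ℕ, φ ∘ₗ (T1 ^ n) = (X ^ n) ∘ₗ φ := by
    intro n
    induction n with
    | zero =>
      ext y
      simp
    | succ n ih =>
      have e1 : T1 ^ (n + 1) = T1 ^ n * T1 := pow_succ _ _
      have e2 : φ ∘ₗ (T1 ^ n * T1) = (φ ∘ₗ T1 ^ n) ∘ₗ T1 := rfl
      rw [e1, e2, ih, LinearMap.comp_assoc, hφT1, ← LinearMap.comp_assoc, pow_succ]
      rfl
  have hT1N : T1 ^ N = 1 := by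
    have h1 := hφT1pow N
    rw [hXN] at h1
    ext y
    apply hφinj
    have := congrArg (fun f : Y →ₗ[K] M => f y) h1
    simpa using this
  have hT1' : ∀ g, T1 * ρ g = ρ (σ g) * T1 := by
    intro g
    rw [hT1, smul_mul_assoc, hT, mul_smul_comm]
  rcases eigen_or_eq' H hZtop σ N hN0 hNK hσN hσZ hσρ hsemi T1 hT1' hT1N 1 (one_pow N) with h | h
  · left
    obtain ⟨y, hy0, hy⟩ := h
    refine ⟨φ y, fun h0 => hy0 (hφinj (by rw [h0, map_zero])), ?_⟩
    have := congrArg (fun f : Y →ₗ[K] M => f y) hφT1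
    simp only [LinearMap.comp_apply] at this
    rw [← this, hy, one_smul]
  · right
    exact h

end bound

end Cfsg.Agent.Helper9.Shult
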