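import Mathlib
import Cfsg.Agent.Helper29.S3fWt

/-!
# Shult–Gross, part C: weights of an abelian subgroup, twisted by a normalising element; orbit sums
-/

set_option autoImplicit false
set_option linter.style.haveILetI false
set_option linter.unusedSectionVars false

namespace Cfsg.Agent.Helper9.Shult

open Module Cfsg.Agent.Helper29.S3f

variable {Γ : Type*} [Group Γ] {K : Type*} [Field K] {M : Type*} [AddCommGroup M] [Module K M]
variable (ρ : Representation K Γ M) (B : Subgroup Γ)

/-- conjugation by `u⁻¹` on `B` -/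
def conjInv (u : ↥(Subgroup.normalizer (B : Set Γ))) : ↥B →* ↥B where
  toFun b := ⟨(u : Γ)⁻¹ * b * u, by
    have h := (Subgroup.mem_normalizer_iff.mp u.2 ((u : Γ)⁻¹ * b * u)).mpr (by
      have : (u : Γ) * ((u : Γ)⁻¹ * b * u) * (u : Γ)⁻¹ = b := by group
      rw [this]; exact b.2)
    exact h⟩
  map_one' := by apply Subtype.ext; simp
  map_mul' x y := by apply Subtype.ext; simp [mul_assoc]

@[simp] theorem conjInv_coe (u : ↥(Subgroup.normalizer (B : Set Γ))) (b : ↥B) :
    ((conjInv B u b : ↥B) : Γ) = (u : Γ)⁻¹ * b * u := rfl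

/-- the action of the normaliser of `B` on the characters of `B` -/
@[reducible]
def chAction (K' : Type*) [Monoid K'] : MulAction ↥(Subgroup.normalizer (B : Set Γ)) (↥B →* K') where
  smul u χ := χ.comp (conjInv B u)
  one_smul χ := by
    refine MonoidHom.ext fun b => ?_
    show χ (conjInv B 1 b) = χ b
    congr 1
    apply Subtype.ext
    simp
  mul_smul u v χ := by
    refine MonoidHom.ext fun b => ?_
    show χ (conjInv B (u * v) b) = χ (conjInv B v (conjInv B u b))
    congr 1
    apply Subtype.ext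
    simp [mul_assoc]

theorem chAction_smul_apply (K' : Type*) [Monoid K'] (u : ↥(Subgroup.normalizer (B : Set Γ)))
    (χ : ↥B →* K') (b : ↥B) :
    letI := chAction B K'
    (u • χ) b = χ (conjInv B u b) := rfl

theorem rho_mem_wtSpace_smul (u : ↥(Subgroup.normalizer (B : Set Γ))) {χ : ↥B →* Kˣ} {m : M}
    (hm : m ∈ wtSpace ρ B χ) :
    letI := chAction B Kˣ
    ρ (u : Γ) m ∈ wtSpace ρ B (u • χ) := by
  letI := chAction B Kˣ
  intro b
  have h1 : ρ (b : Γ) (ρ (u : Γ) m) = ρ (u : Γ) (ρ ((conjInv B u b : ↥B) : Γ) m) := by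
    rw [conjInv_coe, ← Module.End.mul_apply, ← Module.End.mul_apply, ← map_mul, ← map_mul]
    congr 2
    group
  rw [h1, hm, map_smul]
  rfl

theorem rho_pow_mem_wtSpace_smul (u : ↥(Subgroup.normalizer (B : Set Γ))) {χ : ↥B →* Kˣ} {m : M}
    (hm : m ∈ wtSpace ρ B χ) (i : ℕ) :
    letI := chAction B Kˣ
    ρ ((u : Γ) ^ i) m ∈ wtSpace ρ B (u ^ i • χ) := by
  have := rho_mem_wtSpace_smul ρ B (u ^ i) hm
  simpa using this

/-- **Orbit sum.** A nonzero weight vector fixed by `u ^ d`, where `d` is the period of its weight under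
`u`, gives a nonzero vector fixed by `u`. -/
theorem orbit_sum (hBab : ∀ a ∈ B, ∀ b ∈ B, a * b = b * a)
    (u : ↥(Subgroup.normalizer (B : Set Γ))) (χ : ↥B →* Kˣ) (m : M) (hm : m ∈ wtSpace ρ B χ)
    (hm0 : m ≠ 0)
    (hper : letI := chAction B Kˣ; 0 < MulAction.period u χ)
    (hfix : letI := chAction B Kˣ; ρ ((u : Γ) ^ MulAction.period u χ) m = m) :
    ∃ v : M, v ≠ 0 ∧ ρ (u : Γ) v = v := by
  classical
  letI := chAction B Kˣ
  set d := MulAction.period u χ with hd
  refine ⟨∑ i ∈ Finset.range d, ρ ((u : Γ) ^ i) m, ?_, ?_⟩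
  · -- nonzero, by independence of weight spaces
    have hinj : Function.Injective (fun i : Fin d => u ^ (i : ℕ) • χ) := by
      intro i j hij
      simp only at hij
      by_contra hne
      have key : ∀ a b : Fin d, (a : ℕ) < b → u ^ (a : ℕ) • χ = u ^ (b : ℕ) • χ → False := by
        intro a b hab h
        have h1 : u ^ ((b : ℕ) - a) • χ = χ := by
          have h2 : u ^ (b : ℕ) = u ^ (a : ℕ) * u ^ ((b : ℕ) - a) := by
            rw [← pow_add, Nat.add_sub_cancel' hab.le]
          rw [h2, mul_smul] at h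
          exact (smul_left_cancel _ h).symm
        exact MulAction.pow_smul_ne_of_lt_period (Nat.sub_pos_of_lt hab)
          (lt_of_le_of_lt (Nat.sub_le _ _) b.2) h1
      rcases lt_or_gt_of_ne (fun h => hne (Fin.ext h) : (i : ℕ) ≠ j) with h | h
      · exact key i j h hij
      · exact key j i h hij.symm
    have hind := (wtSpace_iSupIndep ρ B hBab).comp hinj
    have hv : ∀ i : Fin d, ρ ((u : Γ) ^ (i : ℕ)) m ∈ wtSpace ρ B (u ^ (i : ℕ) • χ) :=
      fun i => rho_pow_mem_wtSpace_smul ρ B u hm i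
    have hv' : ∀ i : Fin d, ρ ((u : Γ) ^ (i : ℕ)) m ≠ 0 := by
      intro i h0
      apply hm0
      apply rho_injective ρ ((u : Γ) ^ (i : ℕ))
      rw [h0, map_zero]
    have hli := hind.linearIndependent _ hv hv'
    rw [Fintype.linearIndependent_iff] at hli
    intro h0
    rw [← Fin.sum_univ_eq_sum_range (fun i => ρ ((u : Γ) ^ i) m) d] at h0
    have h1 := hli (fun _ => 1) (by simpa using h0) ⟨0, hper⟩
    exact one_ne_zero h1
  · rw [map_sum]
    have h1 : ∀ i ∈ Finset.range d, ρ (u : Γ) (ρ ((u : Γ) ^ i) m) = ρ ((u : Γ) ^ (i + 1)) m := by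
      intro i _
      rw [← Module.End.mul_apply, ← map_mul, pow_succ']
    rw [Finset.sum_congr rfl h1]
    have h2 := Finset.sum_range_succ' (fun i => ρ ((u : Γ) ^ i) m) d
    have h3 := Finset.sum_range_succ (fun i => ρ ((u : Γ) ^ i) m) d
    rw [h3] at h2
    simp only [pow_zero, map_one, Module.End.one_apply] at h2
    rw [hfix] at h2
    exact (add_right_cancel h2).symm

end Cfsg.Agent.Helper9.Shult
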