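import Mathlib
import Cfsg.Agent.Helper9.ShultA
import Cfsg.Agent.Helper9.ShultC
import Cfsg.Agent.Helper5.HHModG

/-!
# Shult–Gross, part D: the second level.

A finite group `Q` of operators with scalar commutators, normalised by an operator `u` of order `N`
acting semiregularly on `Q` modulo its centre: `u` has a nonzero fixed vector, or
`|Q : Z(Q)| = (N₂ - 1)²` for some divisor `N₂ > 1` of `N`.
-/

set_option autoImplicit false
set_option linter.style.haveILetI false
set_option linter.unusedSectionVars false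

universe u₁ u₂ u₃

namespace Cfsg.Agent.Helper9.Shult

open Module Subgroup Cfsg.Agent.Helper5 Cfsg.Agent.Helper5.HHMod Cfsg.Agent.Helper5.FrobMod
open Cfsg.Agent.Helper29.S3f

variable {Γ : Type u₁} [Group Γ] {K : Type u₂} [Field K] [IsAlgClosed K]
  {W : Type u₃} [AddCommGroup W] [Module K W] [FiniteDimensional K W]

/-- the centre of `Q`, as a subgroup of the ambient group -/
def zc (Q : Subgroup Γ) : Subgroup Γ := Q ⊓ centralizer (Q : Set Γ)

theorem mem_zc {Q : Subgroup Γ} {g : Γ} : g ∈ zc Q ↔ g ∈ Q ∧ ∀ h ∈ Q, h * g = g * h := by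
  unfold zc
  rw [mem_inf, mem_centralizer_iff]
  rfl

theorem zc_le (Q : Subgroup Γ) : zc Q ≤ Q := inf_le_left

theorem zc_comm (Q : Subgroup Γ) : ∀ a ∈ zc Q, ∀ b ∈ zc Q, a * b = b * a := by
  intro a ha b hb
  exact ((mem_zc.mp hb).2 a (mem_zc.mp ha).1)

theorem normalizer_le_normalizer_zc (Q : Subgroup Γ) :
    normalizer (Q : Set Γ) ≤ normalizer (zc Q : Set Γ) := by
  intro x hx
  have hx' := mem_normalizer_iff.mp hx
  have hxi := mem_normalizer_iff.mp (inv_mem hx)
  rw [mem_normalizer_iff]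
  intro g
  constructor
  · intro hg
    obtain ⟨hgQ, hgc⟩ := mem_zc.mp hg
    refine mem_zc.mpr ⟨(hx' g).mp hgQ, fun h hh => ?_⟩
    have h1 : x⁻¹ * h * x ∈ Q := by
      have := (hxi h).mp hh
      rwa [inv_inv] at this
    have h2 := hgc _ h1
    calc h * (x * g * x⁻¹) = x * ((x⁻¹ * h * x) * g) * x⁻¹ := by group
      _ = x * (g * (x⁻¹ * h * x)) * x⁻¹ := by rw [h2]
      _ = x * g * x⁻¹ * h := by group
  · intro hg
    obtain ⟨hgQ, hgc⟩ := mem_zc.mp hg
    refine mem_zc.mpr ⟨(hx' g).mpr hgQ, fun h hh => ?_⟩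
    have h1 : x * h * x⁻¹ ∈ Q := (hx' h).mp hh
    have h2 := hgc _ h1
    calc h * g = x⁻¹ * ((x * h * x⁻¹) * (x * g * x⁻¹)) * x := by group
      _ = x⁻¹ * ((x * g * x⁻¹) * (x * h * x⁻¹)) * x := by rw [h2]
      _ = g * h := by group

theorem level_two [Nontrivial W] (ρ : Representation K Γ W) (Q : Subgroup Γ) [Finite Q]
    (hQK : (Nat.card Q : K) ≠ 0)
    (hsc : ∀ g ∈ Q, ∀ h ∈ Q, ∃ c : K, ρ (g * h * g⁻¹ * h⁻¹) = c • 1)
    (hfaith : ∀ g ∈ Q, ρ g = 1 → g = 1)
    (u : Γ) (hu : u ∈ normalizer (Q : Set Γ)) (N : ℕ) (hN : 0 < N) (hNK : (N : K) ≠ 0)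
    (huN : u ^ N = 1) (hZne : zc Q ≠ Q)
    (hsemi : ∀ j, 0 < j → j < N → ∀ g ∈ Q, u ^ j * g * (u ^ j)⁻¹ * g⁻¹ ∈ zc Q → g ∈ zc Q) :
    (∃ w : W, w ≠ 0 ∧ ρ u w = w) ∨
      ∃ N₂, N₂ ∣ N ∧ 1 < N₂ ∧ (N₂ - 1) ^ 2 = (zc Q).relIndex Q := by
  classical
  set Zc := zc Q with hZc
  have hZab := zc_comm Q
  have huZ : u ∈ normalizer (Zc : Set Γ) := normalizer_le_normalizer_zc Q hu
  obtain ⟨μ, m, -, hm0, hmμ⟩ := exists_weight ρ Zc hZab ⊤ top_ne_bot (fun _ _ _ _ => trivial)
  set un : ↥(normalizer (Zc : Set Γ)) := ⟨u, huZ⟩ with hun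
  letI := chAction Zc Kˣ
  have hunN : un ^ N = 1 := Subtype.ext (by simpa using huN)
  have hfixN : un ^ N • μ = μ := by rw [hunN, one_smul]
  have hper : 0 < MulAction.period un μ := MulAction.period_pos_of_fixed hN hfixN
  have hdvd : MulAction.period un μ ∣ N := MulAction.pow_smul_eq_iff_period_dvd.mp hfixN
  set d := MulAction.period un μ with hd
  have hcoe : ∀ i : ℕ, ((un ^ i : ↥(normalizer (Zc : Set Γ))) : Γ) = u ^ i := fun i => by simp [hun]
  by_cases hdN : d = N
  · left
    refine orbit_sum ρ Zc hZab un μ m hmμ hm0 hper ?_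
    show ρ ((un : Γ) ^ d) m = m
    rw [hdN]
    show ρ (u ^ N) m = m
    rw [huN, map_one, Module.End.one_apply]
  · obtain ⟨N₂, hN₂⟩ := hdvd
    have hN₂1 : 1 < N₂ := by
      rcases Nat.lt_or_ge 1 N₂ with h | h
      · exact h
      · exfalso
        interval_cases N₂
        · rw [mul_zero] at hN₂; omega
        · rw [mul_one] at hN₂; exact hdN hN₂.symm
    set u₂ := u ^ d with hu₂
    have hu₂Q : u₂ ∈ normalizer (Q : Set Γ) := pow_mem hu d
    have hu₂N : u₂ ^ N₂ = 1 := by rw [hu₂, ← pow_mul, ← hN₂, huN]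
    -- the weight space
    set Wμ := wtSpace ρ Zc μ with hWμ
    have hWne : Wμ ≠ ⊥ := fun h => hm0 (by rw [← Submodule.mem_bot K, ← h]; exact hmμ)
    have hWQ : Inv ρ Q Wμ := by
      intro g hg w hw b
      have hb : (b : Γ) ∈ zc Q := b.2
      have hcomm : (b : Γ) * g = g * b := ((mem_zc.mp hb).2 g hg).symm
      rw [← Module.End.mul_apply, ← map_mul, hcomm, map_mul, Module.End.mul_apply, hw b, map_smul]
    have hWu : ∀ w ∈ Wμ, ρ u₂ w ∈ Wμ := by
      intro w hw
      have h1 := rho_pow_mem_wtSpace_smul ρ Zc un hw d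
      have h2 : un ^ d • μ = μ := MulAction.pow_period_smul un μ
      rw [h2] at h1
      exact h1
    have hWu' : ∀ w ∈ Wμ, ρ u₂⁻¹ w ∈ Wμ := by
      intro w hw
      -- `u₂⁻¹ = u₂ ^ (N₂ - 1)`
      have h1 : u₂⁻¹ = u₂ ^ (N₂ - 1) := by
        rw [inv_eq_iff_mul_eq_one, ← pow_succ', Nat.sub_add_cancel hN₂1.le, hu₂N]
      rw [h1]
      have : ∀ n : ℕ, ρ (u₂ ^ n) w ∈ Wμ := by
        intro n
        induction n with
        | zero => simpa using hw
        | succ n ih =>
          rw [pow_succ', map_mul, Module.End.mul_apply]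
          exact hWu _ ih
      exact this _
    obtain ⟨Y, hYW, hYne, hYinv, hYsimple⟩ := exists_simple_sub ρ Q Wμ hWne hWQ
    haveI : Nontrivial Y := Submodule.nontrivial_iff_ne_bot.mpr hYne
    set ρY : Representation K Q Y := subRep ρ Q Y hYinv with hρY
    set Z' : Subgroup Q := Zc.subgroupOf Q with hZ'
    have hcommZ : ∀ g ∈ Q, ∀ h ∈ Q, g * h * g⁻¹ * h⁻¹ ∈ Zc := by
      intro g hg h hh
      refine mem_zc.mpr ⟨Q.mul_mem (Q.mul_mem (Q.mul_mem hg hh) (Q.inv_mem hg)) (Q.inv_mem hh),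
        fun x hx => ?_⟩
      obtain ⟨c, hc⟩ := hsc g hg h hh
      set k := g * h * g⁻¹ * h⁻¹ with hk
      have hkQ : k ∈ Q := Q.mul_mem (Q.mul_mem (Q.mul_mem hg hh) (Q.inv_mem hg)) (Q.inv_mem hh)
      have h1 : ρ (x * k * x⁻¹ * k⁻¹) = 1 := by
        rw [map_mul, map_mul, map_mul, hc]
        have h2 : ρ x * c • (1 : Module.End K W) * ρ x⁻¹ = c • 1 := by
          rw [mul_smul_comm, mul_one, smul_mul_assoc, ← map_mul, mul_inv_cancel, map_one]
        rw [h2, ← hc, ← map_mul, mul_inv_cancel, map_one]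
      have h3 := hfaith _ (Q.mul_mem (Q.mul_mem (Q.mul_mem hx hkQ) (Q.inv_mem hx)) (Q.inv_mem hkQ)) h1
      calc x * k = (x * k * x⁻¹ * k⁻¹) * k * x := by group
        _ = k * x := by rw [h3, one_mul]
    have hscalar : ∀ z (hz : z ∈ Zc), ∀ w ∈ Wμ, ρ z w = ((μ ⟨z, hz⟩ : Kˣ) : K) • w := by
      intro z hz w hw
      exact hw ⟨z, hz⟩
    have H : Heis ρY Z' :=
      { irr := by
          intro W' hW'
          have hinv' : Inv ρ Q (W'.map Y.subtype) := by
            rintro g hg _ ⟨w, hw, rfl⟩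
            exact ⟨ρY ⟨g, hg⟩ w, hW' ⟨g, hg⟩ w hw, rfl⟩
          have hle' : W'.map Y.subtype ≤ Y := by
            rintro _ ⟨w, _, rfl⟩
            exact w.2
          rcases hYsimple _ hle' hinv' with h | h
          · left
            rw [eq_bot_iff]
            intro w hw
            have : (w : W) ∈ W'.map Y.subtype := ⟨w, hw, rfl⟩
            rw [h, Submodule.mem_bot] at this
            rw [Submodule.mem_bot]
            exact Subtype.ext this
          · right
            rw [eq_top_iff]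
            intro w _
            have : (w : W) ∈ W'.map Y.subtype := by rw [h]; exact w.2
            obtain ⟨w', hw', hww'⟩ := this
            have : w' = w := Subtype.ext hww'
            rw [← this]; exact hw'
        central := by
          intro z hz
          rw [Subgroup.mem_center_iff]
          intro g
          apply Subtype.ext
          exact (mem_zc.mp (Subgroup.mem_subgroupOf.mp hz)).2 g g.2
        comm := by
          intro g h
          rw [hZ', Subgroup.mem_subgroupOf]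
          exact hcommZ g g.2 h h.2
        nondeg := by
          intro g hg
          have hg' : (g : Γ) ∉ Zc := fun h => hg (Subgroup.mem_subgroupOf.mpr h)
          by_contra hcon
          push Not at hcon
          apply hg'
          refine mem_zc.mpr ⟨g.2, fun h hh => ?_⟩
          -- the commutator `[g, h]` acts trivially on `Y`, hence is scalar `1`, hence trivial
          obtain ⟨c, hc⟩ := hsc g g.2 h hh
          have h1 := hcon ⟨h, hh⟩
          obtain ⟨y, hy⟩ := exists_ne (0 : Y)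
          have h2 : (ρY (g * ⟨h, hh⟩ * g⁻¹ * (⟨h, hh⟩ : Q)⁻¹) y : W) = c • (y : W) := by
            rw [subRep_apply]
            show ρ ((g : Γ) * h * (g : Γ)⁻¹ * h⁻¹) (y : W) = c • (y : W)
            rw [hc]; rfl
          rw [h1] at h2
          have hc1 : c = 1 := by
            have h3 : (1 - c) • (y : W) = 0 := by
              rw [sub_smul, one_smul, ← h2]; simp
            rcases smul_eq_zero.mp h3 with h4 | h4
            · exact (sub_eq_zero.mp h4).symm
            · exact absurd (Subtype.ext h4) hy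
          rw [hc1, one_smul] at hc
          have h5 := hfaith _ (Q.mul_mem (Q.mul_mem (Q.mul_mem g.2 hh) (Q.inv_mem g.2)) (Q.inv_mem hh)) hc
          calc h * (g : Γ) = ((g : Γ) * h * (g : Γ)⁻¹ * h⁻¹)⁻¹ * ((g : Γ) * h) := by group
            _ = (g : Γ) * h := by rw [h5, inv_one, one_mul]
        card_ne := hQK }
    have hZtop : Z' ≠ ⊤ := by
      intro h
      apply hZne
      apply le_antisymm (zc_le Q)
      intro g hg
      have : (⟨g, hg⟩ : Q) ∈ Z' := by rw [h]; trivial
      exact Subgroup.mem_subgroupOf.mp this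
    set σ : MulAut Q := conjAut Q u₂ hu₂Q with hσ
    have hσN : σ ^ N₂ = 1 := by
      ext g
      rw [conjAut_pow_apply, hu₂N]
      simp
    have hu₂Z : u₂ ∈ normalizer (Zc : Set Γ) := pow_mem huZ d
    have hσZ : ∀ z, σ z ∈ Z' ↔ z ∈ Z' := by
      intro z
      rw [hZ', Subgroup.mem_subgroupOf, Subgroup.mem_subgroupOf, conjAut_apply]
      exact (mem_normalizer_iff.mp hu₂Z (z : Γ)).symm
    have hσρ : ∀ z ∈ Z', ρY (σ z) = ρY z := by
      intro z hz
      have hzZ : (z : Γ) ∈ Zc := Subgroup.mem_subgroupOf.mp hz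
      have hσzZ : ((σ z : Q) : Γ) ∈ Zc := Subgroup.mem_subgroupOf.mp ((hσZ z).mpr hz)
      have hμeq : μ ⟨((σ z : Q) : Γ), hσzZ⟩ = μ ⟨(z : Γ), hzZ⟩ := by
        -- `μ (u₂ z u₂⁻¹) = μ z` since `u₂` fixes `μ`
        have h2 : un ^ d • μ = μ := MulAction.pow_period_smul un μ
        have h3 : (un ^ d)⁻¹ • μ = μ := by
          conv_lhs => rw [← h2]
          rw [inv_smul_smul]
        have h4 : ((un ^ d)⁻¹ • μ) ⟨z, hzZ⟩ = μ ⟨z, hzZ⟩ := by rw [h3]
        rw [← h4]
        show μ _ = μ (conjInv Zc (un ^ d)⁻¹ ⟨z, hzZ⟩)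
        congr 1
        apply Subtype.ext
        rw [conjInv_coe]
        show u₂ * z * u₂⁻¹ = _
        have h5 : (((un ^ d)⁻¹ : ↥(normalizer (Zc : Set Γ))) : Γ) = u₂⁻¹ := by
          rw [Subgroup.coe_inv, hcoe]
        rw [h5, inv_inv]
      ext y
      rw [subRep_apply, subRep_apply, hscalar _ hσzZ _ (hYW y.2), hscalar _ hzZ _ (hYW y.2), hμeq]
    have hsemi' : ∀ j, 0 < j → j < N₂ → ∀ k, (σ ^ j) k * k⁻¹ ∈ Z' → k ∈ Z' := by
      intro j hj0 hjN k hk
      rw [hZ', Subgroup.mem_subgroupOf] at hk ⊢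
      rw [Subgroup.coe_mul, conjAut_pow_apply, Subgroup.coe_inv, hu₂, ← pow_mul] at hk
      refine hsemi (d * j) (Nat.mul_pos hper hj0) ?_ k k.2 hk
      rw [hN₂]
      exact Nat.mul_lt_mul_of_pos_left hjN hper
    -- the ambient module `Wμ`
    set ρM : Representation K Q Wμ := subRep ρ Q Wμ hWQ with hρM
    set X : Module.End K Wμ := (ρ u₂).restrict hWu with hX
    set X' : Module.End K Wμ := (ρ u₂⁻¹).restrict hWu' with hX'
    have hXX' : X * X' = 1 := by
      ext w
      simp only [hX, hX', Module.End.mul_apply, LinearMap.coe_restrict_apply, Module.End.one_apply]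
      rw [← Module.End.mul_apply, ← map_mul, mul_inv_cancel, map_one, Module.End.one_apply]
    have hX'X : X' * X = 1 := by
      ext w
      simp only [hX, hX', Module.End.mul_apply, LinearMap.coe_restrict_apply, Module.End.one_apply]
      rw [← Module.End.mul_apply, ← map_mul, inv_mul_cancel, map_one, Module.End.one_apply]
    have hXσ : ∀ g, X * ρM g = ρM (σ g) * X := by
      intro g
      ext w
      simp only [hX, Module.End.mul_apply, LinearMap.coe_restrict_apply, hρM, subRep_apply]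
      rw [conjAut_apply, ← Module.End.mul_apply, ← Module.End.mul_apply, ← map_mul, ← map_mul]
      congr 2
      group
    have hXpow : ∀ n : ℕ, ∀ w : Wμ, (((X ^ n) w : Wμ) : W) = ρ (u₂ ^ n) (w : W) := by
      intro n
      induction n with
      | zero => intro w; simp
      | succ n ih =>
        intro w
        rw [pow_succ', Module.End.mul_apply, pow_succ', map_mul, Module.End.mul_apply, ← ih]
        rfl
    have hXN : X ^ N₂ = 1 := by
      ext w
      rw [hXpow, hu₂N, map_one]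
      rfl
    set ι : Y →ₗ[K] Wμ := Submodule.inclusion hYW with hι
    have hι0 : ι ≠ 0 := by
      intro h0
      obtain ⟨y, hy⟩ := exists_ne (0 : Y)
      apply hy
      have := congrArg (fun f : Y →ₗ[K] Wμ => ((f y : Wμ) : W)) h0
      exact Subtype.ext this
    have hιeq : ∀ g, ρM g ∘ₗ ι = ι ∘ₗ ρY g := by
      intro g
      ext y
      rfl
    have hN₂K : (N₂ : K) ≠ 0 := by
      intro h0
      apply hNK
      rw [hN₂, Nat.cast_mul, h0, mul_zero]
    rcases fixed_or_eq' ρM H hZtop σ N₂ hN₂1 hN₂K hσN hσZ hσρ hsemi' X X' hXX' hX'X hXσ hXN ι hι0 hιeq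
      with h | h
    · left
      obtain ⟨w, hw0, hw⟩ := h
      have hw0' : (w : W) ≠ 0 := fun h0 => hw0 (Subtype.ext h0)
      refine orbit_sum ρ Zc hZab un μ (w : W) w.2 hw0' hper ?_
      show ρ ((un : Γ) ^ d) (w : W) = w
      have := congrArg Subtype.val hw
      exact this
    · right
      refine ⟨N₂, ⟨d, by rw [hN₂, mul_comm]⟩, hN₂1, ?_⟩
      rw [h, Nat.add_sub_cancel, H.finrank_sq]
      rfl

end Cfsg.Agent.Helper9.Shult
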