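import Mathlib
import Cfsg.Agent.Lead.GenCent
import Cfsg.Agent.Lead.GenCent2
import Cfsg.Agent.Lead.Coprime3
import Cfsg.Agent.Lead.CoprimeAbelian
import Cfsg.Agent.Helper26.Maschke
import Cfsg.Agent.Helper3.MaschkeExt
import Cfsg.Agent.Helper5.FrobModH

set_option autoImplicit false
set_option linter.style.haveILetI false
open Pointwise

/-! # Ward's theorem, part A: toolbox (normalizers, Maschke wrapper, minimal invariant subgroups). -/

namespace Cfsg.Agent.Helper9.Ward

open Subgroup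
open scoped commutatorElement

variable {X : Type*} [Group X]

/-! ### normalizer bookkeeping -/

theorem conj_mem_of_le_normalizer {B U : Subgroup X} (h : B ≤ normalizer (U : Set X)) {b : X}
    (hb : b ∈ B) {u : X} (hu : u ∈ U) : b * u * b⁻¹ ∈ U :=
  (mem_normalizer_iff.mp (h hb) u).mp hu

theorem conj_mem_of_le_normalizer' {B U : Subgroup X} (h : B ≤ normalizer (U : Set X)) {b : X}
    (hb : b ∈ B) {u : X} (hu : u ∈ U) : b⁻¹ * u * b ∈ U := by
  have := conj_mem_of_le_normalizer h (B.inv_mem hb) hu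
  rwa [inv_inv] at this

theorem le_normalizer_of_conj_mem {B U : Subgroup X}
    (h : ∀ b ∈ B, ∀ u ∈ U, b * u * b⁻¹ ∈ U) : B ≤ normalizer (U : Set X) := by
  intro b hb
  rw [mem_normalizer_iff]
  intro u
  refine ⟨h b hb u, fun hu => ?_⟩
  have h1 := h b⁻¹ (B.inv_mem hb) _ hu
  have e : b⁻¹ * (b * u * b⁻¹) * b⁻¹⁻¹ = u := by group
  rwa [e] at h1

theorem le_normalizer_centralizer {B S : Subgroup X} (h : B ≤ normalizer (S : Set X)) :
    B ≤ normalizer ((centralizer (S : Set X) : Subgroup X) : Set X) := by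
  apply le_normalizer_of_conj_mem
  intro b hb x hx
  rw [mem_centralizer_iff] at hx ⊢
  intro s hs
  have h1 := hx _ (conj_mem_of_le_normalizer' h hb hs)
  calc s * (b * x * b⁻¹) = b * (b⁻¹ * s * b * x) * b⁻¹ := by group
    _ = b * (x * (b⁻¹ * s * b)) * b⁻¹ := by rw [h1]
    _ = b * x * b⁻¹ * s := by group

theorem le_normalizer_inf {B U W : Subgroup X} (hU : B ≤ normalizer (U : Set X))
    (hW : B ≤ normalizer (W : Set X)) : B ≤ normalizer ((U ⊓ W : Subgroup X) : Set X) := by
  apply le_normalizer_of_conj_mem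
  intro b hb x hx
  exact ⟨conj_mem_of_le_normalizer hU hb hx.1, conj_mem_of_le_normalizer hW hb hx.2⟩

theorem le_normalizer_closure {B : Subgroup X} {S : Set X}
    (h : ∀ b ∈ B, ∀ s ∈ S, b * s * b⁻¹ ∈ S) : B ≤ normalizer ((closure S : Subgroup X) : Set X) := by
  apply le_normalizer_of_conj_mem
  intro b hb x hx
  have : closure S ≤ (closure S).comap (MulAut.conj b).toMonoidHom := by
    rw [closure_le]
    intro s hs
    exact subset_closure (h b hb s hs)
  exact this hx

theorem le_normalizer_sup {B U W : Subgroup X} (hU : B ≤ normalizer (U : Set X))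
    (hW : B ≤ normalizer (W : Set X)) : B ≤ normalizer ((U ⊔ W : Subgroup X) : Set X) := by
  intro b hb
  exact normalizer_inf_normalizer_le_normalizer_sup U W ⟨hU hb, hW hb⟩

theorem le_normalizer_commutator {B U W : Subgroup X} (hU : B ≤ normalizer (U : Set X))
    (hW : B ≤ normalizer (W : Set X)) : B ≤ normalizer ((⁅U, W⁆ : Subgroup X) : Set X) := by
  rw [Subgroup.commutator_def]
  apply le_normalizer_closure
  rintro b hb _ ⟨u, hu, w, hw, rfl⟩
  refine ⟨b * u * b⁻¹, conj_mem_of_le_normalizer hU hb hu, b * w * b⁻¹,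
    conj_mem_of_le_normalizer hW hb hw, ?_⟩
  simp only [commutatorElement_def]
  group

/-- A subgroup commuting elementwise with `c` normalizes `C(c)`. -/
theorem le_normalizer_centralizer_singleton {B : Subgroup X} {c : X}
    (h : ∀ b ∈ B, b * c = c * b) :
    B ≤ normalizer ((centralizer ({c} : Set X) : Subgroup X) : Set X) := by
  apply le_normalizer_of_conj_mem
  intro b hb x hx
  rw [mem_centralizer_iff] at hx ⊢
  intro s hs
  rw [Set.mem_singleton_iff] at hs
  subst hs
  have h1 := hx s rfl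
  have h2 := h b hb
  have h3 : b⁻¹ * s * b = s := by rw [mul_assoc, ← h2, ← mul_assoc, inv_mul_cancel, one_mul]
  calc s * (b * x * b⁻¹) = b * ((b⁻¹ * s * b) * x) * b⁻¹ := by group
    _ = b * (x * (b⁻¹ * s * b)) * b⁻¹ := by rw [h3, h1]
    _ = b * x * b⁻¹ * s := by group

theorem le_normalizer_zpowers {B : Subgroup X} {c : X} (h : ∀ b ∈ B, b * c = c * b) :
    B ≤ normalizer ((zpowers c : Subgroup X) : Set X) := by
  apply le_normalizer_of_conj_mem
  intro b hb x hx
  obtain ⟨k, rfl⟩ := mem_zpowers_iff.mp hx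
  have h2 := h b hb
  have h3 : b * c * b⁻¹ = c := by rw [h2, mul_assoc, mul_inv_cancel, mul_one]
  rw [← conj_zpow, h3]
  exact zpow_mem_zpowers c k


/-! ### commutative subgroups -/

open scoped IsMulCommutative

theorem isMulCommutative_of_le {U V : Subgroup X} (h : U ≤ V) [IsMulCommutative V] :
    IsMulCommutative U :=
  ⟨⟨fun a b => Subtype.ext (by
    have := mul_comm' (⟨a, h a.2⟩ : V) ⟨b, h b.2⟩
    exact congrArg (fun z : V => (z : X)) this)⟩⟩

theorem comm_of_mem (V : Subgroup X) [IsMulCommutative V] {a b : X} (ha : a ∈ V)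
    (hb : b ∈ V) : a * b = b * a :=
  congrArg Subtype.val (mul_comm' (⟨a, ha⟩ : V) ⟨b, hb⟩)

theorem le_centralizer_of_isMulCommutative (V : Subgroup X) [IsMulCommutative V] :
    V ≤ centralizer (V : Set X) := by
  intro a ha
  rw [mem_centralizer_iff]
  intro b hb
  exact comm_of_mem V hb ha

/-- subgroups of an abelian group are normalized by it. -/
theorem le_normalizer_of_le_comm {U V : Subgroup X} [IsMulCommutative V] (h : U ≤ V) :
    V ≤ normalizer (U : Set X) := by
  apply le_normalizer_of_conj_mem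
  intro b hb u hu
  have : b * u * b⁻¹ = u := by
    rw [comm_of_mem V hb (h hu), mul_assoc, mul_inv_cancel, mul_one]
  rw [this]; exact hu

theorem isPGroup_of_exp {t : ℕ} (V : Subgroup X) (hexp : ∀ v ∈ V, v ^ t = 1) : IsPGroup t V :=
  fun v => ⟨1, by rw [pow_one]; exact Subtype.ext (by simpa using hexp v v.2)⟩

/-! ### Maschke wrapper -/

theorem maschke' [Finite X] {t : ℕ} (ht : t.Prime) (V B U : Subgroup X) [IsMulCommutative V]
    (hexp : ∀ v ∈ V, v ^ t = 1) (hBV : B ≤ normalizer (V : Set X))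
    (hcop : (Nat.card B).Coprime t) (hUV : U ≤ V) (hBU : B ≤ normalizer (U : Set X)) :
    ∃ W : Subgroup X, W ≤ V ∧ B ≤ normalizer (W : Set X) ∧ U ⊓ W = ⊥ ∧ U ⊔ W = V := by
  haveI : Fact t.Prime := ⟨ht⟩
  obtain ⟨W₀, h1, h2⟩ := Cfsg.Agent.Helper3.exists_compl_of_exponent (V := V) t
    (fun v => Subtype.ext (by simpa using hexp v v.2)) (U.subgroupOf V)
  have hcopV : (Nat.card B).Coprime (Nat.card V) := by
    obtain ⟨n, hn⟩ := (isPGroup_of_exp V hexp).exists_card_eq
    rw [hn]; exact hcop.pow_right n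
  have hU : U = (U.subgroupOf V).map V.subtype := by
    rw [Subgroup.map_subgroupOf_eq_of_le hUV]
  refine Cfsg.Agent.Helper26.maschke_abelian V B U (W₀.map V.subtype) hBV hcopV hUV hBU
    (map_subtype_le W₀) ?_ ?_
  · rw [hU, ← Subgroup.map_inf _ _ V.subtype V.subtype_injective, h1, Subgroup.map_bot]
  · rw [hU, ← Subgroup.map_sup, h2, ← MonoidHom.range_eq_map, Subgroup.range_subtype]

/-! ### Frobenius fixed points -/

/-- copy of `Helper10.BG13Q.fix_ne_bot` with a light import closure. -/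
theorem fix_ne_bot' [Finite X] {N T0 R : Subgroup X} (hNsolv : Group.IsSolvable ↥N)
    (hTn : R ≤ normalizer (T0 : Set X))
    (hfpf : ∀ e ∈ R, e ≠ 1 → ∀ u ∈ T0, e * u = u * e → u = 1)
    (hN : T0 ⊔ R ≤ normalizer (N : Set X))
    (hcop : (Nat.card N).Coprime (Nat.card ↥(T0 ⊔ R)))
    (hT0N : ¬ N ≤ centralizer (T0 : Set X)) : N ⊓ centralizer (R : Set X) ≠ ⊥ := by
  intro hbot
  have hUn : ∀ e ∈ R, ∀ u ∈ T0, e * u * e⁻¹ ∈ T0 := by
    intro e he u hu
    exact (Subgroup.mem_normalizer_iff.mp (hTn he) u).mp hu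
  have hinv : ∀ x ∈ T0 ⊔ R, ∀ h ∈ N, x * h * x⁻¹ ∈ N := by
    intro x hx h hh
    exact (Subgroup.mem_normalizer_iff.mp (hN hx) h).mp hh
  have hform := Cfsg.Agent.Helper5.FrobMod.frobenius_fixed_point_formula T0 R hUn hfpf N hinv
    hNsolv hcop
  have h1 : N ⊓ centralizer ((T0 ⊔ R : Subgroup X) : Set X) = ⊥ := by
    apply le_antisymm _ bot_le
    rw [← hbot]
    apply inf_le_inf_left
    apply Subgroup.centralizer_le
    exact_mod_cast (le_sup_right : R ≤ T0 ⊔ R)
  simp only [h1, hbot, Subgroup.card_bot, one_pow, one_mul] at hform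
  have h2 : N ⊓ centralizer (T0 : Set X) = N :=
    Subgroup.eq_of_le_of_card_ge inf_le_left hform.le
  exact hT0N (h2 ▸ inf_le_right)

/-! ### cardinality of a product -/

theorem card_sup_dvd_mul [Finite X] {H N : Subgroup X} (h : H ≤ normalizer (N : Set X)) :
    Nat.card ↥(H ⊔ N) ∣ Nat.card H * Nat.card N := by
  set L : Subgroup X := H ⊔ N with hL
  have hHL : H ≤ L := le_sup_left
  have hNL : N ≤ L := le_sup_right
  haveI : (N.subgroupOf L).Normal := by
    apply Subgroup.normal_subgroupOf_of_le_normalizer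
    exact sup_le h le_normalizer
  let f : H →* (L ⧸ N.subgroupOf L) := (QuotientGroup.mk' (N.subgroupOf L)).comp (inclusion hHL)
  have hf : Function.Surjective f := by
    intro y
    obtain ⟨x, rfl⟩ := QuotientGroup.mk'_surjective _ y
    have hx : (x : X) ∈ ((H ⊔ N : Subgroup X) : Set X) := x.2
    rw [coe_mul_of_left_le_normalizer_right H N h] at hx
    obtain ⟨a, ha, b, hb, hab⟩ := Set.mem_mul.mp hx
    refine ⟨⟨a, ha⟩, ?_⟩
    change QuotientGroup.mk' _ (inclusion hHL ⟨a, ha⟩) = QuotientGroup.mk' _ x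
    rw [QuotientGroup.mk'_eq_mk']
    refine ⟨⟨b, hNL hb⟩, mem_subgroupOf.mpr hb, ?_⟩
    apply Subtype.ext
    simpa using hab
  have h1 : Nat.card (L ⧸ N.subgroupOf L) ∣ Nat.card H := card_dvd_of_surjective f hf
  have h2 : Nat.card (N.subgroupOf L) * Nat.card (L ⧸ N.subgroupOf L) = Nat.card L := by
    rw [← Subgroup.index_eq_card, Subgroup.card_mul_index]
  have h3 : Nat.card (N.subgroupOf L) = Nat.card N :=
    Nat.card_congr (subgroupOfEquivOfLe hNL).toEquiv
  rw [← h2, h3, mul_comm]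
  exact Nat.mul_dvd_mul h1 dvd_rfl

/-! ### minimal invariant subgroups -/

/-- `M` is a minimal nontrivial `B`-invariant subgroup. -/
def MinInv (B M : Subgroup X) : Prop :=
  M ≠ ⊥ ∧ B ≤ normalizer (M : Set X) ∧
    ∀ M' : Subgroup X, M' ≤ M → B ≤ normalizer (M' : Set X) → M' = ⊥ ∨ M' = M

theorem exists_minInv [Finite X] {B U : Subgroup X} (hU : U ≠ ⊥)
    (hBU : B ≤ normalizer (U : Set X)) : ∃ M : Subgroup X, M ≤ U ∧ MinInv B M := by
  obtain ⟨M, hMU, hM⟩ := Finite.exists_le_minimal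
    (p := fun M : Subgroup X => M ≠ ⊥ ∧ B ≤ normalizer (M : Set X)) (a := U) ⟨hU, hBU⟩
  refine ⟨M, hMU, hM.prop.1, hM.prop.2, fun M' hM' hB => ?_⟩
  by_cases h : M' = ⊥
  · exact Or.inl h
  · exact Or.inr (le_antisymm hM' (hM.le_of_le ⟨h, hB⟩ hM'))


/-! ### conjugates of subgroups -/

theorem mem_conj_smul {g x : X} {H : Subgroup X} :
    x ∈ MulAut.conj g • H ↔ g⁻¹ * x * g ∈ H := by
  rw [Subgroup.mem_pointwise_smul_iff_inv_smul_mem]
  simp [MulAut.smul_def]

theorem le_normalizer_conj_smul {B U : Subgroup X} {g : X} (hg : g ∈ normalizer (B : Set X))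
    (h : B ≤ normalizer (U : Set X)) : B ≤ normalizer ((MulAut.conj g • U : Subgroup X) : Set X) := by
  apply le_normalizer_of_conj_mem
  intro b hb x hx
  rw [mem_conj_smul] at hx ⊢
  have hb' : g⁻¹ * b * g ∈ B := by
    have := (mem_normalizer_iff.mp (inv_mem hg) b).mp hb
    rwa [inv_inv] at this
  have := conj_mem_of_le_normalizer h hb' hx
  have e : g⁻¹ * (b * x * b⁻¹) * g = g⁻¹ * b * g * (g⁻¹ * x * g) * (g⁻¹ * b * g)⁻¹ := by group
  rw [e]; exact this

theorem conj_smul_le_of_mem_normalizer {U : Subgroup X} {g : X} (hg : g ∈ normalizer (U : Set X)) :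
    MulAut.conj g • U = U := by
  ext x
  rw [mem_conj_smul]
  have := (mem_normalizer_iff.mp (inv_mem hg) x)
  rw [inv_inv] at this
  exact this.symm

theorem MinInv.conj {B M : Subgroup X} (h : MinInv B M) {g : X}
    (hg : g ∈ normalizer (B : Set X)) : MinInv B (MulAut.conj g • M) := by
  obtain ⟨h1, h2, h3⟩ := h
  refine ⟨?_, le_normalizer_conj_smul hg h2, ?_⟩
  · intro h0
    apply h1
    rw [eq_bot_iff]
    intro x hx
    have : g * x * g⁻¹ ∈ MulAut.conj g • M := by
      rw [mem_conj_smul]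
      have e : g⁻¹ * (g * x * g⁻¹) * g = x := by group
      rw [e]; exact hx
    rw [h0, mem_bot] at this
    rw [mem_bot]
    have e : x = g⁻¹ * (g * x * g⁻¹) * g := by group
    rw [e, this]; group
  · intro M' hM' hB
    have hg' : g⁻¹ ∈ normalizer (B : Set X) := inv_mem hg
    have hle : MulAut.conj g⁻¹ • M' ≤ M := by
      intro x hx
      rw [mem_conj_smul, inv_inv] at hx
      have := hM' hx
      rw [mem_conj_smul] at this
      have e : g⁻¹ * (g * x * g⁻¹) * g = x := by group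
      rwa [e] at this
    rcases h3 _ hle (le_normalizer_conj_smul hg' hB) with h4 | h4
    · left
      rw [eq_bot_iff]
      intro x hx
      have : g⁻¹ * x * g ∈ MulAut.conj g⁻¹ • M' := by
        rw [mem_conj_smul, inv_inv]
        have e : g * (g⁻¹ * x * g) * g⁻¹ = x := by group
        rw [e]; exact hx
      rw [h4, mem_bot] at this
      rw [mem_bot]
      have e : x = g * (g⁻¹ * x * g) * g⁻¹ := by group
      rw [e, this]; group
    · right
      apply le_antisymm hM'
      intro x hx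
      rw [mem_conj_smul] at hx
      rw [← h4, mem_conj_smul, inv_inv] at hx
      have e : g * (g⁻¹ * x * g) * g⁻¹ = x := by group
      rwa [e] at hx

/-! ### centralizers of cyclic groups -/

theorem centralizer_zpowers' (c : X) :
    centralizer ((zpowers c : Subgroup X) : Set X) = centralizer ({c} : Set X) := by
  apply le_antisymm
  · apply centralizer_le
    intro x hx
    rw [Set.mem_singleton_iff] at hx
    rw [hx]; exact mem_zpowers c
  · intro x hx
    rw [mem_centralizer_iff] at hx ⊢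
    intro y hy
    obtain ⟨k, rfl⟩ := mem_zpowers_iff.mp hy
    have h1 : Commute c x := hx c rfl
    exact (h1.zpow_left k)

theorem centralizer_singleton_eq_of_zpowers_eq {c c' : X} (h : zpowers c' = zpowers c) :
    centralizer ({c'} : Set X) = centralizer ({c} : Set X) := by
  rw [← centralizer_zpowers', ← centralizer_zpowers', h]

/-! ### elementary abelian groups of order `p²` -/

/-- `A` is elementary abelian of order `p²`. -/
structure ElemSq (p : ℕ) (A : Subgroup X) : Prop where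
  hp : p.Prime
  comm : IsMulCommutative A
  exp : ∀ a ∈ A, a ^ p = 1
  card : Nat.card A = p ^ 2

namespace ElemSq

variable {p : ℕ} {A : Subgroup X}

theorem finite (h : ElemSq p A) : Finite A := by
  apply Nat.finite_of_card_ne_zero
  rw [h.card]
  exact pow_ne_zero _ h.hp.ne_zero

theorem orderOf_eq (h : ElemSq p A) {c : X} (hc : c ∈ A) (hc1 : c ≠ 1) : orderOf c = p := by
  haveI : Fact p.Prime := ⟨h.hp⟩
  exact orderOf_eq_prime (h.exp c hc) hc1

theorem card_zpowers (h : ElemSq p A) {c : X} (hc : c ∈ A) (hc1 : c ≠ 1) :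
    Nat.card (zpowers c) = p := by
  rw [Nat.card_zpowers, h.orderOf_eq hc hc1]

theorem zpowers_le_self (_h : ElemSq p A) {c : X} (hc : c ∈ A) : zpowers c ≤ A :=
  (Subgroup.zpowers_le).mpr hc

theorem zpowers_eq_of_mem (h : ElemSq p A) {c c' : X} (hc : c ∈ A) (hc1 : c ≠ 1)
    (hc' : c' ∈ zpowers c) (hc'1 : c' ≠ 1) : zpowers c' = zpowers c := by
  have := h.finite
  have hle : zpowers c' ≤ zpowers c := (Subgroup.zpowers_le).mpr hc'
  have hfin : Finite (zpowers c) := Finite.of_injective (inclusion (h.zpowers_le_self hc))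
    (inclusion_injective _)
  apply Subgroup.eq_of_le_of_card_ge hle
  rw [h.card_zpowers hc hc1, h.card_zpowers (h.zpowers_le_self hc hc') hc'1]

theorem sup_zpowers (h : ElemSq p A) {c c' : X} (hc : c ∈ A) (hc1 : c ≠ 1) (hc' : c' ∈ A)
    (hn : c' ∉ zpowers c) : zpowers c ⊔ zpowers c' = A := by
  have := h.finite
  set B := zpowers c ⊔ zpowers c' with hB
  have hBA : B ≤ A := sup_le (h.zpowers_le_self hc) (h.zpowers_le_self hc')
  have hfinB : Finite B := Finite.of_injective (inclusion hBA) (inclusion_injective _)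
  have hdvd : Nat.card B ∣ p ^ 2 := h.card ▸ Subgroup.card_dvd_of_le hBA
  obtain ⟨i, hi, hBi⟩ := (Nat.dvd_prime_pow h.hp).mp hdvd
  have hlt : p < Nat.card B := by
    by_contra hle
    push Not at hle
    have : zpowers c = B := by
      apply Subgroup.eq_of_le_of_card_ge le_sup_left
      rw [h.card_zpowers hc hc1]; exact hle
    apply hn
    rw [this]
    exact (le_sup_right : zpowers c' ≤ B) (mem_zpowers c')
  have hi2 : i = 2 := by
    rw [hBi] at hlt
    interval_cases i
    · simp at hlt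
      exact absurd hlt (by have := h.hp.one_lt; omega)
    · simp at hlt
    · rfl
  apply Subgroup.eq_of_le_of_card_ge hBA
  rw [hBi, hi2, h.card]

theorem centralizer_inf_le (h : ElemSq p A) {c c' : X} (hc : c ∈ A) (hc1 : c ≠ 1) (hc' : c' ∈ A)
    (hn : c' ∉ zpowers c) :
    centralizer ({c} : Set X) ⊓ centralizer ({c'} : Set X) ≤ centralizer (A : Set X) := by
  intro x hx
  have h1 : zpowers c ≤ centralizer ({x} : Set X) := by
    rw [Subgroup.zpowers_le, mem_centralizer_iff]
    intro y hy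
    rw [Set.mem_singleton_iff] at hy
    subst hy
    exact ((mem_centralizer_iff.mp hx.1) c rfl).symm
  have h2 : zpowers c' ≤ centralizer ({x} : Set X) := by
    rw [Subgroup.zpowers_le, mem_centralizer_iff]
    intro y hy
    rw [Set.mem_singleton_iff] at hy
    subst hy
    exact ((mem_centralizer_iff.mp hx.2) c' rfl).symm
  have h3 : A ≤ centralizer ({x} : Set X) := by
    rw [← h.sup_zpowers hc hc1 hc' hn]; exact sup_le h1 h2
  rw [mem_centralizer_iff]
  intro a ha
  exact ((mem_centralizer_iff.mp (h3 ha)) x rfl).symm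

theorem not_mem_symm (h : ElemSq p A) {c c' : X} (hc : c ∈ A) (hc1 : c ≠ 1) (hc' : c' ∈ A)
    (hc'1 : c' ≠ 1) (hn : c' ∉ zpowers c) : c ∉ zpowers c' := by
  intro hmem
  apply hn
  rw [h.zpowers_eq_of_mem hc' hc'1 hmem hc1]
  exact mem_zpowers c'

theorem not_isCyclic (h : ElemSq p A) : ¬ IsCyclic A := by
  intro hcyc
  have := h.finite
  obtain ⟨g, hg⟩ := hcyc.exists_generator
  have h1 : orderOf g = Nat.card A := orderOf_eq_card_of_forall_mem_zpowers hg
  have h2 : g ^ p = 1 := Subtype.ext (by simpa using h.exp g g.2)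
  have h3 : orderOf g ∣ p := orderOf_dvd_of_pow_eq_one h2
  rw [h1, h.card] at h3
  have h4 : p ^ 2 ≤ p := Nat.le_of_dvd h.hp.pos h3
  have h5 : 1 < p := h.hp.one_lt
  nlinarith

theorem exists_not_mem_zpowers (h : ElemSq p A) (c : X) : ∃ c' ∈ A, c' ∉ zpowers c := by
  by_contra hcon
  push Not at hcon
  apply h.not_isCyclic
  have hle : A ≤ zpowers c := hcon
  have h1 : IsCyclic (A.subgroupOf (zpowers c)) := inferInstance
  exact isCyclic_of_surjective (subgroupOfEquivOfLe hle) (subgroupOfEquivOfLe hle).surjective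

end ElemSq


/-! ### the kernel of the action on a section -/

theorem mem_normalizer_of_conj_mem [Finite X] {N : Subgroup X} {g : X}
    (h : ∀ n ∈ N, g * n * g⁻¹ ∈ N) : g ∈ normalizer (N : Set X) := by
  rw [mem_normalizer_iff]
  intro n
  refine ⟨h n, fun hn => ?_⟩
  let f : N → N := fun n => ⟨g * n * g⁻¹, h n n.2⟩
  have hf : Function.Injective f := by
    intro a b hab
    have := congrArg Subtype.val hab
    simp only [f] at this
    exact Subtype.ext (mul_left_cancel (mul_right_cancel this))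
  obtain ⟨m, hm⟩ := (Finite.injective_iff_surjective.mp hf) ⟨_, hn⟩
  have h1 : g * m * g⁻¹ = g * n * g⁻¹ := congrArg Subtype.val hm
  have h2 : (m : X) = n := mul_left_cancel (mul_right_cancel h1)
  rw [← h2]; exact m.2

/-- elements normalizing `R` and acting trivially on `Q` modulo `R`. -/
def actKer (Q R : Subgroup X) : Subgroup X where
  carrier := {g | g ∈ normalizer (R : Set X) ∧ ∀ x ∈ Q, ⁅x, g⁆ ∈ R}
  one_mem' := by
    refine ⟨one_mem _, fun x _ => ?_⟩
    rw [commutatorElement_one_right]; exact R.one_mem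
  mul_mem' := by
    rintro g₁ g₂ ⟨h1, h1'⟩ ⟨h2, h2'⟩
    refine ⟨mul_mem h1 h2, fun x hx => ?_⟩
    have e : ⁅x, g₁ * g₂⁆ = ⁅x, g₁⁆ * (g₁ * ⁅x, g₂⁆ * g₁⁻¹) := by
      simp only [commutatorElement_def]; group
    rw [e]
    exact R.mul_mem (h1' x hx) ((mem_normalizer_iff.mp h1 _).mp (h2' x hx))
  inv_mem' := by
    rintro g ⟨h1, h1'⟩
    refine ⟨inv_mem h1, fun x hx => ?_⟩
    have e : ⁅x, g⁻¹⁆ = g⁻¹ * ⁅x, g⁆⁻¹ * g⁻¹⁻¹ := by
      simp only [commutatorElement_def]; group
    rw [e]
    exact (mem_normalizer_iff.mp (inv_mem h1) _).mp (R.inv_mem (h1' x hx))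

theorem mem_actKer {Q R : Subgroup X} {g : X} :
    g ∈ actKer Q R ↔ g ∈ normalizer (R : Set X) ∧ ∀ x ∈ Q, ⁅x, g⁆ ∈ R := Iff.rfl

theorem mem_actKer_of [Finite X] {Z N : Subgroup X} {g : X} (hNZ : N ≤ Z)
    (h : ∀ x ∈ Z, ⁅x, g⁆ ∈ N) : g ∈ actKer Z N := by
  refine ⟨mem_normalizer_of_conj_mem fun n hn => ?_, h⟩
  have e : g * n * g⁻¹ = ⁅n, g⁆⁻¹ * n := by
    simp only [commutatorElement_def]; group
  rw [e]
  exact N.mul_mem (N.inv_mem (h n (hNZ hn))) hn

theorem actKer_conj' [Finite X] {Q R : Subgroup X} {y g : X} (hyQ : y ∈ normalizer (Q : Set X))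
    (hg : g ∈ actKer Q (MulAut.conj y⁻¹ • R)) : y * g * y⁻¹ ∈ actKer Q R := by
  obtain ⟨h1, h2⟩ := hg
  refine ⟨mem_normalizer_of_conj_mem fun r hr => ?_, fun x hx => ?_⟩
  · have h3 : y⁻¹ * r * y ∈ MulAut.conj y⁻¹ • R := by
      rw [mem_conj_smul, inv_inv]
      have e : y * (y⁻¹ * r * y) * y⁻¹ = r := by group
      rw [e]; exact hr
    have h4 := (mem_normalizer_iff.mp h1 _).mp h3
    rw [mem_conj_smul, inv_inv] at h4
    have e : y * g * y⁻¹ * r * (y * g * y⁻¹)⁻¹ = y * (g * (y⁻¹ * r * y) * g⁻¹) * y⁻¹ := by group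
    rw [e]; exact h4
  · have hx' : y⁻¹ * x * y ∈ Q := by
      have := (mem_normalizer_iff.mp (inv_mem hyQ) x).mp hx
      rwa [inv_inv] at this
    have h3 := h2 _ hx'
    rw [mem_conj_smul, inv_inv] at h3
    have e : ⁅x, y * g * y⁻¹⁆ = y * ⁅y⁻¹ * x * y, g⁆ * y⁻¹ := by
      simp only [commutatorElement_def]; group
    rw [e]; exact h3

theorem actKer_conj [Finite X] {Q R : Subgroup X} {y g : X} (hyQ : y ∈ normalizer (Q : Set X))
    (hyR : y ∈ normalizer (R : Set X)) (hg : g ∈ actKer Q R) : y * g * y⁻¹ ∈ actKer Q R := by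
  apply actKer_conj' hyQ
  rw [conj_smul_le_of_mem_normalizer (inv_mem hyR)]
  exact hg

theorem commutator_le_of_le_actKer {Q R Y : Subgroup X} (h : Y ≤ actKer Q R) : ⁅Q, Y⁆ ≤ R := by
  rw [commutator_le]
  intro x hx y hy
  exact (h hy).2 x hx

theorem le_actKer_of_commutator_le {Q R C : Subgroup X} (hCR : C ≤ normalizer (R : Set X))
    (h : ⁅Q, C⁆ ≤ R) : C ≤ actKer Q R := by
  intro g hg
  exact ⟨hCR hg, fun x hx => h (commutator_mem_commutator hx hg)⟩

/-- three-subgroup style lemma: if `C` acts trivially on `Q/R` then so does `⁅Y, C⁆`. -/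
theorem commutator_commutator_le [Finite X] {Q R Y C : Subgroup X}
    (hCR : C ≤ normalizer (R : Set X)) (hYQ : Y ≤ normalizer (Q : Set X))
    (hYR : Y ≤ normalizer (R : Set X)) (h : ⁅Q, C⁆ ≤ R) : ⁅Q, ⁅Y, C⁆⁆ ≤ R := by
  apply commutator_le_of_le_actKer
  rw [commutator_le]
  intro y hy e he
  have h1 : e ∈ actKer Q R := le_actKer_of_commutator_le hCR h he
  have h2 : y * e * y⁻¹ ∈ actKer Q R := actKer_conj (hYQ hy) (hYR hy) h1
  have e' : ⁅y, e⁆ = y * e * y⁻¹ * e⁻¹ := by simp only [commutatorElement_def]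
  rw [e']
  exact mul_mem h2 (inv_mem h1)

end Cfsg.Agent.Helper9.Ward
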