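import Mathlib
import Cfsg.Agent.Helper9.WardA
import Cfsg.Agent.Helper9.ShultA
import Cfsg.Agent.Helper9.ShultC
import Cfsg.Agent.Helper5.HHModG
import Cfsg.Agent.Helper5.HHModI
import Cfsg.Agent.Helper5.HHTk
import Cfsg.Agent.Lead.Coprime2
import Cfsg.Agent.Lead.Fpf4a

/-!
# Shult–Gross, part E: the minimal configuration `Q ⟨s⟩`

`s` of order `p ^ n` acts fixed-point-freely on the `q`-group `Q`, `t = s ^ (p ^ (n-1))` does not
centralise `Q` but centralises every proper `s`-invariant subgroup of `Q`.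
-/

set_option autoImplicit false
set_option linter.style.haveILetI false
set_option linter.unusedSectionVars false

namespace Cfsg.Agent.Helper9.Shult

open Subgroup Cfsg.Agent.Helper9.Ward Cfsg.Agent.Helper5.HHMod Cfsg.Agent.Helper5.HHT
open Cfsg.Agent.Lead

variable {Γ : Type*} [Group Γ]

/-- the minimal configuration -/
structure MinCfg (p q n : ℕ) (Q : Subgroup Γ) (s : Γ) : Prop where
  hp : p.Prime
  hq : q.Prime
  hqp : q ≠ p
  hn : 0 < n
  hQ : IsPGroup q Q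
  hsQ : s ∈ normalizer (Q : Set Γ)
  hs : s ^ (p ^ n) = 1
  hfpf : ∀ g ∈ Q, s * g * s⁻¹ = g → g = 1
  hnt : ∃ g ∈ Q, s ^ (p ^ (n - 1)) * g * (s ^ (p ^ (n - 1)))⁻¹ ≠ g
  hmin : ∀ H : Subgroup Γ, H ≤ Q → s ∈ normalizer (H : Set Γ) → H ≠ Q →
    ∀ g ∈ H, s ^ (p ^ (n - 1)) * g * (s ^ (p ^ (n - 1)))⁻¹ = g

theorem exists_minCfg [Finite Γ] {p q n : ℕ} (hp : p.Prime) (hq : q.Prime) (hqp : q ≠ p) (hn : 0 < n)
    (Q : Subgroup Γ) (hQ : IsPGroup q Q) (s : Γ) (hsQ : s ∈ normalizer (Q : Set Γ))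
    (hs : s ^ (p ^ n) = 1) (hfpf : ∀ g ∈ Q, s * g * s⁻¹ = g → g = 1)
    (hnt : ∃ g ∈ Q, s ^ (p ^ (n - 1)) * g * (s ^ (p ^ (n - 1)))⁻¹ ≠ g) :
    ∃ Q₁ : Subgroup Γ, Q₁ ≤ Q ∧ MinCfg p q n Q₁ s := by
  obtain ⟨Q₁, hQ₁Q, hmin⟩ := Finite.exists_le_minimal
    (p := fun H : Subgroup Γ => H ≤ Q ∧ s ∈ normalizer (H : Set Γ) ∧
      ∃ g ∈ H, s ^ (p ^ (n - 1)) * g * (s ^ (p ^ (n - 1)))⁻¹ ≠ g) (a := Q) ⟨le_rfl, hsQ, hnt⟩
  obtain ⟨-, hs₁, hnt₁⟩ := hmin.prop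
  refine ⟨Q₁, hQ₁Q, ⟨hp, hq, hqp, hn, hQ.to_le hQ₁Q, hs₁, hs, fun g hg => hfpf g (hQ₁Q hg), hnt₁, ?_⟩⟩
  intro H hH hsH hne g hg
  by_contra hcon
  exact hne (le_antisymm hH (hmin.le_of_le ⟨hH.trans hQ₁Q, hsH, g, hg, hcon⟩ hH))

namespace MinCfg

variable {p q n : ℕ} {Q : Subgroup Γ} {s : Γ}

/-- `C_Q(t)` -/
def zt (p n : ℕ) (Q : Subgroup Γ) (s : Γ) : Subgroup Γ :=
  Q ⊓ centralizer ({s ^ (p ^ (n - 1))} : Set Γ)

theorem mem_zt {g : Γ} : g ∈ zt p n Q s ↔ g ∈ Q ∧ s ^ (p ^ (n - 1)) * g = g * s ^ (p ^ (n - 1)) := by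
  unfold zt
  rw [mem_inf, mem_centralizer_iff]
  simp

theorem zt_le : zt p n Q s ≤ Q := inf_le_left

theorem t_pow (C : MinCfg p q n Q s) : (s ^ (p ^ (n - 1))) ^ p = 1 := by
  rw [← pow_mul, ← pow_succ, Nat.sub_add_cancel C.hn, C.hs]

theorem t_ne_one (C : MinCfg p q n Q s) : s ^ (p ^ (n - 1)) ≠ 1 := by
  intro h
  obtain ⟨g, _, hg⟩ := C.hnt
  apply hg
  rw [h]
  simp

theorem orderOf_s (C : MinCfg p q n Q s) : orderOf s = p ^ n := by
  haveI : Fact p.Prime := ⟨C.hp⟩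
  have h := orderOf_eq_prime_pow (x := s) (p := p) (n := n - 1) C.t_ne_one
    (by rw [Nat.sub_add_cancel C.hn]; exact C.hs)
  rwa [Nat.sub_add_cancel C.hn] at h

theorem orderOf_t (C : MinCfg p q n Q s) : orderOf (s ^ (p ^ (n - 1))) = p := by
  haveI : Fact p.Prime := ⟨C.hp⟩
  exact orderOf_eq_prime C.t_pow C.t_ne_one

theorem pow_mem_normalizer (C : MinCfg p q n Q s) (j : ℕ) : s ^ j ∈ normalizer (Q : Set Γ) :=
  pow_mem C.hsQ j

theorem zt_ne (C : MinCfg p q n Q s) : zt p n Q s ≠ Q := by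
  intro h
  obtain ⟨g, hg, hne⟩ := C.hnt
  apply hne
  rw [← h] at hg
  rw [(mem_zt.mp hg).2, mul_inv_cancel_right]

theorem s_mem_normalizer_zt (C : MinCfg p q n Q s) : s ∈ normalizer (zt p n Q s : Set Γ) := by
  have h1 : zpowers s ≤ normalizer (Q : Set Γ) := by
    rw [zpowers_le]; exact C.hsQ
  have h2 : zpowers s ≤ normalizer ((centralizer ({s ^ (p ^ (n - 1))} : Set Γ) : Subgroup Γ) : Set Γ) := by
    apply le_normalizer_centralizer_singleton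
    intro b hb
    obtain ⟨k, rfl⟩ := mem_zpowers_iff.mp hb
    exact ((Commute.refl s).zpow_left k).pow_right _ |>.eq
  exact le_normalizer_inf h1 h2 (mem_zpowers s)

/-- every proper `s`-invariant subgroup lies in `C_Q(t)` -/
theorem le_zt_of_ne (C : MinCfg p q n Q s) {H : Subgroup Γ} (hH : H ≤ Q)
    (hsH : s ∈ normalizer (H : Set Γ)) (hne : H ≠ Q) : H ≤ zt p n Q s := by
  intro g hg
  refine mem_zt.mpr ⟨hH hg, ?_⟩
  have := C.hmin H hH hsH hne g hg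
  calc s ^ (p ^ (n - 1)) * g = (s ^ (p ^ (n - 1)) * g * (s ^ (p ^ (n - 1)))⁻¹) * s ^ (p ^ (n - 1)) := by
        group
    _ = g * s ^ (p ^ (n - 1)) := by rw [this]

theorem eq_one_of_pow_p (C : MinCfg p q n Q s) {c : Γ} (hc : c ∈ Q) (hcp : c ^ p = 1) : c = 1 := by
  obtain ⟨k, hk⟩ := C.hQ ⟨c, hc⟩
  have hk' : c ^ (q ^ k) = 1 := by
    have := congrArg Subtype.val hk
    simpa using this
  have h1 : orderOf c ∣ p := orderOf_dvd_of_pow_eq_one hcp
  have h2 : orderOf c ∣ q ^ k := orderOf_dvd_of_pow_eq_one hk'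
  have hcop : Nat.Coprime p (q ^ k) :=
    Nat.Coprime.pow_right k ((Nat.coprime_primes C.hp C.hq).mpr (Ne.symm C.hqp))
  have h3 : orderOf c ∣ 1 := by
    have := Nat.dvd_gcd h1 h2
    rwa [hcop] at this
  exact orderOf_eq_one_iff.mp (Nat.dvd_one.mp h3)

/-- if `[t, g]` commutes with `t` then `t` centralises `g` -/
theorem comm_of_comm_comm (C : MinCfg p q n Q s) {g : Γ} (hg : g ∈ Q)
    (h : s ^ (p ^ (n - 1)) * (s ^ (p ^ (n - 1)) * g * (s ^ (p ^ (n - 1)))⁻¹ * g⁻¹) =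
      (s ^ (p ^ (n - 1)) * g * (s ^ (p ^ (n - 1)))⁻¹ * g⁻¹) * s ^ (p ^ (n - 1))) :
    s ^ (p ^ (n - 1)) * g = g * s ^ (p ^ (n - 1)) := by
  set t := s ^ (p ^ (n - 1)) with ht
  set c := t * g * t⁻¹ * g⁻¹ with hc
  have htQ : t ∈ normalizer (Q : Set Γ) := C.pow_mem_normalizer _
  have hcQ : c ∈ Q := Q.mul_mem ((mem_normalizer_iff.mp htQ g).mp hg) (Q.inv_mem hg)
  have h1 : t * g * t⁻¹ = c * g := by rw [hc]; group
  have h2 : t * c * t⁻¹ = c := by rw [h, mul_inv_cancel_right]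
  have h3 := conj_pow_central t g c h1 h2 p
  rw [C.t_pow] at h3
  simp only [one_mul, inv_one, mul_one] at h3
  have h4 : c ^ p = 1 := mul_eq_right.mp h3.symm
  have h5 : c = 1 := C.eq_one_of_pow_p hcQ h4
  rw [h5, one_mul] at h1
  calc t * g = (t * g * t⁻¹) * t := by group
    _ = g * t := by rw [h1]

/-- `Q = [Q, t]` -/
theorem closure_comm_eq (C : MinCfg p q n Q s) :
    closure {x | ∃ g ∈ Q, x = s ^ (p ^ (n - 1)) * g * (s ^ (p ^ (n - 1)))⁻¹ * g⁻¹} = Q := by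
  set t := s ^ (p ^ (n - 1)) with ht
  set S : Set Γ := {x | ∃ g ∈ Q, x = t * g * t⁻¹ * g⁻¹} with hS
  have htQ : t ∈ normalizer (Q : Set Γ) := C.pow_mem_normalizer _
  have hle : closure S ≤ Q := by
    rw [closure_le]
    rintro _ ⟨g, hg, rfl⟩
    exact Q.mul_mem ((mem_normalizer_iff.mp htQ g).mp hg) (Q.inv_mem hg)
  by_contra hne
  have hst : s * t = t * s := ((Commute.refl s).pow_right _).eq
  have hsn : s ∈ normalizer ((closure S : Subgroup Γ) : Set Γ) := by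
    have : zpowers s ≤ normalizer ((closure S : Subgroup Γ) : Set Γ) := by
      apply le_normalizer_closure
      rintro b hb _ ⟨g, hg, rfl⟩
      have hbQ : b ∈ normalizer (Q : Set Γ) := (zpowers_le.mpr C.hsQ) hb
      have hbt : b * t = t * b := by
        obtain ⟨k, rfl⟩ := mem_zpowers_iff.mp hb
        exact (((Commute.refl s).pow_right _).zpow_left k).eq
      refine ⟨b * g * b⁻¹, (mem_normalizer_iff.mp hbQ g).mp hg, ?_⟩
      calc b * (t * g * t⁻¹ * g⁻¹) * b⁻¹ = (b * t) * g * (t⁻¹ * b⁻¹) * (b * g⁻¹ * b⁻¹) := by group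
        _ = (t * b) * g * (b⁻¹ * t⁻¹) * (b * g⁻¹ * b⁻¹) := by
            rw [hbt]
            have : t⁻¹ * b⁻¹ = b⁻¹ * t⁻¹ := by
              rw [← mul_inv_rev, ← mul_inv_rev, hbt]
            rw [this]
        _ = t * (b * g * b⁻¹) * t⁻¹ * (b * g * b⁻¹)⁻¹ := by group
    exact this (mem_zpowers s)
  have hcent := C.hmin (closure S) hle hsn hne
  obtain ⟨g, hg, hgne⟩ := C.hnt
  apply hgne
  have hc : t * g * t⁻¹ * g⁻¹ ∈ closure S := subset_closure ⟨g, hg, rfl⟩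
  have h1 := hcent _ hc
  have h2 : t * (t * g * t⁻¹ * g⁻¹) = (t * g * t⁻¹ * g⁻¹) * t := by
    calc t * (t * g * t⁻¹ * g⁻¹) = (t * (t * g * t⁻¹ * g⁻¹) * t⁻¹) * t := by group
      _ = _ := by rw [h1]
  have h3 := C.comm_of_comm_comm hg h2
  rw [h3, mul_inv_cancel_right]

/-- commutators of `Q` lie in `C_Q(t)` -/
theorem comm_mem_zt [Finite Γ] (C : MinCfg p q n Q s) {g h : Γ} (hg : g ∈ Q) (hh : h ∈ Q) :
    g * h * g⁻¹ * h⁻¹ ∈ zt p n Q s := by
  have h1 : zpowers s ≤ normalizer (Q : Set Γ) := zpowers_le.mpr C.hsQ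
  have h2 : s ∈ normalizer ((⁅Q, Q⁆ : Subgroup Γ) : Set Γ) :=
    le_normalizer_commutator h1 h1 (mem_zpowers s)
  have hle : ⁅Q, Q⁆ ≤ Q := by
    rw [Subgroup.commutator_le]
    intro g₁ h₁ g₂ h₂
    rw [commutatorElement_def]
    exact Q.mul_mem (Q.mul_mem (Q.mul_mem h₁ h₂) (Q.inv_mem h₁)) (Q.inv_mem h₂)
  have hne : ⁅Q, Q⁆ ≠ Q := by
    intro heq
    -- `Q` is a nontrivial nilpotent group
    haveI : Fact q.Prime := ⟨C.hq⟩
    haveI : Finite Q := inferInstance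
    haveI : Group.IsNilpotent Q := C.hQ.isNilpotent
    haveI : Nontrivial Q := by
      obtain ⟨g, hg, hgne⟩ := C.hnt
      refine ⟨⟨⟨g, hg⟩, 1, fun h => hgne ?_⟩⟩
      have : g = 1 := congrArg Subtype.val h
      rw [this]; simp
    have hlt := Group.IsSolvable.commutator_lt_top_of_nontrivial Q
    apply hlt.ne
    rw [eq_top_iff]
    intro x _
    have hx : (x : Γ) ∈ ⁅Q, Q⁆ := by rw [heq]; exact x.2
    have h3 : (⁅Q, Q⁆ : Subgroup Γ) = (commutator Q).map Q.subtype := by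
      rw [_root_.commutator_def, map_commutator, ← MonoidHom.range_eq_map, range_subtype]
    rw [h3] at hx
    obtain ⟨y, hy, hyx⟩ := hx
    have : y = x := Subtype.ext hyx
    rw [← this]; exact hy
  have h3 := C.le_zt_of_ne hle h2 hne
  apply h3
  have := commutator_mem_commutator hg hh
  rwa [commutatorElement_def] at this

/-- `C_Q(t)` is central in `Q` -/
theorem zt_central [Finite Γ] (C : MinCfg p q n Q s) {z g : Γ} (hz : z ∈ zt p n Q s) (hg : g ∈ Q) :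
    z * g = g * z := by
  set t := s ^ (p ^ (n - 1)) with ht
  obtain ⟨hzQ, hzt⟩ := mem_zt.mp hz
  have hzt' : z * t = t * z := hzt.symm
  have hzti : z * t⁻¹ = t⁻¹ * z := (show Commute z t from hzt').inv_right.eq
  -- `z` commutes with all generators `[t, g]`
  have hgen : closure {x | ∃ g ∈ Q, x = t * g * t⁻¹ * g⁻¹} ≤ centralizer ({z} : Set Γ) := by
    rw [closure_le]
    rintro _ ⟨k, hk, rfl⟩
    rw [SetLike.mem_coe, mem_centralizer_iff]
    intro y hy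
    rw [Set.mem_singleton_iff] at hy
    subst hy
    -- `c' = k⁻¹ y k y⁻¹ ∈ Z` commutes with `t`
    set c' := k⁻¹ * y * k * y⁻¹ with hc'
    have hc'Z : c' ∈ zt p n Q s := by
      have := C.comm_mem_zt (Q.inv_mem hk) hzQ
      rwa [inv_inv] at this
    have hc't : t * c' = c' * t := (mem_zt.mp hc'Z).2
    have hyk : y * k = k * c' * y := by rw [hc']; group
    have hyki : y * k⁻¹ = c'⁻¹ * k⁻¹ * y := by
      have : k⁻¹ * y = c' * y * k⁻¹ := by rw [hc']; group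
      calc y * k⁻¹ = c'⁻¹ * (c' * y * k⁻¹) := by group
        _ = c'⁻¹ * (k⁻¹ * y) := by rw [this]
        _ = c'⁻¹ * k⁻¹ * y := by group
    have hc'ti : c' * t⁻¹ = t⁻¹ * c' := (show Commute c' t from hc't.symm).inv_right.eq
    calc y * (t * k * t⁻¹ * k⁻¹) = (y * t) * k * t⁻¹ * k⁻¹ := by group
      _ = t * (y * k) * t⁻¹ * k⁻¹ := by rw [hzt']; group
      _ = t * (k * c' * y) * t⁻¹ * k⁻¹ := by rw [hyk]
      _ = t * k * c' * (y * t⁻¹) * k⁻¹ := by group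
      _ = t * k * c' * (t⁻¹ * y) * k⁻¹ := by rw [hzti]
      _ = t * k * (c' * t⁻¹) * (y * k⁻¹) := by group
      _ = t * k * (t⁻¹ * c') * (c'⁻¹ * k⁻¹ * y) := by rw [hc'ti, hyki]
      _ = t * k * t⁻¹ * k⁻¹ * y := by group
  rw [C.closure_comm_eq] at hgen
  have := mem_centralizer_iff.mp (hgen hg) z rfl
  exact this

/-- `C_Q(t)` is commutative -/
theorem zt_comm [Finite Γ] (C : MinCfg p q n Q s) : ∀ a ∈ zt p n Q s, ∀ b ∈ zt p n Q s, a * b = b * a :=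
  fun _ ha _ hb => C.zt_central ha (zt_le hb)

theorem le_normalizer_zt [Finite Γ] (C : MinCfg p q n Q s) : Q ≤ normalizer (zt p n Q s : Set Γ) := by
  apply le_normalizer_of_conj_mem
  intro b hb u hu
  have := C.zt_central hu (Q.inv_mem hb)
  have h2 : b * u * b⁻¹ = u := by
    rw [mul_assoc, this, ← mul_assoc, mul_inv_cancel, one_mul]
  rw [h2]; exact hu

/-- semiregularity of `⟨s⟩` on `Q / R` for `C_Q(t) ≤ R ⊴ Q` -/
theorem semireg [Finite Γ] (C : MinCfg p q n Q s) (R : Subgroup Γ) (hZR : zt p n Q s ≤ R) (hRQ : R ≤ Q)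
    (hQR : Q ≤ normalizer (R : Set Γ)) (j : ℕ) (hj0 : 0 < j) (hjN : j < p ^ n)
    (hxR : s ^ j ∈ normalizer (R : Set Γ)) {g : Γ} (hg : g ∈ Q)
    (h : s ^ j * g * (s ^ j)⁻¹ * g⁻¹ ∈ R) : g ∈ R := by
  set t := s ^ (p ^ (n - 1)) with ht
  let S : Subgroup Γ :=
    { carrier := {y | y ∈ normalizer (R : Set Γ) ∧ y * g * y⁻¹ * g⁻¹ ∈ R}
      one_mem' := ⟨one_mem _, by simp [R.one_mem]⟩
      mul_mem' := by
        rintro a b ⟨ha, ha'⟩ ⟨hb, hb'⟩
        refine ⟨mul_mem ha hb, ?_⟩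
        have h1 : a * (b * g * b⁻¹ * g⁻¹) * a⁻¹ ∈ R := (mem_normalizer_iff.mp ha _).mp hb'
        have h2 : a * b * g * (a * b)⁻¹ * g⁻¹ = (a * (b * g * b⁻¹ * g⁻¹) * a⁻¹) * (a * g * a⁻¹ * g⁻¹) := by
          group
        rw [h2]
        exact R.mul_mem h1 ha'
      inv_mem' := by
        rintro a ⟨ha, ha'⟩
        refine ⟨inv_mem ha, ?_⟩
        have h1 : a⁻¹ * (a * g * a⁻¹ * g⁻¹)⁻¹ * a⁻¹⁻¹ ∈ R :=
          (mem_normalizer_iff.mp (inv_mem ha) _).mp (R.inv_mem ha')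
        have h2 : a⁻¹ * g * a⁻¹⁻¹ * g⁻¹ = a⁻¹ * (a * g * a⁻¹ * g⁻¹)⁻¹ * a⁻¹⁻¹ := by group
        rw [h2]
        exact h1 }
  have hxS : s ^ j ∈ S := ⟨hxR, h⟩
  have htS : t ∈ S := by
    have h1 : t ∈ zpowers (s ^ j) := pow_mem_zpowers_pow s p n C.hp C.hs j hj0 hjN
    exact (zpowers_le.mpr hxS) h1
  have hTS : zpowers t ≤ S := zpowers_le.mpr htS
  have hTQ : zpowers t ≤ normalizer (Q : Set Γ) := zpowers_le.mpr (C.pow_mem_normalizer _)
  have hcard : Nat.card (zpowers t) = p := by rw [Nat.card_zpowers, C.orderOf_t]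
  haveI : Fact q.Prime := ⟨C.hq⟩
  obtain ⟨k, hk⟩ := C.hQ.exists_card_eq
  have hcop : (Nat.card (zpowers t)).Coprime (Nat.card Q) := by
    rw [hcard, hk]
    exact Nat.Coprime.pow_right k ((Nat.coprime_primes C.hp C.hq).mpr (Ne.symm C.hqp))
  obtain ⟨c, hc, hgc⟩ := coprime_fixed_points_quotient (zpowers t) Q hTQ hcop
    (Or.inl (isSolvable_of_isMulCommutative (zpowers t))) R hRQ hQR
    (fun a ha => (hTS ha).1) g hg (fun a ha => (hTS ha).2)
  have hcZ : c ∈ zt p n Q s := by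
    refine mem_zt.mpr ⟨hc.1, ?_⟩
    exact (mem_centralizer_iff.mp hc.2 t (mem_zpowers t))
  have hcR : c ∈ R := hZR hcZ
  have : g⁻¹ ∈ R := by
    have h1 := R.mul_mem hgc (R.inv_mem hcR)
    rwa [mul_inv_cancel_right] at h1
  have h2 := R.inv_mem this
  rwa [inv_inv] at h2

/-- `p ^ n` divides `|Q : C_Q(t)| - 1` -/
theorem pow_dvd_relIndex_sub_one [Finite Γ] (C : MinCfg p q n Q s) :
    p ^ n ∣ (zt p n Q s).relIndex Q - 1 := by
  set Z := zt p n Q s with hZ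
  set Z' : Subgroup Q := Z.subgroupOf Q with hZ'
  haveI : Z'.Normal := by
    have := C.le_normalizer_zt
    rw [hZ']
    exact (normal_subgroupOf_iff_le_normalizer zt_le).mpr this
  set σ : MulAut Q := conjAut Q s C.hsQ with hσ
  have hσN : σ ^ (p ^ n) = 1 := by
    ext g
    rw [conjAut_pow_apply, C.hs]
    simp
  have hσZ : ∀ z, σ z ∈ Z' ↔ z ∈ Z' := by
    intro z
    rw [hZ', mem_subgroupOf, mem_subgroupOf, conjAut_apply]
    exact (mem_normalizer_iff.mp C.s_mem_normalizer_zt (z : Γ)).symm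
  have hZtop : Z' ≠ ⊤ := by
    intro h
    apply C.zt_ne
    apply le_antisymm zt_le
    intro g hg
    have : (⟨g, hg⟩ : Q) ∈ Z' := by rw [h]; trivial
    exact mem_subgroupOf.mp this
  have hpos : 0 < p ^ n := pow_pos C.hp.pos n
  have hsemi : ∀ j, 0 < j → j < p ^ n → ∀ k, (σ ^ j) k * k⁻¹ ∈ Z' → k ∈ Z' := by
    intro j hj0 hjN k hk
    rw [hZ', mem_subgroupOf] at hk ⊢
    rw [Subgroup.coe_mul, conjAut_pow_apply, Subgroup.coe_inv] at hk
    exact C.semireg Z le_rfl zt_le C.le_normalizer_zt j hj0 hjN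
      (pow_mem C.s_mem_normalizer_zt j) k.2 hk
  letI := quotientAction_zpowers' σ Z' hσZ
  have key := card_orbits_semireg Z' hZtop σ (p ^ n) hpos hσN hσZ hsemi
  have hidx : Z'.index = Z.relIndex Q := rfl
  rw [hidx] at key
  refine ⟨Nat.card (Quotient (MulAction.orbitRel ↥(zpowers σ) (Q ⧸ Z'))) - 1, ?_⟩
  have h1 : 1 ≤ p ^ n := hpos
  have h2 : 1 ≤ Nat.card (Quotient (MulAction.orbitRel ↥(zpowers σ) (Q ⧸ Z'))) := by
    rcases Nat.eq_zero_or_pos (Nat.card (Quotient (MulAction.orbitRel ↥(zpowers σ) (Q ⧸ Z')))) with h | h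
    · rw [h, zero_mul] at key
      have : Z.relIndex Q ≠ 0 := by
        rw [← hidx]
        exact Subgroup.index_ne_zero_of_finite
      omega
    · exact h
  rw [Nat.mul_sub, mul_one, mul_comm, key]
  omega

/-- an `s`-invariant character of `C_Q(t)` is trivial -/
theorem char_eq_one_of_invariant [Finite Γ] (C : MinCfg p q n Q s) {K' : Type*} [CommGroup K']
    (χ : ↥(zt p n Q s) →* K')
    (hχ : ∀ z : ↥(zt p n Q s), ∀ hz : s⁻¹ * (z : Γ) * s ∈ zt p n Q s, χ ⟨s⁻¹ * z * s, hz⟩ = χ z) :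
    ∀ z, χ z = 1 := by
  have hsi : s⁻¹ ∈ normalizer (zt p n Q s : Set Γ) := inv_mem C.s_mem_normalizer_zt
  have hτfpf : ∀ x : ↥(zt p n Q s), conjAut (zt p n Q s) s⁻¹ hsi x = x → x = 1 := by
    intro x hx
    have h1 : s⁻¹ * (x : Γ) * s⁻¹⁻¹ = x := by
      have := congrArg Subtype.val hx
      rwa [conjAut_apply] at this
    have h2 : s * (x : Γ) * s⁻¹ = x := by
      have : (x : Γ) = s * (s⁻¹ * (x : Γ) * s⁻¹⁻¹) * s⁻¹ := by group
      rw [h1] at this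
      exact this.symm
    exact Subtype.ext (C.hfpf _ (zt_le x.2) h2)
  intro z
  obtain ⟨x, hx⟩ := Cfsg.Agent.Lead.Fpf4.fpf_surj (conjAut (zt p n Q s) s⁻¹ hsi) hτfpf z
  rw [← hx, map_mul, map_inv]
  have h3 : χ (conjAut (zt p n Q s) s⁻¹ hsi x) = χ x := by
    have hmem : s⁻¹ * (x : Γ) * s ∈ zt p n Q s := by
      have := (conjAut (zt p n Q s) s⁻¹ hsi x).2
      rwa [conjAut_apply, inv_inv] at this
    have := hχ x hmem
    rw [← this]
    congr 1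
    apply Subtype.ext
    rw [conjAut_apply, inv_inv]
  rw [h3, inv_mul_cancel]

end MinCfg

end Cfsg.Agent.Helper9.Shult
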