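import Mathlib
import Cfsg.Agent.Helper9.ShultE

/-!
# Shult–Gross, part F: weights on which a given element acts nontrivially; the abelian case
-/

set_option autoImplicit false
set_option linter.style.haveILetI false
set_option linter.unusedSectionVars false

namespace Cfsg.Agent.Helper9.Shult

open Module Subgroup Cfsg.Agent.Helper9.Ward Cfsg.Agent.Helper5.HHMod Cfsg.Agent.Helper5.HHT
open Cfsg.Agent.Helper29.S3f

variable {Γ : Type*} [Group Γ] {K : Type*} [Field K] [IsAlgClosed K]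
  {M : Type*} [AddCommGroup M] [Module K M] [FiniteDimensional K M]

theorem exists_weight_ne_one (ρ : Representation K Γ M) (B : Subgroup Γ)
    (hBab : ∀ a ∈ B, ∀ b ∈ B, a * b = b * a) (g : Γ) (hg : g ∈ B) (N : ℕ) (hgN : g ^ N = 1)
    (hNK : (N : K) ≠ 0) (hρg : ρ g ≠ 1) :
    ∃ (χ : ↥B →* Kˣ) (m : M), m ≠ 0 ∧ m ∈ wtSpace ρ B χ ∧ χ ⟨g, hg⟩ ≠ 1 := by
  set W₀ : Submodule K M := LinearMap.range (ρ g - 1) with hW₀
  have hW₀ne : W₀ ≠ ⊥ := by
    intro h
    apply hρg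
    have : ρ g - 1 = 0 := LinearMap.range_eq_bot.mp h
    exact sub_eq_zero.mp this
  have hinv : ∀ b ∈ B, ∀ w ∈ W₀, ρ b w ∈ W₀ := by
    rintro b hb _ ⟨x, rfl⟩
    refine ⟨ρ b x, ?_⟩
    simp only [LinearMap.sub_apply, Module.End.one_apply, map_sub]
    rw [← Module.End.mul_apply, ← Module.End.mul_apply, ← map_mul, ← map_mul, hBab g hg b hb]
  obtain ⟨χ, m, hmW, hm0, hmχ⟩ := exists_weight ρ B hBab W₀ hW₀ne hinv
  refine ⟨χ, m, hm0, hmχ, ?_⟩
  intro hχ
  apply hm0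
  have hfix : ρ g m = m := by
    have := hmχ ⟨g, hg⟩
    rw [hχ] at this
    simpa using this
  obtain ⟨x, hx⟩ := hmW
  simp only [LinearMap.sub_apply, Module.End.one_apply] at hx
  have hpow : ∀ i : ℕ, (ρ g ^ i) m = m := by
    intro i
    induction i with
    | zero => simp
    | succ i ih => rw [pow_succ, Module.End.mul_apply, hfix, ih]
  have h1 : ∑ i ∈ Finset.range N, (ρ g ^ i) m = (N : K) • m := by
    rw [Finset.sum_congr rfl (fun i _ => hpow i), Finset.sum_const, Finset.card_range,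
      Nat.cast_smul_eq_nsmul]
  have h2 : ∑ i ∈ Finset.range N, (ρ g ^ i) m = 0 := by
    have h3 : ∀ i : ℕ, (ρ g ^ i) m = (ρ g ^ (i + 1)) x - (ρ g ^ i) x := by
      intro i
      rw [← hx, map_sub, pow_succ, Module.End.mul_apply]
    rw [Finset.sum_congr rfl (fun i _ => h3 i), Finset.sum_range_sub (fun i => (ρ g ^ i) x) N]
    rw [← map_pow, hgN, map_one]
    simp
  rw [h1] at h2
  rcases smul_eq_zero.mp h2 with h | h
  · exact absurd h hNK
  · exact h

namespace MinCfg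

variable [Finite Γ] {p q n : ℕ} {Q : Subgroup Γ} {s : Γ}

/-- the abelian case -/
theorem core_abelian (C : MinCfg p q n Q s) (ρ : Representation K Γ M) (hqK : (q : K) ≠ 0)
    (hfaith : ∀ g ∈ Q, ρ g = 1 → g = 1) (hab : ∀ a ∈ Q, ∀ b ∈ Q, a * b = b * a) :
    ∃ m : M, m ≠ 0 ∧ ρ s m = m := by
  classical
  set t := s ^ (p ^ (n - 1)) with ht
  obtain ⟨g, hgQ, hgne⟩ := C.hnt
  have hg1 : g ≠ 1 := by
    rintro rfl
    apply hgne
    simp
  obtain ⟨k, hk⟩ := C.hQ ⟨g, hgQ⟩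
  have hk' : g ^ (q ^ k) = 1 := by
    have := congrArg Subtype.val hk
    simpa using this
  have hρg : ρ g ≠ 1 := fun h => hg1 (hfaith g hgQ h)
  obtain ⟨χ, m, hm0, hmχ, hχg⟩ := exists_weight_ne_one ρ Q hab g hgQ (q ^ k) hk'
    (by rw [Nat.cast_pow]; exact pow_ne_zero _ hqK) hρg
  set un : ↥(normalizer (Q : Set Γ)) := ⟨s, C.hsQ⟩ with hun
  letI := chAction Q Kˣ
  have hunN : un ^ (p ^ n) = 1 := Subtype.ext (by simpa using C.hs)
  have hpos : 0 < p ^ n := pow_pos C.hp.pos n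
  have hfixN : un ^ (p ^ n) • χ = χ := by rw [hunN, one_smul]
  have hper : 0 < MulAction.period un χ := MulAction.period_pos_of_fixed hpos hfixN
  have hdvd : MulAction.period un χ ∣ p ^ n := MulAction.pow_smul_eq_iff_period_dvd.mp hfixN
  -- no nontrivial power of `un` fixes `χ`
  have hfree : ∀ j, 0 < j → j < p ^ n → un ^ j • χ ≠ χ := by
    intro j hj0 hjN hfix
    apply hχg
    have h1 : un ^ (p ^ (n - 1)) ∈ zpowers (un ^ j) :=
      pow_mem_zpowers_pow un p n C.hp hunN j hj0 hjN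
    have h2 : zpowers (un ^ j) ≤ MulAction.stabilizer ↥(normalizer (Q : Set Γ)) χ := by
      rw [zpowers_le]
      exact hfix
    have h3 : un ^ (p ^ (n - 1)) • χ = χ := h2 h1
    -- `χ` kills the generators `[t, g]`
    have hker : Q ≤ (χ.ker).map Q.subtype := by
      conv_lhs => rw [← C.closure_comm_eq]
      rw [closure_le]
      rintro _ ⟨y, hy, rfl⟩
      have htQ : t ∈ normalizer (Q : Set Γ) := C.pow_mem_normalizer _
      have hty : t * y * t⁻¹ ∈ Q := (mem_normalizer_iff.mp htQ y).mp hy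
      have hmem : t * y * t⁻¹ * y⁻¹ ∈ Q := Q.mul_mem hty (Q.inv_mem hy)
      refine ⟨⟨t * y * t⁻¹ * y⁻¹, hmem⟩, ?_, rfl⟩
      rw [SetLike.mem_coe, MonoidHom.mem_ker]
      have h4 : (un ^ (p ^ (n - 1)) • χ) ⟨t * y * t⁻¹, hty⟩ = χ ⟨t * y * t⁻¹, hty⟩ := by rw [h3]
      have h5 : (un ^ (p ^ (n - 1)) • χ) ⟨t * y * t⁻¹, hty⟩ = χ ⟨y, hy⟩ := by
        show χ (conjInv Q (un ^ (p ^ (n - 1))) ⟨t * y * t⁻¹, hty⟩) = χ ⟨y, hy⟩
        congr 1
        apply Subtype.ext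
        rw [conjInv_coe]
        have : ((un ^ (p ^ (n - 1)) : ↥(normalizer (Q : Set Γ))) : Γ) = t := by simp [hun, ht]
        rw [this]
        show t⁻¹ * (t * y * t⁻¹) * t = y
        group
      have h6 : χ ⟨y, hy⟩ = χ ⟨t * y * t⁻¹, hty⟩ := h5.symm.trans h4
      have h7 : (⟨t * y * t⁻¹ * y⁻¹, hmem⟩ : Q) = ⟨t * y * t⁻¹, hty⟩ * (⟨y, hy⟩ : Q)⁻¹ := rfl
      rw [h7, map_mul, map_inv, ← h6, mul_inv_cancel]
    obtain ⟨y, hy, hyg⟩ := hker hgQ
    have : y = ⟨g, hgQ⟩ := Subtype.ext hyg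
    rw [← this]
    exact MonoidHom.mem_ker.mp hy
  have hperN : MulAction.period un χ = p ^ n := by
    by_contra hne
    have hlt : MulAction.period un χ < p ^ n := lt_of_le_of_ne (Nat.le_of_dvd hpos hdvd) hne
    exact hfree _ hper hlt (MulAction.pow_period_smul un χ)
  refine orbit_sum ρ Q hab un χ m hmχ hm0 hper ?_
  show ρ ((un : Γ) ^ MulAction.period un χ) m = m
  rw [hperN]
  show ρ (s ^ (p ^ n)) m = m
  rw [C.hs, map_one, Module.End.one_apply]

end MinCfg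

end Cfsg.Agent.Helper9.Shult
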