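import Mathlib
import Cfsg.Agent.Helper9.ShultD
import Cfsg.Agent.Helper9.ShultF

/-!
# Shult–Gross, part G: the first level (weights of `C_Q(t)`), reduction to the second level
-/

set_option autoImplicit false
set_option linter.style.haveILetI false
set_option linter.unusedSectionVars false
set_option maxHeartbeats 1600000

namespace Cfsg.Agent.Helper9.Shult

open Module Subgroup Cfsg.Agent.Helper9.Ward Cfsg.Agent.Helper5.HHMod Cfsg.Agent.Helper5.HHT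
open Cfsg.Agent.Helper5.FrobMod Cfsg.Agent.Helper29.S3f

section stab

variable {Γ : Type*} [Group Γ] {K : Type*} [Field K] {M : Type*} [AddCommGroup M] [Module K M]
variable (ρ : Representation K Γ M) (W : Submodule K M)

/-- the stabiliser of a subspace -/
def stabW : Subgroup Γ where
  carrier := {x | (∀ w ∈ W, ρ x w ∈ W) ∧ (∀ w ∈ W, ρ x⁻¹ w ∈ W)}
  one_mem' := by simp
  mul_mem' := fun {a b} ha hb =>
    ⟨fun w hw => by rw [map_mul]; exact ha.1 _ (hb.1 w hw),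
     fun w hw => by rw [mul_inv_rev, map_mul]; exact hb.2 _ (ha.2 w hw)⟩
  inv_mem' := fun {a} ha => ⟨ha.2, by rw [inv_inv]; exact ha.1⟩

theorem stabW_inv : Inv ρ (stabW ρ W) W := fun _ hb w hw => hb.1 w hw

/-- restriction to the subspace, as a homomorphism to the units of the endomorphism ring -/
noncomputable def resW : ↥(stabW ρ W) →* (Module.End K W)ˣ :=
  (subRep ρ (stabW ρ W) W (stabW_inv ρ W)).asGroupHom

theorem resW_apply (x : stabW ρ W) (w : W) :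
    ((((resW ρ W x : (Module.End K W)ˣ) : Module.End K W) w : W) : M) = ρ (x : Γ) (w : M) := by
  unfold resW
  rw [Representation.asGroupHom_apply, subRep_apply]

theorem mem_stabW_of_finite_order {x : Γ} {N : ℕ} (hN : 0 < N) (hx : x ^ N = 1)
    (h : ∀ w ∈ W, ρ x w ∈ W) : x ∈ stabW ρ W := by
  refine ⟨h, fun w hw => ?_⟩
  have h1 : x⁻¹ = x ^ (N - 1) := by
    rw [inv_eq_iff_mul_eq_one, ← pow_succ', Nat.sub_add_cancel hN, hx]
  rw [h1]
  have : ∀ k : ℕ, ρ (x ^ k) w ∈ W := by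
    intro k
    induction k with
    | zero => simpa using hw
    | succ k ih =>
      rw [pow_succ', map_mul, Module.End.mul_apply]
      exact h _ ih
  exact this _

end stab

variable {Γ : Type*} [Group Γ] {K : Type*} [Field K] [IsAlgClosed K]
  {M : Type*} [AddCommGroup M] [Module K M] [FiniteDimensional K M]

namespace MinCfg

variable {p q n : ℕ} {Q : Subgroup Γ} {s : Γ}

/-- `s` as an element of the normaliser of `C_Q(t)` -/
def un (C : MinCfg p q n Q s) : ↥(normalizer (zt p n Q s : Set Γ)) := ⟨s, C.s_mem_normalizer_zt⟩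

/-- data of the exceptional case -/
structure ExcData (C : MinCfg p q n Q s) (lam : ↥(zt p n Q s) →* Kˣ) (d N₂ : ℕ) (R : Subgroup Γ) :
    Prop where
  hper : letI := chAction (zt p n Q s) Kˣ; MulAction.period C.un lam = d
  hd : d ∣ p ^ (n - 1)
  hN₂ : N₂ ∣ p ^ n / d
  hN₂1 : 1 < N₂
  hZR : zt p n Q s ≤ R
  hRQ : R ≤ Q
  hRne : R ≠ Q
  hsR : s ^ d ∈ normalizer (R : Set Γ)
  hR3 : ∀ g ∈ Q, g ∉ R → ∃ h ∈ Q, ∃ hm : g * h * g⁻¹ * h⁻¹ ∈ zt p n Q s, lam ⟨_, hm⟩ ≠ 1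
  hR4 : ∀ r ∈ R, ∀ h ∈ Q, ∀ hm : r * h * r⁻¹ * h⁻¹ ∈ zt p n Q s, lam ⟨_, hm⟩ = 1
  hidx : (N₂ - 1) ^ 2 = R.relIndex Q

variable [Finite Γ]

theorem level_one (C : MinCfg p q n Q s) (ρ : Representation K Γ M) (hpK : (p : K) ≠ 0)
    (hqK : (q : K) ≠ 0) (hfaith : ∀ g ∈ Q, ρ g = 1 → g = 1)
    (hnab : ∃ a ∈ Q, ∃ b ∈ Q, a * b ≠ b * a) :
    (∃ m : M, m ≠ 0 ∧ ρ s m = m) ∨
      ∃ (lam : ↥(zt p n Q s) →* Kˣ) (d N₂ : ℕ) (R : Subgroup Γ), ExcData C lam d N₂ R := by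
  classical
  set t := s ^ (p ^ (n - 1)) with ht
  set Z := zt p n Q s with hZ
  obtain ⟨a, ha, b, hb, hab⟩ := hnab
  set g₀ := a * b * a⁻¹ * b⁻¹ with hg₀
  have hg₀Z : g₀ ∈ Z := C.comm_mem_zt ha hb
  have hg₀1 : g₀ ≠ 1 := by
    intro h
    apply hab
    calc a * b = (a * b * a⁻¹ * b⁻¹) * (b * a) := by group
      _ = b * a := by rw [← hg₀, h, one_mul]
  have hg₀Q : g₀ ∈ Q := zt_le hg₀Z
  obtain ⟨k₀, hk₀⟩ := C.hQ ⟨g₀, hg₀Q⟩
  have hk₀' : g₀ ^ (q ^ k₀) = 1 := by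
    have := congrArg Subtype.val hk₀
    simpa using this
  have hρg₀ : ρ g₀ ≠ 1 := fun h => hg₀1 (hfaith g₀ hg₀Q h)
  obtain ⟨lam, m, hm0, hmlam, hlam₀⟩ := exists_weight_ne_one ρ Z C.zt_comm g₀ hg₀Z (q ^ k₀) hk₀'
    (by rw [Nat.cast_pow]; exact pow_ne_zero _ hqK) hρg₀
  letI := chAction Z Kˣ
  set un := C.un with hun
  have hcoe : ∀ i : ℕ, ((un ^ i : ↥(normalizer (Z : Set Γ))) : Γ) = s ^ i := fun i => by
    simp [hun, MinCfg.un]
  have hunN : un ^ (p ^ n) = 1 := Subtype.ext (by rw [hcoe]; simpa using C.hs)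
  have hpos : 0 < p ^ n := pow_pos C.hp.pos n
  -- `t` fixes `lam`
  have htfix : un ^ (p ^ (n - 1)) • lam = lam := by
    refine MonoidHom.ext fun z => ?_
    show lam (conjInv Z (un ^ (p ^ (n - 1))) z) = lam z
    congr 1
    apply Subtype.ext
    rw [conjInv_coe, hcoe]
    have := (mem_zt.mp z.2).2
    show t⁻¹ * (z : Γ) * t = z
    rw [mul_assoc, ← this, ← mul_assoc, inv_mul_cancel, one_mul]
  have hpos' : 0 < p ^ (n - 1) := pow_pos C.hp.pos _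
  have hper : 0 < MulAction.period un lam := MulAction.period_pos_of_fixed hpos' htfix
  have hdvd : MulAction.period un lam ∣ p ^ (n - 1) := MulAction.pow_smul_eq_iff_period_dvd.mp htfix
  set d := MulAction.period un lam with hd
  obtain ⟨k, hk, hdk⟩ := (Nat.dvd_prime_pow C.hp).mp hdvd
  have hkn : k < n := by have := C.hn; omega
  set N := p ^ (n - k) with hN
  have hdN : d * N = p ^ n := by rw [hdk, hN, ← pow_add, Nat.add_sub_cancel' hkn.le]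
  have hNpos : 0 < N := pow_pos C.hp.pos _
  have hNK : (N : K) ≠ 0 := by rw [hN, Nat.cast_pow]; exact pow_ne_zero _ hpK
  set s₁ := s ^ d with hs₁
  have hs₁N : s₁ ^ N = 1 := by rw [hs₁, ← pow_mul, hdN, C.hs]
  -- the weight space
  set W := wtSpace ρ Z lam with hW
  have hWne : W ≠ ⊥ := fun h => hm0 (by rw [← Submodule.mem_bot K, ← h]; exact hmlam)
  haveI : Nontrivial W := Submodule.nontrivial_iff_ne_bot.mpr hWne
  have hWQ : ∀ g ∈ Q, ∀ w ∈ W, ρ g w ∈ W := by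
    intro g hg w hw z
    have hcomm : (z : Γ) * g = g * z := C.zt_central z.2 hg
    rw [← Module.End.mul_apply, ← map_mul, hcomm, map_mul, Module.End.mul_apply, hw z, map_smul]
  have hWs₁ : ∀ w ∈ W, ρ s₁ w ∈ W := by
    intro w hw
    have h1 := rho_pow_mem_wtSpace_smul ρ Z un hw d
    rw [MulAction.pow_period_smul un lam] at h1
    exact h1
  have hQSt : Q ≤ stabW ρ W := fun g hg => ⟨hWQ g hg, hWQ g⁻¹ (Q.inv_mem hg)⟩
  have hs₁St : s₁ ∈ stabW ρ W := mem_stabW_of_finite_order ρ W hNpos hs₁N hWs₁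
  set St := stabW ρ W with hSt
  set res := resW ρ W with hres
  -- the second level
  set ρ₂ : Representation K (Module.End K W)ˣ W := Units.coeHom (Module.End K W) with hρ₂
  set Q₂ : Subgroup (Module.End K W)ˣ := (Q.subgroupOf St).map res with hQ₂
  set u : (Module.End K W)ˣ := res ⟨s₁, hs₁St⟩ with hu
  haveI : Finite Q₂ := by
    have : Finite (Q.subgroupOf St) :=
      Finite.of_injective (fun x : Q.subgroupOf St => (⟨x.1.1, x.2⟩ : Q)) (fun a b h => by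
        apply Subtype.ext; apply Subtype.ext
        exact congrArg (fun y : Q => (y : Γ)) h)
    rw [hQ₂]
    exact Finite.of_surjective (fun x : Q.subgroupOf St => (⟨res x.1, x.1, x.2, rfl⟩ :
      (Q.subgroupOf St).map res)) (by
        rintro ⟨_, x, hx, rfl⟩
        exact ⟨⟨x, hx⟩, rfl⟩)
  have hmemQ₂ : ∀ x : (Module.End K W)ˣ, x ∈ Q₂ ↔ ∃ g, ∃ hg : g ∈ Q, res ⟨g, hQSt hg⟩ = x := by
    intro x
    constructor
    · rintro ⟨y, hy, rfl⟩
      exact ⟨y.1, mem_subgroupOf.mp hy, rfl⟩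
    · rintro ⟨g, hg, rfl⟩
      exact ⟨⟨g, hQSt hg⟩, mem_subgroupOf.mpr hg, rfl⟩
  -- cardinality of `Q₂`
  obtain ⟨kq, hkq⟩ : ∃ kq, Nat.card Q = q ^ kq := by
    haveI : Fact q.Prime := ⟨C.hq⟩
    exact C.hQ.exists_card_eq
  have hQ₂card : Nat.card Q₂ ∣ q ^ kq := by
    rw [← hkq]
    let f : Q →* (Module.End K W)ˣ := res.comp (Subgroup.inclusion hQSt)
    have hrange : f.range = Q₂ := by
      ext x
      rw [hmemQ₂]
      constructor
      · rintro ⟨g, rfl⟩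
        exact ⟨g.1, g.2, rfl⟩
      · rintro ⟨g, hg, rfl⟩
        exact ⟨⟨g, hg⟩, rfl⟩
    rw [← hrange]
    exact Subgroup.card_range_dvd f
  have hQ₂K : (Nat.card Q₂ : K) ≠ 0 := by
    intro h0
    obtain ⟨c, hc⟩ := hQ₂card
    have h1 : ((q ^ kq : ℕ) : K) ≠ 0 := by rw [Nat.cast_pow]; exact pow_ne_zero _ hqK
    apply h1
    rw [hc, Nat.cast_mul, h0, zero_mul]
  -- scalar action of `Z` on `W`
  have hscal : ∀ z (hz : z ∈ Z), ∀ hzS : z ∈ St,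
      ((res ⟨z, hzS⟩ : (Module.End K W)ˣ) : Module.End K W) = ((lam ⟨z, hz⟩ : Kˣ) : K) • 1 := by
    intro z hz hzS
    ext w
    rw [hres, resW_apply]
    exact w.2 ⟨z, hz⟩
  have hresone : ∀ x : St, res x = 1 ↔ ∀ w ∈ W, ρ (x : Γ) w = w := by
    intro x
    constructor
    · intro h w hw
      have := resW_apply ρ W x ⟨w, hw⟩
      rw [← hres, h] at this
      exact this.symm
    · intro h
      apply Units.ext
      ext w
      rw [hres, resW_apply]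
      exact h w w.2
  have hsc : ∀ g ∈ Q₂, ∀ h ∈ Q₂, ∃ c : K, ρ₂ (g * h * g⁻¹ * h⁻¹) = c • 1 := by
    intro g hg h hh
    obtain ⟨g', hg', rfl⟩ := (hmemQ₂ g).mp hg
    obtain ⟨h', hh', rfl⟩ := (hmemQ₂ h).mp hh
    have hcZ : g' * h' * g'⁻¹ * h'⁻¹ ∈ Z := C.comm_mem_zt hg' hh'
    refine ⟨((lam ⟨_, hcZ⟩ : Kˣ) : K), ?_⟩
    rw [← map_inv, ← map_inv, ← map_mul, ← map_mul, ← map_mul]
    exact hscal _ hcZ _
  have hfaith₂ : ∀ g ∈ Q₂, ρ₂ g = 1 → g = 1 := fun g _ h => Units.ext h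
  have huQ₂ : u ∈ normalizer (Q₂ : Set (Module.End K W)ˣ) := by
    apply Subgroup.le_normalizer_map res
    refine ⟨⟨s₁, hs₁St⟩, ?_, rfl⟩
    rw [SetLike.mem_coe, mem_normalizer_iff]
    intro h
    rw [mem_subgroupOf, mem_subgroupOf]
    exact mem_normalizer_iff.mp (C.pow_mem_normalizer d) (h : Γ)
  have huN : u ^ N = 1 := by
    rw [hu, ← map_pow]
    have : (⟨s₁, hs₁St⟩ : St) ^ N = 1 := Subtype.ext (by simpa using hs₁N)
    rw [this, map_one]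
  -- the radical
  set R : Subgroup Γ := (((zc Q₂).comap res) ⊓ Q.subgroupOf St).map St.subtype with hR
  have hmemR : ∀ g : Γ, g ∈ R ↔ ∃ hg : g ∈ Q, res ⟨g, hQSt hg⟩ ∈ zc Q₂ := by
    intro g
    constructor
    · rintro ⟨x, ⟨hx1, hx2⟩, rfl⟩
      exact ⟨mem_subgroupOf.mp hx2, hx1⟩
    · rintro ⟨hg, h⟩
      exact ⟨⟨g, hQSt hg⟩, ⟨h, mem_subgroupOf.mpr hg⟩, rfl⟩
  have hRQ : R ≤ Q := fun g hg => ((hmemR g).mp hg).1
  have hZR : Z ≤ R := by
    intro z hz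
    refine (hmemR z).mpr ⟨zt_le hz, mem_zc.mpr ⟨(hmemQ₂ _).mpr ⟨z, zt_le hz, rfl⟩, ?_⟩⟩
    intro h hh
    obtain ⟨h', hh', rfl⟩ := (hmemQ₂ h).mp hh
    rw [← map_mul, ← map_mul]
    congr 1
    apply Subtype.ext
    exact (C.zt_central hz hh').symm
  have hcent : ∀ r ∈ R, ∀ h (hh : h ∈ Q), ∀ hr : r ∈ Q,
      res ⟨h, hQSt hh⟩ * res ⟨r, hQSt hr⟩ = res ⟨r, hQSt hr⟩ * res ⟨h, hQSt hh⟩ := by
    intro r hr h hh hrQ
    obtain ⟨_, h1⟩ := (hmemR r).mp hr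
    exact (mem_zc.mp h1).2 _ ((hmemQ₂ _).mpr ⟨h, hh, rfl⟩)
  have hQR : Q ≤ normalizer (R : Set Γ) := by
    apply le_normalizer_of_conj_mem
    intro b hb r hr
    have hrQ := hRQ hr
    have hbrQ : b * r * b⁻¹ ∈ Q := Q.mul_mem (Q.mul_mem hb hrQ) (Q.inv_mem hb)
    refine (hmemR _).mpr ⟨hbrQ, ?_⟩
    have h1 : (⟨b * r * b⁻¹, hQSt hbrQ⟩ : St) = ⟨b, hQSt hb⟩ * ⟨r, hQSt hrQ⟩ * (⟨b, hQSt hb⟩ : St)⁻¹ := rfl
    rw [h1, map_mul, map_mul, map_inv, hcent r hr b hb hrQ, mul_inv_cancel_right]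
    exact ((hmemR r).mp hr).2
  have huZ₂ : ∀ j : ℕ, u ^ j ∈ normalizer ((zc Q₂ : Subgroup (Module.End K W)ˣ) : Set (Module.End K W)ˣ) :=
    fun j => pow_mem (normalizer_le_normalizer_zc Q₂ huQ₂) j
  have hs₁R : ∀ j : ℕ, s₁ ^ j ∈ normalizer (R : Set Γ) := by
    intro j
    apply mem_normalizer_of_conj_mem
    intro r hr
    have hrQ := hRQ hr
    have hxQ : s₁ ^ j * r * (s₁ ^ j)⁻¹ ∈ Q := by
      have : s₁ ^ j ∈ normalizer (Q : Set Γ) := pow_mem (C.pow_mem_normalizer d) j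
      exact (mem_normalizer_iff.mp this r).mp hrQ
    refine (hmemR _).mpr ⟨hxQ, ?_⟩
    have h1 : (⟨s₁ ^ j * r * (s₁ ^ j)⁻¹, hQSt hxQ⟩ : St) =
        (⟨s₁, hs₁St⟩ : St) ^ j * ⟨r, hQSt hrQ⟩ * ((⟨s₁, hs₁St⟩ : St) ^ j)⁻¹ := by
      apply Subtype.ext
      simp
    rw [h1, map_mul, map_mul, map_inv, map_pow]
    exact (mem_normalizer_iff.mp (huZ₂ j) _).mp ((hmemR r).mp hr).2
  have hZne₂ : zc Q₂ ≠ Q₂ := by
    intro h
    -- `res a` and `res b` do not commute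
    have ha₂ : res ⟨a, hQSt ha⟩ ∈ zc Q₂ := by rw [h]; exact (hmemQ₂ _).mpr ⟨a, ha, rfl⟩
    have h1 := (mem_zc.mp ha₂).2 _ ((hmemQ₂ _).mpr ⟨b, hb, rfl⟩)
    apply hlam₀
    have h2 : res ⟨g₀, hQSt hg₀Q⟩ = 1 := by
      have h3 : (⟨g₀, hQSt hg₀Q⟩ : St) = ⟨a, hQSt ha⟩ * ⟨b, hQSt hb⟩ * (⟨a, hQSt ha⟩ : St)⁻¹ *
          (⟨b, hQSt hb⟩ : St)⁻¹ := rfl
      rw [h3, map_mul, map_mul, map_mul, map_inv, map_inv, ← h1, mul_inv_cancel_right, mul_inv_cancel]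
    have h4 := hscal g₀ hg₀Z (hQSt hg₀Q)
    rw [h2] at h4
    obtain ⟨w, hw⟩ := exists_ne (0 : W)
    have h5 := congrArg (fun f : Module.End K W => f w) h4
    simp only [Units.val_one, Module.End.one_apply, LinearMap.smul_apply] at h5
    have h6 : ((1 : K) - ((lam ⟨g₀, hg₀Z⟩ : Kˣ) : K)) • w = 0 := by
      rw [sub_smul, one_smul, ← h5, sub_self]
    rcases smul_eq_zero.mp h6 with h7 | h7
    · apply Units.ext
      exact (sub_eq_zero.mp h7).symm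
    · exact absurd h7 hw
  have hsemi₂ : ∀ j, 0 < j → j < N → ∀ g ∈ Q₂, u ^ j * g * (u ^ j)⁻¹ * g⁻¹ ∈ zc Q₂ → g ∈ zc Q₂ := by
    intro j hj0 hjN g hg hmem
    obtain ⟨g', hg', rfl⟩ := (hmemQ₂ g).mp hg
    have hxQ : s₁ ^ j * g' * (s₁ ^ j)⁻¹ * g'⁻¹ ∈ Q := by
      have : s₁ ^ j ∈ normalizer (Q : Set Γ) := pow_mem (C.pow_mem_normalizer d) j
      exact Q.mul_mem ((mem_normalizer_iff.mp this g').mp hg') (Q.inv_mem hg')
    have h1 : (⟨s₁ ^ j * g' * (s₁ ^ j)⁻¹ * g'⁻¹, hQSt hxQ⟩ : St) =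
        (⟨s₁, hs₁St⟩ : St) ^ j * ⟨g', hQSt hg'⟩ * ((⟨s₁, hs₁St⟩ : St) ^ j)⁻¹ *
          (⟨g', hQSt hg'⟩ : St)⁻¹ := by
      apply Subtype.ext
      simp
    have h2 : s₁ ^ j * g' * (s₁ ^ j)⁻¹ * g'⁻¹ ∈ R := by
      refine (hmemR _).mpr ⟨hxQ, ?_⟩
      rw [h1, map_mul, map_mul, map_mul, map_inv, map_inv, map_pow]
      exact hmem
    have h3 : s₁ ^ j = s ^ (d * j) := by rw [hs₁, ← pow_mul]
    rw [h3] at h2
    have h4 : g' ∈ R := C.semireg R hZR hRQ hQR (d * j) (Nat.mul_pos hper hj0)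
      (by rw [← hdN]; exact Nat.mul_lt_mul_of_pos_left hjN hper)
      (by rw [← h3]; exact hs₁R j) hg' h2
    exact ((hmemR g').mp h4).2
  rcases level_two ρ₂ Q₂ hQ₂K hsc hfaith₂ u huQ₂ N hNpos hNK huN hZne₂ hsemi₂ with h | h
  · left
    obtain ⟨w, hw0, hw⟩ := h
    have hw0' : (w : M) ≠ 0 := fun h0 => hw0 (Subtype.ext h0)
    have hfix : ρ s₁ (w : M) = w := by
      have h1 := resW_apply ρ W ⟨s₁, hs₁St⟩ w
      rw [← h1]
      exact congrArg Subtype.val hw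
    refine orbit_sum ρ Z C.zt_comm un lam (w : M) w.2 hw0' hper ?_
    show ρ ((un : Γ) ^ d) (w : M) = w
    exact hfix
  · right
    obtain ⟨N₂, hN₂N, hN₂1, hidx⟩ := h
    refine ⟨lam, d, N₂, R, ⟨rfl, hdvd, ?_, hN₂1, hZR, hRQ, ?_, ?_, ?_, ?_, ?_⟩⟩
    · rw [← hdN, Nat.mul_div_cancel_left _ hper]
      exact hN₂N
    · -- `R ≠ Q`
      intro hRQeq
      apply hZne₂
      apply le_antisymm (zc_le Q₂)
      intro x hx
      obtain ⟨g, hg, rfl⟩ := (hmemQ₂ x).mp hx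
      have : g ∈ R := by rw [hRQeq]; exact hg
      exact ((hmemR g).mp this).2
    · have := hs₁R 1
      rwa [pow_one] at this
    · -- (R3)
      intro g hg hgR
      have h1 : res ⟨g, hQSt hg⟩ ∉ zc Q₂ := fun h => hgR ((hmemR g).mpr ⟨hg, h⟩)
      have h2 : ¬ ∀ h ∈ Q₂, h * res ⟨g, hQSt hg⟩ = res ⟨g, hQSt hg⟩ * h := fun h =>
        h1 (mem_zc.mpr ⟨(hmemQ₂ _).mpr ⟨g, hg, rfl⟩, h⟩)
      push Not at h2
      obtain ⟨h, hh, hne⟩ := h2
      obtain ⟨h', hh', rfl⟩ := (hmemQ₂ h).mp hh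
      have hcZ : g * h' * g⁻¹ * h'⁻¹ ∈ Z := C.comm_mem_zt hg hh'
      refine ⟨h', hh', hcZ, ?_⟩
      intro hone
      apply hne
      have h3 := hscal _ hcZ (hQSt (zt_le hcZ))
      rw [hone] at h3
      have h4 : res ⟨g * h' * g⁻¹ * h'⁻¹, hQSt (zt_le hcZ)⟩ = 1 := by
        apply Units.ext
        rw [h3]
        simp
      have h5 : (⟨g * h' * g⁻¹ * h'⁻¹, hQSt (zt_le hcZ)⟩ : St) =
          ⟨g, hQSt hg⟩ * ⟨h', hQSt hh'⟩ * (⟨g, hQSt hg⟩ : St)⁻¹ * (⟨h', hQSt hh'⟩ : St)⁻¹ := rfl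
      rw [h5, map_mul, map_mul, map_mul, map_inv, map_inv] at h4
      have h6 := mul_inv_eq_one.mp h4
      have h7 := mul_inv_eq_iff_eq_mul.mp h6
      exact h7.symm
    · -- (R4)
      intro r hr h hh hm
      have hrQ := hRQ hr
      have h1 := hcent r hr h hh hrQ
      have h2 : res ⟨r * h * r⁻¹ * h⁻¹, hQSt (zt_le hm)⟩ = 1 := by
        have h5 : (⟨r * h * r⁻¹ * h⁻¹, hQSt (zt_le hm)⟩ : St) =
            ⟨r, hQSt hrQ⟩ * ⟨h, hQSt hh⟩ * (⟨r, hQSt hrQ⟩ : St)⁻¹ * (⟨h, hQSt hh⟩ : St)⁻¹ := rfl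
        rw [h5, map_mul, map_mul, map_mul, map_inv, map_inv, ← h1, mul_inv_cancel_right, mul_inv_cancel]
      have h3 := hscal _ hm (hQSt (zt_le hm))
      rw [h2] at h3
      obtain ⟨w, hw⟩ := exists_ne (0 : W)
      have h5 := congrArg (fun f : Module.End K W => f w) h3
      simp only [Units.val_one, Module.End.one_apply, LinearMap.smul_apply] at h5
      have h6 : ((1 : K) - ((lam ⟨_, hm⟩ : Kˣ) : K)) • w = 0 := by
        rw [sub_smul, one_smul, ← h5, sub_self]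
      rcases smul_eq_zero.mp h6 with h7 | h7
      · apply Units.ext
        exact (sub_eq_zero.mp h7).symm
      · exact absurd h7 hw
    · -- the index
      rw [hidx]
      let f : Q →* Q₂ := (res.comp (Subgroup.inclusion hQSt)).codRestrict Q₂
        (fun g => (hmemQ₂ _).mpr ⟨g.1, g.2, rfl⟩)
      have hf : Function.Surjective f := by
        rintro ⟨x, hx⟩
        obtain ⟨g, hg, rfl⟩ := (hmemQ₂ x).mp hx
        exact ⟨⟨g, hg⟩, rfl⟩
      have h1 : ((zc Q₂).subgroupOf Q₂).comap f = R.subgroupOf Q := by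
        ext g
        rw [mem_comap, mem_subgroupOf, mem_subgroupOf, hmemR]
        constructor
        · intro h
          exact ⟨g.2, h⟩
        · rintro ⟨_, h⟩
          exact h
      show ((zc Q₂).subgroupOf Q₂).index = (R.subgroupOf Q).index
      rw [← h1]
      exact (Subgroup.index_comap_of_surjective (H := (zc Q₂).subgroupOf Q₂) hf).symm

end MinCfg

end Cfsg.Agent.Helper9.Shult
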