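import Mathlib
import Cfsg.Agent.Helper9.ShultB
import Cfsg.Agent.Helper9.ShultG

/-!
# Shult–Gross, part H: the exceptional case is impossible for odd `p`
-/

set_option autoImplicit false
set_option linter.style.haveILetI false
set_option linter.unusedSectionVars false
set_option maxHeartbeats 1600000

namespace Cfsg.Agent.Helper9.Shult

open Module Subgroup Cfsg.Agent.Helper9.Ward
open Pointwise

/-- the arithmetic of the exceptional case, part 1 -/
theorem exc_num1 {p q m' b N₂ : ℕ} (hp : p.Prime) (hp2 : p ≠ 2) (hq : q.Prime) (hm' : 0 < m')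
    (hN₂ : N₂ = p ^ m') (h : (N₂ - 1) ^ 2 = q ^ b) :
    q = 2 ∧ ∃ e₂, 0 < e₂ ∧ p ^ m' = 2 ^ e₂ + 1 ∧ q ^ b = 2 ^ (2 * e₂) := by
  have hodd : Odd N₂ := by rw [hN₂]; exact (hp.odd_of_ne_two hp2).pow
  have hN₂3 : 3 ≤ N₂ := by
    have h1 : p ^ 1 ≤ p ^ m' := Nat.pow_le_pow_right hp.pos hm'
    have h2 : 2 ≤ p := hp.two_le
    have h3 : p ≠ 2 := hp2
    rw [pow_one] at h1
    rw [hN₂]
    omega
  have heven : 2 ∣ N₂ - 1 := by
    obtain ⟨c, hc⟩ := hodd
    exact ⟨c, by omega⟩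
  have h2q : 2 ∣ q ^ b := by
    rw [← h]
    exact heven.trans (dvd_pow_self _ two_ne_zero)
  have hq2 : q = 2 := ((Nat.prime_dvd_prime_iff_eq Nat.prime_two hq).mp
    (Nat.prime_two.dvd_of_dvd_pow h2q)).symm
  subst hq2
  refine ⟨rfl, ?_⟩
  have hdvd : N₂ - 1 ∣ 2 ^ b := by rw [← h]; exact dvd_pow_self _ two_ne_zero
  obtain ⟨e₂, -, he₂⟩ := (Nat.dvd_prime_pow Nat.prime_two).mp hdvd
  have he₂0 : 0 < e₂ := by
    rcases Nat.eq_zero_or_pos e₂ with h0 | h0
    · rw [h0, pow_zero] at he₂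
      omega
    · exact h0
  refine ⟨e₂, he₂0, ?_, ?_⟩
  · rw [← hN₂, ← he₂]
    omega
  · rw [← h, he₂, ← pow_mul, mul_comm]

variable {Γ : Type*} [Group Γ] {K : Type*} [Field K]

namespace MinCfg

variable {p q n : ℕ} {Q : Subgroup Γ} {s : Γ}

theorem un_pow_coe (C : MinCfg p q n Q s) (i : ℕ) :
    ((C.un ^ i : ↥(normalizer (zt p n Q s : Set Γ))) : Γ) = s ^ i := by
  simp [MinCfg.un]

variable [Finite Γ]

theorem exc_false (C : MinCfg p q n Q s) (hp2 : p ≠ 2) {lam : ↥(zt p n Q s) →* Kˣ} {d N₂ : ℕ}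
    {R : Subgroup Γ} (E : ExcData C lam d N₂ R) : False := by
  classical
  letI := chAction (zt p n Q s) Kˣ
  have hp := C.hp
  have hq := C.hq
  -- numerics
  obtain ⟨k, hk, hdk⟩ := (Nat.dvd_prime_pow hp).mp E.hd
  have hn := C.hn
  have hkn : k ≤ n := by omega
  have hdpos : 0 < d := by rw [hdk]; exact pow_pos hp.pos _
  have hdiv : p ^ n / d = p ^ (n - k) := by rw [hdk]; exact Nat.pow_div hkn hp.pos
  obtain ⟨m', hm', hN₂m⟩ := (Nat.dvd_prime_pow hp).mp (hdiv ▸ E.hN₂)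
  have hm'0 : 0 < m' := by
    rcases Nat.eq_zero_or_pos m' with h0 | h0
    · have := E.hN₂1
      rw [hN₂m, h0, pow_zero] at this
      omega
    · exact h0
  haveI : Finite Q := inferInstance
  haveI : Fact q.Prime := ⟨hq⟩
  obtain ⟨a, ha⟩ := C.hQ.exists_card_eq
  obtain ⟨b, -, hb⟩ := (Nat.dvd_prime_pow hq).mp (ha ▸ (relIndex_dvd_card (H := R) (K := Q)))
  obtain ⟨hq2, e₂, he₂0, hpm, hI⟩ := exc_num1 hp hp2 hq hm'0 hN₂m (E.hidx.trans hb)
  have hI' : R.relIndex Q = 2 ^ (2 * e₂) := hb.trans hI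
  obtain ⟨e, -, he⟩ := (Nat.dvd_prime_pow hq).mp (ha ▸ (relIndex_dvd_card (H := (zt p n Q s)) (K := Q)))
  rw [hq2] at he
  have he0 : 0 < e := by
    rcases Nat.eq_zero_or_pos e with h0 | h0
    · rw [h0, pow_zero, relIndex_eq_one] at he
      exact absurd (le_antisymm zt_le he) C.zt_ne
    · exact h0
  have hdvd : p ^ (m' + k) ∣ 2 ^ e - 1 := by
    have h1 : p ^ (m' + k) ∣ p ^ n := pow_dvd_pow p (by omega)
    have h2 := C.pow_dvd_relIndex_sub_one
    rw [he] at h2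
    exact h1.trans h2
  have hkey : 2 * e₂ * d ≤ e := by
    have := two_mul_pow_dvd_of_dvd hp hp2 hpm hm'0 he₂0 he0 hdvd
    rw [← hdk] at this
    exact Nat.le_of_dvd he0 this
  -- conjugates of `R`
  set Ri : ℕ → Subgroup Γ := fun i => MulAut.conj (s ^ i) • R with hRi
  have hmemRi : ∀ i g, g ∈ Ri i ↔ (s ^ i)⁻¹ * g * s ^ i ∈ R := fun i g => mem_conj_smul
  have hRi0 : Ri 0 = R := by
    ext g
    rw [hmemRi]
    simp
  have hsQ : ∀ i : ℕ, ∀ g ∈ Q, (s ^ i)⁻¹ * g * s ^ i ∈ Q := by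
    intro i g hg
    have h1 : (s ^ i)⁻¹ ∈ normalizer (Q : Set Γ) := inv_mem (C.pow_mem_normalizer i)
    have := (mem_normalizer_iff.mp h1 g).mp hg
    rwa [inv_inv] at this
  have hRiQ : ∀ i, Ri i ≤ Q := by
    intro i g hg
    have h1 := E.hRQ ((hmemRi i g).mp hg)
    have h2 := (mem_normalizer_iff.mp (C.pow_mem_normalizer i) _).mp h1
    have e1 : s ^ i * ((s ^ i)⁻¹ * g * s ^ i) * (s ^ i)⁻¹ = g := by group
    rwa [e1] at h2
  have hRiidx : ∀ i, (Ri i).relIndex Q = R.relIndex Q := by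
    intro i
    have h1 := Subgroup.relIndex_pointwise_smul (MulAut.conj (s ^ i)) R Q
    have h2 : MulAut.conj (s ^ i) • Q = Q := conj_smul_le_of_mem_normalizer (C.pow_mem_normalizer i)
    rw [h2] at h1
    exact h1
  have hRisucc : ∀ i g, g ∈ Ri i → s * g * s⁻¹ ∈ Ri (i + 1) := by
    intro i g hg
    rw [hmemRi] at hg ⊢
    have e1 : (s ^ (i + 1))⁻¹ * (s * g * s⁻¹) * s ^ (i + 1) = (s ^ i)⁻¹ * g * s ^ i := by
      rw [pow_succ]; group
    rw [e1]; exact hg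
  have hRid : Ri d = R := conj_smul_le_of_mem_normalizer E.hsR
  -- the transported `hR4`
  have hR4' : ∀ i : ℕ, ∀ g ∈ Ri i, ∀ h ∈ Q, ∀ hm : g * h * g⁻¹ * h⁻¹ ∈ (zt p n Q s),
      lam (conjInv (zt p n Q s) (C.un ^ i) ⟨_, hm⟩) = 1 := by
    intro i g hg h hh hm
    have hm' := (conjInv (zt p n Q s) (C.un ^ i) ⟨_, hm⟩).2
    have e1 : ((conjInv (zt p n Q s) (C.un ^ i) ⟨_, hm⟩ : ↥(zt p n Q s)) : Γ) =
        ((s ^ i)⁻¹ * g * s ^ i) * ((s ^ i)⁻¹ * h * s ^ i) * ((s ^ i)⁻¹ * g * s ^ i)⁻¹ *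
          ((s ^ i)⁻¹ * h * s ^ i)⁻¹ := by
      rw [conjInv_coe, C.un_pow_coe]
      group
    have hm'' : ((s ^ i)⁻¹ * g * s ^ i) * ((s ^ i)⁻¹ * h * s ^ i) * ((s ^ i)⁻¹ * g * s ^ i)⁻¹ *
          ((s ^ i)⁻¹ * h * s ^ i)⁻¹ ∈ (zt p n Q s) := by rw [← e1]; exact hm'
    have := E.hR4 _ ((hmemRi i g).mp hg) _ (hsQ i h hh) hm''
    rw [← this]
    congr 1
    exact Subtype.ext e1
  by_cases hcase : ∃ g ∈ Q, g ∉ R ∧ ∀ i, 0 < i → i < d → g ∈ Ri i
  · -- case (i): the product of the conjugate characters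
    obtain ⟨g, hgQ, hgR, hgi⟩ := hcase
    obtain ⟨h, hhQ, hm, hlam⟩ := E.hR3 g hgQ hgR
    set Λ : ↥(zt p n Q s) →* Kˣ := ∏ i ∈ Finset.range d, lam.comp (conjInv (zt p n Q s) (C.un ^ i)) with hΛ
    have hΛapp : ∀ z, Λ z = ∏ i ∈ Finset.range d, lam (conjInv (zt p n Q s) (C.un ^ i) z) := by
      intro z
      rw [hΛ, MonoidHom.finsetProd_apply]
      rfl
    have hΛinv : ∀ z : ↥(zt p n Q s), ∀ hz : s⁻¹ * (z : Γ) * s ∈ (zt p n Q s), Λ ⟨s⁻¹ * z * s, hz⟩ = Λ z := by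
      intro z hz
      rw [hΛapp, hΛapp]
      have h1 : ∀ i ∈ Finset.range d, lam (conjInv (zt p n Q s) (C.un ^ i) ⟨s⁻¹ * z * s, hz⟩) =
          lam (conjInv (zt p n Q s) (C.un ^ (i + 1)) z) := by
        intro i _
        congr 1
        apply Subtype.ext
        rw [conjInv_coe, conjInv_coe, C.un_pow_coe, C.un_pow_coe, pow_succ]
        group
      rw [Finset.prod_congr rfl h1]
      have h2 := Finset.prod_range_succ' (fun i => lam (conjInv (zt p n Q s) (C.un ^ i) z)) d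
      have h3 := Finset.prod_range_succ (fun i => lam (conjInv (zt p n Q s) (C.un ^ i) z)) d
      rw [h3] at h2
      have h4 : lam (conjInv (zt p n Q s) (C.un ^ d) z) = lam (conjInv (zt p n Q s) (C.un ^ 0) z) := by
        have h5 : C.un ^ d • lam = lam := by
          have := MulAction.pow_period_smul C.un lam
          rwa [E.hper] at this
        have h6 : (C.un ^ d • lam) z = lam z := by rw [h5]
        have h7 : lam (conjInv (zt p n Q s) (C.un ^ 0) z) = lam z := by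
          congr 1
          apply Subtype.ext
          rw [conjInv_coe]
          simp
        rw [h7, ← h6]
        rfl
      rw [h4] at h2
      exact (mul_right_cancel h2).symm
    have hΛ1 := C.char_eq_one_of_invariant Λ hΛinv ⟨_, hm⟩
    rw [hΛapp, Finset.prod_eq_single 0] at hΛ1
    · apply hlam
      rw [← hΛ1]
      congr 1
      apply Subtype.ext
      rw [conjInv_coe]
      simp
    · intro i hi hi0
      exact hR4' i g (hgi i (Nat.pos_of_ne_zero hi0) (Finset.mem_range.mp hi)) h hhQ hm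
    · intro h0
      exact absurd (Finset.mem_range.mpr hdpos) h0
  · -- case (ii): counting
    push Not at hcase
    set T : Subgroup Γ := Q ⊓ ⨅ i : Fin (d - 1), Ri ((i : ℕ) + 1) with hT
    have hTQ : T ≤ Q := inf_le_left
    have hTi : ∀ i, 0 < i → i < d → T ≤ Ri i := by
      intro i hi0 hid
      have h1 : T ≤ Ri (((⟨i - 1, by omega⟩ : Fin (d - 1)) : ℕ) + 1) :=
        inf_le_right.trans (iInf_le (fun i : Fin (d - 1) => Ri ((i : ℕ) + 1)) ⟨i - 1, by omega⟩)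
      have h2 : ((⟨i - 1, by omega⟩ : Fin (d - 1)) : ℕ) + 1 = i := by
        show i - 1 + 1 = i
        omega
      rwa [h2] at h1
    have hTR : T ≤ R := by
      intro g hg
      by_contra hgR
      obtain ⟨i, hi0, hid, hgi⟩ := hcase g (hTQ hg) hgR
      exact hgi (hTi i hi0 hid hg)
    have hsT : s ∈ normalizer (T : Set Γ) := by
      apply mem_normalizer_of_conj_mem
      intro g hg
      refine mem_inf.mpr ⟨(mem_normalizer_iff.mp C.hsQ g).mp (hTQ hg), ?_⟩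
      rw [mem_iInf]
      intro i
      apply hRisucc
      rcases Nat.eq_zero_or_pos (i : ℕ) with h0 | h0
      · rw [h0, hRi0]; exact hTR hg
      · exact hTi _ h0 (by have := i.2; omega) hg
    have hTne : T ≠ Q := by
      intro h
      apply E.hRne
      exact le_antisymm E.hRQ (h ▸ hTR)
    have hTZ : T ≤ (zt p n Q s) := C.le_zt_of_ne hTQ hsT hTne
    have h1 : (zt p n Q s).relIndex Q ∣ T.relIndex Q := relIndex_dvd_of_le_left Q hTZ
    have h2 : T.relIndex Q ≠ 0 := by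
      haveI : T.IsFiniteRelIndex Q := ⟨by
        rw [relIndex]
        exact index_ne_zero_of_finite⟩
      exact relIndex_ne_zero
    have h3 : T.relIndex Q = (⨅ i : Fin (d - 1), Ri ((i : ℕ) + 1)).relIndex Q := by
      rw [hT, inf_relIndex_left]
    have h4 : (⨅ i : Fin (d - 1), Ri ((i : ℕ) + 1)).relIndex Q ≤
        ∏ i : Fin (d - 1), (Ri ((i : ℕ) + 1)).relIndex Q := relIndex_iInf_le _
    have h5 : ∏ i : Fin (d - 1), (Ri ((i : ℕ) + 1)).relIndex Q = (2 ^ (2 * e₂)) ^ (d - 1) := by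
      rw [Finset.prod_congr rfl (fun i _ => (hRiidx _).trans hI')]
      simp
    have h6 : 2 ^ e ≤ 2 ^ (2 * e₂ * (d - 1)) := by
      rw [← he, pow_mul, ← h5]
      exact (Nat.le_of_dvd (Nat.pos_of_ne_zero h2) h1).trans (h3 ▸ h4)
    have h7 : e ≤ 2 * e₂ * (d - 1) := (Nat.pow_le_pow_iff_right (by norm_num)).mp h6
    have h8 : 2 * e₂ * (d - 1) < 2 * e₂ * d := by
      apply Nat.mul_lt_mul_of_pos_left
      · omega
      · omega
    omega

end MinCfg

end Cfsg.Agent.Helper9.Shult
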