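import Mathlib
import Cfsg.Agent.Helper9.ShultH

/-!
# Shult–Gross, part I: the module theorem over an algebraically closed field
-/

set_option autoImplicit false
set_option linter.style.haveILetI false
set_option linter.unusedSectionVars false

namespace Cfsg.Agent.Helper9.Shult

open Module Subgroup

/-- **Shult's theorem, algebraically closed form.**  `s` of order dividing `p ^ n` (`p` odd) acts
fixed-point-freely on the `q`-group `Q`, `s ^ (p ^ (n-1))` does not centralise `Q`, and `Q ⟨s⟩` acts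
on a module in characteristic prime to `p q`, faithfully on `Q`: then `s` has a nonzero fixed
vector. -/
theorem shult_alg {Γ : Type*} [Group Γ] [Finite Γ] {K : Type*} [Field K] [IsAlgClosed K]
    {M : Type*} [AddCommGroup M] [Module K M] [FiniteDimensional K M]
    {p q n : ℕ} (hp : p.Prime) (hp2 : p ≠ 2) (hq : q.Prime) (hqp : q ≠ p) (hn : 0 < n)
    (Q : Subgroup Γ) (hQ : IsPGroup q Q) (s : Γ) (hsQ : s ∈ Subgroup.normalizer (Q : Set Γ))
    (hs : s ^ (p ^ n) = 1) (hfpf : ∀ g ∈ Q, s * g * s⁻¹ = g → g = 1)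
    (hnt : ∃ g ∈ Q, s ^ (p ^ (n - 1)) * g * (s ^ (p ^ (n - 1)))⁻¹ ≠ g)
    (ρ : Representation K Γ M) (hpK : (p : K) ≠ 0) (hqK : (q : K) ≠ 0)
    (hfaith : ∀ g ∈ Q, ρ g = 1 → g = 1) : ∃ m : M, m ≠ 0 ∧ ρ s m = m := by
  obtain ⟨Q₁, hQ₁Q, C⟩ := exists_minCfg hp hq hqp hn Q hQ s hsQ hs hfpf hnt
  have hfaith₁ : ∀ g ∈ Q₁, ρ g = 1 → g = 1 := fun g hg => hfaith g (hQ₁Q hg)
  by_cases hab : ∀ a ∈ Q₁, ∀ b ∈ Q₁, a * b = b * a
  · exact C.core_abelian ρ hqK hfaith₁ hab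
  · push Not at hab
    obtain ⟨a, ha, b, hb, hne⟩ := hab
    rcases C.level_one ρ hpK hqK hfaith₁ ⟨a, ha, b, hb, hne⟩ with h | ⟨lam, d, N₂, R, E⟩
    · exact h
    · exact (C.exc_false hp2 E).elim

end Cfsg.Agent.Helper9.Shult
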