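import Mathlib

/-!
# Shult–Gross, part J: the lower nilpotent series (iterated nilpotent residuals)
-/

set_option autoImplicit false
set_option linter.style.haveILetI false

namespace Cfsg.Agent.Helper9.Shult

open Subgroup

variable {X : Type*} [Group X]

/-- the nilpotent residual of a subgroup, as a subgroup of the ambient group -/
def nilRes (H : Subgroup X) : Subgroup X := ⨅ k : ℕ, H.lowerCentralSeries k

/-- iterated nilpotent residuals -/
def lowerNil (H : Subgroup X) : ℕ → Subgroup X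
  | 0 => H
  | (m + 1) => nilRes (lowerNil H m)

theorem lowerNil_zero (H : Subgroup X) : lowerNil H 0 = H := rfl

theorem lowerNil_succ (H : Subgroup X) (m : ℕ) : lowerNil H (m + 1) = nilRes (lowerNil H m) := rfl

theorem nilRes_le_lcs (H : Subgroup X) (k : ℕ) : nilRes H ≤ H.lowerCentralSeries k :=
  iInf_le _ k

theorem nilRes_le (H : Subgroup X) : nilRes H ≤ H := by
  have := nilRes_le_lcs H 0
  rwa [Subgroup.lowerCentralSeries_zero] at this

theorem lowerNil_succ_le (H : Subgroup X) (m : ℕ) : lowerNil H (m + 1) ≤ lowerNil H m :=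
  nilRes_le _

theorem lowerNil_antitone (H : Subgroup X) : Antitone (lowerNil H) :=
  antitone_nat_of_succ_le (lowerNil_succ_le H)

theorem lowerNil_le (H : Subgroup X) (m : ℕ) : lowerNil H m ≤ H :=
  lowerNil_antitone H (Nat.zero_le m)

theorem exists_lcs_eq_nilRes [Finite X] (H : Subgroup X) :
    ∃ k₀ : ℕ, ∀ k, k₀ ≤ k → H.lowerCentralSeries k = nilRes H := by
  let a : ℕ →o (Subgroup X)ᵒᵈ :=
    ⟨fun k => OrderDual.toDual (H.lowerCentralSeries k), fun i j hij =>
      OrderDual.toDual_le_toDual.mpr (H.lowerCentralSeries_antitone hij)⟩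
  obtain ⟨k₀, hk₀⟩ := WellFoundedGT.monotone_chain_condition a
  have hk₀' : ∀ m, k₀ ≤ m → H.lowerCentralSeries k₀ = H.lowerCentralSeries m := fun m hm =>
    congrArg OrderDual.ofDual (hk₀ m hm)
  have hres : nilRes H = H.lowerCentralSeries k₀ := by
    apply le_antisymm (nilRes_le_lcs H k₀)
    apply le_iInf
    intro k
    rcases le_total k₀ k with h | h
    · rw [← hk₀' k h]
    · exact H.lowerCentralSeries_antitone h
  refine ⟨k₀, fun k hk => ?_⟩
  rw [hres, ← hk₀' k hk]

theorem nilRes_map [Finite X] {Y : Type*} [Group Y] (f : X →* Y) (H : Subgroup X) :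
    nilRes (H.map f) = (nilRes H).map f := by
  obtain ⟨k₀, hk₀⟩ := exists_lcs_eq_nilRes H
  apply le_antisymm
  · rw [← hk₀ k₀ le_rfl, Subgroup.map_lowerCentralSeries]
    exact nilRes_le_lcs _ k₀
  · apply le_iInf
    intro k
    rw [← Subgroup.map_lowerCentralSeries]
    exact Subgroup.map_mono (nilRes_le_lcs H k)

theorem lowerNil_map [Finite X] {Y : Type*} [Group Y] (f : X →* Y) (H : Subgroup X) (m : ℕ) :
    lowerNil (H.map f) m = (lowerNil H m).map f := by
  induction m with
  | zero => rfl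
  | succ m ih => rw [lowerNil_succ, lowerNil_succ, ih, nilRes_map]

theorem nilRes_normal (H : Subgroup X) [H.Normal] : (nilRes H).Normal :=
  Subgroup.normal_iInf_normal (fun k => Subgroup.lowerCentralSeries_normal H k)

theorem lowerNil_normal (H : Subgroup X) [hH : H.Normal] (m : ℕ) : (lowerNil H m).Normal := by
  induction m with
  | zero => exact hH
  | succ m ih =>
    rw [lowerNil_succ]
    haveI := ih
    exact nilRes_normal _

/-- the induction step -/
theorem lowerNil_succ_eq_bot [Finite X] (G V : Subgroup X) (m : ℕ) (h1 : lowerNil G (m + 1) ≤ V)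
    (h2 : lowerNil G m ≤ Subgroup.centralizer (V : Set X)) : lowerNil G (m + 1) = ⊥ := by
  set H := lowerNil G m with hH
  obtain ⟨k₀, hk₀⟩ := exists_lcs_eq_nilRes H
  rw [eq_bot_iff]
  calc lowerNil G (m + 1) = nilRes H := rfl
    _ ≤ H.lowerCentralSeries (k₀ + 1) := nilRes_le_lcs H _
    _ = ⁅H.lowerCentralSeries k₀, H⁆ := Subgroup.lowerCentralSeries_succ H k₀
    _ ≤ ⁅V, Subgroup.centralizer (V : Set X)⁆ := by
        apply Subgroup.commutator_mono _ h2
        rw [hk₀ k₀ le_rfl]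
        exact h1
    _ ≤ ⊥ := by
        rw [le_bot_iff, Subgroup.commutator_comm, Subgroup.commutator_eq_bot_iff_le_centralizer]

/-- the final chain -/
theorem exists_chain [Finite X] (n : ℕ) (h : lowerNil (⊤ : Subgroup X) n = ⊥) :
    ∃ F : Fin (n + 1) → Subgroup X, F 0 = ⊥ ∧ F (Fin.last n) = ⊤ ∧ Monotone F ∧
      (∀ i, (F i).Normal) ∧
      ∀ i : Fin n, ∃ k : ℕ, (F i.succ).lowerCentralSeries k ≤ F i.castSucc := by
  refine ⟨fun i => lowerNil ⊤ (n - (i : ℕ)), ?_, ?_, ?_, ?_, ?_⟩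
  · show lowerNil ⊤ (n - ((0 : Fin (n + 1)) : ℕ)) = ⊥
    rw [Fin.val_zero, Nat.sub_zero, h]
  · show lowerNil ⊤ (n - ((Fin.last n : Fin (n + 1)) : ℕ)) = ⊤
    rw [Fin.val_last, Nat.sub_self]
    rfl
  · intro i j hij
    apply lowerNil_antitone
    have : (i : ℕ) ≤ j := hij
    omega
  · intro i
    exact lowerNil_normal ⊤ _
  · intro i
    show ∃ k : ℕ, (lowerNil ⊤ (n - ((i.succ : Fin (n + 1)) : ℕ))).lowerCentralSeries k ≤
      lowerNil ⊤ (n - ((i.castSucc : Fin (n + 1)) : ℕ))
    rw [Fin.val_succ, Fin.val_castSucc]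
    have hi := i.2
    obtain ⟨k₀, hk₀⟩ := exists_lcs_eq_nilRes (lowerNil (⊤ : Subgroup X) (n - ((i : ℕ) + 1)))
    refine ⟨k₀, ?_⟩
    rw [hk₀ k₀ le_rfl]
    have : n - (i : ℕ) = (n - ((i : ℕ) + 1)) + 1 := by omega
    rw [this, lowerNil_succ]

end Cfsg.Agent.Helper9.Shult
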