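import Mathlib
import Cfsg.Agent.Helper1.MinNormal
import Cfsg.Agent.Helper9.WardA
import Cfsg.Agent.Helper8.ShultBC
import Cfsg.Agent.Helper13.ShultFit
import Cfsg.Agent.Helper9.ShultJ
import Cfsg.Agent.Lead.Coprime2
import Cfsg.Agent.Lead.Fpf3

/-!
# Shult–Gross, part K: the main induction
-/

set_option autoImplicit false
set_option linter.style.haveILetI false
set_option linter.unusedSectionVars false
set_option maxHeartbeats 1600000

namespace Cfsg.Agent.Helper9.Shult

open Subgroup Cfsg.Agent.Helper9.Ward
open Cfsg.Agent.Lead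

universe u

section fpfmap

variable {X : Type*} [Group X] [Finite X]

/-- fixed-point-freeness passes to images -/
theorem fpf_map {p : ℕ} (G : Subgroup X) [hG : G.Normal] (s : X)
    (hcop : (Nat.card G).Coprime p) (hsp : ∃ M : ℕ, s ^ (p ^ M) = 1)
    (hfpf : ∀ g ∈ G, s * g * s⁻¹ = g → g = 1) {Y : Type*} [Group Y] (f : X →* Y) :
    ∀ y ∈ G.map f, f s * y * (f s)⁻¹ = y → y = 1 := by
  rintro _ ⟨g, hg, rfl⟩ hy
  set A := zpowers s with hA
  set N := G ⊓ f.ker with hN
  haveI hNn : N.Normal := by rw [hN]; infer_instance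
  have hnorm : ∀ {H B : Subgroup X}, H.Normal → B ≤ normalizer (H : Set X) := fun hH => by
    rw [normalizer_eq_top_iff.mpr hH]; exact le_top
  obtain ⟨M, hM⟩ := hsp
  have hcardA : Nat.card A ∣ p ^ M := by
    rw [hA, Nat.card_zpowers]
    exact orderOf_dvd_of_pow_eq_one hM
  have hcopA : (Nat.card A).Coprime (Nat.card G) :=
    Nat.Coprime.coprime_dvd_left hcardA (hcop.symm.pow_left M)
  have hfix : ∀ a ∈ A, a * g * a⁻¹ * g⁻¹ ∈ N := by
    intro a ha
    refine mem_inf.mpr ⟨G.mul_mem (hG.conj_mem g hg a) (G.inv_mem hg), ?_⟩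
    rw [MonoidHom.mem_ker]
    obtain ⟨k, rfl⟩ := mem_zpowers_iff.mp ha
    have h1 : Commute (f s) (f g) := by
      show f s * f g = f g * f s
      calc f s * f g = (f s * f g * (f s)⁻¹) * f s := by group
        _ = f g * f s := by rw [hy]
    have h2 : Commute (f (s ^ k)) (f g) := by
      rw [map_zpow]; exact h1.zpow_left k
    rw [map_mul, map_mul, map_mul, map_inv, map_inv, h2.eq]
    group
  obtain ⟨c, hc, hgc⟩ := coprime_fixed_points_quotient A G (hnorm hG) hcopA
    (Or.inl (isSolvable_of_isMulCommutative A)) N inf_le_left (hnorm hNn) (hnorm hNn) g hg hfix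
  have hc1 : c = 1 := by
    apply hfpf c hc.1
    have := (mem_centralizer_iff.mp hc.2) s (mem_zpowers s)
    rw [this]; group
  rw [hc1, mul_one] at hgc
  have hgN : g ∈ N := by
    have := N.inv_mem hgc
    rwa [inv_inv] at this
  exact MonoidHom.mem_ker.mp hgN.2

end fpfmap

theorem main_aux (N : ℕ) : ∀ {X : Type u} [Group X] [Finite X] (p n : ℕ) (G : Subgroup X)
    [G.Normal] (s : X), Nat.card X = N → p.Prime → p ≠ 2 → (Nat.card G).Coprime p →
    Group.IsSolvable G → (∃ M : ℕ, s ^ (p ^ M) = 1) →
    (∀ g ∈ G, s ^ (p ^ n) * g * (s ^ (p ^ n))⁻¹ = g) →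
    (∀ g ∈ G, s * g * s⁻¹ = g → g = 1) → lowerNil G n = ⊥ := by
  induction N using Nat.strong_induction_on with
  | _ N ih =>
    intro X _ _ p n G hG s hN hp hp2 hcop hsolvG hsp hcen hfpf
    by_cases hG1 : G = ⊥
    · rw [eq_bot_iff, ← hG1]; exact lowerNil_le G n
    have hn : 0 < n := by
      rcases Nat.eq_zero_or_pos n with h0 | h0
      · exfalso
        apply hG1
        rw [eq_bot_iff]
        intro g hg
        have := hcen g hg
        rw [h0, pow_zero, pow_one] at this
        exact hfpf g hg this
      · exact h0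
    -- a minimal normal subgroup
    obtain ⟨V, hVG, hVmin'⟩ := Finite.exists_le_minimal
      (p := fun V : Subgroup X => V ≠ ⊥ ∧ V.Normal) (a := G) ⟨hG1, hG⟩
    have hVne : V ≠ ⊥ := hVmin'.prop.1
    haveI hVn : V.Normal := hVmin'.prop.2
    have hVmin : ∀ U : Subgroup X, U.Normal → U ≤ V → U = ⊥ ∨ U = V := by
      intro U hU hUV
      by_cases h : U = ⊥
      · exact Or.inl h
      · exact Or.inr (le_antisymm hUV (hVmin'.le_of_le ⟨h, hU⟩ hUV))
    have hVsolv : Group.IsSolvable V :=
      Group.isSolvable_of_isSolvable_injective (f := Subgroup.inclusion hVG)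
        (Subgroup.inclusion_injective hVG)
    obtain ⟨hVcomm, r, hr, hVexp⟩ :=
      Cfsg.Agent.Helper1.minNormal_elementary V hVne hVsolv hVmin
    haveI : Fact r.Prime := ⟨hr⟩
    have hrp : r ≠ p := by
      intro h
      subst h
      obtain ⟨m, hm⟩ := (isPGroup_of_exp V hVexp).exists_card_eq
      have hm0 : m ≠ 0 := by
        intro h0
        rw [h0, pow_zero] at hm
        exact hVne (Subgroup.card_eq_one.mp hm)
      have h1 : r ∣ Nat.card G :=
        (dvd_pow_self r hm0).trans (hm ▸ Subgroup.card_dvd_of_le hVG)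
      have h2 : r ∣ 1 := by
        have := Nat.dvd_gcd h1 (dvd_refl r)
        rwa [hcop] at this
      exact hr.one_lt.ne' (Nat.dvd_one.mp h2)
    -- general facts about images
    have himg : ∀ {Y : Type u} [Group Y] (f : X →* Y), Function.Surjective f →
        (G.map f).Normal ∧ (Nat.card (G.map f)).Coprime p ∧ Group.IsSolvable (G.map f) ∧
        (∃ M : ℕ, (f s) ^ (p ^ M) = 1) ∧
        (∀ y ∈ G.map f, f s * y * (f s)⁻¹ = y → y = 1) ∧
        ∀ j : ℕ, (∀ g ∈ G, s ^ j * g * (s ^ j)⁻¹ = g) →
          ∀ y ∈ G.map f, (f s) ^ j * y * ((f s) ^ j)⁻¹ = y := by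
      intro Y _ f hf
      refine ⟨hG.map f hf, hcop.coprime_dvd_left (Subgroup.card_map_dvd G f),
        Group.isSolvable_of_surjective (f := f.subgroupMap G) (f.subgroupMap_surjective G), ?_,
        fpf_map G s hcop hsp hfpf f, ?_⟩
      · obtain ⟨M, hM⟩ := hsp
        exact ⟨M, by rw [← map_pow, hM, map_one]⟩
      · rintro j hj _ ⟨g, hg, rfl⟩
        rw [← map_pow, ← map_inv, ← map_mul, ← map_mul, hj g hg]
    -- the quotient by `V`
    have hstep1 : lowerNil G n ≤ V := by
      set π := QuotientGroup.mk' V with hπdef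
      have hπ : Function.Surjective π := QuotientGroup.mk'_surjective V
      have hkerπ : π.ker = V := QuotientGroup.ker_mk' V
      have hlt : Nat.card (X ⧸ V) < N := hN ▸ Cfsg.Agent.Lead.Fpf.card_quotient_lt hVne
      obtain ⟨h1, h2, h3, h4, h5, h6⟩ := himg π hπ
      haveI := h1
      have := ih _ hlt p n (G.map π) (π s) rfl hp hp2 h2 h3 h4 (h6 _ hcen) h5
      rw [lowerNil_map, Subgroup.map_eq_bot_iff, hkerπ] at this
      exact this
    -- the quotient by `C_X(V)`
    have hstep2 : lowerNil G (n - 1) ≤ centralizer (V : Set X) := by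
      set C : Subgroup X := centralizer (V : Set X) with hC
      haveI hCn : C.Normal := by rw [hC]; infer_instance
      haveI := hVcomm
      have hVC : V ≤ C := le_centralizer_of_isMulCommutative V
      have hCne : C ≠ ⊥ := fun h => hVne (le_bot_iff.mp (h ▸ hVC))
      set π := QuotientGroup.mk' C with hπdef
      have hπ : Function.Surjective π := QuotientGroup.mk'_surjective C
      have hkerπ : π.ker = C := QuotientGroup.ker_mk' C
      have hlt : Nat.card (X ⧸ C) < N := hN ▸ Cfsg.Agent.Lead.Fpf.card_quotient_lt hCne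
      obtain ⟨h1, h2, h3, h4, h5, h6⟩ := himg π hπ
      haveI := h1
      letI instV : CommGroup ↥V :=
        { (inferInstance : Group ↥V) with mul_comm := fun a b => mul_comm' a b }
      -- the action on `V`
      let φ : X ⧸ C →* MulAut ↥V :=
        QuotientGroup.lift C (MulAut.conjNormal (H := V)) (by
          intro x hx
          rw [MonoidHom.mem_ker]
          ext v
          rw [MulAut.conjNormal_apply]
          have := (mem_centralizer_iff.mp hx) v v.2
          simp only [MulAut.one_apply]
          rw [← this]; group)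
      have hφmk : ∀ (x : X) (v : ↥V), ((φ (π x) v : ↥V) : X) = x * v * x⁻¹ := by
        intro x v
        show ((QuotientGroup.lift C (MulAut.conjNormal (H := V)) _ (QuotientGroup.mk x) v : ↥V) : X) = _
        rw [QuotientGroup.lift_mk, MulAut.conjNormal_apply]
      have hφinj : Function.Injective φ := by
        rw [injective_iff_map_eq_one]
        intro y hy
        obtain ⟨x, rfl⟩ := hπ y
        have hx : x ∈ C := by
          rw [hC, mem_centralizer_iff]
          intro v hv
          have h7 := hφmk x ⟨v, hv⟩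
          rw [hy] at h7
          simp only [MulAut.one_apply] at h7
          calc v * x = (x * v * x⁻¹) * x := by rw [← h7]
            _ = x * v := by group
        rw [← hkerπ] at hx
        exact MonoidHom.mem_ker.mp hx
      have hirr : ∀ U : Subgroup ↥V, (∀ y : X ⧸ C, ∀ v ∈ U, φ y v ∈ U) → U = ⊥ ∨ U = ⊤ := by
        intro U hU
        have hUn : (U.map V.subtype).Normal := by
          constructor
          rintro _ ⟨u, hu, rfl⟩ x
          refine ⟨φ (π x) u, hU _ u hu, ?_⟩
          rw [Subgroup.coe_subtype, hφmk]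
        rcases hVmin _ hUn (Subgroup.map_subtype_le U) with h | h
        · left
          exact (Subgroup.map_eq_bot_iff_of_injective U V.subtype_injective).mp h
        · right
          rw [eq_top_iff]
          intro v _
          have : (v : X) ∈ U.map V.subtype := by rw [h]; exact v.2
          obtain ⟨u, hu, huv⟩ := this
          have : u = v := Subtype.ext huv
          rw [← this]; exact hu
      have hsn : (π s) ^ (p ^ n) = 1 := by
        rw [← map_pow]
        have : s ^ (p ^ n) ∈ C := by
          rw [hC, mem_centralizer_iff]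
          intro v hv
          have := hcen v (hVG hv)
          calc v * s ^ (p ^ n) = (s ^ (p ^ n) * v * (s ^ (p ^ n))⁻¹) * s ^ (p ^ n) := by rw [this]
            _ = s ^ (p ^ n) * v := by group
        rw [← hkerπ] at this
        exact MonoidHom.mem_ker.mp this
      have hfpfV : ∀ v : ↥V, φ (π s) v = v → v = 1 := by
        intro v hv
        have h7 := hφmk s v
        rw [hv] at h7
        exact Subtype.ext (hfpf v (hVG v.2) h7.symm)
      have hVexp' : ∀ v : ↥V, v ^ r = 1 := fun v => Subtype.ext (by
        have := hVexp v v.2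
        simpa using this)
      have hkey := Cfsg.Agent.Helper13.ShultFit.t_centralizes_of hp hr hn hVexp' φ hφinj hirr
        (G.map π) h3 h2 (π s) hsn h5 hfpfV
        (fun _ hq hqp hrq Q hQ hsQ hfpfQ hnt hfaith =>
          Cfsg.Agent.Helper8.ShultBC.shult_group hp hp2 hq hr hqp hrp hrq hn hVexp' Q hQ (π s) hsQ
            hsn hfpfQ hnt φ hfaith)
      have := ih _ hlt p (n - 1) (G.map π) (π s) rfl hp hp2 h2 h3 h4 hkey h5
      rw [lowerNil_map, Subgroup.map_eq_bot_iff, hkerπ] at this
      exact this
    obtain ⟨m, rfl⟩ : ∃ m, n = m + 1 := ⟨n - 1, by omega⟩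
    exact lowerNil_succ_eq_bot G V m hstep1 hstep2

end Cfsg.Agent.Helper9.Shult
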