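import Mathlib

/-!
# Graded Lie rings: shared definitions for S3779 (Higman–Kreknin–Kostrikin)

`lnProd` : left-normed Lie product of a list.
For a family `N : ZMod n → AddSubgroup L` of additive subgroups of a Lie ring:
`brk M N k` : the additive subgroup generated by `⁅M i, N j⁆`, `i + j = k`;
`der N m`  : the `m`-th derived family; `lcf N w` : the lower central family (`lcf N w` = `γ_{w+1}`).
-/

namespace Cfsg.Agent.Helper9.LieGr

variable {L : Type*} [LieRing L]

/-- left-normed Lie product: `lnProd [x₁, x₂, …, x_m] = ⁅…⁅⁅x₁, x₂⁆, x₃⁆ …, x_m⁆`. -/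
def lnProd : List L → L
  | [] => 0
  | x :: l => l.foldl (fun a b => ⁅a, b⁆) x

variable {n : ℕ}

/-- component `k` of the bracket of two families of additive subgroups. -/
def brk (M N : ZMod n → AddSubgroup L) (k : ZMod n) : AddSubgroup L :=
  AddSubgroup.closure {z | ∃ i j : ZMod n, i + j = k ∧ ∃ x ∈ M i, ∃ y ∈ N j, z = ⁅x, y⁆}

/-- derived family: `der N 0 = N`, `der N (m+1) = ⁅der N m, der N m⁆`. -/
def der (N : ZMod n → AddSubgroup L) : ℕ → ZMod n → AddSubgroup L
  | 0 => N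
  | m + 1 => brk (der N m) (der N m)

/-- lower central family: `lcf N 0 = N`, `lcf N (w+1) = ⁅lcf N w, N⁆`. -/
def lcf (N : ZMod n → AddSubgroup L) : ℕ → ZMod n → AddSubgroup L
  | 0 => N
  | w + 1 => brk (lcf N w) N

/-- a `ZMod n`-grading (not assumed to span) with trivial zero component. -/
structure IsGrading (N : ZMod n → AddSubgroup L) : Prop where
  lie_mem : ∀ i j, ∀ x ∈ N i, ∀ y ∈ N j, ⁅x, y⁆ ∈ N (i + j)
  zero : N 0 = ⊥

/-- the Kreknin–Kostrikin function `ξ_p(s) = 1 + (p-1) + ⋯ + (p-1)^(s-1)`. -/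
def xi (p s : ℕ) : ℕ := ∑ i ∈ Finset.range s, (p - 1) ^ i

end Cfsg.Agent.Helper9.LieGr
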