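import Mathlib
import Cfsg.Agent.Helper1.QP63Defs

set_option autoImplicit false
set_option linter.unusedVariables false

/-! Board `s5063pieces`, pieces UMIN, USUM, DIMLT: a minimal invariant subspace `U` of `C₁`, its
`G₀`-translates span `M`, and `dim U < dim M`. -/

noncomputable section

namespace Cfsg.Agent.QP63

open Cfsg Cfsg.Agent.Helper25.QP Cfsg.Agent.Helper25.QuadPair Cfsg.Agent.QPP

variable {k : Type*} [Field k] {M : Type*} [AddCommGroup M] [Module k M]

local notation "GLkM" => LinearMap.GeneralLinearGroup k M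

theorem UMIN [FiniteDimensional k M] (H : Subgroup GLkM) (hM : ∃ m : M, m ≠ 0) :
    ∃ U : Submodule k M, MinInv H U := by
  have hwf : WellFounded ((· < ·) : Submodule k M → Submodule k M → Prop) := wellFounded_lt
  set S : Set (Submodule k M) := {U | U ≠ ⊥ ∧ Inv H U} with hS
  have hne : S.Nonempty := by
    refine ⟨⊤, ?_, fun h _ u _ => Submodule.mem_top⟩
    obtain ⟨m, hm⟩ := hM
    intro h
    have : m ∈ (⊤ : Submodule k M) := Submodule.mem_top
    rw [h, Submodule.mem_bot] at this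
    exact hm this
  obtain ⟨U, hU, hmin⟩ := hwf.has_min S hne
  refine ⟨U, hU.1, hU.2, fun W hWU hW => ?_⟩
  by_cases h0 : W = ⊥
  · exact Or.inl h0
  · right
    by_contra hne'
    exact hmin W ⟨h0, hW⟩ (lt_of_le_of_ne hWU hne')

/-- `C₁` centralizes `G₀` -/
theorem USUM_aux_C1cent (G : Subgroup GLkM) :
    C1 G ≤ Subgroup.centralizer (G0 G : Set GLkM) := by
  unfold C1
  rw [Subgroup.closure_le]
  intro σ hσ
  exact hσ.2

theorem USUM {G : Subgroup GLkM} (hG : IsQuadraticPair G) (hgen : G0 G ⊔ C1 G = G)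
    {U : Submodule k M} (hU : MinInv (C1 G) U) : Spans (G0 G) U := by
  unfold Spans
  set S : Submodule k M := ⨆ g ∈ G0 G, U.map ((g : GLkM) : M →ₗ[k] M) with hS
  have hmemS : ∀ g ∈ G0 G, ∀ u ∈ U, ((g : GLkM) : M →ₗ[k] M) u ∈ S := fun g hg u hu =>
    Submodule.mem_iSup_of_mem g (Submodule.mem_iSup_of_mem hg ⟨u, hu, rfl⟩)
  -- invariance under `G₀`
  have hG0 : ∀ g ∈ G0 G, ∀ w ∈ S, ((g : GLkM) : M →ₗ[k] M) w ∈ S := by
    intro g hg w hw
    have hle : S ≤ S.comap ((g : GLkM) : M →ₗ[k] M) := by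
      rw [hS]
      refine iSup₂_le ?_
      rintro g' hg' _ ⟨u, hu, rfl⟩
      rw [Submodule.mem_comap]
      have : ((g : GLkM) : M →ₗ[k] M) (((g' : GLkM) : M →ₗ[k] M) u)
          = (((g * g' : GLkM)) : M →ₗ[k] M) u := rfl
      rw [this]
      exact hmemS _ ((G0 G).mul_mem hg hg') u hu
    exact hle hw
  -- invariance under `C₁`
  have hC1 : ∀ c ∈ C1 G, ∀ w ∈ S, ((c : GLkM) : M →ₗ[k] M) w ∈ S := by
    intro c hc w hw
    have hcc := USUM_aux_C1cent G hc
    have hle : S ≤ S.comap ((c : GLkM) : M →ₗ[k] M) := by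
      rw [hS]
      refine iSup₂_le ?_
      rintro g' hg' _ ⟨u, hu, rfl⟩
      rw [Submodule.mem_comap]
      have hcomm : g' * c = c * g' := (Subgroup.mem_centralizer_iff.mp hcc) g' hg'
      have : ((c : GLkM) : M →ₗ[k] M) (((g' : GLkM) : M →ₗ[k] M) u)
          = ((g' : GLkM) : M →ₗ[k] M) (((c : GLkM) : M →ₗ[k] M) u) := by
        have h1 : ((c : GLkM) : M →ₗ[k] M) (((g' : GLkM) : M →ₗ[k] M) u)
            = (((c * g' : GLkM)) : M →ₗ[k] M) u := rfl
        rw [h1, ← hcomm]
        rfl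
      rw [this]
      exact hmemS _ hg' _ (hU.2.1 c hc u hu)
    exact hle hw
  -- invariance under `G`
  have hinv : ∀ g ∈ G, ∀ w ∈ S, ((g : GLkM) : M →ₗ[k] M) w ∈ S := by
    intro g hg
    rw [← hgen, Subgroup.sup_eq_closure] at hg
    have key : ∀ w ∈ S, ((g : GLkM) : M →ₗ[k] M) w ∈ S ∧ ((g⁻¹ : GLkM) : M →ₗ[k] M) w ∈ S := by
      refine Subgroup.closure_induction (p := fun g _ => ∀ w ∈ S,
        ((g : GLkM) : M →ₗ[k] M) w ∈ S ∧ ((g⁻¹ : GLkM) : M →ₗ[k] M) w ∈ S) ?_ ?_ ?_ ?_ hg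
      · rintro x (hx | hx) w hw
        · exact ⟨hG0 x hx w hw, hG0 _ ((G0 G).inv_mem hx) w hw⟩
        · exact ⟨hC1 x hx w hw, hC1 _ ((C1 G).inv_mem hx) w hw⟩
      · intro w hw
        exact ⟨by simpa using hw, by simpa using hw⟩
      · intro x y _ _ hx hy w hw
        refine ⟨?_, ?_⟩
        · have : (((x * y : GLkM)) : M →ₗ[k] M) w
              = ((x : GLkM) : M →ₗ[k] M) (((y : GLkM) : M →ₗ[k] M) w) := rfl
          rw [this]
          exact (hx _ (hy w hw).1).1
        · have : ((((x * y)⁻¹ : GLkM)) : M →ₗ[k] M) w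
              = ((y⁻¹ : GLkM) : M →ₗ[k] M) (((x⁻¹ : GLkM) : M →ₗ[k] M) w) := by
            rw [mul_inv_rev]; rfl
          rw [this]
          exact (hy _ (hx w hw).2).2
      · intro x _ hx w hw
        refine ⟨(hx w hw).2, ?_⟩
        rw [inv_inv]
        exact (hx w hw).1
    exact fun w hw => (key w hw).1
  rcases hG.1.2 S hinv with h | h
  · exfalso
    apply hU.1
    rw [eq_bot_iff]
    intro u hu
    have := hmemS 1 (G0 G).one_mem u hu
    rw [h] at this
    simpa using this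
  · exact h

theorem DIMLT [FiniteDimensional k M] {G : Subgroup GLkM} {τ : GLkM}
    (hτ : τ ∈ minimalQuadraticElements G) {U : Submodule k M} (hU : MinInv (C1 G) U) :
    Module.finrank k ↥U < Module.finrank k M := by
  have hne : U ≠ ⊤ := by
    intro htop
    -- `τ ∈ G₀`
    have hτ0 : τ ∈ G0 G := by
      have h1 : τ ∈ sameActionSubgroup G τ := Subgroup.subset_closure ⟨hτ, rfl, rfl⟩
      exact Subgroup.mem_iSup_of_mem (sameActionSubgroup G τ)
        (Subgroup.mem_iSup_of_mem ⟨τ, hτ, rfl⟩ h1)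
    set N : Module.End k M := (τ : M →ₗ[k] M) - 1 with hN
    have hNN : N * N = 0 := hτ.1.2.1.1
    have hN0 : N ≠ 0 := hτ.1.2.1.2
    have hW : Inv (C1 G) (LinearMap.ker N) := by
      intro c hc w hw
      have hcc := USUM_aux_C1cent G hc
      have hcomm : τ * c = c * τ := (Subgroup.mem_centralizer_iff.mp hcc) τ hτ0
      rw [LinearMap.mem_ker] at hw ⊢
      have e : N (((c : GLkM) : Module.End k M) w) = ((c : GLkM) : Module.End k M) (N w) := by
        have h1 : ((τ : GLkM) : M →ₗ[k] M) (((c : GLkM) : M →ₗ[k] M) w)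
            = ((c : GLkM) : M →ₗ[k] M) (((τ : GLkM) : M →ₗ[k] M) w) := by
          have h2 : ((τ : GLkM) : M →ₗ[k] M) (((c : GLkM) : M →ₗ[k] M) w)
              = (((τ * c : GLkM)) : M →ₗ[k] M) w := rfl
          rw [h2, hcomm]
          rfl
        simp only [hN, LinearMap.sub_apply, Module.End.one_apply, map_sub]
        rw [h1]
      rw [e, hw, map_zero]
    rcases hU.2.2 (LinearMap.ker N) (by rw [htop]; exact le_top) hW with h | h
    · -- `ker N = ⊥` contradicts `N² = 0`, `N ≠ 0`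
      apply hN0
      apply LinearMap.ext
      intro m
      have : N m ∈ LinearMap.ker N := by
        rw [LinearMap.mem_ker]
        exact LinearMap.congr_fun hNN m
      rw [h, Submodule.mem_bot] at this
      rw [this]; rfl
    · rw [htop] at h
      exact hN0 (LinearMap.ker_eq_top.mp h)
  exact Submodule.finrank_lt hne

end Cfsg.Agent.QP63

end
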