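import Mathlib
import Cfsg.Agent.Helper1.QP63Defs

set_option autoImplicit false

/-! Board `s5063pieces`, piece WTOP: `[M, L] = M` for a nontrivial subgroup `L` normalized by the
irreducible group `G`. -/

noncomputable section

namespace Cfsg.Agent.QP63

open Cfsg Cfsg.Agent.Helper25.QP Cfsg.Agent.Helper25.QuadPair Cfsg.Agent.QPP

variable {k : Type*} [Field k] {M : Type*} [AddCommGroup M] [Module k M]

local notation "GLkM" => LinearMap.GeneralLinearGroup k M

/-- `[M, L] = M` for a nontrivial subgroup `L` normalized by the irreducible group `G` -/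
theorem WTOP {G L : Subgroup GLkM} (hirr : IsIrreducibleFor G) (hL : L ≤ G)
    (hn : ∀ g ∈ G, conjBy L g = L) (h1 : L ≠ ⊥) : commutatorSubmodule L = ⊤ := by
  have hinv : ∀ g ∈ G, ∀ w ∈ commutatorSubmodule L, (g : M →ₗ[k] M) w ∈ commutatorSubmodule L := by
    intro g hg w hw
    have hle : commutatorSubmodule L ≤ (commutatorSubmodule L).comap (g : M →ₗ[k] M) := by
      unfold commutatorSubmodule
      refine iSup₂_le ?_
      rintro l hl _ ⟨m, rfl⟩
      rw [Submodule.mem_comap]
      have hl' : g * l * g⁻¹ ∈ L := by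
        rw [← hn g hg]
        exact ⟨l, hl, rfl⟩
      have e : (g : M →ₗ[k] M) (((l : M →ₗ[k] M) - 1) m)
          = (((g * l * g⁻¹ : GLkM) : M →ₗ[k] M) - 1) ((g : M →ₗ[k] M) m) := by
        have h2 : ((g⁻¹ : GLkM) : M →ₗ[k] M) ((g : M →ₗ[k] M) m) = m :=
          LinearMap.congr_fun (Units.inv_mul g) m
        simp only [LinearMap.sub_apply, Module.End.one_apply, map_sub, Units.val_mul,
          Module.End.mul_apply, h2]
      rw [e]
      exact Submodule.mem_iSup_of_mem (g * l * g⁻¹)
        (Submodule.mem_iSup_of_mem hl' ⟨_, rfl⟩)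
    exact hle hw
  rcases hirr.2 _ hinv with h | h
  · exfalso
    apply h1
    rw [eq_bot_iff]
    intro l hl
    rw [Subgroup.mem_bot]
    apply Units.ext
    apply LinearMap.ext
    intro m
    have hm : ((l : M →ₗ[k] M) - 1) m ∈ commutatorSubmodule L :=
      Submodule.mem_iSup_of_mem l (Submodule.mem_iSup_of_mem hl ⟨m, rfl⟩)
    rw [h, Submodule.mem_bot, LinearMap.sub_apply, Module.End.one_apply, sub_eq_zero] at hm
    rw [hm]
    rfl
  · exact h

end Cfsg.Agent.QP63

end
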