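import Mathlib
import Cfsg.Agent.Helper4.S5033Defs
import Cfsg.Agent.Helper7.Quasisimple
open Cfsg Cfsg.Agent.S5033P
open scoped commutatorElement

set_option autoImplicit false

/-! S5033 board, piece QS: subgroup form of quasisimplicity. -/

namespace Cfsg.Agent.S5033P

variable {G : Type*} [Group G]

/-- QS: subgroup form of quasisimplicity. -/
theorem QS {L : Subgroup G} (hnt : L ≠ ⊥) (hperf : ⁅L, L⁆ = L)
    (h : ∀ K : Subgroup G, K ≤ L → L ≤ Subgroup.normalizer (K : Set G) →
      K = L ∨ K ≤ Subgroup.centralizer (L : Set G)) : IsQuasisimple ↥L := by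
  have _inst : Nontrivial ↥L := (Subgroup.nontrivial_iff_ne_bot L).2 hnt
  have hp : Group.IsPerfect ↥L := by
    refine ⟨?_⟩
    -- commutator ↥L = ⊤
    have h1 : (commutator ↥L).map L.subtype = ⁅L, L⁆ := by
      rw [commutator_def, Subgroup.map_commutator, ← MonoidHom.range_eq_map, Subgroup.range_subtype]
    apply Subgroup.map_injective L.subtype_injective
    rw [h1, hperf, ← MonoidHom.range_eq_map, Subgroup.range_subtype]
  refine Cfsg.Agent.Helper7.isQuasisimple_of_normal_le_center hp ?_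
  intro N hN
  have hKL : N.map L.subtype ≤ L := by
    rintro _ ⟨x, _, rfl⟩
    exact x.2
  have hnorm : L ≤ Subgroup.normalizer ((N.map L.subtype : Subgroup G) : Set G) := by
    intro g hg
    rw [Subgroup.mem_normalizer_iff]
    intro k
    constructor
    · rintro ⟨x, hx, rfl⟩
      refine ⟨⟨g, hg⟩ * x * ⟨g, hg⟩⁻¹, hN.conj_mem x hx ⟨g, hg⟩, ?_⟩
      simp
    · rintro ⟨x, hx, hxe⟩
      refine ⟨⟨g, hg⟩⁻¹ * x * ⟨g, hg⟩, ?_, ?_⟩
      · have := hN.conj_mem x hx (⟨g, hg⟩⁻¹ : ↥L)
        simpa using this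
      · have : (L.subtype (⟨g, hg⟩⁻¹ * x * ⟨g, hg⟩) : G) = g⁻¹ * (x : G) * g := by simp
        have hxe' : (x : G) = g * k * g⁻¹ := hxe
        rw [this, hxe']
        group
  rcases h (N.map L.subtype) hKL hnorm with h1 | h2
  · left
    apply Subgroup.map_injective L.subtype_injective
    rw [h1, ← MonoidHom.range_eq_map, Subgroup.range_subtype]
  · right
    intro x hx
    rw [Subgroup.mem_center_iff]
    intro y
    have hxc : (x : G) ∈ Subgroup.centralizer (L : Set G) := h2 ⟨x, hx, rfl⟩
    rw [Subgroup.mem_centralizer_iff] at hxc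
    apply Subtype.ext
    have := hxc (y : G) y.2
    simpa using this

end Cfsg.Agent.S5033P
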