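import Mathlib
import Cfsg.Agent.Helper25.QPDefs2
import Cfsg.Agent.Helper25.QPAct
import Cfsg.Agent.Helper18.SL2Ext5
import Cfsg.Agent.Helper23.QPTRANS
import Cfsg.Agent.Helper4.QPROOT

set_option autoImplicit false

/-! Board `qppieces`, piece S5065U: if every pair from two root subgroups `E(σ)`, `E(τ)` is
unipotent, then `⟨E(σ), E(τ)⟩` acts unipotently (`n = 3`). -/

noncomputable section

universe u v

namespace Cfsg.Agent.QPP

open Cfsg Cfsg.Agent.Helper25.QP Cfsg.Agent.Helper25.QuadPair Polynomial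
open scoped Pointwise

variable {k : Type u} [Field k] {M : Type v} [AddCommGroup M] [Module k M]

local notation "GLkM" => LinearMap.GeneralLinearGroup k M

/-- the nilpotent parts `g - 1`, `g ∈ H` -/
def S5065U_aux_nil (H : Subgroup (LinearMap.GeneralLinearGroup k M)) : Set (Module.End k M) :=
  {x | ∃ g ∈ H, x = (g : Module.End k M) - 1}

/-- pure algebra: two sets of endomorphisms with all the word relations give a nilpotent span -/
theorem S5065U_aux_alg (X Y : Set (Module.End k M))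
    (hXX : ∀ x ∈ X, ∀ x' ∈ X, x * x' = 0) (hYY : ∀ y ∈ Y, ∀ y' ∈ Y, y * y' = 0)
    (hXYX : ∀ x ∈ X, ∀ y ∈ Y, ∀ x' ∈ X, x * y * x' = 0)
    (hYXY : ∀ y ∈ Y, ∀ x ∈ X, ∀ y' ∈ Y, y * x * y' = 0) :
    ∃ N : Submodule k (Module.End k M), X ⊆ N ∧ Y ⊆ N ∧ (∀ s ∈ N, ∀ t ∈ N, s * t ∈ N) ∧
      ∀ s ∈ N, ∀ t ∈ N, ∀ w ∈ N, s * t * w = 0 := by
  set W1 : Submodule k (Module.End k M) := Submodule.span k (X ∪ Y) with hW1
  set W2 : Submodule k (Module.End k M) := Submodule.span k (X * Y ∪ Y * X) with hW2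
  -- products of generators
  have h11 : W1 * W1 ≤ W2 := by
    rw [hW1, Submodule.span_mul_span, Submodule.span_le]
    rintro _ ⟨u, hu, v, hv, rfl⟩
    rcases hu with hu | hu <;> rcases hv with hv | hv
    · show u * v ∈ W2
      rw [hXX u hu v hv]; exact W2.zero_mem
    · exact Submodule.subset_span (Or.inl ⟨u, hu, v, hv, rfl⟩)
    · exact Submodule.subset_span (Or.inr ⟨u, hu, v, hv, rfl⟩)
    · show u * v ∈ W2
      rw [hYY u hu v hv]; exact W2.zero_mem
  have h12 : W1 * W2 ≤ ⊥ := by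
    rw [hW1, hW2, Submodule.span_mul_span, Submodule.span_le]
    rintro _ ⟨u, hu, w, hw, rfl⟩
    show u * w ∈ (⊥ : Submodule k (Module.End k M))
    rw [Submodule.mem_bot]
    rcases hw with ⟨x, hx, y, hy, rfl⟩ | ⟨y, hy, x, hx, rfl⟩ <;> rcases hu with hu | hu
    · rw [← mul_assoc, hXX u hu x hx, zero_mul]
    · rw [← mul_assoc]; exact hYXY u hu x hx y hy
    · rw [← mul_assoc]; exact hXYX u hu y hy x hx
    · rw [← mul_assoc, hYY u hu y hy, zero_mul]
  have h21 : W2 * W1 ≤ ⊥ := by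
    rw [hW1, hW2, Submodule.span_mul_span, Submodule.span_le]
    rintro _ ⟨w, hw, u, hu, rfl⟩
    show w * u ∈ (⊥ : Submodule k (Module.End k M))
    rw [Submodule.mem_bot]
    rcases hw with ⟨x, hx, y, hy, rfl⟩ | ⟨y, hy, x, hx, rfl⟩ <;> rcases hu with hu | hu
    · exact hXYX x hx y hy u hu
    · rw [mul_assoc, hYY y hy u hu, mul_zero]
    · rw [mul_assoc, hXX x hx u hu, mul_zero]
    · exact hYXY y hy x hx u hu
  have h22 : W2 * W2 ≤ ⊥ := by
    rw [hW2, Submodule.span_mul_span, Submodule.span_le]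
    rintro _ ⟨w, hw, w', hw', rfl⟩
    show w * w' ∈ (⊥ : Submodule k (Module.End k M))
    rw [Submodule.mem_bot]
    rcases hw with ⟨x, hx, y, hy, rfl⟩ | ⟨y, hy, x, hx, rfl⟩ <;>
      rcases hw' with ⟨x', hx', y', hy', rfl⟩ | ⟨y', hy', x', hx', rfl⟩
    · rw [← mul_assoc, hXYX x hx y hy x' hx', zero_mul]
    · have : x * y * (y' * x') = x * (y * y') * x' := by simp only [mul_assoc]
      rw [this, hYY y hy y' hy', mul_zero, zero_mul]
    · have : y * x * (x' * y') = y * (x * x') * y' := by simp only [mul_assoc]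
      rw [this, hXX x hx x' hx', mul_zero, zero_mul]
    · rw [← mul_assoc, hYXY y hy x hx y' hy', zero_mul]
  have hNN : (W1 ⊔ W2) * (W1 ⊔ W2) ≤ W2 := by
    rw [Submodule.sup_mul, Submodule.mul_sup, Submodule.mul_sup]
    refine sup_le (sup_le h11 (h12.trans bot_le)) (sup_le (h21.trans bot_le) (h22.trans bot_le))
  have hW2N : W2 * (W1 ⊔ W2) ≤ ⊥ := by
    rw [Submodule.mul_sup]
    exact sup_le h21 h22
  refine ⟨W1 ⊔ W2, ?_, ?_, ?_, ?_⟩
  · intro x hx
    exact (le_sup_left : W1 ≤ W1 ⊔ W2) (Submodule.subset_span (Or.inl hx))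
  · intro y hy
    exact (le_sup_left : W1 ≤ W1 ⊔ W2) (Submodule.subset_span (Or.inr hy))
  · intro s hs t ht
    exact (le_sup_right : W2 ≤ W1 ⊔ W2) (hNN (Submodule.mul_mem_mul hs ht))
  · intro s hs t ht w hw
    have h1 : s * t ∈ W2 := hNN (Submodule.mul_mem_mul hs ht)
    have h2 : s * t * w ∈ (⊥ : Submodule k (Module.End k M)) :=
      hW2N (Submodule.mul_mem_mul h1 hw)
    exact (Submodule.mem_bot k).1 h2

/-- closure induction: every element of `E ⊔ F` is `1 + s` with `s ∈ N` -/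
theorem S5065U_aux_mem (E F : Subgroup (LinearMap.GeneralLinearGroup k M))
    (N : Submodule k (Module.End k M))
    (hE : S5065U_aux_nil E ⊆ N) (hF : S5065U_aux_nil F ⊆ N)
    (hmul : ∀ s ∈ N, ∀ t ∈ N, s * t ∈ N)
    (h3 : ∀ s ∈ N, ∀ t ∈ N, ∀ w ∈ N, s * t * w = 0)
    (g : GLkM) (hg : g ∈ E ⊔ F) : (g : Module.End k M) - 1 ∈ N := by
  have hsup : E ⊔ F = Subgroup.closure ((E : Set GLkM) ∪ (F : Set GLkM)) := by
    rw [Subgroup.closure_union, Subgroup.closure_eq, Subgroup.closure_eq]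
  rw [hsup] at hg
  induction hg using Subgroup.closure_induction with
  | mem g hg =>
    rcases hg with hg | hg
    · exact hE ⟨g, hg, rfl⟩
    · exact hF ⟨g, hg, rfl⟩
  | one => simp
  | mul g h _ _ ihg ihh =>
    have e : ((g * h : GLkM) : Module.End k M) - 1
        = ((g : Module.End k M) - 1) * ((h : Module.End k M) - 1)
          + (((g : Module.End k M) - 1) + ((h : Module.End k M) - 1)) := by
      rw [Units.val_mul]
      noncomm_ring
    rw [e]
    exact N.add_mem (hmul _ ihg _ ihh) (N.add_mem ihg ihh)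
  | inv g _ ihg =>
    set s : Module.End k M := (g : Module.End k M) - 1 with hs
    have hg1 : (g : Module.End k M) = 1 + s := by rw [hs]; abel
    have hs3 : s * s * s = 0 := h3 s ihg s ihg s ihg
    have hinv : ((g⁻¹ : GLkM) : Module.End k M) = 1 - s + s * s := by
      have e1 : (g : Module.End k M) * (1 - s + s * s) = 1 := by
        rw [hg1]
        have : (1 + s) * (1 - s + s * s) = 1 + s * s * s := by noncomm_ring
        rw [this, hs3, add_zero]
      calc ((g⁻¹ : GLkM) : Module.End k M)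
          = ((g⁻¹ : GLkM) : Module.End k M) * ((g : Module.End k M) * (1 - s + s * s)) := by
            rw [e1, mul_one]
        _ = (((g⁻¹ : GLkM) : Module.End k M) * (g : Module.End k M)) * (1 - s + s * s) := by
            rw [mul_assoc]
        _ = 1 - s + s * s := by rw [Units.inv_mul, one_mul]
    have e : ((g⁻¹ : GLkM) : Module.End k M) - 1 = -s + s * s := by rw [hinv]; abel
    rw [e]
    exact N.add_mem (N.neg_mem ihg) (hmul _ ihg _ ihg)

section s5065
variable [FiniteDimensional k M] {G : Subgroup (LinearMap.GeneralLinearGroup k M)}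
  {σ τ : LinearMap.GeneralLinearGroup k M}

/-- `x y x' = 0` for `x, x'` nilpotent parts of `E(σ)`, `y` of `E(τ)`, in the all-unipotent case -/
theorem S5065U_aux_xyx (hk2 : ringChar k ≠ 2)
    (hσ : σ ∈ minimalQuadraticElements G) (hτ : τ ∈ minimalQuadraticElements G)
    (hU : AllUnip (sameActionSubgroup G σ) (sameActionSubgroup G τ))
    {e e' f : GLkM} (he : e ∈ sameActionSubgroup G σ) (he' : e' ∈ sameActionSubgroup G σ)
    (hf : f ∈ sameActionSubgroup G τ) :
    ((e : Module.End k M) - 1) * ((f : Module.End k M) - 1) * ((e' : Module.End k M) - 1) = 0 ∧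
    ((f : Module.End k M) - 1) * ((e : Module.End k M) - 1) * ((f : Module.End k M) - 1) = 0 := by
  have h2 : (2 : k) ≠ 0 := Ring.two_ne_zero hk2
  by_cases h1 : e = 1
  · subst h1
    simp
  by_cases hf1 : f = 1
  · subst hf1
    simp
  obtain ⟨hqe, hke, hre⟩ := ROOT_Qd hσ he h1
  obtain ⟨hqf, -, -⟩ := ROOT_Qd hτ hf hf1
  have hmin := (TRANS_Qd hσ).1
  have hrank : commutatorRank σ = commutatorRank τ := TRANS_rank hσ hτ
  obtain ⟨n, hn⟩ := hU e he f hf
  have hst := star h2 hmin n hqe.1 hqf.1 hqe.2 (hrank ▸ hqf.2) hn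
  refine ⟨?_, hst.2⟩
  by_cases h1' : e' = 1
  · subst h1'
    simp
  obtain ⟨-, -, hre'⟩ := ROOT_Qd hσ he' h1'
  apply LinearMap.ext
  intro m
  have hm : ((e' : Module.End k M) - 1) m ∈ LinearMap.range ((e : Module.End k M) - 1) := by
    rw [hre, ← hre']
    exact LinearMap.mem_range_self _ m
  obtain ⟨m', hm'⟩ := hm
  have := LinearMap.congr_fun hst.1 m'
  simp only [Module.End.mul_apply, LinearMap.zero_apply] at this ⊢
  rw [← hm']
  exact this

/-- the unipotent case of S5065 -/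
theorem S5065U (hk2 : ringChar k ≠ 2) (hk3 : Nat.card k ≠ 3)
    (hσ : σ ∈ minimalQuadraticElements G) (hτ : τ ∈ minimalQuadraticElements G)
    (hU : AllUnip (sameActionSubgroup G σ) (sameActionSubgroup G τ)) :
    IsUnipotentOn (sameActionSubgroup G σ ⊔ sameActionSubgroup G τ) := by
  have hU' : AllUnip (sameActionSubgroup G τ) (sameActionSubgroup G σ) := by
    intro f hf e he
    obtain ⟨n, hn⟩ := hU e he f hf
    refine ⟨n + 1, ?_⟩
    rw [Cfsg.Agent.Helper25.QP.mul_pow_succ_shift, hn, mul_zero, zero_mul]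
  obtain ⟨N, hXN, hYN, hmul, h3⟩ := S5065U_aux_alg (k := k) (M := M)
    (S5065U_aux_nil (sameActionSubgroup G σ)) (S5065U_aux_nil (sameActionSubgroup G τ))
    (by
      rintro _ ⟨e, he, rfl⟩ _ ⟨e', he', rfl⟩
      exact ROOT_sq hσ he he')
    (by
      rintro _ ⟨f, hf, rfl⟩ _ ⟨f', hf', rfl⟩
      exact ROOT_sq hτ hf hf')
    (by
      rintro _ ⟨e, he, rfl⟩ _ ⟨f, hf, rfl⟩ _ ⟨e', he', rfl⟩
      exact (S5065U_aux_xyx hk2 hσ hτ hU he he' hf).1)
    (by
      rintro _ ⟨f, hf, rfl⟩ _ ⟨e, he, rfl⟩ _ ⟨f', hf', rfl⟩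
      exact (S5065U_aux_xyx hk2 hτ hσ hU' hf hf' he).1)
  refine ⟨3, ?_⟩
  intro l hl hlen
  match l, hlen with
  | [g1, g2, g3], _ =>
    have m1 := S5065U_aux_mem _ _ N hXN hYN hmul h3 g1 (hl g1 (by simp))
    have m2 := S5065U_aux_mem _ _ N hXN hYN hmul h3 g2 (hl g2 (by simp))
    have m3 := S5065U_aux_mem _ _ N hXN hYN hmul h3 g3 (hl g3 (by simp))
    have := h3 _ m1 _ m2 _ m3
    show ((g1 : Module.End k M) - 1) * (((g2 : Module.End k M) - 1) *
      (((g3 : Module.End k M) - 1) * 1)) = 0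
    rw [mul_one, ← mul_assoc]
    exact this

end s5065

end Cfsg.Agent.QPP

end
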