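import Mathlib
import Cfsg.Prelude.Def_LieClassical
import Cfsg.Agent.Helper13.S2263Defs
import Cfsg.Agent.S0755
import Cfsg.Agent.Helper16.S2496FROB

/-! S2263 piece BASIS (helper9): an abstract Hermitian space has an orthonormal basis (S0755), in the shape of
`Cfsg.hermForm`.  Adaptation of `Cfsg.Agent.Helper11.S2496ONB` to a general `H` with `IsHerm`. -/

set_option autoImplicit false
set_option linter.unusedVariables false

namespace Cfsg.Agent.S2263P

open Cfsg.Agent.S2496P

section general

variable {F : Type*} [Field F] [Fintype F] {p : ℕ} [Fact p.Prime] [CharP F p] {f q : ℕ}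

namespace BASIS

variable {V : Type*} [AddCommGroup V] [Module F V] {H : V → V → F}

theorem add_right (hq : q = p ^ f) (hF : Fintype.card F = q ^ 2) (hH : IsHerm (frob F p f) H) (u v v' : V) :
    H u (v + v') = H u v + H u v' := by
  rw [hH.symm (v + v') u, hH.add_left, map_add, ← hH.symm, ← hH.symm]

theorem smul_right (hq : q = p ^ f) (hF : Fintype.card F = q ^ 2) (hH : IsHerm (frob F p f) H) (c : F) (u v : V) :
    H u (c • v) = frob F p f c * H u v := by
  rw [hH.symm (c • v) u, hH.smul_left, map_mul, ← hH.symm]

/-- the form as a sesquilinear map (semilinear in the first argument): `Bform v u = H u v` -/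
noncomputable def Bform (hq : q = p ^ f) (hF : Fintype.card F = q ^ 2) (hH : IsHerm (frob F p f) H) :
    V →ₛₗ[frob F p f] V →ₗ[F] F :=
  LinearMap.mk₂'ₛₗ (frob F p f) (RingHom.id F) (fun v u => H u v)
    (fun v v' u => add_right hq hF hH u v v')
    (fun c v u => by rw [smul_eq_mul]; exact smul_right hq hF hH c u v)
    (fun v u u' => hH.add_left u u' v)
    (fun c v u => by rw [RingHom.id_apply, smul_eq_mul]; exact hH.smul_left c u v)

theorem Bform_apply (hq : q = p ^ f) (hF : Fintype.card F = q ^ 2) (hH : IsHerm (frob F p f) H) (v u : V) :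
    Bform hq hF hH v u = H u v := rfl

end BASIS

open BASIS in
/-- BASIS: an orthonormal basis (S0755), in the shape of `Cfsg.hermForm` -/
theorem exists_herm_basis (hq : q = p ^ f) (hF : Fintype.card F = q ^ 2) {V : Type*}
    [AddCommGroup V] [Module F V] [FiniteDimensional F V] {d : ℕ} (hd : Module.finrank F V = d)
    {H : V → V → F} (hH : IsHerm (frob F p f) H) :
    ∃ b : Module.Basis (Fin d) F V, ∀ u v : V,
      H u v = Cfsg.hermForm d F q ⇑(b.repr u) ⇑(b.repr v) := by
  classical
  have hS : (Bform hq hF hH).IsSymm := by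
    refine ⟨fun x y => ?_⟩
    rw [Bform_apply, Bform_apply]
    exact (hH.symm y x).symm
  have hB : (Bform hq hF hH).Nondegenerate := by
    constructor
    · intro x hx
      apply hH.nondeg x
      intro y
      have h1 := hx y
      rw [Bform_apply] at h1
      rw [hH.symm y x, h1, map_zero]
    · intro y hy
      apply hH.nondeg y
      intro x
      have h1 := hy x
      rwa [Bform_apply] at h1
  obtain ⟨b0, hb0⟩ := Cfsg.Agent.S0755.result (frob F p f) (frob_F_ne_id hq hF) (frob_frob_F hq hF)
    (Bform hq hF hH) hS hB
  let b : Module.Basis (Fin d) F V := b0.reindex (finCongr hd)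
  have hb : ∀ i j, Bform hq hF hH (b i) (b j) = if i = j then 1 else 0 := by
    intro i j
    simp only [b, Module.Basis.reindex_apply]
    rw [hb0]
    simp
  refine ⟨b, fun u v => ?_⟩
  have key : Bform hq hF hH v u = ∑ i, b.repr u i * frob F p f (b.repr v i) := by
    conv_lhs => rw [← b.sum_repr v, ← b.sum_repr u]
    simp only [map_sum, LinearMap.sum_apply, map_smulₛₗ, LinearMap.smul_apply, hb, smul_eq_mul,
      RingHom.id_apply, mul_ite, mul_one, mul_zero, Finset.sum_ite_eq',
      Finset.mem_univ, if_true]
  rw [← Bform_apply hq hF hH, key]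
  unfold Cfsg.hermForm
  apply Finset.sum_congr rfl
  intro i _
  rw [frob_apply, hq]

end general

end Cfsg.Agent.S2263P
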