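import Cfsg.Prelude.Def_LocalStructure
import Cfsg.Agent.Helper14.Amalgam6
import Cfsg.Agent.Helper14.Irreducible2

/-! S2856 + S2857 piece project (driver helper14), piece ZNE (helper9): `Z_λ ≠ 1`. -/

set_option autoImplicit false
set_option linter.unusedSectionVars false
set_option linter.style.haveILetI false

namespace Cfsg.Agent.S2856P

open Cfsg Cfsg.Agent.Helper14

variable {X : Type*} [Group X] {p : ℕ} [Fact p.Prime] (M₁ M₂ : Subgroup X)

namespace ZNE

/-- `p` divides the order of every vertex stabiliser -/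
theorem dvd_card_stab (h : IsCharPAmalgamPair p M₁ M₂) (δ : CosetVertex M₁ M₂) :
    p ∣ Nat.card ↥(MulAction.stabilizer X δ) := by
  obtain ⟨_, hf1, hf2, h1, h2, _⟩ := h
  rcases δ with a | a
  · obtain ⟨x, rfl⟩ := exists_rep_inl M₁ a
    rw [stab_inl, ← Nat.card_congr (M₁.equivMapOfInjective _ (cj_injective x)).toEquiv]
    exact h1
  · obtain ⟨x, rfl⟩ := exists_rep_inr M₂ a
    rw [stab_inr, ← Nat.card_congr (M₂.equivMapOfInjective _ (cj_injective x)).toEquiv]
    exact h2

end ZNE

/-- piece ZNE: `Z_λ ≠ 1`. -/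
theorem vertexZ_ne_bot (h : IsCharPAmalgamPair p M₁ M₂) (lam : CosetVertex M₁ M₂) :
    vertexZ p lam ≠ ⊥ := by
  haveI := finite_stab M₁ M₂ h lam
  obtain ⟨S⟩ : Nonempty (Sylow p ↥(MulAction.stabilizer X lam)) := inferInstance
  have hSne : (S : Subgroup ↥(MulAction.stabilizer X lam)) ≠ ⊥ :=
    S.ne_bot_of_dvd_card (ZNE.dvd_card_stab M₁ M₂ h lam)
  set U : Subgroup X :=
    (S : Subgroup ↥(MulAction.stabilizer X lam)).map (MulAction.stabilizer X lam).subtype with hU
  have hUp : IsPGroup p ↥U := S.isPGroup'.map _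
  have hUle : U ≤ MulAction.stabilizer X lam := Subgroup.map_subtype_le _
  haveI : Finite ↥U := Finite.of_injective (Subgroup.inclusion hUle) (Subgroup.inclusion_injective hUle)
  haveI : Nontrivial ↥U := by
    rw [Subgroup.nontrivial_iff_ne_bot]
    intro h0
    apply hSne
    exact (Subgroup.map_eq_bot_iff_of_injective _ (Subgroup.subtype_injective _)).mp h0
  haveI hcen : Nontrivial ↥(Subgroup.center ↥U) := hUp.center_nontrivial
  obtain ⟨z, hz⟩ := exists_ne (1 : ↥(Subgroup.center ↥U))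
  set C : Subgroup X := U ⊓ Subgroup.centralizer (U : Set X) with hC
  have hzC : (((z : ↥U)) : X) ∈ C := by
    refine ⟨(z : ↥U).2, ?_⟩
    show ((z : ↥U) : X) ∈ Subgroup.centralizer (U : Set X)
    rw [Subgroup.mem_centralizer_iff]
    intro y hy
    have := Subgroup.mem_center_iff.mp z.2 ⟨y, hy⟩
    exact congrArg Subtype.val this
  have hCne : C ≠ ⊥ := by
    intro h0
    rw [h0, Subgroup.mem_bot] at hzC
    apply hz
    apply Subtype.ext
    apply Subtype.ext
    exact hzC
  have hCp : IsPGroup p ↥C := hUp.to_le inf_le_left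
  have hoz : ozc p U ≠ ⊥ := fun h0 => hCne (eq_bot_of_omegaOne_eq_bot hCp h0)
  intro hbot
  apply hoz
  rw [eq_bot_iff]
  calc ozc p U ≤ sylowCenterClosure p (MulAction.stabilizer X lam) :=
        ozc_le_sylowCenterClosure p (MulAction.stabilizer X lam) S
    _ = ⊥ := hbot

end Cfsg.Agent.S2856P
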