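import Mathlib
import Cfsg.Agent.Helper28.S3000Defs
import Cfsg.Agent.Lead.ThompsonPQ

/-! Board `s3000pieces`, row TKD2: `Tool.TK6` — a `p`-subgroup of `P` centralising `E` has `[V, F₀] ≤ C_V(E)`. -/

set_option autoImplicit false

namespace Cfsg.Agent.S3000P

open Cfsg.Agent.S2789P Cfsg.Agent.S2999P
open scoped commutatorElement

variable {G : Type*} [Group G] [Finite G] {p : ℕ} [Fact p.Prime] {V P : Subgroup G} {T : Sylow p ↥P} {M : Subgroup ↥P} {q : ℕ}
variable {A E H : Subgroup G} {w : G}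

/-- conjugation by an element centralising `E` preserves `C_V(E)` -/
theorem TKD2_aux_conj_fix {V E : Subgroup G} {f c : G} (hfV : f ∈ Subgroup.normalizer (V : Set G))
    (hc : ∀ e ∈ E, f * e = e * f) (hcC : c ∈ fixV V E) : f * c * f⁻¹ ∈ fixV V E := by
  rw [mem_fix] at hcC ⊢
  refine ⟨(Subgroup.mem_normalizer_iff.mp hfV c).mp hcC.1, ?_⟩
  intro e he
  have h1 := hcC.2 e he
  have h2 := hc e he
  have h3 : f⁻¹ * e = e * f⁻¹ := by
    calc f⁻¹ * e = f⁻¹ * (e * f) * f⁻¹ := by group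
      _ = f⁻¹ * (f * e) * f⁻¹ := by rw [h2]
      _ = e * f⁻¹ := by group
  calc e * (f * c * f⁻¹) = (e * f) * c * f⁻¹ := by group
    _ = (f * e) * c * f⁻¹ := by rw [h2]
    _ = f * (e * c) * f⁻¹ := by group
    _ = f * (c * e) * f⁻¹ := by rw [h1]
    _ = f * c * (e * f⁻¹) := by group
    _ = f * c * (f⁻¹ * e) := by rw [h3]
    _ = f * c * f⁻¹ * e := by group

/-- TKD2 (board) = TK6: a `p`-subgroup of `P` centralising `E` acts trivially on `V / C_V(E)`. -/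
theorem Tool.TK6 (Hy : Hyp p V P T M) (K : Tool p V P q A E H w) (F₀ : Subgroup G) (hF₀ : F₀ ≤ P) (hp : IsPGroup p ↥F₀)
    (hc : ∀ x ∈ F₀, ∀ e ∈ E, x * e = e * x) : ⁅V, F₀⁆ ≤ fixV V E := by
  classical
  have hVp : IsPGroup p ↥V := F2_aux_isPGroup Hy.hV
  have hFV : F₀ ≤ Subgroup.normalizer (V : Set G) := hF₀.trans Hy.hPV
  have hVab : ∀ x ∈ V, ∀ y ∈ V, x * y = y * x := by
    intro x hx y hy
    have := Hy.hV.1.is_comm.comm ⟨x, hx⟩ ⟨y, hy⟩
    exact congrArg Subtype.val this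
  -- `V ≠ C`
  have hVC : ¬ V ≤ fixV V E := by
    intro hle
    obtain ⟨h₁, hh₁, _, _, hne, _, _⟩ := K.hsum
    apply hne
    apply K.hker h₁ (K.hHE hh₁)
    intro v hv
    have hvC := hle hv
    rw [mem_fix] at hvC
    have := hvC.2 h₁ (K.hHE hh₁)
    have e1 : h₁ * v * h₁⁻¹ * v⁻¹ = 1 := by rw [this]; group
    rw [e1]; exact Subgroup.one_mem _
  -- a minimal `F₀`-invariant subgroup of `V` not inside `C`
  let S : Set (Subgroup G) := {U | U ≤ V ∧ F₀ ≤ Subgroup.normalizer (U : Set G) ∧ ¬ U ≤ fixV V E}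
  have hSne : S.Nonempty := ⟨V, le_rfl, hFV, hVC⟩
  obtain ⟨U, hUS, hUmin⟩ := S.toFinite.exists_minimal hSne
  obtain ⟨hUV, hFU, hUC⟩ := hUS
  have hUne : U ≠ ⊥ := by
    rintro rfl
    exact hUC bot_le
  have hlt : ⁅U, F₀⁆ < U := Cfsg.Agent.Lead.commutator_lt_of_isPGroup (hVp.to_le hUV) hp hFU hUne
  have hcomC : ⁅U, F₀⁆ ≤ fixV V E := by
    by_contra hnot
    have hmem : ⁅U, F₀⁆ ∈ S := by
      refine ⟨hlt.le.trans hUV, ?_, hnot⟩
      intro f hf
      rw [Subgroup.mem_normalizer_iff]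
      intro x
      have hmap : (⁅U, F₀⁆).map (MulAut.conj f).toMonoidHom = ⁅U, F₀⁆ := by
        rw [Subgroup.map_commutator]
        have h1 : U.map (MulAut.conj f).toMonoidHom = U := by
          have := cj_norm (hFU hf)
          exact this
        have h2 : F₀.map (MulAut.conj f).toMonoidHom = F₀ := by
          have := cj_self (K := F₀) hf
          exact this
        rw [h1, h2]
      constructor
      · intro hx
        rw [← hmap]
        exact ⟨x, hx, by simp [MulAut.conj_apply]⟩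
      · intro hx
        rw [← hmap] at hx
        obtain ⟨y, hy, hyx⟩ := hx
        have : y = x := by
          simp only [MulEquiv.coe_toMonoidHom, MulAut.conj_apply] at hyx
          have e1 : y = f⁻¹ * (f * y * f⁻¹) * f := by group
          rw [e1, hyx]; group
        rwa [← this]
    have := hUmin hmem hlt.le
    exact absurd (le_antisymm hlt.le this) hlt.ne
  -- a vector `v₀ ∈ U \ C`
  obtain ⟨v₀, hv₀U, hv₀C⟩ := SetLike.not_le_iff_exists.mp hUC
  have hv₀V : v₀ ∈ V := hUV hv₀U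
  have hv₀ : ∀ f ∈ F₀, f * v₀ * f⁻¹ * v₀⁻¹ ∈ fixV V E := by
    intro f hf
    have h1 : ⁅v₀, f⁆ ∈ ⁅U, F₀⁆ := Subgroup.commutator_mem_commutator hv₀U hf
    have h2 := Subgroup.inv_mem _ (hcomC h1)
    have e1 : (⁅v₀, f⁆)⁻¹ = f * v₀ * f⁻¹ * v₀⁻¹ := by
      rw [commutatorElement_def]; group
    rwa [e1] at h2
  -- all of `V`
  have hall : ∀ v ∈ V, ∀ f ∈ F₀, f * v * f⁻¹ * v⁻¹ ∈ fixV V E := by
    intro v hv f hf
    have hfV : f ∈ Subgroup.normalizer (V : Set G) := hFV hf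
    by_cases hvC : v ∈ fixV V E
    · exact Subgroup.mul_mem _ (TKD2_aux_conj_fix hfV (hc f hf) hvC) (Subgroup.inv_mem _ hvC)
    · obtain ⟨e, he, hec⟩ := K.htrans v₀ hv₀V hv₀C v hv hvC
      -- `c := e v₀ e⁻¹ v⁻¹ ∈ C`, so `v = c⁻¹ (e v₀ e⁻¹)`
      set c := e * v₀ * e⁻¹ * v⁻¹ with hcdef
      have heV : e ∈ Subgroup.normalizer (V : Set G) := Hy.hPV (K.hEP he)
      have hev₀ : e * v₀ * e⁻¹ ∈ V := (Subgroup.mem_normalizer_iff.mp heV v₀).mp hv₀V
      have hd := hv₀ f hf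
      set d := f * v₀ * f⁻¹ * v₀⁻¹ with hddef
      have hfe : f * e = e * f := hc f hf e he
      have hfe' : f * e⁻¹ = e⁻¹ * f := by
        calc f * e⁻¹ = e⁻¹ * (e * f) * e⁻¹ := by group
          _ = e⁻¹ * (f * e) * e⁻¹ := by rw [hfe]
          _ = e⁻¹ * f := by group
      -- `e d e⁻¹ = d`
      have hde : e * d = d * e := ((mem_fix.mp hd).2 e he)
      have hdV : d ∈ V := (mem_fix.mp hd).1
      have hcV : c ∈ V := (mem_fix.mp hec).1
      have hfc := TKD2_aux_conj_fix hfV (hc f hf) hec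
      have hfcV : f * c * f⁻¹ ∈ V := (mem_fix.mp hfc).1
      -- the key identity
      have key : f * v * f⁻¹ * v⁻¹ = (f * c * f⁻¹)⁻¹ * c * d := by
        -- `v = c⁻¹ * (e v₀ e⁻¹)`
        have hv' : v = c⁻¹ * (e * v₀ * e⁻¹) := by rw [hcdef]; group
        have h1 : f * (e * v₀ * e⁻¹) * f⁻¹ = e * (f * v₀ * f⁻¹) * e⁻¹ := by
          calc f * (e * v₀ * e⁻¹) * f⁻¹ = (f * e) * v₀ * (e⁻¹ * f⁻¹) := by group
            _ = (e * f) * v₀ * (e⁻¹ * f⁻¹) := by rw [hfe]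
            _ = e * f * v₀ * ((f * e)⁻¹) := by group
            _ = e * f * v₀ * ((e * f)⁻¹) := by rw [hfe]
            _ = e * (f * v₀ * f⁻¹) * e⁻¹ := by group
        have h2 : f * v₀ * f⁻¹ = d * v₀ := by rw [hddef]; group
        have h3 : e * (d * v₀) * e⁻¹ = d * (e * v₀ * e⁻¹) := by
          calc e * (d * v₀) * e⁻¹ = (e * d) * v₀ * e⁻¹ := by group
            _ = (d * e) * v₀ * e⁻¹ := by rw [hde]
            _ = d * (e * v₀ * e⁻¹) := by group
        -- everything lives in the abelian group `V`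
        have hx : f * v * f⁻¹ = (f * c * f⁻¹)⁻¹ * (d * (e * v₀ * e⁻¹)) := by
          calc f * v * f⁻¹ = f * (c⁻¹ * (e * v₀ * e⁻¹)) * f⁻¹ := by rw [← hv']
            _ = (f * c * f⁻¹)⁻¹ * (f * (e * v₀ * e⁻¹) * f⁻¹) := by group
            _ = (f * c * f⁻¹)⁻¹ * (d * (e * v₀ * e⁻¹)) := by rw [h1, h2, h3]
        have hvinv : v⁻¹ = (e * v₀ * e⁻¹)⁻¹ * c := by rw [hv']; group
        set y := e * v₀ * e⁻¹ with hy
        have hyd : y * d = d * y := hVab y hev₀ d hdV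
        have hyc : y⁻¹ * c = c * y⁻¹ := hVab _ (Subgroup.inv_mem _ hev₀) c hcV
        have hdc : d * c = c * d := hVab d hdV c hcV
        calc f * v * f⁻¹ * v⁻¹ = (f * c * f⁻¹)⁻¹ * (d * y) * (y⁻¹ * c) := by rw [hx, hvinv]
          _ = (f * c * f⁻¹)⁻¹ * (d * c) := by group
          _ = (f * c * f⁻¹)⁻¹ * c * d := by rw [hdc]; group
      rw [key]
      exact Subgroup.mul_mem _ (Subgroup.mul_mem _ (Subgroup.inv_mem _ hfc) hec) hd
  rw [Subgroup.commutator_le]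
  intro v hv f hf
  have h1 := Subgroup.inv_mem _ (hall v hv f hf)
  have e1 : (f * v * f⁻¹ * v⁻¹)⁻¹ = ⁅v, f⁆ := by
    rw [commutatorElement_def]; group
  rwa [e1] at h1

end Cfsg.Agent.S3000P
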