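import Mathlib
import Cfsg.Agent.Helper28.S3000Defs

/-! Board `s3000pieces`, row PT1: `PT1` (a vector `z₀ ∈ C_V(T)` with `C_P(z₀) ≤ M`) and `PT1b`. -/

set_option autoImplicit false

namespace Cfsg.Agent.S3000P

open Cfsg.Agent.S2789P Cfsg.Agent.S2999P
open scoped commutatorElement

variable {G : Type*} [Group G] [Finite G] {p : ℕ} [Fact p.Prime] {V P : Subgroup G} {T : Sylow p ↥P} {M : Subgroup ↥P} {q : ℕ}

/-- a subgroup of `P` over `T` that is not inside `M` is everything -/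
theorem PT1_aux_top (Hy : Hyp p V P T M) (K : Subgroup ↥P) (hT : (T : Subgroup ↥P) ≤ K) (hK : ¬ K ≤ M) : K = ⊤ := by
  rcases IsCoatomic.eq_top_or_exists_le_coatom K with h | ⟨M', hM', hKM'⟩
  · exact h
  · exfalso
    have := (Hy.hmin T).2.unique ⟨hM', hT.trans hKM'⟩ ⟨Hy.hM, Hy.hTM⟩
    rw [this] at hKM'
    exact hK hKM'

/-- PT1 (M): some `z₀ ∈ C_V(T)` has `C_P(z₀) ≤ M`. -/
theorem PT1 (Hy : Hyp p V P T M) : ∃ z₀ ∈ fixV V (TT T), ∀ x ∈ P, x * z₀ = z₀ * x → x ∈ MM M := by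
  by_contra hcon
  push Not at hcon
  -- every `z₀ ∈ C_V(T)` is centralised by all of `P`
  have hall : ∀ z₀ ∈ fixV V (TT T), ∀ x ∈ P, x * z₀ = z₀ * x := by
    intro z₀ hz₀ x hx
    obtain ⟨y, hyP, hyz, hyM⟩ := hcon z₀ hz₀
    let K : Subgroup ↥P := (Subgroup.centralizer ({z₀} : Set G)).subgroupOf P
    have hKmem : ∀ u : ↥P, u ∈ K ↔ (u : G) * z₀ = z₀ * (u : G) := by
      intro u
      rw [Subgroup.mem_subgroupOf, Subgroup.mem_centralizer_iff]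
      constructor
      · intro h; exact (h z₀ rfl).symm
      · intro h g hg
        rw [Set.mem_singleton_iff] at hg
        rw [hg]; exact h.symm
    have hTK : (T : Subgroup ↥P) ≤ K := by
      intro t ht
      rw [hKmem]
      have h1 : (t : G) ∈ TT T := ⟨t, ht, rfl⟩
      exact (mem_fix.mp hz₀).2 _ h1
    have hKM : ¬ K ≤ M := by
      intro hle
      apply hyM
      have : (⟨y, hyP⟩ : ↥P) ∈ K := (hKmem _).mpr hyz
      exact ⟨⟨y, hyP⟩, hle this, rfl⟩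
    have htop := PT1_aux_top Hy K hTK hKM
    have : (⟨x, hx⟩ : ↥P) ∈ K := by rw [htop]; exact Subgroup.mem_top _
    exact (hKmem _).mp this
  -- so `P` centralises `C_V(T)`, hence `P ≤ M`
  have hPM : P ≤ MM M := by
    refine le_trans ?_ Hy.hCT
    intro x hx
    refine Subgroup.mem_inf.mpr ⟨hx, ?_⟩
    rw [Subgroup.mem_centralizer_iff]
    intro z hz
    exact (hall z hz x hx).symm
  -- contradiction with `M ≠ ⊤`
  apply Hy.hM.1
  rw [eq_top_iff]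
  intro u _
  obtain ⟨y, hyM, hyu⟩ := hPM u.2
  have : y = u := Subtype.ext hyu
  rwa [← this]

/-- PT1b (M): if `ˣJ` centralises the vector `g z₀ g⁻¹` then `g⁻¹ x ∈ M`. -/
theorem PT1b (Hy : Hyp p V P T M) (hq : MinQ p V P q) {z₀ : G} (hzM : ∀ x ∈ P, x * z₀ = z₀ * x → x ∈ MM M)
    {x g : G} (hx : x ∈ P) (hg : g ∈ P)
    (hcen : ∀ y ∈ cjs x (JOff p V (TT T) q), y * (g * z₀ * g⁻¹) = (g * z₀ * g⁻¹) * y) : g⁻¹ * x ∈ MM M := by
  -- `J ≠ ⊥`
  have hne : JOff p V (TT T) q ≠ ⊥ := by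
    obtain ⟨⟨A, hAP, hAs, hAc⟩, _⟩ := hq
    obtain ⟨h, hhP, hle⟩ := F2_aux_conj_into P T hAP (F2_aux_isPGroup hAs.hA)
    have hmem : cjs h A ∈ AqIn p V (TT T) q :=
      ⟨hle, hAs.conj (Hy.hPV hhP), by rw [cj_card]; exact hAc⟩
    exact JOff_ne_bot hmem
  have hJP : JOff p V (TT T) q ≤ P := (JOff_le p V (TT T) q).trans (Subgroup.map_subtype_le _)
  set k := g⁻¹ * x with hk
  have hkP : k ∈ P := P.mul_mem (P.inv_mem hg) hx
  -- `ᵏJ ≤ M`
  have h1 : cjs k (JOff p V (TT T) q) ≤ MM M := by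
    intro y' hy'
    have hy'J : k⁻¹ * y' * k ∈ JOff p V (TT T) q := cj_mem.mp hy'
    have hy'P : y' ∈ P := by
      have h2 := P.mul_mem (P.mul_mem hkP (hJP hy'J)) (P.inv_mem hkP)
      have e : k * (k⁻¹ * y' * k) * k⁻¹ = y' := by group
      rwa [e] at h2
    apply hzM y' hy'P
    have hy : g * y' * g⁻¹ ∈ cjs x (JOff p V (TT T) q) := by
      rw [cj_mem]
      have e : x⁻¹ * (g * y' * g⁻¹) * x = k⁻¹ * y' * k := by rw [hk]; group
      rw [e]; exact hy'J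
    have h3 := hcen _ hy
    calc y' * z₀ = g⁻¹ * ((g * y' * g⁻¹) * (g * z₀ * g⁻¹)) * g := by group
      _ = g⁻¹ * ((g * z₀ * g⁻¹) * (g * y' * g⁻¹)) * g := by rw [h3]
      _ = z₀ * y' := by group
  -- `J ≤ cjs k⁻¹ M`
  have h2 : JOff p V (TT T) q ≤ cjs k⁻¹ (MM M) := by
    have := cj_mono (g := k⁻¹) h1
    rwa [cj_inv_cj] at this
  have h3 := JOff_le_cj_M Hy hne (P.inv_mem hkP) h2
  have := (MM M).inv_mem h3
  rwa [inv_inv] at this

end Cfsg.Agent.S3000P
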