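import Mathlib
import Cfsg.Agent.S0002

/-!
# S3913 piece SCONJ (helper9): if `F ⊔ S` is normal, `F` abelian normal of order prime to `|S|`, every
`G`-conjugate of `S` is an `F`-conjugate.  (Schur–Zassenhaus conjugacy `Cfsg.Agent.S0002.result` inside `↥(F ⊔ S)`.)
-/

set_option autoImplicit false

namespace Cfsg.Agent.S3913P

open Pointwise

/-- SCONJ. -/
theorem SCONJ {G : Type*} [Group G] [Finite G] (F S : Subgroup G) [F.Normal]
    (hFab : ∀ a ∈ F, ∀ b ∈ F, a * b = b * a) (hcop : (Nat.card ↥S).Coprime (Nat.card ↥F))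
    (hFS : (F ⊔ S).Normal) (g : G) :
    ∃ f ∈ F, S.map (MulAut.conj g).toMonoidHom = S.map (MulAut.conj f).toMonoidHom := by
  classical
  set H : Subgroup G := F ⊔ S with hH
  have hFH : F ≤ H := le_sup_left
  have hSH : S ≤ H := le_sup_right
  set Sg : Subgroup G := S.map (MulAut.conj g).toMonoidHom with hSg
  have hSgH : Sg ≤ H := by
    intro y hy
    obtain ⟨s, hs, rfl⟩ := hy
    have := hFS.conj_mem s (hSH hs) g
    simpa using this
  -- the subgroups inside `↥H`
  set F' : Subgroup ↥H := F.subgroupOf H with hF'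
  set S' : Subgroup ↥H := S.subgroupOf H with hS'
  set T' : Subgroup ↥H := Sg.subgroupOf H with hT'
  have : F'.Normal := by
    rw [hF']; infer_instance
  have : IsMulCommutative ↥F' :=
    ⟨⟨fun a b => Subtype.ext (Subtype.ext (hFab _ a.2 _ b.2))⟩⟩
  have cF : Nat.card ↥F' = Nat.card ↥F :=
    Nat.card_congr (Subgroup.subgroupOfEquivOfLe hFH).toEquiv
  have cS : Nat.card ↥S' = Nat.card ↥S :=
    Nat.card_congr (Subgroup.subgroupOfEquivOfLe hSH).toEquiv
  have cT : Nat.card ↥T' = Nat.card ↥Sg :=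
    Nat.card_congr (Subgroup.subgroupOfEquivOfLe hSgH).toEquiv
  have cSg : Nat.card ↥Sg = Nat.card ↥S := by
    rw [hSg]
    exact Subgroup.card_map_of_injective (MulAut.conj g).injective
  have hdisj : Disjoint F' S' := by
    apply Subgroup.disjoint_of_coprime_natCard
    rw [cF, cS]; exact hcop.symm
  have hdisjT : Disjoint F' T' := by
    apply Subgroup.disjoint_of_coprime_natCard
    rw [cF, cT, cSg]; exact hcop.symm
  have hmul : (F' : Set ↥H) * (S' : Set ↥H) = Set.univ := by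
    apply Set.eq_univ_of_forall
    intro x
    have hx : (x : G) ∈ (↑(F ⊔ S) : Set G) := x.2
    rw [Subgroup.normal_mul] at hx
    obtain ⟨a, ha, b, hb, hab⟩ := hx
    refine ⟨⟨a, hFH ha⟩, ?_, ⟨b, hSH hb⟩, ?_, ?_⟩
    · exact Subgroup.mem_subgroupOf.mpr ha
    · exact Subgroup.mem_subgroupOf.mpr hb
    · exact Subtype.ext hab
  have hc1 : Subgroup.IsComplement' F' S' :=
    Subgroup.isComplement'_of_disjoint_and_mul_eq_univ hdisj hmul
  have hc2 : Subgroup.IsComplement' F' T' := by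
    apply Subgroup.isComplement'_of_card_mul_and_disjoint _ hdisjT
    rw [cT, cSg, ← cS]; exact hc1.card_mul_card
  have hidx : (Nat.card ↥F').Coprime F'.index := by
    have h1 : S'.index = Nat.card ↥F' := hc1.index_eq_card
    have h2 : F'.index = Nat.card ↥S' := by
      have := hc1.symm.index_eq_card
      exact this
    rw [h2, cF, cS]; exact hcop.symm
  obtain ⟨a, haF, ha⟩ := Cfsg.Agent.S0002.result F' hidx S' T' hc1 hc2
  refine ⟨(a : G), Subgroup.mem_subgroupOf.mp haF, ?_⟩
  ext y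
  constructor
  · intro hy
    have hyH : y ∈ H := hSgH hy
    have hyT : (⟨y, hyH⟩ : ↥H) ∈ T' := Subgroup.mem_subgroupOf.mpr hy
    rw [← ha] at hyT
    obtain ⟨s, hs, hsy⟩ := hyT
    refine ⟨(s : G), Subgroup.mem_subgroupOf.mp hs, ?_⟩
    have := congrArg (fun z : ↥H => (z : G)) hsy
    simpa [MulAut.smul_def] using this
  · rintro ⟨s, hs, rfl⟩
    have hsS : (⟨s, hSH hs⟩ : ↥H) ∈ S' := Subgroup.mem_subgroupOf.mpr hs
    have h1 : MulAut.conj a • (⟨s, hSH hs⟩ : ↥H) ∈ MulAut.conj a • S' :=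
      Subgroup.smul_mem_pointwise_smul _ _ _ hsS
    rw [ha] at h1
    have h2 := Subgroup.mem_subgroupOf.mp h1
    simpa [MulAut.smul_def] using h2

end Cfsg.Agent.S3913P
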