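import Mathlib
import Cfsg.Agent.Helper4.S4404Defs
import Cfsg.Agent.Helper8.S4404PG

set_option autoImplicit false

namespace Cfsg.Agent.S4404P

open Subgroup

variable {S : Type*} [Group S] [Finite S]

theorem PGPHI_aux_fr_ne (P : Subgroup S) (hne : P ≠ ⊥) : Fr P ≠ P := by
  intro h
  haveI : Nontrivial ↥P := (Subgroup.nontrivial_iff_ne_bot P).mpr hne
  rcases IsCoatomic.eq_top_or_exists_le_coatom (⊥ : Subgroup ↥P) with hb | ⟨M, hM, _⟩
  · exact bot_ne_top hb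
  · have h1 : frattini ↥P ≤ M := frattini_le_coatom hM
    apply hM.1
    rw [eq_top_iff]
    intro x _
    have hx : (x : S) ∈ Fr P := by rw [h]; exact x.2
    obtain ⟨y, hy, hyx⟩ := hx
    have : y = x := Subtype.ext hyx
    rw [← this]
    exact h1 hy

theorem PGPHI_aux_conj_mem (P : Subgroup S) {g : S} (hg : g ∈ normalizer (P : Set S)) {y : S}
    (hy : y ∈ Fr P) : g * y * g⁻¹ ∈ Fr P := by
  have hg' : g⁻¹ ∈ normalizer (P : Set S) := inv_mem hg
  have h1 : ∀ s : ↥P, g * (s : S) * g⁻¹ ∈ P := fun s => (mem_normalizer_iff.mp hg s).mp s.2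
  have h2 : ∀ s : ↥P, g⁻¹ * (s : S) * g ∈ P := fun s => by
    have := (mem_normalizer_iff.mp hg' s).mp s.2
    simpa using this
  let φ : ↥P ≃* ↥P :=
    { toFun := fun s => ⟨g * (s : S) * g⁻¹, h1 s⟩
      invFun := fun s => ⟨g⁻¹ * (s : S) * g, h2 s⟩
      left_inv := fun s => Subtype.ext (by simp only []; group)
      right_inv := fun s => Subtype.ext (by simp only []; group)
      map_mul' := fun s t => Subtype.ext (by simp only [Subgroup.coe_mul]; group) }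
  obtain ⟨s, hs, rfl⟩ := hy
  have hK : (frattini ↥P).Characteristic := inferInstance
  have h := (characteristic_iff_map_le.mp hK) φ
  exact ⟨φ s, h ⟨s, hs, rfl⟩, rfl⟩

theorem PGPHI_aux_normalizer_le (P : Subgroup S) : normalizer (P : Set S) ≤ normalizer ((Fr P : Subgroup S) : Set S) := by
  intro g hg
  rw [mem_normalizer_iff]
  intro y
  constructor
  · exact fun hy => PGPHI_aux_conj_mem P hg hy
  · intro hy
    have := PGPHI_aux_conj_mem P (inv_mem hg) hy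
    have e : g⁻¹ * (g * y * g⁻¹) * g⁻¹⁻¹ = y := by group
    rwa [e] at this

/-- PGPHI (three subgroups lemma): `Φ(T₀) ≤ Z(T₀)`. -/
theorem minAct_fr_le_center (T₀ : Subgroup S) (hT : IsPGroup 3 ↥T₀) (a : S) (q : ℕ) [Fact q.Prime] (hq3 : q ≠ 3)
    (haq : ∃ k : ℕ, a ^ q ^ k = 1) (h : MinAct T₀ a) : Fr T₀ ≤ Zc T₀ := by
  have hfull : ⁅T₀, zpowers a⁆ = T₀ := minAct_comm_eq T₀ hT a q hq3 haq h
  obtain ⟨haN, haC, hmin⟩ := h
  have hne : T₀ ≠ ⊥ := by
    intro hb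
    apply haC
    rw [hb, mem_centralizer_iff]
    intro x hx
    rw [SetLike.mem_coe, mem_bot] at hx
    rw [hx]; simp
  have hΦle : Fr T₀ ≤ T₀ := Fr_le T₀
  have haΦ : a ∈ centralizer ((Fr T₀ : Subgroup S) : Set S) :=
    hmin (Fr T₀) hΦle (PGPHI_aux_fr_ne T₀ hne) (PGPHI_aux_normalizer_le T₀ haN)
  have hAΦ : zpowers a ≤ centralizer ((Fr T₀ : Subgroup S) : Set S) := zpowers_le.mpr haΦ
  have hTN : T₀ ≤ normalizer ((Fr T₀ : Subgroup S) : Set S) := le_normalizer.trans (PGPHI_aux_normalizer_le T₀)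
  have e1 : ⁅zpowers a, Fr T₀⁆ = ⊥ := Subgroup.commutator_eq_bot_iff_le_centralizer.mpr hAΦ
  have e1' : ⁅Fr T₀, zpowers a⁆ = ⊥ := by rw [Subgroup.commutator_comm]; exact e1
  have h1 : ⁅⁅zpowers a, Fr T₀⁆, T₀⁆ = ⊥ := by rw [e1]; exact Subgroup.commutator_bot_left _
  have hle : ⁅Fr T₀, T₀⁆ ≤ Fr T₀ := by
    rw [Subgroup.commutator_le]
    intro d hd x hx
    rw [commutatorElement_def]
    have hxn : x ∈ normalizer ((Fr T₀ : Subgroup S) : Set S) := hTN hx
    have h2 : x * d⁻¹ * x⁻¹ ∈ Fr T₀ := (mem_normalizer_iff.mp hxn d⁻¹).mp (inv_mem hd)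
    have : d * x * d⁻¹ * x⁻¹ = d * (x * d⁻¹ * x⁻¹) := by group
    rw [this]
    exact mul_mem hd h2
  have h2 : ⁅⁅Fr T₀, T₀⁆, zpowers a⁆ = ⊥ := by
    rw [eq_bot_iff, ← e1']
    exact Subgroup.commutator_mono hle le_rfl
  have h3 := Subgroup.commutator_commutator_eq_bot_of_rotate h1 h2
  rw [hfull] at h3
  have h4 : T₀ ≤ centralizer ((Fr T₀ : Subgroup S) : Set S) := Subgroup.commutator_eq_bot_iff_le_centralizer.mp h3
  exact le_inf hΦle (Subgroup.le_centralizer_iff.mp h4)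

end Cfsg.Agent.S4404P
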