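import Mathlib
import Cfsg.Agent.Helper11.S4409Defs
import Cfsg.Agent.Helper1.PGroup

/-! Board `s4409pieces`, rows F3, F4, F5, F7: the Frattini subgroup of a `2`-subgroup. -/

set_option autoImplicit false

namespace Cfsg.Agent.S4409P

open Subgroup
open scoped commutatorElement

variable {S : Type*} [Group S] [Finite S]

/-- F3 -/
theorem fr_ne (P : Subgroup S) (hP : IsPGroup 2 ↥P) (hne : P ≠ ⊥) : Fr P ≠ P := by
  intro h
  haveI : Nontrivial ↥P := (Subgroup.nontrivial_iff_ne_bot P).mpr hne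
  rcases IsCoatomic.eq_top_or_exists_le_coatom (⊥ : Subgroup ↥P) with hb | ⟨M, hM, _⟩
  · exact bot_ne_top hb
  · have h1 : frattini ↥P ≤ M := frattini_le_coatom hM
    apply hM.1
    rw [eq_top_iff]
    intro x _
    have hx : (x : S) ∈ Fr P := by rw [h]; exact x.2
    obtain ⟨y, hy, hyx⟩ := hx
    have : y = x := Subtype.ext hyx
    rw [← this]
    exact h1 hy

/-- F4 -/
theorem sq_mem_fr (P : Subgroup S) (hP : IsPGroup 2 ↥P) {x : S} (hx : x ∈ P) : x * x ∈ Fr P := by
  haveI : Fact (Nat.Prime 2) := ⟨Nat.prime_two⟩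
  have h := Cfsg.Agent.Helper1.IsPGroup.pow_mem_frattini hP (⟨x, hx⟩ : ↥P)
  refine ⟨_, h, ?_⟩
  simp [pow_two]

/-- F5 : `Φ(P)` is the smallest subgroup with elementary abelian quotient. -/
theorem fr_le_of (P H : Subgroup S) (hP : IsPGroup 2 ↥P) (hHP : H ≤ P) (hder : Der P ≤ H)
    (hsq : ∀ x ∈ P, x * x ∈ H) : Fr P ≤ H := by
  -- `H' = H` inside `P`
  set H' : Subgroup ↥P := H.subgroupOf P with hH'
  have hcomm : ∀ a b : ↥P, ⁅a, b⁆ ∈ H' := by
    intro a b
    rw [hH', mem_subgroupOf]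
    apply hder
    have : ((⁅a, b⁆ : ↥P) : S) = ⁅(a : S), (b : S)⁆ := by
      simp [commutatorElement_def]
    rw [this]
    exact commutator_mem_commutator a.2 b.2
  haveI hN : H'.Normal := by
    refine ⟨fun n hn g => ?_⟩
    have h1 := hcomm g n
    have : g * n * g⁻¹ = ⁅g, n⁆ * n := by rw [commutatorElement_def]; group
    rw [this]
    exact H'.mul_mem h1 hn
  have hab : ∀ a b : ↥P ⧸ H', a * b = b * a := by
    intro a b
    obtain ⟨a, rfl⟩ := QuotientGroup.mk'_surjective H' a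
    obtain ⟨b, rfl⟩ := QuotientGroup.mk'_surjective H' b
    rw [← map_mul, ← map_mul]
    apply QuotientGroup.eq.mpr
    have h1 := hcomm b⁻¹ a⁻¹
    have : (a * b)⁻¹ * (b * a) = ⁅b⁻¹, a⁻¹⁆ := by rw [commutatorElement_def]; group
    rw [this]; exact h1
  have hexp : ∀ a : ↥P ⧸ H', a ^ 2 = 1 := by
    intro a
    obtain ⟨a, rfl⟩ := QuotientGroup.mk'_surjective H' a
    rw [← map_pow]
    apply (QuotientGroup.eq_one_iff _).mpr
    rw [hH', mem_subgroupOf]
    have := hsq a.1 a.2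
    simpa [pow_two] using this
  have hfr : frattini (↥P ⧸ H') = ⊥ :=
    Cfsg.Agent.Helper1.frattini_eq_bot_of_elementary Nat.prime_two hab hexp
  have hle : frattini ↥P ≤ H' := by
    have h1 := frattini_le_comap_frattini_of_surjective (φ := QuotientGroup.mk' H') (QuotientGroup.mk'_surjective H')
    rw [hfr] at h1
    intro x hx
    have := h1 hx
    rw [mem_comap, mem_bot] at this
    exact (QuotientGroup.eq_one_iff x).mp this
  rintro _ ⟨y, hy, rfl⟩
  have := hle hy
  rw [hH', mem_subgroupOf] at this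
  exact this

/-- `P' ≤ Φ(P)` -/
theorem F7_aux_der_le_fr (P : Subgroup S) (hP : IsPGroup 2 ↥P) : Der P ≤ Fr P := by
  haveI : Fact (Nat.Prime 2) := ⟨Nat.prime_two⟩
  have h := Cfsg.Agent.Helper1.IsPGroup.commutator_le_frattini hP
  unfold Der Fr
  rw [← map_subtype_commutator]
  exact map_mono h

/-- F7 -/
theorem normal_of_fr_le (P Y : Subgroup S) (hP : IsPGroup 2 ↥P) (hY : Fr P ≤ Y) (hYP : Y ≤ P) :
    P ≤ normalizer (Y : Set S) := by
  have hder : Der P ≤ Y := (F7_aux_der_le_fr P hP).trans hY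
  have key : ∀ g ∈ P, ∀ y ∈ Y, g * y * g⁻¹ ∈ Y := by
    intro g hg y hy
    have h1 : ⁅g, y⁆ ∈ Der P := commutator_mem_commutator hg (hYP hy)
    have : g * y * g⁻¹ = ⁅g, y⁆ * y := by rw [commutatorElement_def]; group
    rw [this]
    exact Y.mul_mem (hder h1) hy
  intro g hg
  rw [mem_normalizer_iff]
  intro y
  constructor
  · exact key g hg y
  · intro h
    have := key g⁻¹ (P.inv_mem hg) _ h
    have e : g⁻¹ * (g * y * g⁻¹) * g⁻¹⁻¹ = y := by group
    rwa [e] at this

end Cfsg.Agent.S4409P
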