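import Mathlib
import Cfsg.Agent.Helper11.S4409Defs

/-! Board `s4409pieces`, rows V0, V0P, V1, V2: Klein four subgroups with a nontrivial odd-order action. -/

set_option autoImplicit false

namespace Cfsg.Agent.S4409P

open Subgroup
open scoped commutatorElement

variable {S : Type*} [Group S] [Finite S]

/-- V0 -/
theorem IsV4.isAb {L : Subgroup S} (hL : IsV4 L) : IsAb L := by
  intro x hx y hy
  have h1 : (x * y) * (x * y) = 1 := hL.2 _ (L.mul_mem hx hy)
  have h2 : (y * x) * (x * y) = 1 := by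
    have hx2 := hL.2 x hx
    have hy2 := hL.2 y hy
    calc (y * x) * (x * y) = y * (x * x) * y := by group
      _ = 1 := by rw [hx2, mul_one, hy2]
  have e1 := mul_eq_one_iff_eq_inv.mp h1
  have e2 := mul_eq_one_iff_eq_inv.mp h2
  rw [e1, e2]

/-- V0P -/
theorem IsV4.isPGroup {L : Subgroup S} (hL : IsV4 L) : IsPGroup 2 ↥L :=
  IsPGroup.of_card (n := 2) (by rw [hL.1]; norm_num)

/-- a subgroup of order `4` consists of any four distinct elements of it. -/
theorem V0_aux_four (L : Subgroup S) (hL : Nat.card ↥L = 4) {a b c d : S} (ha : a ∈ L) (hb : b ∈ L) (hc : c ∈ L)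
    (hd : d ∈ L) (hab : a ≠ b) (hac : a ≠ c) (had : a ≠ d) (hbc : b ≠ c) (hbd : b ≠ d) (hcd : c ≠ d) :
    ∀ x ∈ L, x = a ∨ x = b ∨ x = c ∨ x = d := by
  classical
  letI : Fintype ↥L := Fintype.ofFinite _
  intro x hx
  let s : Finset ↥L := {⟨a, ha⟩, ⟨b, hb⟩, ⟨c, hc⟩, ⟨d, hd⟩}
  have hs : s.card = 4 := by
    have h1 : (⟨c, hc⟩ : ↥L) ∉ ({⟨d, hd⟩} : Finset ↥L) := by
      simp only [Finset.mem_singleton, Subtype.mk.injEq]; exact hcd
    have h2 : (⟨b, hb⟩ : ↥L) ∉ ({⟨c, hc⟩, ⟨d, hd⟩} : Finset ↥L) := by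
      simp only [Finset.mem_insert, Finset.mem_singleton, Subtype.mk.injEq, not_or]; exact ⟨hbc, hbd⟩
    have h3 : (⟨a, ha⟩ : ↥L) ∉ ({⟨b, hb⟩, ⟨c, hc⟩, ⟨d, hd⟩} : Finset ↥L) := by
      simp only [Finset.mem_insert, Finset.mem_singleton, Subtype.mk.injEq, not_or]; exact ⟨hab, hac, had⟩
    simp only [s]
    rw [Finset.card_insert_of_notMem h3, Finset.card_insert_of_notMem h2, Finset.card_insert_of_notMem h1,
      Finset.card_singleton]
  have huniv : s = Finset.univ :=
    Finset.eq_univ_of_card s (by rw [hs, ← hL, Nat.card_eq_fintype_card])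
  have hmem : (⟨x, hx⟩ : ↥L) ∈ s := by rw [huniv]; exact Finset.mem_univ _
  simp only [s, Finset.mem_insert, Finset.mem_singleton, Subtype.mk.injEq] at hmem
  exact hmem

/-- if `g ^ m` fixes `a` (by conjugation), `g ^ n = 1` and `m, n` are coprime, then `g` fixes `a`. -/
theorem V0_aux_coprime_fix (g a : S) (m n : ℕ) (hmn : Nat.Coprime m n) (hm : g ^ m * a * (g ^ m)⁻¹ = a)
    (hn : g ^ n = 1) : g * a * g⁻¹ = a := by
  have hmC : g ^ m ∈ centralizer ({a} : Set S) := by
    rw [mem_centralizer_singleton_iff]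
    calc g ^ m * a = (g ^ m * a * (g ^ m)⁻¹) * g ^ m := by group
      _ = a * g ^ m := by rw [hm]
  have hb : (1 : ℤ) = (m : ℤ) * Nat.gcdA m n + (n : ℤ) * Nat.gcdB m n := by
    have := Nat.gcd_eq_gcd_ab m n
    rw [hmn] at this
    exact_mod_cast this
  have hg : g = (g ^ m) ^ (Nat.gcdA m n) := by
    calc g = g ^ (1 : ℤ) := (zpow_one g).symm
      _ = g ^ ((m : ℤ) * Nat.gcdA m n + (n : ℤ) * Nat.gcdB m n) := by rw [← hb]
      _ = (g ^ m) ^ (Nat.gcdA m n) * (g ^ n) ^ (Nat.gcdB m n) := by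
        rw [zpow_add, zpow_mul, zpow_mul, zpow_natCast, zpow_natCast]
      _ = (g ^ m) ^ (Nat.gcdA m n) := by rw [hn, one_zpow, mul_one]
  have hgC : g ∈ centralizer ({a} : Set S) := by
    rw [hg]; exact zpow_mem hmC _
  rw [mem_centralizer_singleton_iff] at hgC
  rw [hgC]; group

/-- conjugation by `g` maps `L` to `L` when `g` normalises `L` -/
theorem V0_aux_conj_mem {L : Subgroup S} {g : S} (hg : g ∈ normalizer (L : Set S)) {x : S} (hx : x ∈ L) :
    g * x * g⁻¹ ∈ L := (mem_normalizer_iff.mp hg x).mp hx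

/-- an element `g` normalising `L = V4` and moving `a ∈ L`: then `L = {1, a, b, ab}` with `b = gag⁻¹`, and `g` either
swaps `a, b` or is a `3`-cycle `a ↦ b ↦ ab ↦ a`. -/
theorem V0_aux_perm (L : Subgroup S) (hL : IsV4 L) (g : S) (hg : g ∈ normalizer (L : Set S)) (a : S) (ha : a ∈ L)
    (hne : g * a * g⁻¹ ≠ a) :
    (∀ x ∈ L, x = 1 ∨ x = a ∨ x = g * a * g⁻¹ ∨ x = a * (g * a * g⁻¹)) ∧
    a * (g * a * g⁻¹) ≠ 1 ∧
    (g * (g * a * g⁻¹) * g⁻¹ = a ∨
      (g * (g * a * g⁻¹) * g⁻¹ = a * (g * a * g⁻¹) ∧ g * (a * (g * a * g⁻¹)) * g⁻¹ = a)) := by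
  set b := g * a * g⁻¹ with hb
  have hbL : b ∈ L := V0_aux_conj_mem hg ha
  have ha1 : a ≠ 1 := by
    intro h; apply hne; rw [hb, h]; group
  have hb1 : b ≠ 1 := by
    intro h; apply ha1
    have : a = g⁻¹ * b * g := by rw [hb]; group
    rw [this, h]; group
  have hab : a ≠ b := fun h => hne h.symm
  have haa : a * a = 1 := hL.2 a ha
  have hbb : b * b = 1 := hL.2 b hbL
  have hcomm : a * b = b * a := hL.isAb a ha b hbL
  have habL : a * b ∈ L := L.mul_mem ha hbL
  have hab1 : a * b ≠ 1 := by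
    intro h
    apply hab
    have h2 : a * b = a * a := by rw [h, haa]
    exact (mul_left_cancel h2).symm
  have haba : a * b ≠ a := by
    intro h; apply hb1
    have : a * b = a * 1 := by rw [h, mul_one]
    exact mul_left_cancel this
  have habb : a * b ≠ b := by
    intro h; apply ha1
    have : a * b = 1 * b := by rw [h, one_mul]
    exact mul_right_cancel this
  have hfour := V0_aux_four L hL.1 L.one_mem ha hbL habL (Ne.symm ha1) (Ne.symm hb1) (Ne.symm hab1) hab
    (Ne.symm haba) (Ne.symm habb)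
  refine ⟨hfour, hab1, ?_⟩
  -- the image of `b`
  set c := g * b * g⁻¹ with hc
  have hcL : c ∈ L := V0_aux_conj_mem hg hbL
  have hc1 : c ≠ 1 := by
    intro h; apply hb1
    have : b = g⁻¹ * c * g := by rw [hc]; group
    rw [this, h]; group
  have hcb : c ≠ b := by
    intro h; apply hab
    have h1 : g * b * g⁻¹ = g * a * g⁻¹ := by rw [← hc, h]
    have : b = g⁻¹ * (g * b * g⁻¹) * g := by group
    rw [this, h1]; group
  rcases hfour c hcL with h | h | h | h
  · exact absurd h hc1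
  · left; exact h
  · exact absurd h hcb
  · right
    refine ⟨h, ?_⟩
    calc g * (a * b) * g⁻¹ = (g * a * g⁻¹) * (g * b * g⁻¹) := by group
      _ = b * (a * b) := by rw [← hb, ← hc, h]
      _ = b * (b * a) := by rw [hcomm]
      _ = (b * b) * a := by group
      _ = a := by rw [hbb, one_mul]

/-- `K` of odd order acting nontrivially on `L = V4` is transitive on `L ∖ 1`. -/
theorem V0_aux_trans (L K : Subgroup S) (hL : IsV4 L) (hK : Odd (Nat.card ↥K)) (hKL : K ≤ normalizer (L : Set S))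
    (hne : ⁅L, K⁆ ≠ ⊥) {x y : S} (hx : x ∈ L) (hx1 : x ≠ 1) (hy : y ∈ L) (hy1 : y ≠ 1) :
    ∃ g ∈ K, g * x * g⁻¹ = y := by
  -- a moved point
  have h1 : ¬ L ≤ centralizer (K : Set S) := fun h => hne (commutator_eq_bot_iff_le_centralizer.mpr h)
  obtain ⟨a, haL, haC⟩ := SetLike.not_le_iff_exists.mp h1
  rw [mem_centralizer_iff] at haC
  push Not at haC
  obtain ⟨k, hkK, hka⟩ := haC
  have hkK' : k ∈ K := hkK
  have hne' : k * a * k⁻¹ ≠ a := by
    intro h
    apply hka
    calc k * a = (k * a * k⁻¹) * k := by group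
      _ = a * k := by rw [h]
  obtain ⟨hfour, hab1, hcase⟩ := V0_aux_perm L hL k (hKL hkK') a haL hne'
  have hkn : k ^ (Nat.card ↥K) = 1 := by
    have := Subgroup.orderOf_dvd_natCard K hkK'
    exact orderOf_dvd_iff_pow_eq_one.mp this
  have hcase' : k * (k * a * k⁻¹) * k⁻¹ = a * (k * a * k⁻¹) := by
    rcases hcase with h | h
    · exfalso
      apply hne'
      refine V0_aux_coprime_fix k a 2 (Nat.card ↥K) (Nat.coprime_two_left.mpr hK) ?_ hkn
      calc k ^ 2 * a * (k ^ 2)⁻¹ = k * (k * a * k⁻¹) * k⁻¹ := by rw [pow_two]; group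
        _ = a := h
    · exact h.1
  -- every nonidentity element is a conjugate of `a` under `1, k, k²`
  have horb : ∀ z ∈ L, z ≠ 1 → ∃ g ∈ K, g * a * g⁻¹ = z := by
    intro z hz hz1
    rcases hfour z hz with h | h | h | h
    · exact absurd h hz1
    · exact ⟨1, K.one_mem, by rw [h]; group⟩
    · exact ⟨k, hkK', h.symm⟩
    · refine ⟨k * k, K.mul_mem hkK' hkK', ?_⟩
      rw [h, ← hcase']; group
  obtain ⟨g1, hg1, e1⟩ := horb x hx hx1
  obtain ⟨g2, hg2, e2⟩ := horb y hy hy1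
  refine ⟨g2 * g1⁻¹, K.mul_mem hg2 (K.inv_mem hg1), ?_⟩
  rw [← e1, ← e2]; group

/-- V2 : `K`-invariant subgroups of `L = V4` (nontrivial action) are `⊥` and `L`. -/
theorem v4_sub (L K : Subgroup S) (hL : IsV4 L) (hK : Odd (Nat.card ↥K)) (hKL : K ≤ normalizer (L : Set S))
    (hne : ⁅L, K⁆ ≠ ⊥) (H : Subgroup S) (hHL : H ≤ L) (hKH : K ≤ normalizer (H : Set S)) : H = ⊥ ∨ H = L := by
  by_cases hH : H = ⊥
  · left; exact hH
  · right
    obtain ⟨x, hx1⟩ := (Subgroup.ne_bot_iff_exists_ne_one).mp hH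
    have hx1' : (x : S) ≠ 1 := fun h => hx1 (Subtype.ext h)
    apply le_antisymm hHL
    intro y hy
    by_cases hy1 : y = 1
    · rw [hy1]; exact H.one_mem
    · obtain ⟨g, hg, e⟩ := V0_aux_trans L K hL hK hKL hne (hHL x.2) hx1' hy hy1
      rw [← e]
      exact V0_aux_conj_mem (hKH hg) x.2

/-- V1 : an element normalising `L = V4`, commuting with `K` (which acts nontrivially, hence transitively on `L∖1`),
of `2`-power order, centralises `L`. -/
theorem v4_cen (L K : Subgroup S) (hL : IsV4 L) (hK : Odd (Nat.card ↥K)) (hKL : K ≤ normalizer (L : Set S))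
    (hne : ⁅L, K⁆ ≠ ⊥) (c : S) (hcL : c ∈ normalizer (L : Set S)) (hcK : c ∈ centralizer (K : Set S))
    (hc2 : ∃ n : ℕ, c ^ (2 ^ n) = 1) : c ∈ centralizer (L : Set S) := by
  obtain ⟨n, hn⟩ := hc2
  -- a nonidentity fixed point
  have hfix : ∃ x ∈ L, x ≠ 1 ∧ c * x * c⁻¹ = x := by
    -- a nonidentity element
    have hex : ∃ a ∈ L, a ≠ 1 := by
      by_contra h
      push Not at h
      have : L = ⊥ := by
        rw [eq_bot_iff]; intro x hx; rw [mem_bot]; exact h x hx
      have h4 := hL.1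
      rw [this] at h4
      simp at h4
    obtain ⟨a, haL, ha1⟩ := hex
    by_cases hca : c * a * c⁻¹ = a
    · exact ⟨a, haL, ha1, hca⟩
    · obtain ⟨hfour, hab1, hcase⟩ := V0_aux_perm L hL c hcL a haL hca
      rcases hcase with h | h
      · refine ⟨a * (c * a * c⁻¹), L.mul_mem haL (V0_aux_conj_mem hcL haL), hab1, ?_⟩
        have hcomm := hL.isAb a haL _ (V0_aux_conj_mem hcL haL)
        calc c * (a * (c * a * c⁻¹)) * c⁻¹ = (c * a * c⁻¹) * (c * (c * a * c⁻¹) * c⁻¹) := by group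
          _ = (c * a * c⁻¹) * a := by rw [h]
          _ = a * (c * a * c⁻¹) := hcomm.symm
      · exfalso
        apply hca
        refine V0_aux_coprime_fix c a 3 (2 ^ n) (Nat.Coprime.pow_right n (by norm_num)) ?_ hn
        calc c ^ 3 * a * (c ^ 3)⁻¹ = c * (c * (c * a * c⁻¹) * c⁻¹) * c⁻¹ := by
              rw [pow_succ, pow_two]; group
          _ = c * (a * (c * a * c⁻¹)) * c⁻¹ := by rw [h.1]
          _ = a := h.2
  obtain ⟨x, hxL, hx1, hcx⟩ := hfix
  rw [mem_centralizer_iff]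
  intro y hy
  have hyL : y ∈ L := hy
  by_cases hy1 : y = 1
  · rw [hy1]; group
  · obtain ⟨g, hg, e⟩ := V0_aux_trans L K hL hK hKL hne hxL hx1 hyL hy1
    have hcg : g * c = c * g := (mem_centralizer_iff.mp hcK) g hg
    have : c * y * c⁻¹ = y := by
      calc c * y * c⁻¹ = c * (g * x * g⁻¹) * c⁻¹ := by rw [e]
        _ = (c * g) * x * (c * g)⁻¹ := by group
        _ = (g * c) * x * (g * c)⁻¹ := by rw [hcg]
        _ = g * (c * x * c⁻¹) * g⁻¹ := by group
        _ = g * x * g⁻¹ := by rw [hcx]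
        _ = y := e
    calc y * c = (c * y * c⁻¹)⁻¹⁻¹ * c := by rw [this, inv_inv]
      _ = c * y := by rw [inv_inv]; group

end Cfsg.Agent.S4409P
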