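import Mathlib
import Cfsg.Prelude.Def_Transfer
import Cfsg.Prelude.Def_Solvable
import Cfsg.Agent.Helper11.S4409Defs

/-!
# S4415 (Thompson, N-groups, a lemma on solvable groups acting on a module over `𝔽₃`): definitions for the
piece board `s4415pieces`

`S` is the ambient finite group, `ρ : Representation (ZMod 3) S E` a (faithful) representation on a finite module `E`.
All groups are subgroups of `S`; `B = zpowers b` has order `3`; the subgroups `Y, R, T, Q, A, X` have order prime to `3`.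

* `CE ρ Y = C_E(Y)` : the fixed points of `Y` on `E` (a submodule).
* `ComE ρ Y = [E, Y]` : the span of all `ρ y v - v`, `y ∈ Y` (a submodule).
* `Nb ρ b = ρ b - 1`.
* `Inv ρ H U` : the submodule `U` is `H`-invariant;  `TrivOn ρ H U` : `H` acts trivially on `U`.
* `Cubic ρ b` : `b ^ 3 = 1`, `|range (ρ b - 1)| = 9`, `(ρ b - 1)² ≠ 0`  (one Jordan block of size `3`, all others of size `1`).
* `Base ρ b B` : `ρ` faithful, `B = zpowers b` of order `3`, `Cubic ρ b`.
* `YC B Y` : `Y` is `B`-invariant, of order prime to `3`, and `[Y, B] = Y`.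
* `Zc`, `Fr`, `Der`, `IsV4`, `IsQ8`, `SpecialInt` are those of `Cfsg.Agent.S4409P` (board `s4409pieces`, all rows landed).
-/

set_option autoImplicit false

namespace Cfsg.Agent.S4415P

variable {S : Type*} [Group S] {E : Type*} [AddCommGroup E] [Module (ZMod 3) E]

/-- the fixed points `C_E(Y)`. -/
def CE (ρ : Representation (ZMod 3) S E) (Y : Subgroup S) : Submodule (ZMod 3) E where
  carrier := {v | ∀ y ∈ Y, ρ y v = v}
  add_mem' := by
    intro u v hu hv y hy
    rw [map_add, hu y hy, hv y hy]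
  zero_mem' := by
    intro y _
    exact map_zero _
  smul_mem' := by
    intro c v hv y hy
    rw [map_smul, hv y hy]

/-- the commutator `[E, Y]`. -/
def ComE (ρ : Representation (ZMod 3) S E) (Y : Subgroup S) : Submodule (ZMod 3) E :=
  Submodule.span (ZMod 3) {w | ∃ y ∈ Y, ∃ v : E, w = ρ y v - v}

/-- `ρ b - 1`. -/
def Nb (ρ : Representation (ZMod 3) S E) (b : S) : E →ₗ[ZMod 3] E := ρ b - 1

/-- `U` is `H`-invariant. -/
def Inv (ρ : Representation (ZMod 3) S E) (H : Subgroup S) (U : Submodule (ZMod 3) E) : Prop :=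
  ∀ h ∈ H, ∀ v ∈ U, ρ h v ∈ U

/-- `H` acts trivially on `U`. -/
def TrivOn (ρ : Representation (ZMod 3) S E) (H : Subgroup S) (U : Submodule (ZMod 3) E) : Prop :=
  ∀ h ∈ H, ∀ v ∈ U, ρ h v = v

/-- `b ^ 3 = 1`, `|range (ρ b - 1)| = 9` and `(ρ b - 1) ^ 2 ≠ 0`. -/
structure Cubic (ρ : Representation (ZMod 3) S E) (b : S) : Prop where
  pow : b ^ 3 = 1
  card_range : Nat.card ↥(LinearMap.range (Nb ρ b)) = 9
  sq_ne : ∃ v : E, Nb ρ b (Nb ρ b v) ≠ 0

/-- the standing hypotheses on `ρ`, `b`, `B`. -/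
structure Base (ρ : Representation (ZMod 3) S E) (b : S) (B : Subgroup S) : Prop where
  faith : Function.Injective ρ
  gen : Subgroup.zpowers b = B
  card : Nat.card ↥B = 3
  cubic : Cubic ρ b

/-- the class `𝒴`: `B`-invariant subgroups `Y` of order prime to `3` with `[Y, B] = Y`. -/
structure YC (B Y : Subgroup S) : Prop where
  norm : B ≤ Subgroup.normalizer (Y : Set S)
  cop : (Nat.card ↥Y).Coprime 3
  comm : ⁅Y, B⁆ = Y

theorem mem_CE {ρ : Representation (ZMod 3) S E} {Y : Subgroup S} {v : E} :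
    v ∈ CE ρ Y ↔ ∀ y ∈ Y, ρ y v = v := Iff.rfl

theorem trivOn_CE (ρ : Representation (ZMod 3) S E) (Y : Subgroup S) : TrivOn ρ Y (CE ρ Y) :=
  fun y hy _ hv => hv y hy

theorem sub_mem_ComE (ρ : Representation (ZMod 3) S E) {Y : Subgroup S} {y : S} (hy : y ∈ Y) (v : E) :
    ρ y v - v ∈ ComE ρ Y :=
  Submodule.subset_span ⟨y, hy, v, rfl⟩

theorem ComE_mono (ρ : Representation (ZMod 3) S E) {Y Z : Subgroup S} (h : Y ≤ Z) : ComE ρ Y ≤ ComE ρ Z := by
  apply Submodule.span_mono
  rintro w ⟨y, hy, v, rfl⟩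
  exact ⟨y, h hy, v, rfl⟩

theorem CE_anti (ρ : Representation (ZMod 3) S E) {Y Z : Subgroup S} (h : Y ≤ Z) : CE ρ Z ≤ CE ρ Y :=
  fun _ hv y hy => hv y (h hy)

theorem Nb_apply (ρ : Representation (ZMod 3) S E) (b : S) (v : E) : Nb ρ b v = ρ b v - v := by
  simp [Nb]

end Cfsg.Agent.S4415P

namespace Cfsg.Agent.S4415P

open Cfsg.Agent.S4409P (Zc IsV4 IsQ8)

variable {S : Type*} [Group S] {E : Type*} [AddCommGroup E] [Module (ZMod 3) E]

/-- the "eigenline" `[E,T] ∩ C_E(t)` of an element `t` of a four-group `T`. -/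
def Ln (ρ : Representation (ZMod 3) S E) (T : Subgroup S) (t : S) : Submodule (ZMod 3) E :=
  ComE ρ T ⊓ CE ρ (Subgroup.zpowers t)

/-- the class `𝒜(R)`: `B`-invariant subgroups `A` of order `8` with `Z(R) ≤ A ≤ R`, `[A, R] ≤ Z(R)`, on which `B` acts
nontrivially. -/
structure InA (B R A : Subgroup S) : Prop where
  le : A ≤ R
  zle : Zc R ≤ A
  card : Nat.card ↥A = 8
  norm : B ≤ Subgroup.normalizer (A : Set S)
  comm : ⁅A, R⁆ ≤ Zc R
  nontriv : ¬ B ≤ Subgroup.centralizer (A : Set S)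

/-- the standing hypotheses of part E: `R ∈ 𝒴` is a `2`-group with `|Z(R)| = 2`, the involution of `Z(R)` is `-1` on `[E,R]`,
and every normal subgroup of `RB` inside `R` that is centralised by `B` has order at most `2`. -/
structure EHyp (ρ : Representation (ZMod 3) S E) (b : S) (B R : Subgroup S) : Prop where
  base : Base ρ b B
  yc : YC B R
  two : IsPGroup 2 ↥R
  zcard : Nat.card ↥(Zc R) = 2
  zcent : B ≤ Subgroup.centralizer ((Zc R : Subgroup S) : Set S)
  zneg : ∀ z ∈ Zc R, z ≠ 1 → ∀ v ∈ ComE ρ R, ρ z v = -v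
  small : ∀ X : Subgroup S, X ≤ R → R ≤ Subgroup.normalizer (X : Set S) → B ≤ Subgroup.normalizer (X : Set S) →
    B ≤ Subgroup.centralizer (X : Set S) → Nat.card ↥X ≤ 2

end Cfsg.Agent.S4415P
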