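import Mathlib
import Cfsg.Agent.Helper9.S4415Defs

/-! Board `s4415pieces`, rows MOD4, MOD4Q: a commutator `[X, ⟨b⟩]` acts trivially where `b` does. -/

set_option autoImplicit false
set_option linter.unusedVariables false
set_option linter.unusedSectionVars false

namespace Cfsg.Agent.S4415P

open Subgroup
open scoped commutatorElement

variable {S : Type*} [Group S] [Finite S] {E : Type*} [AddCommGroup E] [Module (ZMod 3) E] [Finite E]

theorem MOD4_aux_apply_mul (ρ : Representation (ZMod 3) S E) (g h : S) (v : E) : ρ (g * h) v = ρ g (ρ h v) := by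
  rw [map_mul]; rfl

theorem MOD4_aux_apply_inv (ρ : Representation (ZMod 3) S E) (g : S) (v : E) : ρ g⁻¹ (ρ g v) = v := by
  rw [← MOD4_aux_apply_mul, inv_mul_cancel, map_one]; rfl

theorem MOD4_aux_apply_inv' (ρ : Representation (ZMod 3) S E) (g : S) (v : E) : ρ g (ρ g⁻¹ v) = v := by
  rw [← MOD4_aux_apply_mul, mul_inv_cancel, map_one]; rfl

/-- the elements acting trivially on `U` form a subgroup. -/
def MOD4_aux_fix (ρ : Representation (ZMod 3) S E) (U : Submodule (ZMod 3) E) : Subgroup S where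
  carrier := {g | ∀ v ∈ U, ρ g v = v}
  mul_mem' := by
    intro g h hg hh v hv
    rw [ MOD4_aux_apply_mul, hh v hv, hg v hv]
  one_mem' := by
    intro v _
    rw [map_one]; rfl
  inv_mem' := by
    intro g hg v hv
    have := MOD4_aux_apply_inv ρ g v
    rw [hg v hv] at this
    exact this

/-- MOD4 : if `b` is trivial on an `X`-invariant subspace `U` then so is `[X, ⟨b⟩]`. -/
theorem triv_comm (ρ : Representation (ZMod 3) S E) (X : Subgroup S) (b : S) (U : Submodule (ZMod 3) E)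
    (hXU : Inv ρ X U) (hbU : ∀ v ∈ U, ρ b v = v) : TrivOn ρ ⁅X, zpowers b⁆ U := by
  have hbF : b ∈ MOD4_aux_fix ρ U := hbU
  have hzF : zpowers b ≤ MOD4_aux_fix ρ U := (zpowers_le).mpr hbF
  have hle : ⁅X, zpowers b⁆ ≤ MOD4_aux_fix ρ U := by
    rw [Subgroup.commutator_le]
    intro x hx c hc
    intro v hv
    have hc' := hzF hc
    have hcinv : c⁻¹ ∈ MOD4_aux_fix ρ U := inv_mem hc'
    rw [commutatorElement_def, MOD4_aux_apply_mul, MOD4_aux_apply_mul, MOD4_aux_apply_mul, hcinv v hv,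
      hc' _ (hXU x⁻¹ (inv_mem hx) v hv), MOD4_aux_apply_inv']
  exact fun r hr v hv => hle hr v hv

/-- the elements leaving `U` invariant and acting trivially on `E / U` form a subgroup. -/
def MOD4_aux_qfix (ρ : Representation (ZMod 3) S E) (U : Submodule (ZMod 3) E) : Subgroup S where
  carrier := {g | (∀ v : E, ρ g v - v ∈ U) ∧ (∀ v : E, ρ g⁻¹ v - v ∈ U)}
  mul_mem' := by
    rintro g h ⟨hg, hg'⟩ ⟨hh, hh'⟩
    refine ⟨fun v => ?_, fun v => ?_⟩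
    · rw [ MOD4_aux_apply_mul]
      have : ρ g (ρ h v) - v = (ρ g (ρ h v) - ρ h v) + (ρ h v - v) := by abel
      rw [this]
      exact add_mem (hg _) (hh v)
    · rw [mul_inv_rev, MOD4_aux_apply_mul]
      have : ρ h⁻¹ (ρ g⁻¹ v) - v = (ρ h⁻¹ (ρ g⁻¹ v) - ρ g⁻¹ v) + (ρ g⁻¹ v - v) := by abel
      rw [this]
      exact add_mem (hh' _) (hg' v)
  one_mem' := by
    refine ⟨fun v => ?_, fun v => ?_⟩
    · rw [map_one]; simp
    · rw [inv_one, map_one]; simp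
  inv_mem' := by
    rintro g ⟨hg, hg'⟩
    refine ⟨hg', ?_⟩
    rw [inv_inv]; exact hg

/-- MOD4Q : if `b` is trivial on `E / U`, `U` an `X`-invariant subspace, then so is `[X, ⟨b⟩]`. -/
theorem quot_comm (ρ : Representation (ZMod 3) S E) (X : Subgroup S) (b : S) (U : Submodule (ZMod 3) E)
    (hXU : Inv ρ X U) (hbU : ∀ v : E, ρ b v - v ∈ U) : ∀ r ∈ ⁅X, zpowers b⁆, ∀ v : E, ρ r v - v ∈ U := by
  have hbinv : ∀ v : E, ρ b⁻¹ v - v ∈ U := by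
    intro v
    have h1 := hbU (ρ b⁻¹ v)
    rw [ MOD4_aux_apply_inv'] at h1
    have : ρ b⁻¹ v - v = -(v - ρ b⁻¹ v) := by abel
    rw [this]
    exact neg_mem h1
  have hbF : b ∈ MOD4_aux_qfix ρ U := ⟨hbU, hbinv⟩
  have hzF : zpowers b ≤ MOD4_aux_qfix ρ U := (zpowers_le).mpr hbF
  have hle : ⁅X, zpowers b⁆ ≤ MOD4_aux_qfix ρ U := by
    rw [Subgroup.commutator_le]
    intro x hx c hc
    have hc' := hzF hc
    -- ⁅x, c⁆ = x c x⁻¹ c⁻¹
    have key : ∀ (x : S), x ∈ X → ∀ c : S, c ∈ MOD4_aux_qfix ρ U → ∀ v : E, ρ (x * c * x⁻¹ * c⁻¹) v - v ∈ U := by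
      intro x hx c hc v
      have hcinv : c⁻¹ ∈ MOD4_aux_qfix ρ U := inv_mem hc
      rw [ MOD4_aux_apply_mul, MOD4_aux_apply_mul, MOD4_aux_apply_mul]
      -- w = ρ c⁻¹ v = v + u₁
      have h1 : ρ c⁻¹ v - v ∈ U := hcinv.1 v
      have h2 : ρ c (ρ x⁻¹ (ρ c⁻¹ v)) - ρ x⁻¹ (ρ c⁻¹ v) ∈ U := hc.1 _
      have h3 : ρ x (ρ c (ρ x⁻¹ (ρ c⁻¹ v)) - ρ x⁻¹ (ρ c⁻¹ v)) ∈ U := hXU x hx _ h2
      rw [map_sub, MOD4_aux_apply_inv'] at h3
      have : ρ x (ρ c (ρ x⁻¹ (ρ c⁻¹ v))) - v =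
          (ρ x (ρ c (ρ x⁻¹ (ρ c⁻¹ v))) - ρ c⁻¹ v) + (ρ c⁻¹ v - v) := by abel
      rw [this]
      exact add_mem h3 h1
    refine ⟨fun v => ?_, fun v => ?_⟩
    · rw [commutatorElement_def]
      exact key x hx c hc' v
    · have e : ⁅x, c⁆⁻¹ = c * x * c⁻¹ * x⁻¹ := by rw [commutatorElement_def]; group
      rw [e]
      -- c x c⁻¹ x⁻¹ : same computation with the roles exchanged
      rw [ MOD4_aux_apply_mul, MOD4_aux_apply_mul, MOD4_aux_apply_mul]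
      have hxinv : x⁻¹ ∈ X := inv_mem hx
      have hcinv : c⁻¹ ∈ MOD4_aux_qfix ρ U := inv_mem hc'
      have h1 : ρ c⁻¹ (ρ x⁻¹ v) - ρ x⁻¹ v ∈ U := hcinv.1 _
      have h2 : ρ x (ρ c⁻¹ (ρ x⁻¹ v) - ρ x⁻¹ v) ∈ U := hXU x hx _ h1
      rw [map_sub, MOD4_aux_apply_inv'] at h2
      have h3 : ρ c (ρ x (ρ c⁻¹ (ρ x⁻¹ v))) - ρ x (ρ c⁻¹ (ρ x⁻¹ v)) ∈ U := hc'.1 _
      have : ρ c (ρ x (ρ c⁻¹ (ρ x⁻¹ v))) - v =
          (ρ c (ρ x (ρ c⁻¹ (ρ x⁻¹ v))) - ρ x (ρ c⁻¹ (ρ x⁻¹ v))) + (ρ x (ρ c⁻¹ (ρ x⁻¹ v)) - v) := by abel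
      rw [this]
      exact add_mem h3 h2
  exact fun r hr v => (hle hr).1 v

end Cfsg.Agent.S4415P
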