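import Mathlib
import Cfsg.Agent.Helper9.S4415Defs
import Cfsg.Agent.Helper9.S4415MOD4
import Cfsg.Agent.Helper6.S4415MOD1
import Cfsg.Agent.Helper19.S4415MOD2
import Cfsg.Agent.Helper23.S4415MOD3

set_option autoImplicit false
set_option linter.unusedVariables false
set_option linter.unusedSectionVars false

namespace Cfsg.Agent.S4415P

open Subgroup
open Cfsg.Agent.S4409P (Zc Fr Der IsV4 IsQ8 SpecialInt IsAb)

variable {S : Type*} [Group S] [Finite S] {E : Type*} [AddCommGroup E] [Module (ZMod 3) E] [Finite E]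

/-- MOD5 (KEY) -/
theorem key (ρ : Representation (ZMod 3) S E) (b : S) (B : Subgroup S) (hb : Base ρ b B) (Y : Subgroup S)
    (hY : YC B Y) (hne : Y ≠ ⊥) : TrivOn ρ B (CE ρ Y) ∧ LinearMap.range (Nb ρ b) ≤ ComE ρ Y := by
  obtain ⟨hd, hs⟩ := ce_comE_compl ρ Y hY.cop
  have hbB : b ∈ B := by rw [← hb.gen]; exact mem_zpowers b
  have hbN : b ∈ normalizer (Y : Set S) := hY.norm hbB
  obtain ⟨hinv1, hinv2⟩ := inv_of_normalizer ρ Y b hbN
  -- `b` is trivial on `C_E(Y)`
  have htriv : ∀ v ∈ CE ρ Y, ρ b v = v := by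
    rcases split ρ b hb.cubic (CE ρ Y) (ComE ρ Y) hd hs hinv1 hinv2 with h | h
    · exact h
    · exfalso
      have hYinv : Inv ρ Y (ComE ρ Y) := fun y hy v hv =>
        (inv_of_normalizer ρ Y y (le_normalizer hy)).2 v hv
      have h1 : TrivOn ρ ⁅Y, zpowers b⁆ (ComE ρ Y) := triv_comm ρ Y b (ComE ρ Y) hYinv h
      rw [hb.gen, hY.comm] at h1
      have h2 : ComE ρ Y ≤ CE ρ Y := fun v hv y hy => h1 y hy v hv
      have h3 : ComE ρ Y = ⊥ := by
        rw [eq_bot_iff, ← hd]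
        exact le_inf h2 le_rfl
      apply hne
      rw [eq_bot_iff]
      intro y hy
      rw [mem_bot]
      apply hb.faith
      rw [map_one]
      ext v
      have h4 : ρ y v - v ∈ ComE ρ Y := sub_mem_ComE ρ hy v
      rw [h3, Submodule.mem_bot, sub_eq_zero] at h4
      rw [h4]; rfl
  refine ⟨?_, ?_⟩
  · -- all of `B = zpowers b`
    intro h hh v hv
    rw [← hb.gen] at hh
    obtain ⟨k, rfl⟩ := hh
    have hvfix : ∀ n : ℕ, ρ (b ^ n) v = v := by
      intro n
      induction n with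
      | zero => simp
      | succ n ih => rw [pow_succ, map_mul, Module.End.mul_apply, htriv v hv, ih]
    have hvfixinv : ∀ n : ℕ, ρ ((b ^ n)⁻¹) v = v := by
      intro n
      have h1 : ρ ((b ^ n)⁻¹) (ρ (b ^ n) v) = v := by
        rw [← Module.End.mul_apply, ← map_mul, inv_mul_cancel, map_one]; rfl
      rw [hvfix n] at h1
      exact h1
    rcases Int.eq_nat_or_neg k with ⟨n, rfl | rfl⟩
    · show ρ (b ^ (n : ℤ)) v = v
      rw [zpow_natCast]; exact hvfix n
    · show ρ (b ^ (-(n : ℤ))) v = v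
      rw [zpow_neg, zpow_natCast]; exact hvfixinv n
  · rintro w ⟨v, rfl⟩
    have hv : v ∈ CE ρ Y ⊔ ComE ρ Y := by rw [hs]; trivial
    obtain ⟨c, hc, w', hw', rfl⟩ := Submodule.mem_sup.mp hv
    rw [map_add, Nb_apply, Nb_apply, htriv c hc, sub_self, zero_add]
    exact sub_mem (hinv2 w' hw') hw'

end Cfsg.Agent.S4415P
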