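import Mathlib
import Cfsg.Agent.S0063
import Cfsg.Agent.Helper10.PGroupBasic

set_option autoImplicit false
set_option linter.style.haveILetI false

/-! 2-groups of maximal class: cyclic subgroup of index 2, central quotient, abelianization. -/

namespace Cfsg.Agent.Helper9

open Subgroup
open scoped commutatorElement

universe u

/-- The centre of a `p`-group of maximal class (order `p^n`, `n ≥ 3`) has order `p`. -/
theorem card_center_of_maxClass {X : Type u} [Group X] [Finite X] {p : ℕ} [Fact p.Prime]
    (n : ℕ) (hn : 3 ≤ n) (hX : Nat.card X = p ^ n) (hc : Group.nilpotencyClass X = n - 1) :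
    Nat.card (Subgroup.center X) = p := by
  have hp : p.Prime := Fact.out
  have hPG : IsPGroup p X := IsPGroup.of_card hX
  haveI : Group.IsNilpotent X := hPG.isNilpotent
  obtain ⟨k, hk0, hk⟩ := IsPGroup.card_center_eq_prime_pow hX (by omega)
  have hkn : k ≤ n := by
    have h1 : Nat.card (Subgroup.center X) ∣ Nat.card X := Subgroup.card_subgroup_dvd_card _
    rw [hk, hX] at h1
    exact (Nat.pow_dvd_pow_iff_le_right hp.one_lt).mp h1
  have hquot : Nat.card (X ⧸ Subgroup.center X) = p ^ (n - k) := by
    have h1 := (Subgroup.center X).card_mul_index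
    rw [hk, hX, Subgroup.index_eq_card] at h1
    have h2 : p ^ n = p ^ k * p ^ (n - k) := by rw [← pow_add]; congr 1; omega
    rw [h2] at h1
    exact Nat.eq_of_mul_eq_mul_left (pow_pos hp.pos k) h1
  have hcl := Group.nilpotencyClass_quotient_center (G := X)
  by_cases hmk : n - k ≤ 1
  · exfalso
    haveI : IsCyclic (X ⧸ Subgroup.center X) := by
      apply isCyclic_of_card_dvd_prime (p := p)
      rw [hquot]
      interval_cases h : n - k
      · simp
      · simp
    have hcomm : IsMulCommutative X := isMulCommutative_of_isCyclic_quotient_center_self X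
    have := Group.IsNilpotent.nilpotencyClass_le_one_iff.mpr hcomm
    omega
  · have h2 := Cfsg.Agent.S0063.class_le_aux p (n - k) (X ⧸ Subgroup.center X) hquot (by omega)
    rw [hcl, hc] at h2
    have : k = 1 := by omega
    rw [hk, this, pow_one]

theorem card_quotient_center_of_maxClass {X : Type u} [Group X] [Finite X] {p : ℕ} [Fact p.Prime]
    (n : ℕ) (hn : 3 ≤ n) (hX : Nat.card X = p ^ n) (hc : Group.nilpotencyClass X = n - 1) :
    Nat.card (X ⧸ Subgroup.center X) = p ^ (n - 1) := by
  have hp : p.Prime := Fact.out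
  have hk := card_center_of_maxClass n hn hX hc
  have h1 := (Subgroup.center X).card_mul_index
  rw [hk, hX, Subgroup.index_eq_card] at h1
  have h2 : p ^ n = p * p ^ (n - 1) := by rw [← pow_succ']; congr 1; omega
  rw [h2] at h1
  exact Nat.eq_of_mul_eq_mul_left hp.pos h1

theorem nilpotencyClass_quotient_center_of_maxClass {X : Type u} [Group X]
    (n : ℕ) (hc : Group.nilpotencyClass X = n - 1) :
    Group.nilpotencyClass (X ⧸ Subgroup.center X) = n - 1 - 1 := by
  rw [Group.nilpotencyClass_quotient_center, hc]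

/-- A subgroup of order 2 is generated by any of its nontrivial elements. -/
theorem zpowers_eq_of_card_two {X : Type u} [Group X] (Z : Subgroup X) (hZ : Nat.card Z = 2)
    {y : X} (hy : y ∈ Z) (hy1 : y ≠ 1) : Subgroup.zpowers y = Z := by
  haveI : Finite Z := Nat.finite_of_card_ne_zero (by omega)
  have hle : Subgroup.zpowers y ≤ Z := Subgroup.zpowers_le.mpr hy
  apply Subgroup.eq_of_le_of_card_ge hle
  rw [Nat.card_zpowers, hZ]
  have h2 : y ^ 2 = 1 := by
    have := pow_card_eq_one' (G := Z) (x := ⟨y, hy⟩)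
    rw [hZ] at this
    simpa using congrArg Subtype.val this
  have hd : orderOf y ∣ 2 := orderOf_dvd_of_pow_eq_one h2
  have h1 : orderOf y ≠ 1 := by rwa [Ne, orderOf_eq_one_iff]
  have h0 : 0 < orderOf y := Nat.pos_of_dvd_of_pos hd (by norm_num)
  omega

/-- A 2-group of maximal class has a cyclic subgroup of index 2 (inductive form). -/
theorem exists_isCyclic_index_two_of_maxClass_aux : ∀ (n : ℕ), 3 ≤ n → ∀ (X : Type u) [Group X]
    [Finite X], Nat.card X = 2 ^ n → Group.nilpotencyClass X = n - 1 →
    ∃ C : Subgroup X, IsCyclic C ∧ C.index = 2 := by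
  intro n hn
  induction n, hn using Nat.le_induction with
  | base =>
    intro X _ _ hX hc
    haveI : Fact (Nat.Prime 2) := ⟨Nat.prime_two⟩
    have hPG : IsPGroup 2 X := IsPGroup.of_card hX
    haveI : Group.IsNilpotent X := hPG.isNilpotent
    have hnc : ¬ IsMulCommutative X := by
      intro h
      have := Group.IsNilpotent.nilpotencyClass_le_one_iff.mpr h
      omega
    -- some element has x^2 ≠ 1
    have hex : ∃ x : X, x * x ≠ 1 := by
      by_contra hcon
      push Not at hcon
      apply hnc
      refine ⟨⟨fun a b => ?_⟩⟩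
      have ha := hcon a
      have hb := hcon b
      have hab := hcon (a * b)
      have ha' : a⁻¹ = a := inv_eq_of_mul_eq_one_left ha
      have hb' : b⁻¹ = b := inv_eq_of_mul_eq_one_left hb
      have hab' : (a * b)⁻¹ = a * b := inv_eq_of_mul_eq_one_left hab
      rw [mul_inv_rev, ha', hb'] at hab'
      exact hab'.symm
    obtain ⟨x, hx⟩ := hex
    have hd : orderOf x ∣ 2 ^ 3 := by rw [← hX]; exact orderOf_dvd_natCard x
    obtain ⟨k, hk3, hk⟩ := (Nat.dvd_prime_pow Nat.prime_two).mp hd
    have hk2 : k = 2 := by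
      have h01 : k ≠ 0 := by
        rintro rfl
        rw [pow_zero, orderOf_eq_one_iff] at hk
        apply hx; rw [hk, mul_one]
      have h1 : k ≠ 1 := by
        rintro rfl
        rw [pow_one] at hk
        apply hx
        rw [← sq, ← hk, pow_orderOf_eq_one]
      have h3 : k ≠ 3 := by
        rintro rfl
        apply hnc
        haveI : IsCyclic X := isCyclic_of_orderOf_eq_card x (by rw [hk, hX])
        exact ⟨⟨fun a b => IsCyclic.commGroup.mul_comm a b⟩⟩
      omega
    subst hk2
    refine ⟨Subgroup.zpowers x, inferInstance, ?_⟩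
    have h1 := (Subgroup.zpowers x).card_mul_index
    rw [Nat.card_zpowers, hk, hX] at h1
    omega
  | succ n hn ih =>
    intro X _ _ hX hc
    haveI : Fact (Nat.Prime 2) := ⟨Nat.prime_two⟩
    have hPG : IsPGroup 2 X := IsPGroup.of_card hX
    have hZ : Nat.card (Subgroup.center X) = 2 := card_center_of_maxClass (n + 1) (by omega) hX hc
    have hq : Nat.card (X ⧸ Subgroup.center X) = 2 ^ n := by
      have := card_quotient_center_of_maxClass (n + 1) (by omega) hX hc
      simpa using this
    have hqc : Group.nilpotencyClass (X ⧸ Subgroup.center X) = n - 1 := by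
      have := nilpotencyClass_quotient_center_of_maxClass (X := X) (n + 1) hc
      simpa using this
    obtain ⟨Cb, hCb, hCbi⟩ := ih (X ⧸ Subgroup.center X) hq hqc
    obtain ⟨gb, hgb⟩ := (Subgroup.isCyclic_iff_exists_zpowers_eq_top Cb).mp hCb
    obtain ⟨g, rfl⟩ := QuotientGroup.mk_surjective gb
    set Z := Subgroup.center X with hZdef
    set H := Cb.comap (QuotientGroup.mk' Z) with hH
    have hHi : H.index = 2 := by
      rw [hH, Subgroup.index_comap_of_surjective _ (QuotientGroup.mk'_surjective Z)]
      exact hCbi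
    have hgH : g ∈ H := by
      rw [hH, Subgroup.mem_comap, ← hgb]
      exact Subgroup.mem_zpowers _
    -- the order of `gb`
    have hord : orderOf (QuotientGroup.mk' Z g) = 2 ^ (n - 1) := by
      have h1 := Cb.card_mul_index
      rw [hCbi, hq, ← hgb] at h1
      have h1' : Nat.card (Subgroup.zpowers (QuotientGroup.mk' Z g)) * 2 = 2 ^ n := h1
      rw [Nat.card_zpowers] at h1'
      have h2 : 2 ^ n = 2 ^ (n - 1) * 2 := by rw [← pow_succ]; congr 1; omega
      rw [h2] at h1'
      exact Nat.eq_of_mul_eq_mul_right (by norm_num) h1'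
    have hg2 : g ^ 2 ≠ 1 := by
      intro h
      have h1 : (QuotientGroup.mk' Z g) ^ 2 = 1 := by rw [← map_pow, h, map_one]
      have h2 := orderOf_dvd_of_pow_eq_one h1
      rw [hord] at h2
      have h3 : 2 ^ 2 ≤ 2 ^ (n - 1) := Nat.pow_le_pow_right (by norm_num) (by omega)
      have h4 := Nat.le_of_dvd (by norm_num) h2
      omega
    -- every element of `H` is `g^i * z`
    have hHmem : ∀ h ∈ H, ∃ i : ℤ, ∃ z ∈ Z, h = g ^ i * z := by
      intro h hh
      rw [hH, Subgroup.mem_comap, ← hgb] at hh
      obtain ⟨i, hi⟩ := Subgroup.mem_zpowers_iff.mp hh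
      refine ⟨i, (g ^ i)⁻¹ * h, ?_, by group⟩
      rw [← QuotientGroup.eq]
      have : ((g ^ i : X) : X ⧸ Z) = (QuotientGroup.mk' Z g) ^ i := by
        rw [← map_zpow]; rfl
      rw [this]; exact hi
    have hz2 : ∀ z ∈ Z, z * z = 1 := by
      intro z hz
      have := pow_card_eq_one' (G := Z) (x := ⟨z, hz⟩)
      rw [hZ] at this
      have h2 : z ^ 2 = 1 := by simpa using congrArg Subtype.val this
      rwa [sq] at h2
    -- `N = ⟨g^2⟩` is normal
    have hNn : (Subgroup.zpowers (g ^ 2)).Normal := by
      haveI : H.Normal := Subgroup.normal_of_index_eq_two hHi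
      constructor
      intro y hy x
      obtain ⟨j, rfl⟩ := Subgroup.mem_zpowers_iff.mp hy
      have hconj : x * g * x⁻¹ ∈ H := ‹H.Normal›.conj_mem g hgH x
      obtain ⟨i, z, hz, hiz⟩ := hHmem _ hconj
      have hzc : ∀ a : X, z * a = a * z := fun a => (Subgroup.mem_center_iff.mp hz a).symm
      have h1 : x * g ^ 2 * x⁻¹ = (g ^ 2) ^ i := by
        have : x * g ^ 2 * x⁻¹ = (x * g * x⁻¹) ^ 2 := by simp [sq]
        have this2 : g ^ i * z * (g ^ i * z) = g ^ i * g ^ i * (z * z) := by
          rw [mul_assoc, ← mul_assoc z, hzc, mul_assoc, mul_assoc]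
        rw [this, hiz, sq, this2, hz2 z hz, mul_one, ← zpow_add, ← zpow_natCast g 2, ← zpow_mul]
        congr 1
        push_cast; ring
      have h2 : x * (g ^ 2) ^ j * x⁻¹ = (x * g ^ 2 * x⁻¹) ^ j := by
        simp
      rw [h2, h1]
      exact Subgroup.zpow_mem _ (Subgroup.zpow_mem_zpowers _ _) _
    have hNne : Subgroup.zpowers (g ^ 2) ≠ ⊥ := by
      rw [Ne, Subgroup.zpowers_eq_bot]
      exact hg2
    obtain ⟨y, hyN, hy1, hyZ⟩ :=
      Cfsg.Agent.Helper10.exists_ne_one_mem_inf_center hPG (Subgroup.zpowers (g ^ 2)) hNne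
    have hZy : Subgroup.zpowers y = Z := zpowers_eq_of_card_two Z hZ hyZ hy1
    have hZle : Z ≤ Subgroup.zpowers g := by
      rw [← hZy, Subgroup.zpowers_le]
      have : Subgroup.zpowers (g ^ 2) ≤ Subgroup.zpowers g :=
        Subgroup.zpowers_le.mpr (Subgroup.pow_mem _ (Subgroup.mem_zpowers g) 2)
      exact this hyN
    have hHeq : H = Subgroup.zpowers g := by
      apply le_antisymm
      · intro h hh
        obtain ⟨i, z, hz, rfl⟩ := hHmem h hh
        exact Subgroup.mul_mem _ (Subgroup.zpow_mem_zpowers g i) (hZle hz)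
      · exact Subgroup.zpowers_le.mpr hgH
    refine ⟨H, ?_, hHi⟩
    rw [hHeq]
    infer_instance

end Cfsg.Agent.Helper9
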