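import Mathlib
import Cfsg.Prelude.Def_OddOrderLocal
import Cfsg.Agent.Helper9.BG12v
import Cfsg.Agent.Helper9.BG13d
import Cfsg.Agent.Helper21.BG12f
import Cfsg.Agent.Helper4.BG12SD
import Cfsg.Agent.Helper16.BG125
import Cfsg.Agent.Helper16.BG11e
import Cfsg.Agent.S1414
import Cfsg.Agent.S1417
import Cfsg.Agent.S1418
import Cfsg.Agent.S1420
import Cfsg.Agent.S1422
import Cfsg.Agent.S1423

/-!
# B&G §13, the configuration (*): basic lemmas (helper9)

* the proved statements S1417, S1418, S1420, S1422, S1423 as the `St…` Props;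
* **Lemma Z**: if `M` has `p`-rank `≤ 1`, `p` is not ideal, and `A` is elementary abelian of order
  `p ^ 2` with a nontrivial subgroup in `M`, then `M_σ ∩ C_G(A) = 1`.
-/

set_option autoImplicit false
set_option linter.unusedSectionVars false
set_option linter.unusedVariables false

namespace Cfsg.Agent.H9.BG12

open Subgroup Cfsg
open Cfsg.Agent.Helper14 (IsSylowIn cj map_cj_le_iff map_cj_mul map_cj_one map_cj_normalizer
  mem_normalizer_iff_map_cj map_cj_eq_self_of_mem le_normalizer_of_map_cj_le mem_map_cj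
  exists_isSylowIn_ge exists_isSylowIn isSylowIn_of_sylow)

universe u
variable {G : Type u} [Group G] [Finite G]

theorem st1350' (hG : Cfsg.IsMinSimpleOddOrder G) : St1350 G :=
  fun M hM => Cfsg.Agent.S1350.result hG M hM

theorem st1417' (hG : Cfsg.IsMinSimpleOddOrder G) : St1417 G :=
  fun M hM p _ hp A hA => Cfsg.Agent.S1417.result hG M hM p hp A hA

theorem st1418' (hG : Cfsg.IsMinSimpleOddOrder G) : St1418 G :=
  fun M hM E hE p _ hp A hA => Cfsg.Agent.S1418.result hG M hM E hE p hp A hA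

theorem st1420' (hG : Cfsg.IsMinSimpleOddOrder G) : St1420 G :=
  fun M hM E hE => Cfsg.Agent.S1420.result hG M hM E hE

theorem st1422' (hG : Cfsg.IsMinSimpleOddOrder G) : St1422 G :=
  fun p _ P hP hPna => Cfsg.Agent.S1422.result hG p P hP hPna

theorem st1423' (hG : Cfsg.IsMinSimpleOddOrder G) : St1423 G :=
  fun M hM p _ hp X hXM hX P h => Cfsg.Agent.S1423.result hG M hM p hp X hXM hX P h

theorem st1417h21 (hG : Cfsg.IsMinSimpleOddOrder G) : Cfsg.Agent.Helper21.BG12.St1417 G :=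
  fun M hM p _ hp A hA => Cfsg.Agent.S1417.result hG M hM p hp A hA

theorem st1418h21 (hG : Cfsg.IsMinSimpleOddOrder G) : Cfsg.Agent.Helper21.BG12.St1418 G :=
  fun M hM E hE p _ hp A hA => Cfsg.Agent.S1418.result hG M hM E hE p hp A hA

theorem nc1210' (hG : Cfsg.IsMinSimpleOddOrder G) : NC1210 G :=
  nc1210_of (st1350' hG) (st1420' hG)

theorem le_normalizer_map_subtype_of_normal (L : Subgroup G) (N : Subgroup ↥L) [N.Normal] :
    L ≤ normalizer ((N.map L.subtype : Subgroup G) : Set G) := by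
  apply le_normalizer_of_map_cj_le
  rintro g hg _ ⟨_, ⟨y, hy, rfl⟩, rfl⟩
  refine ⟨⟨g, hg⟩ * y * ⟨g, hg⟩⁻¹, ?_, rfl⟩
  exact ‹N.Normal›.conj_mem y hy ⟨g, hg⟩

/-- if `p ∤ |L : K|` and `L` has `p`-rank `> k` then so does `K` -/
theorem not_pRankLE_of_not_dvd_relIndex {p k : ℕ} [Fact p.Prime] {K L : Subgroup G} (hKL : K ≤ L)
    (hidx : ¬ p ∣ K.relIndex L) (hL : ¬ Cfsg.PRankLE p k ↥L) : ¬ Cfsg.PRankLE p k ↥K := by
  obtain ⟨T, hT⟩ := exists_isSylowIn (p := p) K
  have hTK : T ≤ K := hT.1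
  have h1 : ¬ p ∣ T.relIndex L := by
    rw [← Subgroup.relIndex_mul_relIndex T K L hTK hKL]
    intro hd
    rcases (Nat.Prime.dvd_mul (Fact.out : p.Prime)).1 hd with h | h
    · exact Cfsg.Agent.Helper10.not_dvd_relIndex_of_isSylowIn hT h
    · exact hidx h
  have h2 := Cfsg.Agent.Helper21.BG10.not_pRankLE_of_relIndex (hTK.trans hKL) hT.2.1 h1 hL
  exact Cfsg.Agent.Lead.BG9.not_pRankLE_of_le hTK h2

/-- index form of the second isomorphism theorem: if `K` normalizes `N` then `|KN : K|` divides `|N|` -/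
theorem relIndex_sup_dvd_card' {K N : Subgroup G} (hKN : K ≤ normalizer (N : Set G)) :
    K.relIndex (K ⊔ N) ∣ Nat.card N := by
  have h1 : Nat.card ↥(K ⊔ N) ∣ Nat.card K * Nat.card N := by
    have := Cfsg.Agent.Helper16.BG11.relIndex_sup_dvd_card (N := N) (A := K) hKN
    have h2 : N.relIndex (N ⊔ K) * Nat.card N = Nat.card ↥(N ⊔ K) :=
      Cfsg.Agent.Lead.relIndex_mul_card' le_sup_left
    rw [sup_comm, ← h2]
    exact Nat.mul_dvd_mul_right this _
  have h3 : K.relIndex (K ⊔ N) * Nat.card K = Nat.card ↥(K ⊔ N) :=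
    Cfsg.Agent.Lead.relIndex_mul_card' le_sup_left
  rw [← h3, mul_comm] at h1
  exact Nat.dvd_of_mul_dvd_mul_left Nat.card_pos h1

/-- **Lemma Z**: `M` maximal of `p`-rank `≤ 1`, `p` not ideal, `A` elementary abelian of order
`p ^ 2` meeting `M` nontrivially (in `X`).  Then `M_σ ∩ C_G(A) = 1`. -/
theorem sigmaCore_inf_centralizer_eq_bot_of_rank_one (hG : Cfsg.IsMinSimpleOddOrder G)
    {M : Subgroup G} (hM : IsCoatom M) {p : ℕ} [Fact p.Prime] (hr1 : Cfsg.PRankLE p 1 ↥M)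
    (hnid : ¬ Cfsg.IsIdealPrime p G) {A X : Subgroup G} (hAe : Cfsg.IsElementaryAbelian p A)
    (hAc : Nat.card A = p ^ 2) (hXA : X ≤ A) (hXM : X ≤ M) (hX1 : X ≠ ⊥) :
    Cfsg.sigmaCore M ⊓ centralizer (A : Set G) = ⊥ := by
  by_contra hne
  have hp : p.Prime := Fact.out
  have h1350 := st1350' hG
  set D₀ := Cfsg.sigmaCore M ⊓ centralizer (A : Set G) with hD₀
  have hcard : Nat.card D₀ ≠ 1 := fun h => hne (Subgroup.card_eq_one.mp h)
  obtain ⟨q, hq, hqd⟩ := Nat.exists_prime_and_dvd hcard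
  have : Fact q.Prime := ⟨hq⟩
  obtain ⟨x, hx⟩ := exists_prime_orderOf_dvd_card' q hqd
  set X₁ : Subgroup G := Subgroup.zpowers (x : G) with hX₁
  have hxo : orderOf (x : G) = q := by rw [Subgroup.orderOf_coe]; exact hx
  have hX₁c : Nat.card X₁ = q := by rw [Nat.card_zpowers, hxo]
  have hX₁q : IsPGroup q X₁ := IsPGroup.of_card (n := 1) (by rw [hX₁c, pow_one])
  have hX₁1 : X₁ ≠ ⊥ := by
    intro h
    rw [h, Subgroup.card_bot] at hX₁c
    exact hq.one_lt.ne hX₁c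
  have hX₁D : X₁ ≤ D₀ := by rw [hX₁, Subgroup.zpowers_le]; exact x.2
  have hσM : Cfsg.sigmaCore M ≤ M := (h1350 M hM).1.1
  have hX₁M : X₁ ≤ M := hX₁D.trans (inf_le_left.trans hσM)
  have hqM : q ∈ Cfsg.sigma M := by
    apply (h1350 M hM).1.2.1 q hq
    exact hqd.trans (Subgroup.card_dvd_of_le inf_le_left)
  have hS := hG.1
  have hX₁t : X₁ ≠ ⊤ := fun h => hM.1 (top_le_iff.1 (h ▸ hX₁M))
  obtain ⟨L, hL, hNL⟩ := Cfsg.Agent.Helper21.BG10.exists_coatom_normalizer_le hG.2.1 hX₁1 hX₁t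
  have hAL : A ≤ L := by
    refine le_trans ?_ ((centralizer_le_normalizer _).trans hNL)
    intro a ha
    rw [mem_centralizer_iff]
    intro y hy
    have := mem_centralizer_iff.1 (hX₁D hy).2
    exact (this a ha).symm
  have hr1L : ¬ Cfsg.PRankLE p 1 ↥L :=
    Cfsg.Agent.Helper16.BG11.not_pRankLE_one_of_elemAb hAL hAe hAc
  have hLM : L ≠ M := fun h => hr1L (h ▸ hr1)
  obtain ⟨S, hSyl, hX₁S⟩ := exists_isSylowIn_ge (le_inf hX₁M (le_normalizer.trans hNL)) hX₁q
  obtain ⟨hnc, hNS, hSL⟩ := lem_12_15 (ctl101_of (fun M hM p _ hp X => Cfsg.Agent.S1404.result hG M hM p hp X))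
    (nc1210' hG) hM hqM hX₁q hX₁1 hX₁M hL hLM hNL hSyl hX₁S
  -- key: `p ∤ |L : M ∩ L|`
  have key : ¬ p ∣ (M ⊓ L).relIndex L := by
    by_cases hqL : q ∈ Cfsg.sigma L
    · have hd1 := Cfsg.Agent.Helper4.BG12SD.lem_12_15_d1 hG hM hL hnc hqM hqL hSL hNS
      have hβ := (Cfsg.Agent.S1414.result hG L hL).1
      set Lβ := Cfsg.piCoreOf (Cfsg.beta L) L with hLβ
      have hβn : L ≤ normalizer (Lβ : Set G) :=
        le_normalizer_map_subtype_of_normal L (Cfsg.piCore (Cfsg.beta L) ↥L)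
      have hsup : Lβ ⊔ (M ⊓ L) = L := le_antisymm (sup_le hβ.1 inf_le_right) hd1
      have h2 : (M ⊓ L).relIndex ((M ⊓ L) ⊔ Lβ) ∣ Nat.card Lβ :=
        relIndex_sup_dvd_card' (inf_le_right.trans hβn)
      rw [sup_comm, hsup] at h2
      intro hd
      have h3 := hβ.2.1 p hp (hd.trans h2)
      exact hnid h3.2
    · obtain ⟨-, hcompl, -⟩ := Cfsg.Agent.Helper21.BG12.lem_12_15_e13 hG (st1417h21 hG) (st1418h21 hG)
        (nc1210' hG) hM hL hLM hqM hX₁q hX₁1 hX₁M hNL hSyl hX₁S hqL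
      have hpL : p ∉ Cfsg.sigma L := by
        intro hpL
        have hAσ : A ≤ Cfsg.sigmaCore L := le_sigmaCore_of_isPGroup h1350 hL hpL hAL
          (Cfsg.Agent.Helper4.BG10.isPGroup_of_elementary hAe)
        apply hX1
        rw [eq_bot_iff, ← hcompl.2.2.1]
        exact le_inf (le_inf hXM (hXA.trans hAL)) (hXA.trans hAσ)
      have hHall := isPiHallOf_compl h1350 hL hcompl
      exact hHall.2.2 p hp hpL
  exact not_pRankLE_of_not_dvd_relIndex inf_le_right key hr1L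
    (Cfsg.Agent.Helper7.PRankLE.of_injective (Subgroup.inclusion inf_le_left)
      (Subgroup.inclusion_injective inf_le_left) hr1)

end Cfsg.Agent.H9.BG12
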