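import Mathlib
import Cfsg.Prelude.Def_OddOrderLocal
import Cfsg.Agent.Helper9.BG13Sa
import Cfsg.Agent.Lead.CoprimeAbelian

/-!
# B&G §13, the configuration (*): general group-theoretic lemmas (helper9)
-/

set_option autoImplicit false
set_option linter.unusedSectionVars false
set_option linter.unusedVariables false
set_option linter.style.haveILetI false

namespace Cfsg.Agent.H9.BG12

open Subgroup Cfsg

universe u
variable {G : Type u} [Group G] [Finite G]

/-- if `K` normalizes `N` then `|KN : N| = |K : K ∩ N|` -/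
theorem relIndex_sup_eq_relIndex {N K : Subgroup G} (hKN : K ≤ normalizer (N : Set G)) :
    N.relIndex (K ⊔ N) = N.relIndex K := by
  haveI := Subgroup.normal_subgroupOf_of_le_normalizer hKN
  haveI := Subgroup.normal_subgroupOf_sup_of_le_normalizer hKN
  exact Nat.card_congr (QuotientGroup.quotientInfEquivProdNormalizerQuotient K N hKN).toEquiv.symm

/-- `|KN| = |K| |N|` when `K` normalizes `N` and `N ∩ K = 1` -/
theorem card_sup_of_inf_eq_bot {N K : Subgroup G} (hKN : K ≤ normalizer (N : Set G))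
    (h : N ⊓ K = ⊥) : Nat.card ↥(K ⊔ N) = Nat.card K * Nat.card N := by
  have h1 : N.relIndex (K ⊔ N) * Nat.card N = Nat.card ↥(K ⊔ N) :=
    Cfsg.Agent.Lead.relIndex_mul_card' le_sup_right
  rw [← h1, relIndex_sup_eq_relIndex hKN, ← Subgroup.inf_relIndex_right, h,
    Subgroup.relIndex_bot_left]

/-- a group acting faithfully on a group of prime order `p` is cyclic of order dividing `p - 1` -/
theorem isCyclic_and_card_dvd_of_faithful {Z Y : Subgroup G} {p : ℕ} [Fact p.Prime]
    (hZ : Nat.card Z = p) (hYZ : Y ≤ normalizer (Z : Set G))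
    (hf : Y ⊓ centralizer (Z : Set G) = ⊥) : IsCyclic Y ∧ Nat.card Y ∣ p - 1 := by
  have hp : p.Prime := Fact.out
  haveI : IsCyclic Z := isCyclic_of_prime_card hZ
  haveI : Fact (Nat.card Z).Prime := ⟨hZ ▸ hp⟩
  let f : Y →* MulAut Z := Z.normalizerMonoidHom.comp (Subgroup.inclusion hYZ)
  have hinj : Function.Injective f := by
    rw [injective_iff_map_eq_one]
    intro y hy
    have h1 : Subgroup.inclusion hYZ y ∈ Z.normalizerMonoidHom.ker := MonoidHom.mem_ker.mpr hy
    rw [normalizerMonoidHom_ker, mem_subgroupOf] at h1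
    have h2 : (y : G) ∈ Y ⊓ centralizer (Z : Set G) := ⟨y.2, h1⟩
    rw [hf, mem_bot] at h2
    exact Subtype.ext h2
  let e := IsCyclic.mulAutMulEquiv Z
  haveI : IsCyclic (MulAut Z) := isCyclic_of_injective e.toMonoidHom e.injective
  refine ⟨isCyclic_of_injective f hinj, ?_⟩
  have hc := IsCyclic.card_mulAut Z
  rw [hZ, Nat.totient_prime hp] at hc
  rw [← hc]
  exact Subgroup.card_dvd_of_injective f hinj

/-- the normalizer of a group of prime order acts on it through an abelian group -/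
theorem commutator_le_centralizer_of_card_prime {Z W : Subgroup G} {p : ℕ} [Fact p.Prime]
    (hZ : Nat.card Z = p) (hW : W ≤ normalizer (Z : Set G)) :
    ⁅W, W⁆ ≤ centralizer (Z : Set G) := by
  have hp : p.Prime := Fact.out
  haveI : IsCyclic Z := isCyclic_of_prime_card hZ
  let e := IsCyclic.mulAutMulEquiv Z
  rw [Subgroup.commutator_le]
  intro a ha b hb
  set a' : ↥(normalizer (Z : Set G)) := ⟨a, hW ha⟩ with ha'
  set b' : ↥(normalizer (Z : Set G)) := ⟨b, hW hb⟩ with hb'
  have h1 : Z.normalizerMonoidHom (a' * b' * a'⁻¹ * b'⁻¹) = 1 := by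
    apply e.injective
    simp only [map_mul, map_inv, map_one]
    rw [mul_comm (e (Z.normalizerMonoidHom a')) (e (Z.normalizerMonoidHom b'))]
    simp
  have h2 : a' * b' * a'⁻¹ * b'⁻¹ ∈ Z.normalizerMonoidHom.ker :=
    MonoidHom.mem_ker.mpr h1
  rw [normalizerMonoidHom_ker, mem_subgroupOf] at h2
  rw [commutatorElement_def]
  exact h2

/-- a subgroup of a group of prime order is trivial or everything -/
theorem eq_bot_or_eq_of_le_of_card_prime {B K : Subgroup G} {p : ℕ} [Fact p.Prime]
    (hB : Nat.card B = p) (hKB : K ≤ B) : K = ⊥ ∨ K = B := by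
  have hp : p.Prime := Fact.out
  have hd : Nat.card K ∣ p := hB ▸ Subgroup.card_dvd_of_le hKB
  rcases (Nat.dvd_prime hp).1 hd with h | h
  · exact Or.inl (Subgroup.card_eq_one.mp h)
  · exact Or.inr (Subgroup.eq_of_le_of_card_ge hKB (by rw [h, hB]))

/-- coprime action on an elementary abelian group: an invariant subgroup of prime order lies in
the fixed points or in the commutator -/
theorem le_fix_or_le_commutator_of_invariant_line {A Y B : Subgroup G} {p : ℕ} [Fact p.Prime]
    (hAc : IsMulCommutative A) (hcop : (Nat.card Y).Coprime p) (hBA : B ≤ A)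
    (hBc : Nat.card B = p) (hYB : Y ≤ normalizer (B : Set G)) :
    B ≤ centralizer (Y : Set G) ∨ B ≤ ⁅A, Y⁆ := by
  haveI : IsMulCommutative B :=
    ⟨⟨fun a b => Subtype.ext (by
      have := hAc.is_comm.comm ⟨a, hBA a.2⟩ ⟨b, hBA b.2⟩
      exact congrArg (fun z : ↥A => (z : G)) this)⟩⟩
  obtain ⟨-, h2⟩ := Cfsg.Agent.Lead.coprime_abelian_decomp Y B hYB (by rw [hBc]; exact hcop)
  rcases eq_bot_or_eq_of_le_of_card_prime hBc (inf_le_left : B ⊓ centralizer (Y : Set G) ≤ B) with h | h
  · right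
    rw [h, bot_sup_eq] at h2
    rw [← h2]
    exact Subgroup.commutator_mono hBA le_rfl
  · left
    rw [← h]; exact inf_le_right

/-- a normal subgroup `N` of `J` of order coprime to `|Q|` lies in every complement `W` of the
normal Hall subgroup `Q` -/
theorem le_of_isComplIn_of_coprime {Q W J N : Subgroup G} (hc : Cfsg.IsComplIn Q W J)
    (hNJ : N ≤ J) (hJN : J ≤ normalizer (N : Set G)) (hcopN : (Nat.card N).Coprime (Nat.card Q))
    (hcopW : (Nat.card W).Coprime (Nat.card Q)) : N ≤ W := by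
  have hcard := card_mul_of_isComplIn hc
  have hWJ : W ≤ J := hc.2.1
  have h1 : W.relIndex (W ⊔ N) ∣ Nat.card N := relIndex_sup_dvd_card' (hWJ.trans hJN)
  have h2 : W.relIndex (W ⊔ N) * Nat.card W = Nat.card ↥(W ⊔ N) :=
    Cfsg.Agent.Lead.relIndex_mul_card' le_sup_left
  have h3 : Nat.card ↥(W ⊔ N) ∣ Nat.card J := Subgroup.card_dvd_of_le (sup_le hWJ hNJ)
  have h4 : (W.relIndex (W ⊔ N)).Coprime (Nat.card Q) := Nat.Coprime.coprime_dvd_left h1 hcopN
  have h5 : W.relIndex (W ⊔ N) * Nat.card W ∣ Nat.card Q * Nat.card W := by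
    rw [h2, hcard]; exact h3
  have h6 : W.relIndex (W ⊔ N) ∣ Nat.card Q := Nat.dvd_of_mul_dvd_mul_right Nat.card_pos h5
  have h7 : W.relIndex (W ⊔ N) = 1 := Nat.eq_one_of_dvd_coprimes h4 dvd_rfl h6 |>.symm ▸ rfl
  have h8 : W ⊔ N ≤ W := Subgroup.relIndex_eq_one.mp h7
  exact le_sup_right.trans h8

end Cfsg.Agent.H9.BG12
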