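import Mathlib
import Cfsg.Prelude.Def_OddOrderLocal
import Cfsg.Agent.Helper9.BG13Sb
import Cfsg.Agent.Helper27.BG15F
import Cfsg.Agent.Helper28.BG13T1b
import Cfsg.Agent.Helper28.BG13Star
import Cfsg.Agent.Lead.CoprimeSylow2
import Cfsg.Agent.S1409

/-!
# B&G §13, the configuration (*): the input data `StarIn` and the first consequences (helper9)

`StarIn M H p X`: `M`, `H` maximal, `p ∈ κ(M)`, `X ≤ M` of order `p`, `Y = C_{M_σ}(X) ≠ 1`,
`N_G(X) ≤ H`, `p ∉ σ(H)`.
-/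

set_option autoImplicit false
set_option linter.unusedSectionVars false
set_option linter.unusedVariables false
set_option linter.style.haveILetI false

namespace Cfsg.Agent.H9.BG12

open Subgroup Cfsg
open Cfsg.Agent.Helper14 (IsSylowIn cj map_cj_le_iff map_cj_mul map_cj_one map_cj_normalizer
  mem_normalizer_iff_map_cj map_cj_eq_self_of_mem le_normalizer_of_map_cj_le mem_map_cj
  exists_isSylowIn_ge exists_isSylowIn isSylowIn_of_sylow)

universe u
variable {G : Type u} [Group G] [Finite G]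

/-- `C_{M_σ}(X)` -/
def centSigma (M X : Subgroup G) : Subgroup G := Cfsg.sigmaCore M ⊓ centralizer (X : Set G)

/-- the input of the configuration (*) -/
structure StarIn (M H : Subgroup G) (p : ℕ) (X : Subgroup G) : Prop where
  hG : Cfsg.IsMinSimpleOddOrder G
  hM : IsCoatom M
  hH : IsCoatom H
  hp : p.Prime
  hpM : p ∉ Cfsg.sigma M
  hcycM : ∀ S : Subgroup G, S ≤ M → IsPGroup p S → IsCyclic S
  hXM : X ≤ M
  hXp : Nat.card X = p
  hY1 : centSigma M X ≠ ⊥
  hNX : normalizer (X : Set G) ≤ H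
  hpH : p ∉ Cfsg.sigma H

namespace StarIn

variable {M H X : Subgroup G} {p : ℕ}

theorem prime (c : StarIn M H p X) : p.Prime := c.hp

theorem hX1 (c : StarIn M H p X) : X ≠ ⊥ := by
  intro h
  have := c.hXp
  rw [h, Subgroup.card_bot] at this
  exact c.prime.one_lt.ne this

theorem hXq (c : StarIn M H p X) : IsPGroup p X :=
  haveI : Fact p.Prime := ⟨c.prime⟩
  IsPGroup.of_card (n := 1) (by rw [c.hXp, pow_one])

theorem rank_one (c : StarIn M H p X) : Cfsg.PRankLE p 1 ↥M := by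
  haveI : Fact p.Prime := ⟨c.prime⟩
  obtain ⟨S, hS⟩ := exists_isSylowIn (p := p) M
  exact pRankLE_one_of_cyclic_sylow hS (c.hcycM S hS.1 hS.2.1)

theorem hXH (c : StarIn M H p X) : X ≤ H := le_normalizer.trans c.hNX

theorem hCX (c : StarIn M H p X) : centralizer (X : Set G) ≤ H :=
  (centralizer_le_normalizer _).trans c.hNX

theorem Y_le_sigmaCore (c : StarIn M H p X) : centSigma M X ≤ Cfsg.sigmaCore M := inf_le_left

theorem Y_le_M (c : StarIn M H p X) : centSigma M X ≤ M :=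
  inf_le_left.trans (sigmaCore_le M)

theorem Y_le_H (c : StarIn M H p X) : centSigma M X ≤ H := inf_le_right.trans c.hCX

theorem Y_le_cent (c : StarIn M H p X) : centSigma M X ≤ centralizer (X : Set G) := inf_le_right

/-- the primes of `Y` lie in `σ(M)` -/
theorem mem_sigma_of_dvd_Y (c : StarIn M H p X) {q : ℕ} (hq : q.Prime)
    (hd : q ∣ Nat.card ↥(centSigma M X)) : q ∈ Cfsg.sigma M :=
  (st1350' c.hG M c.hM).1.2.1 q hq (hd.trans (Subgroup.card_dvd_of_le inf_le_left))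

theorem s1409 (c : StarIn M H p X) :
    (Cfsg.PRankLE p 2 ↥H ∧ ¬ Cfsg.PRankLE p 1 ↥H) ∧ ¬ Cfsg.IsIdealPrime p G ∧
      ∃ A : Subgroup G, Cfsg.IsElementaryAbelian p A ∧ Nat.card A = p ^ 2 ∧ X ≤ A :=
  haveI : Fact p.Prime := ⟨c.prime⟩
  Cfsg.Agent.S1409.result c.hG H c.hH p c.hpH X c.hXp c.hNX

theorem mem_tau2 (c : StarIn M H p X) : p ∈ Cfsg.tau2 H :=
  ⟨c.prime, c.hpH, c.s1409.1.1, c.s1409.1.2⟩

theorem not_ideal (c : StarIn M H p X) : ¬ Cfsg.IsIdealPrime p G := c.s1409.2.1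

theorem not_conj (c : StarIn M H p X) : ∀ g : G, H ≠ M.map (cj g) := by
  intro g h
  apply c.s1409.1.2
  rw [h]
  exact pRankLE_map_cj g c.rank_one

theorem ne (c : StarIn M H p X) : H ≠ M := by
  intro h
  apply c.not_conj 1
  rw [map_cj_one]; exact h

/-- an elementary abelian subgroup of order `p ^ 2` of `H` containing `X` -/
theorem exists_A₀ (c : StarIn M H p X) :
    ∃ A : Subgroup G, A ≤ H ∧ Cfsg.IsElementaryAbelian p A ∧ Nat.card A = p ^ 2 ∧ X ≤ A := by
  obtain ⟨A, hAe, hAc, hXA⟩ := c.s1409.2.2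
  refine ⟨A, ?_, hAe, hAc, hXA⟩
  refine le_trans ?_ c.hCX
  intro a ha
  rw [mem_centralizer_iff]
  intro x hx
  have := hAe.1.is_comm.comm ⟨a, ha⟩ ⟨x, hXA hx⟩
  exact (congrArg (fun z : ↥A => (z : G)) this).symm

theorem nilpotent (c : StarIn M H p X) : Group.IsNilpotent ↥(Cfsg.sigmaCore H) := by
  haveI : Fact p.Prime := ⟨c.prime⟩
  obtain ⟨A, hAH, hAe, hAc, -⟩ := c.exists_A₀
  exact (Cfsg.Agent.S1417.result c.hG H c.hH p c.mem_tau2 A ⟨hAH, hAe, hAc⟩).1

/-- `σ(M) ∩ σ(H) = ∅` -/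
theorem sigma_disjoint (c : StarIn M H p X) {q : ℕ} (hqM : q ∈ Cfsg.sigma M)
    (hqH : q ∈ Cfsg.sigma H) : False :=
  Cfsg.Agent.Helper4.BG12SD.sigma_disjoint_of_nilpotent c.hG c.hM c.hH c.not_conj c.nilpotent hqH hqM

/-- `|Y|` is prime to `|H_σ|` -/
theorem coprime_Y_sigmaCore (c : StarIn M H p X) :
    (Nat.card ↥(centSigma M X)).Coprime (Nat.card ↥(Cfsg.sigmaCore H)) := by
  apply Nat.coprime_of_dvd
  intro k hk hk1 hk2
  exact c.sigma_disjoint (c.mem_sigma_of_dvd_Y hk hk1) ((st1350' c.hG H c.hH).1.2.1 k hk hk2)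

/-- `|Y|` is prime to `p` -/
theorem coprime_Y_p (c : StarIn M H p X) : (Nat.card ↥(centSigma M X)).Coprime p := by
  rw [Nat.coprime_comm, Nat.Prime.coprime_iff_not_dvd c.prime]
  intro hd
  exact c.hpM (c.mem_sigma_of_dvd_Y c.prime hd)

/-- `p` is prime to `|H_σ|` -/
theorem coprime_p_sigmaCore (c : StarIn M H p X) : p.Coprime (Nat.card ↥(Cfsg.sigmaCore H)) := by
  rw [Nat.Prime.coprime_iff_not_dvd c.prime]
  intro hd
  exact c.hpH ((st1350' c.hG H c.hH).1.2.1 p c.prime hd)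

/-- `J = N_M(X)` -/
theorem J_le_H (c : StarIn M H p X) : M ⊓ normalizer (X : Set G) ≤ H := inf_le_right.trans c.hNX

theorem J_le_normalizer_Y (c : StarIn M H p X) :
    M ⊓ normalizer (X : Set G) ≤ normalizer ((centSigma M X : Subgroup G) : Set G) :=
  Cfsg.Agent.Lead.le_normalizer_inf' (inf_le_left.trans (le_normalizer_sigmaCore M))
    (inf_le_right.trans (Cfsg.Agent.Lead.normalizer_le_normalizer_centralizer X))

theorem Y_le_J (c : StarIn M H p X) : centSigma M X ≤ M ⊓ normalizer (X : Set G) :=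
  le_inf c.Y_le_M (c.Y_le_cent.trans (centralizer_le_normalizer _))

theorem X_le_J (c : StarIn M H p X) : X ≤ M ⊓ normalizer (X : Set G) :=
  le_inf c.hXM le_normalizer

end StarIn

end Cfsg.Agent.H9.BG12
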