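import Mathlib
import Cfsg.Prelude.Def_OddOrderLocal
import Cfsg.Agent.Helper9.BG13Sc

/-!
# B&G §13, the configuration (*): the complement `E` of `H_σ` and the subgroup `A` (helper9)
-/

set_option autoImplicit false
set_option linter.unusedSectionVars false
set_option linter.unusedVariables false
set_option linter.style.haveILetI false

namespace Cfsg.Agent.H9.BG12

open Subgroup Cfsg
open Cfsg.Agent.Helper14 (IsSylowIn cj map_cj_le_iff map_cj_mul map_cj_one map_cj_normalizer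
  mem_normalizer_iff_map_cj map_cj_eq_self_of_mem le_normalizer_of_map_cj_le mem_map_cj
  exists_isSylowIn_ge exists_isSylowIn isSylowIn_of_sylow)

universe u
variable {G : Type u} [Group G] [Finite G]

/-- second stage of (*): `W` a complement of `J ∩ H_σ` in `J = N_M(X)` containing `X Y`,
`E ≥ W` a complement of `H_σ` in `H`, `A ≤ E` elementary abelian of order `p ^ 2`. -/
structure StarE (M H : Subgroup G) (p : ℕ) (X E W A : Subgroup G) : Prop
    extends StarIn M H p X where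
  hE : Cfsg.IsComplIn E (Cfsg.sigmaCore H) H
  hW : Cfsg.IsComplIn (Cfsg.sigmaCore H ⊓ (M ⊓ normalizer (X : Set G))) W
    (M ⊓ normalizer (X : Set G))
  hWE : W ≤ E
  hXW : X ≤ W
  hYW : centSigma M X ≤ W
  hAE : A ≤ E
  hAe : Cfsg.IsElementaryAbelian p A
  hAc : Nat.card A = p ^ 2

/-- a Sylow `p`-subgroup of `K` is Sylow in `M ≥ K` when `p ∤ |M : K|` -/
theorem isSylowIn_of_isSylowIn_of_not_dvd {p : ℕ} [Fact p.Prime] {U K M : Subgroup G}
    (hU : IsSylowIn p U K) (hKM : K ≤ M) (h : ¬ p ∣ K.relIndex M) : IsSylowIn p U M := by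
  have hp : p.Prime := Fact.out
  apply Cfsg.Agent.Helper10.isSylowIn_of_not_dvd_relIndex (hU.1.trans hKM) hU.2.1
  rw [← Subgroup.relIndex_mul_relIndex U K M hU.1 hKM]
  intro hd
  rcases (Nat.Prime.dvd_mul hp).1 hd with hd | hd
  · exact Cfsg.Agent.Helper10.not_dvd_relIndex_of_isSylowIn hU hd
  · exact h hd

namespace StarIn

variable {M H X : Subgroup G} {p : ℕ}

theorem X_inf_Y (c : StarIn M H p X) : X ⊓ centSigma M X = ⊥ := by
  rw [← Subgroup.card_eq_one]
  have h1 : Nat.card ↥(X ⊓ centSigma M X) ∣ Nat.card X := Subgroup.card_dvd_of_le inf_le_left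
  have h2 : Nat.card ↥(X ⊓ centSigma M X) ∣ Nat.card ↥(centSigma M X) :=
    Subgroup.card_dvd_of_le inf_le_right
  rw [c.hXp] at h1
  exact Nat.eq_one_of_dvd_coprimes c.coprime_Y_p.symm h1 h2

theorem card_Y_sup_X (c : StarIn M H p X) :
    Nat.card ↥(centSigma M X ⊔ X) = Nat.card ↥(centSigma M X) * p := by
  rw [card_sup_of_inf_eq_bot (c.Y_le_cent.trans (centralizer_le_normalizer _)) c.X_inf_Y, c.hXp]

theorem hσH (c : StarIn M H p X) : Cfsg.sigmaCore H ≤ H := sigmaCore_le H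

theorem exists_starE (c : StarIn M H p X) : ∃ E W A : Subgroup G, StarE M H p X E W A := by
  haveI : Fact p.Prime := ⟨c.prime⟩
  have hp := c.prime
  have h1350 := st1350' c.hG
  set J : Subgroup G := M ⊓ normalizer (X : Set G) with hJ
  set Q : Subgroup G := Cfsg.sigmaCore H ⊓ J with hQ
  have hQJ : Q ≤ J := inf_le_right
  have hJH : J ≤ H := c.J_le_H
  have hJQ : J ≤ normalizer (Q : Set G) :=
    Cfsg.Agent.Lead.le_normalizer_inf' (hJH.trans (le_normalizer_sigmaCore H)) le_normalizer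
  have hHall := (h1350 H c.hH).1
  have hQcard : Nat.card Q ∣ Nat.card ↥(Cfsg.sigmaCore H) := Subgroup.card_dvd_of_le inf_le_left
  have hcop : (Nat.card Q).Coprime (Q.relIndex J) := by
    have h1 : Q.relIndex J = (Cfsg.sigmaCore H).relIndex J := Subgroup.inf_relIndex_right _ _
    have h2 : (Cfsg.sigmaCore H).relIndex J ∣ (Cfsg.sigmaCore H).relIndex H :=
      Cfsg.Agent.Helper27.BG15.relIndex_dvd_relIndex_of_le_normalizer c.hσH hJH
        (le_normalizer_sigmaCore H)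
    rw [h1]
    apply Nat.coprime_of_dvd
    intro k hk hk1 hk2
    exact hHall.2.2 k hk (hHall.2.1 k hk (hk1.trans hQcard)) (hk2.trans h2)
  have hQne : Q ≠ ⊤ := fun h => c.hH.1 (top_le_iff.1 (h ▸ (inf_le_left.trans c.hσH)))
  have hsolv : Group.IsSolvable ↥Q := c.hG.2.2.2 Q hQne
  have hYXJ : centSigma M X ⊔ X ≤ J := sup_le c.Y_le_J c.X_le_J
  have hcopYX : (Nat.card Q).Coprime (Nat.card ↥(centSigma M X ⊔ X)) := by
    rw [c.card_Y_sup_X]
    apply Nat.Coprime.coprime_dvd_left hQcard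
    exact Nat.Coprime.mul_right c.coprime_Y_sigmaCore.symm c.coprime_p_sigmaCore.symm
  obtain ⟨W, hW, hYXW⟩ := Cfsg.Agent.Helper28.BG13T1.exists_complIn_ge hQJ hJQ hcop hsolv hYXJ hcopYX
  have hWJ : W ≤ J := hW.2.1
  have hWσ : W ⊓ Cfsg.sigmaCore H = ⊥ := by
    rw [eq_bot_iff, ← hW.2.2.1]
    intro x hx
    exact ⟨⟨hx.2, hWJ hx.1⟩, hx.1⟩
  obtain ⟨E, hE, hWE⟩ := Cfsg.Agent.Helper21.BG12.exists_complIn_sigmaCore_ge c.hG c.hH
    (hWJ.trans hJH) hWσ
  -- the subgroup `A`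
  obtain ⟨T, hT⟩ := exists_isSylowIn (p := p) E
  have hEHall := isPiHallOf_compl h1350 c.hH hE
  have hTH : IsSylowIn p T H :=
    isSylowIn_of_isSylowIn_of_not_dvd hT hE.1 (hEHall.2.2 p hp c.hpH)
  obtain ⟨A, hAT, hAe, hAc⟩ :=
    Cfsg.Agent.Helper21.BG12.exists_elementary_sq_le_sylow c.s1409.1.1 c.s1409.1.2 hTH
  exact ⟨E, W, A, ⟨c, hE, hW, hWE, le_sup_right.trans hYXW, le_sup_left.trans hYXW,
    hAT.trans hT.1, hAe, hAc⟩⟩

end StarIn

end Cfsg.Agent.H9.BG12
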