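import Mathlib
import Cfsg.Prelude.Def_OddOrderLocal
import Cfsg.Agent.Helper9.BG13Sd

/-!
# B&G §13, the configuration (*): the action of `Y` on `A` and `[Y, N_M(X)] = 1` (helper9)
-/

set_option autoImplicit false
set_option linter.unusedSectionVars false
set_option linter.unusedVariables false
set_option linter.style.haveILetI false

namespace Cfsg.Agent.H9.BG12

open Subgroup Cfsg
open scoped commutatorElement
open Cfsg.Agent.Helper14 (IsSylowIn cj map_cj_le_iff map_cj_mul map_cj_one map_cj_normalizer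
  mem_normalizer_iff_map_cj map_cj_eq_self_of_mem le_normalizer_of_map_cj_le mem_map_cj
  exists_isSylowIn_ge exists_isSylowIn isSylowIn_of_sylow)

universe u
variable {G : Type u} [Group G] [Finite G]

/-- if `W` normalizes `A` and `Y` then it normalizes `[A, Y]` -/
theorem le_normalizer_commutator_of_le {W A Y : Subgroup G} (hA : W ≤ normalizer (A : Set G))
    (hY : W ≤ normalizer (Y : Set G)) : W ≤ normalizer ((⁅A, Y⁆ : Subgroup G) : Set G) := by
  intro w hw
  rw [mem_normalizer_iff_map_cj, Subgroup.map_commutator,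
    mem_normalizer_iff_map_cj.1 (hA hw), mem_normalizer_iff_map_cj.1 (hY hw)]

namespace StarE

variable {M H X E W A : Subgroup G} {p : ℕ}

theorem s1418 (e : StarE M H p X E W A) :
    (E ≤ normalizer (A : Set G) ∧ ∀ X' : Subgroup G, X' ≤ E → Nat.card X' = p → X' ≤ A) ∧
      (centralizer (A : Set G) ≤ H ⊓ normalizer (A : Set G) ∧ H ⊓ normalizer (A : Set G) = E ∧
        ¬ normalizer (A : Set G) ≤ H) ∧
      ∀ X' : Subgroup G, X' ≤ A → Nat.card X' = p →
        Cfsg.sigmaCore H ⊓ centralizer (X' : Set G) ≠ ⊥ →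
        (centralizer (X' : Set G) ≤ H ∧
          ∀ L : Subgroup G, IsCoatom L → centralizer (X' : Set G) ≤ L → L = H) :=
  haveI : Fact p.Prime := ⟨e.prime⟩
  Cfsg.Agent.S1418.result e.hG H e.hH E e.hE p e.mem_tau2 A ⟨e.hAE, e.hAe, e.hAc⟩

theorem hEA (e : StarE M H p X E W A) : E ≤ normalizer (A : Set G) := e.s1418.1.1

theorem hXE (e : StarE M H p X E W A) : X ≤ E := e.hXW.trans e.hWE

theorem hYE (e : StarE M H p X E W A) : centSigma M X ≤ E := e.hYW.trans e.hWE

theorem hXA (e : StarE M H p X E W A) : X ≤ A := e.s1418.1.2 X e.hXE e.hXp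

theorem hYA (e : StarE M H p X E W A) : centSigma M X ≤ normalizer (A : Set G) :=
  e.hYE.trans e.hEA

theorem hAH (e : StarE M H p X E W A) : A ≤ H := e.hAE.trans e.hE.1

theorem hAcomm (e : StarE M H p X E W A) : IsMulCommutative A := e.hAe.1

theorem hYCA (e : StarE M H p X E W A) : centSigma M X ⊓ centralizer (A : Set G) = ⊥ := by
  haveI : Fact p.Prime := ⟨e.prime⟩
  have := sigmaCore_inf_centralizer_eq_bot_of_rank_one e.hG e.hM e.rank_one e.not_ideal e.hAe e.hAc
    e.hXA e.hXM e.hX1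
  rw [eq_bot_iff, ← this]
  intro x hx
  exact ⟨hx.1.1, hx.2⟩

theorem coprime_Y_A (e : StarE M H p X E W A) :
    (Nat.card ↥(centSigma M X)).Coprime (Nat.card A) := by
  rw [e.hAc]; exact Nat.Coprime.pow_right 2 e.coprime_Y_p

/-- `C_A(Y) = X` -/
theorem fixA (e : StarE M H p X E W A) : A ⊓ centralizer ((centSigma M X : Subgroup G) : Set G) = X := by
  haveI : Fact p.Prime := ⟨e.prime⟩
  have hp := e.prime
  have hle : X ≤ A ⊓ centralizer ((centSigma M X : Subgroup G) : Set G) := by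
    refine le_inf e.hXA ?_
    intro x hx
    rw [mem_centralizer_iff]
    intro y hy
    exact ((mem_centralizer_iff.1 (e.Y_le_cent hy)) x hx).symm
  symm
  apply Subgroup.eq_of_le_of_card_ge hle
  set C := A ⊓ centralizer ((centSigma M X : Subgroup G) : Set G) with hC
  have hd : Nat.card C ∣ p ^ 2 := e.hAc ▸ Subgroup.card_dvd_of_le inf_le_left
  obtain ⟨k, hk, hkc⟩ := (Nat.dvd_prime_pow hp).1 hd
  rw [e.hXp, hkc]
  have hk2 : k ≠ 2 := by
    intro h2
    rw [h2] at hkc
    have hCA : C = A := Subgroup.eq_of_le_of_card_ge inf_le_left (by rw [hkc, e.hAc])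
    have hAC : A ≤ centralizer ((centSigma M X : Subgroup G) : Set G) := by
      rw [← hCA]; exact inf_le_right
    have hYC : centSigma M X ≤ centralizer (A : Set G) := by
      intro y hy
      rw [mem_centralizer_iff]
      intro a ha
      exact ((mem_centralizer_iff.1 (hAC ha)) y hy).symm
    apply e.hY1
    rw [eq_bot_iff, ← e.hYCA]
    exact le_inf le_rfl hYC
  have hk1 : k ≤ 1 := by omega
  calc p ^ k ≤ p ^ 1 := Nat.pow_le_pow_right hp.pos hk1
    _ = p := pow_one p

/-- `A₂ = [A, Y]` has order `p`, meets `X` trivially, and `A = X A₂` -/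
theorem A₂_props (e : StarE M H p X E W A) :
    Nat.card ↥(⁅A, centSigma M X⁆ : Subgroup G) = p ∧ X ⊓ ⁅A, centSigma M X⁆ = ⊥ ∧
      X ⊔ ⁅A, centSigma M X⁆ = A := by
  haveI : Fact p.Prime := ⟨e.prime⟩
  haveI := e.hAcomm
  obtain ⟨h1, h2⟩ := Cfsg.Agent.Lead.coprime_abelian_decomp (centSigma M X) A e.hYA e.coprime_Y_A
  rw [e.fixA] at h1 h2
  refine ⟨?_, h1, h2⟩
  have hA₂A : ⁅A, centSigma M X⁆ ≤ A := Cfsg.Agent.Lead.commutator_le_of_le_normalizer e.hYA
  have hn : ⁅A, centSigma M X⁆ ≤ normalizer (X : Set G) := by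
    intro a ha
    apply centralizer_le_normalizer
    rw [mem_centralizer_iff]
    intro x hx
    have := e.hAcomm.is_comm.comm ⟨x, e.hXA hx⟩ ⟨a, hA₂A ha⟩
    exact congrArg (fun z : ↥A => (z : G)) this
  have h3 := card_sup_of_inf_eq_bot hn h1
  rw [sup_comm, h2, e.hAc, e.hXp] at h3
  have : p * p = Nat.card ↥(⁅A, centSigma M X⁆ : Subgroup G) * p := by rw [← h3]; ring
  exact (Nat.eq_of_mul_eq_mul_right e.prime.pos this).symm

theorem A₂_le (e : StarE M H p X E W A) : ⁅A, centSigma M X⁆ ≤ A :=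
  Cfsg.Agent.Lead.commutator_le_of_le_normalizer e.hYA

theorem hYA₂ (e : StarE M H p X E W A) :
    centSigma M X ≤ normalizer ((⁅A, centSigma M X⁆ : Subgroup G) : Set G) :=
  le_normalizer_commutator_of_le e.hYA le_normalizer

/-- the centralizer of `X` and `A₂` centralizes `A` -/
theorem centralizer_inf_le (e : StarE M H p X E W A) :
    centralizer (X : Set G) ⊓ centralizer ((⁅A, centSigma M X⁆ : Subgroup G) : Set G) ≤
      centralizer (A : Set G) := by
  intro g hg
  have h : A ≤ centralizer ({g} : Set G) := by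
    rw [← e.A₂_props.2.2]
    apply sup_le
    · intro x hx
      rw [mem_centralizer_iff]
      intro y hy
      rw [Set.mem_singleton_iff] at hy
      subst hy
      exact (mem_centralizer_iff.1 hg.1 x hx).symm
    · intro x hx
      rw [mem_centralizer_iff]
      intro y hy
      rw [Set.mem_singleton_iff] at hy
      subst hy
      exact (mem_centralizer_iff.1 hg.2 x hx).symm
  rw [mem_centralizer_iff]
  intro a ha
  exact ((mem_centralizer_iff.1 (h ha)) g rfl).symm

/-- `Y` acts faithfully on `A₂` -/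
theorem hYCA₂ (e : StarE M H p X E W A) :
    centSigma M X ⊓ centralizer ((⁅A, centSigma M X⁆ : Subgroup G) : Set G) = ⊥ := by
  rw [eq_bot_iff, ← e.hYCA]
  intro y hy
  exact ⟨hy.1, e.centralizer_inf_le ⟨e.Y_le_cent hy.1, hy.2⟩⟩

theorem Y_cyclic (e : StarE M H p X E W A) :
    IsCyclic ↥(centSigma M X) ∧ Nat.card ↥(centSigma M X) ∣ p - 1 :=
  haveI : Fact p.Prime := ⟨e.prime⟩
  isCyclic_and_card_dvd_of_faithful e.A₂_props.1 e.hYA₂ e.hYCA₂

/-- the only `Y`-invariant subgroups of order `p` of `A` are `X` and `A₂` -/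
theorem line_eq (e : StarE M H p X E W A) {B : Subgroup G} (hBA : B ≤ A) (hBc : Nat.card B = p)
    (hYB : centSigma M X ≤ normalizer (B : Set G)) : B = X ∨ B = ⁅A, centSigma M X⁆ := by
  haveI : Fact p.Prime := ⟨e.prime⟩
  rcases le_fix_or_le_commutator_of_invariant_line e.hAcomm e.coprime_Y_p hBA hBc hYB with h | h
  · left
    apply Subgroup.eq_of_le_of_card_ge
    · rw [← e.fixA]; exact le_inf hBA h
    · rw [hBc, e.hXp]
  · right
    apply Subgroup.eq_of_le_of_card_ge h
    rw [hBc, e.A₂_props.1]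

theorem hWJ (e : StarE M H p X E W A) : W ≤ M ⊓ normalizer (X : Set G) := e.hW.2.1

theorem hWA₂ (e : StarE M H p X E W A) :
    W ≤ normalizer ((⁅A, centSigma M X⁆ : Subgroup G) : Set G) :=
  le_normalizer_commutator_of_le (e.hWE.trans e.hEA) (e.hWJ.trans e.J_le_normalizer_Y)

/-- `W` centralizes `Y` -/
theorem hWY (e : StarE M H p X E W A) : W ≤ centralizer ((centSigma M X : Subgroup G) : Set G) := by
  haveI : Fact p.Prime := ⟨e.prime⟩
  have h1 : ⁅W, W⁆ ≤ centralizer (X : Set G) :=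
    commutator_le_centralizer_of_card_prime e.hXp (e.hWJ.trans inf_le_right)
  have h2 : ⁅W, W⁆ ≤ centralizer ((⁅A, centSigma M X⁆ : Subgroup G) : Set G) :=
    commutator_le_centralizer_of_card_prime e.A₂_props.1 e.hWA₂
  have h3 : ⁅W, W⁆ ≤ centralizer (A : Set G) := (le_inf h1 h2).trans e.centralizer_inf_le
  intro w hw
  rw [mem_centralizer_iff]
  intro y hy
  have h4 : ⁅y, w⁆ ∈ centralizer (A : Set G) := h3 (commutator_mem_commutator (e.hYW hy) hw)
  have h5 : ⁅y, w⁆ ∈ centSigma M X := by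
    rw [commutatorElement_def]
    have hn := e.J_le_normalizer_Y (e.hWJ hw)
    have h6 : w * y⁻¹ * w⁻¹ ∈ centSigma M X := (mem_normalizer_iff.mp hn y⁻¹).mp (inv_mem hy)
    have h7 : y * w * y⁻¹ * w⁻¹ = y * (w * y⁻¹ * w⁻¹) := by group
    rw [h7]; exact mul_mem hy h6
  have h8 : ⁅y, w⁆ ∈ centSigma M X ⊓ centralizer (A : Set G) := ⟨h5, h4⟩
  rw [e.hYCA, mem_bot, commutatorElement_eq_one_iff_mul_comm] at h8
  exact h8

/-- **B&G 13.2(c)** in the configuration (*): `N_M(X)` centralizes `Y = C_{M_σ}(X)` -/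
theorem J_le_centralizer_Y (e : StarE M H p X E W A) :
    M ⊓ normalizer (X : Set G) ≤ centralizer ((centSigma M X : Subgroup G) : Set G) := by
  intro j hj
  obtain ⟨s, hs, w, hw, rfl⟩ := e.hW.2.2.2 j hj
  refine mul_mem ?_ (e.hWY hw)
  -- `J ∩ H_σ` and `Y` are normal in `J` and meet trivially
  have hdis : (Cfsg.sigmaCore H ⊓ (M ⊓ normalizer (X : Set G))) ⊓ centSigma M X = ⊥ := by
    rw [← Subgroup.card_eq_one]
    have h1 : Nat.card ↥((Cfsg.sigmaCore H ⊓ (M ⊓ normalizer (X : Set G))) ⊓ centSigma M X) ∣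
        Nat.card ↥(Cfsg.sigmaCore H) := Subgroup.card_dvd_of_le (inf_le_left.trans inf_le_left)
    have h2 : Nat.card ↥((Cfsg.sigmaCore H ⊓ (M ⊓ normalizer (X : Set G))) ⊓ centSigma M X) ∣
        Nat.card ↥(centSigma M X) := Subgroup.card_dvd_of_le inf_le_right
    exact Nat.eq_one_of_dvd_coprimes e.coprime_Y_sigmaCore h2 h1
  have hQn : M ⊓ normalizer (X : Set G) ≤
      normalizer ((Cfsg.sigmaCore H ⊓ (M ⊓ normalizer (X : Set G)) : Subgroup G) : Set G) :=
    Cfsg.Agent.Lead.le_normalizer_inf' (e.J_le_H.trans (le_normalizer_sigmaCore H)) le_normalizer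
  have hcomm := Cfsg.Agent.Helper21.BG12.commute_of_normalizing
    (H := Cfsg.sigmaCore H ⊓ (M ⊓ normalizer (X : Set G))) (K := centSigma M X)
    (inf_le_right.trans e.J_le_normalizer_Y) (e.Y_le_J.trans hQn) hdis
  rw [mem_centralizer_iff]
  intro y hy
  exact (hcomm s hs y hy).symm

end StarE

end Cfsg.Agent.H9.BG12
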