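import Mathlib
import Cfsg.Prelude.Def_OddOrderLocal
import Cfsg.Agent.Helper9.BG13Se
import Cfsg.Agent.Helper11.SylowInter

/-!
# B&G §13, the configuration (*): the maximal subgroup `M₂ ≥ N_G(A)` (helper9)
-/

set_option autoImplicit false
set_option linter.unusedSectionVars false
set_option linter.unusedVariables false
set_option linter.style.haveILetI false

namespace Cfsg.Agent.H9.BG12

open Subgroup Cfsg
open scoped commutatorElement
open Cfsg.Agent.Helper14 (IsSylowIn cj map_cj_le_iff map_cj_mul map_cj_one map_cj_normalizer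
  mem_normalizer_iff_map_cj map_cj_eq_self_of_mem le_normalizer_of_map_cj_le mem_map_cj
  exists_isSylowIn_ge exists_isSylowIn isSylowIn_of_sylow)

universe u
variable {G : Type u} [Group G] [Finite G]

/-- third stage of (*): helper18's `β`-claim as a hypothesis, and a maximal subgroup
`M₂ ≥ N_G(A)` -/
structure StarM (M H : Subgroup G) (p : ℕ) (X E W A M₂ : Subgroup G) : Prop
    extends StarE M H p X E W A where
  hYβ : ∀ q : ℕ, q.Prime → q ∣ Nat.card ↥(centSigma M X) → q ∈ Cfsg.beta M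
  hM₂ : IsCoatom M₂
  hNA : normalizer (A : Set G) ≤ M₂

/-- if the elements of order dividing `p` of `S ≥ A` are those of `A`, then `N(S) ≤ N(A)` -/
theorem normalizer_le_normalizer_of_omega {S A : Subgroup G} {p : ℕ} (hAS : A ≤ S)
    (h : ∀ x ∈ S, x ^ p = 1 ↔ x ∈ A) : normalizer (S : Set G) ≤ normalizer (A : Set G) := by
  apply le_normalizer_of_map_cj_le
  intro n hn x hx
  rw [mem_map_cj] at hx
  have h1 : n⁻¹ * x * n ∈ S := hAS hx
  have h2 : x ∈ S := by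
    have h3 := (mem_normalizer_iff.mp hn (n⁻¹ * x * n)).mp h1
    have h4 : n * (n⁻¹ * x * n) * n⁻¹ = x := by group
    rwa [h4] at h3
  rw [← h x h2]
  have h5 := (h _ h1).2 hx
  have h6 : x = n * (n⁻¹ * x * n) * n⁻¹ := by group
  rw [h6, conj_pow, h5, mul_one, mul_inv_cancel]

namespace StarE

variable {M H X E W A : Subgroup G} {p : ℕ}

theorem s1417 (e : StarE M H p X E W A) :
    Group.IsNilpotent (Cfsg.sigmaCore H) ∧
      (∀ P : Sylow p H, IsMulCommutative (P : Subgroup H) ∧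
        (A ≤ (P : Subgroup H).map H.subtype →
          (∀ x ∈ (P : Subgroup H).map H.subtype, x ^ p = 1 ↔ x ∈ A) ∧
          ¬ Subgroup.normalizer ((((P : Subgroup H).map H.subtype : Subgroup G)) : Set G) ≤ H)) ∧
      H ≤ Subgroup.normalizer ((Cfsg.sigmaCore H ⊔ A : Subgroup G) : Set G) ∧
      Cfsg.sigmaCore H ⊓ Subgroup.centralizer (A : Set G) = ⊥ ∧
      (∀ Mstar : Subgroup G, IsCoatom Mstar → Mstar ≠ H → A ≤ Mstar →
        Cfsg.sigmaCore H ⊓ Mstar = ⊥) ∧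
      ∃ A₁ : Subgroup G, A₁ ≤ A ∧ Nat.card A₁ = p ∧
        Cfsg.sigmaCore H ⊓ Subgroup.centralizer (A₁ : Set G) = ⊥ :=
  haveI : Fact p.Prime := ⟨e.prime⟩
  Cfsg.Agent.S1417.result e.hG H e.hH p e.mem_tau2 A ⟨e.hAH, e.hAe, e.hAc⟩

theorem hAp (e : StarE M H p X E W A) : IsPGroup p A :=
  haveI : Fact p.Prime := ⟨e.prime⟩
  IsPGroup.of_card (n := 2) e.hAc

/-- Sylow `p`-subgroups of `H` containing `A` -/
theorem sylow_props (e : StarE M H p X E W A) {S : Subgroup G} (hS : IsSylowIn p S H)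
    (hAS : A ≤ S) : IsMulCommutative S ∧ (∀ x ∈ S, x ^ p = 1 ↔ x ∈ A) ∧
      ¬ normalizer (S : Set G) ≤ H := by
  haveI : Fact p.Prime := ⟨e.prime⟩
  obtain ⟨h1, h2⟩ := e.s1417.2.1 hS.toSylow
  rw [hS.toSylow_map] at h2
  refine ⟨?_, (h2 hAS).1, (h2 hAS).2⟩
  have := Subgroup.map_isMulCommutative (hS.toSylow : Subgroup ↥H) H.subtype
  rwa [hS.toSylow_map] at this

/-- `p`-subgroups of `H` containing `A` are abelian with `Ω₁ = A` -/
theorem pgroup_props (e : StarE M H p X E W A) {T : Subgroup G} (hTH : T ≤ H) (hT : IsPGroup p T)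
    (hAT : A ≤ T) : IsMulCommutative T ∧ ∀ x ∈ T, x ^ p = 1 → x ∈ A := by
  haveI : Fact p.Prime := ⟨e.prime⟩
  obtain ⟨S, hS, hTS⟩ := exists_isSylowIn_ge hTH hT
  obtain ⟨h1, h2, -⟩ := e.sylow_props hS (hAT.trans hTS)
  refine ⟨⟨⟨fun a b => Subtype.ext ?_⟩⟩, fun x hx hxp => (h2 x (hTS hx)).1 hxp⟩
  have := h1.is_comm.comm ⟨a, hTS a.2⟩ ⟨b, hTS b.2⟩
  exact congrArg (fun z : ↥S => (z : G)) this

theorem hCA (e : StarE M H p X E W A) : centralizer (A : Set G) ≤ H :=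
  e.s1418.2.1.1.trans inf_le_left

/-- an abelian `p`-subgroup of `G` containing `A` lies in `H` -/
theorem le_H_of_abelian (e : StarE M H p X E W A) {T : Subgroup G} (hTc : IsMulCommutative T)
    (hAT : A ≤ T) : T ≤ H := by
  refine le_trans ?_ e.hCA
  intro t ht
  rw [mem_centralizer_iff]
  intro a ha
  have := hTc.is_comm.comm ⟨a, hAT ha⟩ ⟨t, ht⟩
  exact congrArg (fun z : ↥T => (z : G)) this

end StarE

namespace StarM

variable {M H X E W A M₂ : Subgroup G} {p : ℕ}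

theorem hAM₂ (f : StarM M H p X E W A M₂) : A ≤ M₂ := le_normalizer.trans f.hNA

theorem hEM₂ (f : StarM M H p X E W A M₂) : E ≤ M₂ := f.hEA.trans f.hNA

theorem hYM₂ (f : StarM M H p X E W A M₂) : centSigma M X ≤ M₂ := f.hYE.trans f.hEM₂

theorem hXM₂ (f : StarM M H p X E W A M₂) : X ≤ M₂ := f.hXA.trans f.hAM₂

theorem ne₂ (f : StarM M H p X E W A M₂) : M₂ ≠ H := by
  intro h
  exact f.s1418.2.1.2.2 (h ▸ f.hNA)

theorem rank₂ (f : StarM M H p X E W A M₂) : ¬ Cfsg.PRankLE p 1 ↥M₂ :=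
  haveI : Fact p.Prime := ⟨f.prime⟩
  Cfsg.Agent.Helper16.BG11.not_pRankLE_one_of_elemAb f.hAM₂ f.hAe f.hAc

theorem not_conj₂ (f : StarM M H p X E W A M₂) : ∀ g : G, M₂ ≠ M.map (cj g) := by
  intro g h
  apply f.rank₂
  rw [h]
  exact pRankLE_map_cj g f.rank_one

theorem not_conj₂' (f : StarM M H p X E W A M₂) : ∀ g : G, M ≠ M₂.map (cj g) := by
  intro g h
  apply f.not_conj₂ g⁻¹
  rw [h, Cfsg.Agent.Helper14.map_cj_map_cj_inv]

/-- `p ∈ σ(M₂)` -/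
theorem mem_sigma₂ (f : StarM M H p X E W A M₂) : p ∈ Cfsg.sigma M₂ := by
  haveI : Fact p.Prime := ⟨f.prime⟩
  obtain ⟨PH, hPH, hAPH⟩ := exists_isSylowIn_ge f.hAH f.hAp
  obtain ⟨hPHc, hΩ, hNPH⟩ := f.sylow_props hPH hAPH
  have hNPA : normalizer (PH : Set G) ≤ normalizer (A : Set G) :=
    normalizer_le_normalizer_of_omega hAPH hΩ
  have hPHM₂ : PH ≤ M₂ := le_normalizer.trans (hNPA.trans f.hNA)
  obtain ⟨S₂, hS₂, hPHS₂⟩ := exists_isSylowIn_ge hPHM₂ hPH.2.1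
  have hN : normalizer (S₂ : Set G) ≤ M₂ := by
    by_cases hc : IsMulCommutative S₂
    · have hS₂H : S₂ ≤ H := f.le_H_of_abelian hc (hAPH.trans hPHS₂)
      have : S₂ = PH := hPH.2.2 S₂ hS₂H hS₂.2.1 hPHS₂
      rw [this]; exact hNPA.trans f.hNA
    · have hU := Cfsg.Agent.S1422.result f.hG p S₂ hS₂.2.1 hc
      have hS₂1 : S₂ ≠ ⊥ := by
        intro h
        apply f.hX1
        rw [eq_bot_iff, ← h]
        exact (f.hXA.trans hAPH).trans hPHS₂
      exact Cfsg.Agent.Helper21.BG10.normalizer_le_of_inUniqueMaximal f.hG.2.1 f.hM₂ hS₂.1 hS₂1 hU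
  refine ⟨f.prime, ?_, hS₂.toSylow, ?_⟩
  · have h1 : Nat.card A ∣ Nat.card M₂ := Subgroup.card_dvd_of_le f.hAM₂
    rw [f.hAc] at h1
    exact (dvd_pow_self p two_ne_zero).trans h1
  · rw [hS₂.toSylow_map]; exact hN

/-- the primes of `Y` are not in `σ(M₂)` -/
theorem not_mem_sigma₂ (f : StarM M H p X E W A M₂) {q : ℕ} (hq : q.Prime)
    (hd : q ∣ Nat.card ↥(centSigma M X)) : q ∉ Cfsg.sigma M₂ := fun h =>
  Cfsg.Agent.Helper4.BG12SD.alpha_sigma_disjoint f.hG f.hM₂ f.hM f.not_conj₂' (f.hYβ q hq hd).1 h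

theorem coprime_Y_sigmaCore₂ (f : StarM M H p X E W A M₂) :
    (Nat.card ↥(centSigma M X)).Coprime (Nat.card ↥(Cfsg.sigmaCore M₂)) := by
  apply Nat.coprime_of_dvd
  intro k hk hk1 hk2
  exact f.not_mem_sigma₂ hk hk1 ((st1350' f.hG M₂ f.hM₂).1.2.1 k hk hk2)

theorem hAσ₂ (f : StarM M H p X E W A M₂) : A ≤ Cfsg.sigmaCore M₂ :=
  haveI : Fact p.Prime := ⟨f.prime⟩
  le_sigmaCore_of_isPGroup (st1350' f.hG) f.hM₂ f.mem_sigma₂ f.hAM₂ f.hAp

/-- a `Y`-invariant Sylow `p`-subgroup `P ≥ A` of `(M₂)_σ`; it is a Sylow `p`-subgroup of `G` -/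
theorem exists_P (f : StarM M H p X E W A M₂) :
    ∃ P : Subgroup G, IsSylowIn p P ⊤ ∧ P ≤ Cfsg.sigmaCore M₂ ∧ A ≤ P ∧
      centSigma M X ≤ normalizer (P : Set G) := by
  haveI : Fact p.Prime := ⟨f.prime⟩
  have hσne : Cfsg.sigmaCore M₂ ≠ ⊤ := fun h => f.hM₂.1 (top_le_iff.1 (h ▸ sigmaCore_le M₂))
  obtain ⟨P, hAP, hYP⟩ := Cfsg.Agent.Lead.coprime_invariant_pgroup_le_sylow (centSigma M X)
    (Cfsg.sigmaCore M₂) (f.hYM₂.trans (le_normalizer_sigmaCore M₂)) f.coprime_Y_sigmaCore₂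
    (Or.inr (f.hG.2.2.2 _ hσne)) p A f.hAσ₂ f.hAp f.hYA
  have h1 : IsSylowIn p ((P : Subgroup ↥(Cfsg.sigmaCore M₂)).map (Cfsg.sigmaCore M₂).subtype)
      (Cfsg.sigmaCore M₂) := isSylowIn_of_sylow P
  have h2 := Cfsg.Agent.Helper4.BG12SD.isSylowIn_of_isSylowIn_sigmaCore f.hG f.hM₂ f.mem_sigma₂ h1
  exact ⟨_, Cfsg.Agent.Helper4.BG10.sigma_isSylowIn_top f.mem_sigma₂ h2, h1.1, hAP, hYP⟩

end StarM

end Cfsg.Agent.H9.BG12
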