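import Mathlib
import Cfsg.Prelude.Def_OddOrderLocal
import Cfsg.Agent.Helper9.BG13Sf
import Cfsg.Agent.S1419

/-!
# B&G §13, the configuration (*): nonabelian Sylow `p`-subgroups, the consequences of B&G 12.7,
and `A₂ ≤ ((M₂)_σ)'` (helper9)
-/

set_option autoImplicit false
set_option linter.unusedSectionVars false
set_option linter.unusedVariables false
set_option linter.style.haveILetI false

namespace Cfsg.Agent.H9.BG12

open Subgroup Cfsg
open scoped commutatorElement Pointwise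
open Cfsg.Agent.Helper14 (IsSylowIn cj map_cj_le_iff map_cj_mul map_cj_one map_cj_normalizer
  mem_normalizer_iff_map_cj map_cj_eq_self_of_mem le_normalizer_of_map_cj_le mem_map_cj
  exists_isSylowIn_ge exists_isSylowIn isSylowIn_of_sylow)

universe u
variable {G : Type u} [Group G] [Finite G]

namespace StarM

variable {M H X E W A M₂ : Subgroup G} {p : ℕ}

theorem not_mem_beta₂ (f : StarM M H p X E W A M₂) : p ∉ Cfsg.beta M₂ := fun h => f.not_ideal h.2

/-- the `Y`-invariant Sylow `p`-subgroup `P` of `(M₂)_σ` is nonabelian -/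
theorem P_nonabelian (f : StarM M H p X E W A M₂) {P : Subgroup G} (hP : IsSylowIn p P ⊤)
    (hPσ : P ≤ Cfsg.sigmaCore M₂) (hAP : A ≤ P)
    (hYP : centSigma M X ≤ normalizer (P : Set G)) : ¬ IsMulCommutative P := by
  haveI : Fact p.Prime := ⟨f.prime⟩
  intro hc
  have hPH : P ≤ H := f.le_H_of_abelian hc hAP
  have hPsH : IsSylowIn p P H := Cfsg.Agent.Helper10.isSylowIn_of_le hP hPH le_top
  obtain ⟨-, hΩ, hN⟩ := f.sylow_props hPsH hAP
  have hPM₂ : P ≤ M₂ := hPσ.trans (sigmaCore_le M₂)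
  have hcomm := Cfsg.Agent.Helper28.BG13T1.commutator_normalizer_le f.hG f.hM₂ f.mem_sigma₂
    f.not_mem_beta₂ (Cfsg.Agent.Helper10.toSylowTop hP) hPM₂
  change ⁅normalizer (P : Set G), normalizer (P : Set G)⁆ ≤ P ⊔ centralizer (P : Set G) at hcomm
  have hPC : P ≤ centralizer (P : Set G) := by
    intro a ha
    rw [mem_centralizer_iff]
    intro b hb
    have := hc.is_comm.comm ⟨b, hb⟩ ⟨a, ha⟩
    exact congrArg (fun z : ↥P => (z : G)) this
  have hcomm' : ⁅normalizer (P : Set G), normalizer (P : Set G)⁆ ≤ centralizer (P : Set G) :=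
    hcomm.trans (sup_le hPC le_rfl)
  apply hN
  refine le_trans ?_ f.hNX
  apply le_normalizer_of_map_cj_le
  intro n hn x' hx'
  rw [mem_map_cj] at hx'
  set x := n⁻¹ * x' * n with hx
  have hx'eq : x' = n * x * n⁻¹ := by rw [hx]; group
  have hxP : x ∈ P := hAP (f.hXA hx')
  have hx'P : x' ∈ P := by
    rw [hx'eq]
    exact (mem_normalizer_iff.mp hn x).mp hxP
  have hxp : x ^ p = 1 := f.hAe.2 x (f.hXA hx')
  have hx'A : x' ∈ A := by
    rw [← hΩ x' hx'P, hx'eq, conj_pow, hxp, mul_one, mul_inv_cancel]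
  rw [← f.fixA]
  refine ⟨hx'A, mem_centralizer_iff.2 ?_⟩
  intro y hy
  -- `n⁻¹ y n = y c` with `c ∈ C(P)`
  have hc1 : ⁅y⁻¹, n⁻¹⁆ ∈ centralizer (P : Set G) :=
    hcomm' (commutator_mem_commutator (hYP (inv_mem hy)) (inv_mem hn))
  have hc2 : x * ⁅y⁻¹, n⁻¹⁆ = ⁅y⁻¹, n⁻¹⁆ * x := mem_centralizer_iff.1 hc1 x hxP
  have hyx : x * y = y * x := mem_centralizer_iff.1 (f.Y_le_cent hy) x hx'
  rw [commutatorElement_def] at hc2
  simp only [inv_inv] at hc2
  -- goal: y * x' = x' * y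
  rw [hx'eq]
  have e1 : y * (n * x * n⁻¹) = n * ((y⁻¹ * n⁻¹ * y * n)⁻¹ * y⁻¹)⁻¹ * x * n⁻¹ := by group
  have e2 : n * x * n⁻¹ * y = n * (x * (y * (y⁻¹ * n⁻¹ * y * n))) * n⁻¹ := by group
  rw [e2, ← mul_assoc x y, hyx, mul_assoc y x, hc2]
  group

/-- the Sylow `p`-subgroups of `G` are nonabelian -/
theorem sylow_nonabelian (f : StarM M H p X E W A M₂) :
    ∀ S : Sylow p G, ¬ IsMulCommutative (S : Subgroup G) := by
  haveI : Fact p.Prime := ⟨f.prime⟩
  obtain ⟨P, hP, hPσ, hAP, hYP⟩ := f.exists_P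
  have hna := f.P_nonabelian hP hPσ hAP hYP
  intro S hS
  apply hna
  obtain ⟨g, hg⟩ := MulAction.exists_smul_eq G S (Cfsg.Agent.Helper10.toSylowTop hP)
  have h1 : (P : Subgroup G) = MulAut.conj g • (S : Subgroup G) := by
    have := congrArg (fun T : Sylow p G => (T : Subgroup G)) hg
    rw [Sylow.coe_subgroup_smul] at this
    exact this.symm
  refine ⟨⟨fun a b => Subtype.ext ?_⟩⟩
  have ha : (a : G) ∈ MulAut.conj g • (S : Subgroup G) := h1 ▸ a.2
  have hb : (b : G) ∈ MulAut.conj g • (S : Subgroup G) := h1 ▸ b.2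
  obtain ⟨a', ha', hae⟩ := ha
  obtain ⟨b', hb', hbe⟩ := hb
  have hab := hS.is_comm.comm ⟨a', ha'⟩ ⟨b', hb'⟩
  have hab' : a' * b' = b' * a' := congrArg (fun z : ↥(S : Subgroup G) => (z : G)) hab
  show (a : G) * b = b * a
  rw [← hae, ← hbe]
  simp only [MulDistribMulAction.toMonoidEnd_apply, MulDistribMulAction.toMonoidHom_apply,
    MulAut.smul_def, MulAut.conj_apply]
  calc g * a' * g⁻¹ * (g * b' * g⁻¹) = g * (a' * b') * g⁻¹ := by group
    _ = g * (b' * a') * g⁻¹ := by rw [hab']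
    _ = g * b' * g⁻¹ * (g * a' * g⁻¹) := by group

theorem s1419 (f : StarM M H p X E W A M₂) :
    Cfsg.tau2 H = {p} ∧
      (Nat.card ↥(A ⊓ Subgroup.centralizer (Cfsg.sigmaCore H : Set G)) = p ∧
        Cfsg.fittingOf H = Cfsg.sigmaCore H ⊔ (A ⊓ Subgroup.centralizer (Cfsg.sigmaCore H : Set G))) ∧
      ∀ X' : Subgroup G, X' ≤ E → Nat.card X' = p →
        X' ≠ A ⊓ Subgroup.centralizer (Cfsg.sigmaCore H : Set G) →
        Cfsg.sigmaCore H ⊓ Subgroup.centralizer (X' : Set G) = ⊥ ∧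
          ¬ Subgroup.centralizer (X' : Set G) ≤ H :=
  haveI : Fact p.Prime := ⟨f.prime⟩
  Cfsg.Agent.S1419.result f.hG H f.hH E f.hE p f.mem_tau2 f.sylow_nonabelian A
    ⟨f.hAE, f.hAe, f.hAc⟩

/-- `X = C_A(H_σ)` -/
theorem hXeq (f : StarM M H p X E W A M₂) :
    X = A ⊓ centralizer (Cfsg.sigmaCore H : Set G) := by
  by_contra h
  exact (f.s1419.2.2 X f.hXE f.hXp h).2 f.hCX

theorem hσX (f : StarM M H p X E W A M₂) : Cfsg.sigmaCore H ≤ centralizer (X : Set G) := by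
  intro s hs
  rw [mem_centralizer_iff]
  intro x hx
  have hx' : x ∈ A ⊓ centralizer (Cfsg.sigmaCore H : Set G) := f.hXeq ▸ hx
  exact (mem_centralizer_iff.1 hx'.2 s hs).symm

theorem hσ1 (f : StarM M H p X E W A M₂) : Cfsg.sigmaCore H ≠ ⊥ := by
  intro h
  have h1 := f.s1417.2.2.1
  rw [h, bot_sup_eq] at h1
  have hNt : normalizer (A : Set G) ≠ ⊤ := by
    intro ht
    exact f.hM₂.1 (top_le_iff.1 (ht ▸ f.hNA))
  have : normalizer (A : Set G) = H := by
    rcases eq_or_lt_of_le h1 with h2 | h2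
    · exact h2.symm
    · exact absurd (f.hH.2 _ h2) hNt
  exact f.s1418.2.1.2.2 this.le

/-- `H = N_G(X)` -/
theorem hHX (f : StarM M H p X E W A M₂) : H ≤ normalizer (X : Set G) := by
  intro h hh
  obtain ⟨a, ha, b, hb, rfl⟩ := f.hE.2.2.2 h hh
  refine mul_mem ?_ (centralizer_le_normalizer _ (f.hσX hb))
  have h1 : E ≤ normalizer ((A ⊓ centralizer (Cfsg.sigmaCore H : Set G) : Subgroup G) : Set G) :=
    Cfsg.Agent.Lead.le_normalizer_inf' f.hEA
      ((f.hE.1.trans (le_normalizer_sigmaCore H)).trans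
        (Cfsg.Agent.Lead.normalizer_le_normalizer_centralizer _))
  rw [← f.hXeq] at h1
  exact h1 ha

theorem hNXeq (f : StarM M H p X E W A M₂) : normalizer (X : Set G) = H :=
  le_antisymm f.hNX f.hHX

theorem A₂_ne_X (f : StarM M H p X E W A M₂) : (⁅A, centSigma M X⁆ : Subgroup G) ≠ X := by
  intro h
  have := f.A₂_props.2.1
  rw [h, inf_idem] at this
  exact f.hX1 this

theorem hA₂E (f : StarM M H p X E W A M₂) : (⁅A, centSigma M X⁆ : Subgroup G) ≤ E :=
  f.A₂_le.trans f.hAE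

/-- `A₂` acts fixed-point-freely on `H_σ` -/
theorem hσA₂ (f : StarM M H p X E W A M₂) :
    Cfsg.sigmaCore H ⊓ centralizer ((⁅A, centSigma M X⁆ : Subgroup G) : Set G) = ⊥ :=
  (f.s1419.2.2 _ f.hA₂E f.A₂_props.1 (f.hXeq ▸ f.A₂_ne_X)).1

/-- `H` is the unique maximal subgroup containing `C_G(X)` -/
theorem hCXuniq (f : StarM M H p X E W A M₂) :
    ∀ L : Subgroup G, IsCoatom L → centralizer (X : Set G) ≤ L → L = H := by
  refine (f.s1418.2.2 X f.hXA f.hXp ?_).2
  rw [inf_of_le_left f.hσX]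
  exact f.hσ1

theorem hMσH (f : StarM M H p X E W A M₂) : Cfsg.sigmaCore M ⊓ H = centSigma M X := by
  haveI : Fact p.Prime := ⟨f.prime⟩
  apply le_antisymm
  · intro d hd
    have hdN : d ∈ normalizer (X : Set G) := f.hHX hd.2
    refine ⟨hd.1, mem_centralizer_iff.2 ?_⟩
    intro x hx
    have h1 : ⁅d, x⁆ ∈ Cfsg.sigmaCore M := by
      rw [commutatorElement_def]
      have hn := le_normalizer_sigmaCore M (f.hXM hx)
      have h2 : x * d⁻¹ * x⁻¹ ∈ Cfsg.sigmaCore M :=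
        (mem_normalizer_iff.mp hn d⁻¹).mp (inv_mem hd.1)
      have h3 : d * x * d⁻¹ * x⁻¹ = d * (x * d⁻¹ * x⁻¹) := by group
      rw [h3]; exact mul_mem hd.1 h2
    have h2 : ⁅d, x⁆ ∈ X := by
      rw [commutatorElement_def]
      exact mul_mem ((mem_normalizer_iff.mp hdN x).mp hx) (inv_mem hx)
    have h3 : Cfsg.sigmaCore M ⊓ X = ⊥ := by
      rw [← Subgroup.card_eq_one]
      have h4 : Nat.card ↥(Cfsg.sigmaCore M ⊓ X) ∣ p := f.hXp ▸ Subgroup.card_dvd_of_le inf_le_right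
      rcases (Nat.dvd_prime f.prime).1 h4 with h5 | h5
      · exact h5
      · exfalso
        apply f.hpM
        apply (st1350' f.hG M f.hM).1.2.1 p f.prime
        rw [← h5]
        exact Subgroup.card_dvd_of_le inf_le_left
    have h4 : ⁅d, x⁆ ∈ Cfsg.sigmaCore M ⊓ X := ⟨h1, h2⟩
    rw [h3, mem_bot, commutatorElement_eq_one_iff_mul_comm] at h4
    exact h4.symm
  · exact le_inf f.Y_le_sigmaCore f.Y_le_H

theorem hI (f : StarM M H p X E W A M₂) :
    M ⊓ H ≤ centralizer ((centSigma M X : Subgroup G) : Set G) := by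
  rw [← f.hNXeq]
  exact f.J_le_centralizer_Y

end StarM

end Cfsg.Agent.H9.BG12
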