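import Mathlib
import Cfsg.Prelude.Def_OddOrderLocal
import Cfsg.Agent.Helper9.BG13Sg

/-!
# B&G §13, the configuration (*): `A₂ = A ∩ ((M₂)_σ)'`, `N_G(A₂) ≤ M₂`, `H ∩ M₂ = E` (helper9)
-/

set_option autoImplicit false
set_option linter.unusedSectionVars false
set_option linter.unusedVariables false
set_option linter.style.haveILetI false

namespace Cfsg.Agent.H9.BG12

open Subgroup Cfsg
open scoped commutatorElement
open Cfsg.Agent.Helper14 (IsSylowIn cj map_cj_le_iff map_cj_mul map_cj_one map_cj_normalizer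
  mem_normalizer_iff_map_cj map_cj_eq_self_of_mem le_normalizer_of_map_cj_le mem_map_cj
  exists_isSylowIn_ge exists_isSylowIn isSylowIn_of_sylow)

universe u
variable {G : Type u} [Group G] [Finite G]

namespace StarM

variable {M H X E W A M₂ : Subgroup G} {p : ℕ}

theorem hXσ₂ (f : StarM M H p X E W A M₂) : X ≤ Cfsg.sigmaCore M₂ := f.hXA.trans f.hAσ₂

/-- `X` is not contained in `((M₂)_σ)'` -/
theorem X_not_le (f : StarM M H p X E W A M₂) :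
    ¬ X ≤ ⁅Cfsg.sigmaCore M₂, Cfsg.sigmaCore M₂⁆ := by
  haveI : Fact p.Prime := ⟨f.prime⟩
  intro h
  obtain ⟨P⟩ : Nonempty (Sylow p ↥(Cfsg.sigmaCore M₂)) := inferInstance
  have h1 := (Cfsg.Agent.S1423.result f.hG M₂ f.hM₂ p f.mem_sigma₂ X f.hXM₂ f.hXp P (Or.inr h)).1
  exact f.ne₂ (f.hCXuniq M₂ f.hM₂ h1.1)

/-- `A ∩ ((M₂)_σ)' ≠ 1` -/
theorem Z_ne_bot (f : StarM M H p X E W A M₂) :
    A ⊓ ⁅Cfsg.sigmaCore M₂, Cfsg.sigmaCore M₂⁆ ≠ ⊥ := by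
  haveI : Fact p.Prime := ⟨f.prime⟩
  obtain ⟨P, hP, hPσ, hAP, hYP⟩ := f.exists_P
  have hna := f.P_nonabelian hP hPσ hAP hYP
  -- `C = C_P(A)` is abelian, hence proper in `P`
  set C : Subgroup G := P ⊓ centralizer (A : Set G) with hC
  have hAC : A ≤ C := by
    refine le_inf hAP ?_
    intro a ha
    rw [mem_centralizer_iff]
    intro b hb
    have := f.hAcomm.is_comm.comm ⟨b, hb⟩ ⟨a, ha⟩
    exact congrArg (fun z : ↥A => (z : G)) this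
  have hCp : IsPGroup p C := hP.2.1.to_le inf_le_left
  obtain ⟨hCc, hCΩ⟩ := f.pgroup_props (inf_le_right.trans f.hCA) hCp hAC
  have hCP : C < P := by
    refine lt_of_le_of_ne inf_le_left ?_
    intro h
    apply hna
    rw [← h]; exact hCc
  obtain ⟨u, hu, huC⟩ := SetLike.exists_of_lt (Cfsg.Agent.Helper11.lt_inf_normalizer P C hP.2.1 hCP)
  -- `u` normalizes `A = Ω₁(C)`
  have huA : u ∈ normalizer (A : Set G) := by
    have h1 : normalizer (C : Set G) ≤ normalizer (A : Set G) :=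
      normalizer_le_normalizer_of_omega hAC (fun x hx => ⟨hCΩ x hx, fun hxA => f.hAe.2 x hxA⟩)
    exact h1 hu.2
  have huCA : u ∉ centralizer (A : Set G) := fun h => huC ⟨hu.1, h⟩
  rw [mem_centralizer_iff] at huCA
  push_neg at huCA
  obtain ⟨a, ha, hau⟩ := huCA
  intro hbot
  have h1 : ⁅a, u⁆ ∈ A := by
    rw [commutatorElement_def]
    have h2 : u * a⁻¹ * u⁻¹ ∈ A := (mem_normalizer_iff.mp huA a⁻¹).mp (inv_mem ha)
    have h3 : a * u * a⁻¹ * u⁻¹ = a * (u * a⁻¹ * u⁻¹) := by group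
    rw [h3]; exact mul_mem ha h2
  have h2 : ⁅a, u⁆ ∈ ⁅Cfsg.sigmaCore M₂, Cfsg.sigmaCore M₂⁆ :=
    commutator_mem_commutator (f.hAσ₂ ha) (hPσ hu.1)
  have h3 : ⁅a, u⁆ ∈ A ⊓ ⁅Cfsg.sigmaCore M₂, Cfsg.sigmaCore M₂⁆ := ⟨h1, h2⟩
  rw [hbot, mem_bot, commutatorElement_eq_one_iff_mul_comm] at h3
  exact hau h3

theorem hM₂comm (f : StarM M H p X E W A M₂) :
    M₂ ≤ normalizer ((⁅Cfsg.sigmaCore M₂, Cfsg.sigmaCore M₂⁆ : Subgroup G) : Set G) :=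
  le_normalizer_commutator_of_le (le_normalizer_sigmaCore M₂) (le_normalizer_sigmaCore M₂)

/-- `A ∩ ((M₂)_σ)' = A₂` -/
theorem Z_eq (f : StarM M H p X E W A M₂) :
    A ⊓ ⁅Cfsg.sigmaCore M₂, Cfsg.sigmaCore M₂⁆ = ⁅A, centSigma M X⁆ := by
  haveI : Fact p.Prime := ⟨f.prime⟩
  have hp := f.prime
  set Z := A ⊓ ⁅Cfsg.sigmaCore M₂, Cfsg.sigmaCore M₂⁆ with hZ
  have hd : Nat.card Z ∣ p ^ 2 := f.hAc ▸ Subgroup.card_dvd_of_le inf_le_left
  obtain ⟨k, hk, hkc⟩ := (Nat.dvd_prime_pow hp).1 hd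
  have hk0 : k ≠ 0 := by
    intro h
    rw [h, pow_zero] at hkc
    exact f.Z_ne_bot (Subgroup.card_eq_one.mp hkc)
  have hk2 : k ≠ 2 := by
    intro h
    rw [h] at hkc
    have hZA : Z = A := Subgroup.eq_of_le_of_card_ge inf_le_left (by rw [hkc, f.hAc])
    apply f.X_not_le
    have : X ≤ Z := hZA ▸ f.hXA
    exact this.trans inf_le_right
  have hk1 : k = 1 := by omega
  rw [hk1, pow_one] at hkc
  have hYZ : centSigma M X ≤ normalizer (Z : Set G) :=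
    Cfsg.Agent.Lead.le_normalizer_inf' f.hYA (f.hYM₂.trans f.hM₂comm)
  rcases f.line_eq inf_le_left hkc hYZ with h | h
  · exfalso
    apply f.X_not_le
    rw [← h]; exact inf_le_right
  · exact h

theorem hA₂comm (f : StarM M H p X E W A M₂) :
    (⁅A, centSigma M X⁆ : Subgroup G) ≤ ⁅Cfsg.sigmaCore M₂, Cfsg.sigmaCore M₂⁆ := by
  rw [← f.Z_eq]; exact inf_le_right

theorem hA₂1 (f : StarM M H p X E W A M₂) : (⁅A, centSigma M X⁆ : Subgroup G) ≠ ⊥ := by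
  intro h
  have := f.A₂_props.1
  rw [h, Subgroup.card_bot] at this
  exact f.prime.one_lt.ne this

/-- `N_G(A₂) ≤ M₂` -/
theorem hNA₂ (f : StarM M H p X E W A M₂) :
    normalizer ((⁅A, centSigma M X⁆ : Subgroup G) : Set G) ≤ M₂ := by
  haveI : Fact p.Prime := ⟨f.prime⟩
  obtain ⟨P⟩ : Nonempty (Sylow p ↥(Cfsg.sigmaCore M₂)) := inferInstance
  have hA₂M₂ : (⁅A, centSigma M X⁆ : Subgroup G) ≤ M₂ := f.A₂_le.trans f.hAM₂
  have h1 := (Cfsg.Agent.S1423.result f.hG M₂ f.hM₂ p f.mem_sigma₂ _ hA₂M₂ f.A₂_props.1 P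
    (Or.inr f.hA₂comm)).1
  have hA₂t : (⁅A, centSigma M X⁆ : Subgroup G) ≠ ⊤ :=
    fun h => f.hM₂.1 (top_le_iff.1 (h ▸ hA₂M₂))
  obtain ⟨L, hL, hNL⟩ := Cfsg.Agent.Helper21.BG10.exists_coatom_normalizer_le f.hG.2.1 f.hA₂1 hA₂t
  have := h1.2 L hL ((centralizer_le_normalizer _).trans hNL)
  exact this ▸ hNL

/-- `M₂ ∩ N_G(A)` normalizes `A₂` -/
theorem hNAA₂ (f : StarM M H p X E W A M₂) :
    normalizer (A : Set G) ≤ normalizer ((⁅A, centSigma M X⁆ : Subgroup G) : Set G) := by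
  rw [← f.Z_eq]
  exact Cfsg.Agent.Lead.le_normalizer_inf' le_rfl (f.hNA.trans f.hM₂comm)

theorem hσM₂ (f : StarM M H p X E W A M₂) : Cfsg.sigmaCore H ⊓ M₂ = ⊥ :=
  f.s1417.2.2.2.2.1 M₂ f.hM₂ f.ne₂ f.hAM₂

/-- `H ∩ M₂ = E` -/
theorem hHM₂ (f : StarM M H p X E W A M₂) : H ⊓ M₂ = E := by
  apply le_antisymm
  · intro h hh
    obtain ⟨a, ha, b, hb, rfl⟩ := f.hE.2.2.2 h hh.1
    have hbM₂ : b ∈ M₂ := by
      have : b = a⁻¹ * (a * b) := by group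
      rw [this]
      exact mul_mem (inv_mem (f.hEM₂ ha)) hh.2
    have hb1 : b ∈ Cfsg.sigmaCore H ⊓ M₂ := ⟨hb, hbM₂⟩
    rw [f.hσM₂, mem_bot] at hb1
    rw [hb1, mul_one]; exact ha
  · exact le_inf f.hE.1 f.hEM₂

theorem hEA₂ (f : StarM M H p X E W A M₂) :
    H ⊓ M₂ ≤ normalizer ((⁅A, centSigma M X⁆ : Subgroup G) : Set G) := by
  rw [f.hHM₂]; exact f.hEA.trans f.hNAA₂

end StarM

end Cfsg.Agent.H9.BG12
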