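import Mathlib
import Cfsg.Prelude.Def_OddOrderLocal
import Cfsg.Agent.Helper9.BG13Sh
import Cfsg.Agent.Helper18.BG13P5
import Cfsg.Agent.Helper18.BG13P8
import Cfsg.Agent.Helper28.BG13Star2

/-!
# B&G §13, the configuration (*): assembly of `StarCfg` (helper9)

`existsStar hG : Cfsg.Agent.Helper28.BG13S.ExistsStar G`.
-/

set_option autoImplicit false
set_option linter.unusedSectionVars false
set_option linter.unusedVariables false
set_option linter.style.haveILetI false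

namespace Cfsg.Agent.H9.BG12

open Subgroup Cfsg
open scoped commutatorElement
open Cfsg.Agent.Helper14 (IsSylowIn cj map_cj_le_iff map_cj_mul map_cj_one map_cj_normalizer
  mem_normalizer_iff_map_cj map_cj_eq_self_of_mem le_normalizer_of_map_cj_le mem_map_cj
  exists_isSylowIn_ge exists_isSylowIn isSylowIn_of_sylow)

universe u
variable {G : Type u} [Group G] [Finite G]

namespace StarE

variable {M H X E W A : Subgroup G} {p : ℕ}

/-- helper18's `β`-claim -/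
theorem hYβ (e : StarE M H p X E W A) :
    ∀ q : ℕ, q.Prime → q ∣ Nat.card ↥(centSigma M X) → q ∈ Cfsg.beta M := by
  haveI : Fact p.Prime := ⟨e.prime⟩
  intro q hq hd
  have hqp : q < p := by
    have h1 : q ∣ p - 1 := hd.trans e.Y_cyclic.2
    have h2 : 0 < p - 1 := Nat.sub_pos_of_lt e.prime.one_lt
    have := Nat.le_of_dvd h2 h1
    omega
  exact Cfsg.Agent.Helper18.BG13P5.pi_Y_subset_beta_core (bg_of_minSimple e.hG) e.hM e.hpM e.hcycM
    e.hXM e.hXp (H := normalizer (X : Set G)) e.J_le_centralizer_Y inf_le_right hq hqp hd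

/-- for `Q₀ ≤ Y` of prime order: `M` is the unique maximal subgroup containing `C_G(Q₀)` -/
theorem uniq_of_le_Y (e : StarE M H p X E W A) {Q₀ : Subgroup G} (hQ₀Y : Q₀ ≤ centSigma M X)
    {q : ℕ} (hq : q.Prime) (hQ₀ : Nat.card Q₀ = q) :
    centralizer (Q₀ : Set G) ≤ M ∧
      ∀ L : Subgroup G, IsCoatom L → centralizer (Q₀ : Set G) ≤ L → L = M := by
  haveI : Fact q.Prime := ⟨hq⟩
  have hd : q ∣ Nat.card ↥(centSigma M X) := hQ₀ ▸ Subgroup.card_dvd_of_le hQ₀Y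
  have hqβ := e.hYβ q hq hd
  have hqσ := e.mem_sigma_of_dvd_Y hq hd
  obtain ⟨P⟩ : Nonempty (Sylow q ↥(Cfsg.sigmaCore M)) := inferInstance
  exact (Cfsg.Agent.S1423.result e.hG M e.hM q hqσ Q₀ (hQ₀Y.trans e.Y_le_M) hQ₀ P (Or.inl hqβ)).1

/-- `N_G(Q) ≤ M` for `1 ≠ Q ≤ Y` -/
theorem hNQ (e : StarE M H p X E W A) :
    ∀ Q : Subgroup G, Q ≤ centSigma M X → Q ≠ ⊥ → normalizer (Q : Set G) ≤ M := by
  intro Q hQY hQ1
  have hcard : Nat.card Q ≠ 1 := fun h => hQ1 (Subgroup.card_eq_one.mp h)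
  obtain ⟨q, hq, hqd⟩ := Nat.exists_prime_and_dvd hcard
  haveI : Fact q.Prime := ⟨hq⟩
  obtain ⟨x, hx⟩ := exists_prime_orderOf_dvd_card' q hqd
  set Q₀ : Subgroup G := Subgroup.zpowers (x : G) with hQ₀
  have hxo : orderOf (x : G) = q := by rw [Subgroup.orderOf_coe]; exact hx
  have hQ₀c : Nat.card Q₀ = q := by rw [Nat.card_zpowers, hxo]
  have hQ₀Q : Q₀ ≤ Q := by rw [hQ₀, Subgroup.zpowers_le]; exact x.2
  have hQ₀1 : Q₀ ≠ ⊥ := by
    intro h
    rw [h, Subgroup.card_bot] at hQ₀c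
    exact hq.one_lt.ne hQ₀c
  obtain ⟨hC, huniq⟩ := e.uniq_of_le_Y (hQ₀Q.trans hQY) hq hQ₀c
  have hQ₀t : Q₀ ≠ ⊤ := fun h => e.hM.1 (top_le_iff.1 (h ▸ ((hQ₀Q.trans hQY).trans e.Y_le_M)))
  obtain ⟨L, hL, hNL⟩ := Cfsg.Agent.Helper21.BG10.exists_coatom_normalizer_le e.hG.2.1 hQ₀1 hQ₀t
  have hLM := huniq L hL ((centralizer_le_normalizer _).trans hNL)
  have hQc : IsCyclic ↥Q := by
    haveI := e.Y_cyclic.1
    exact isCyclic_of_injective (Subgroup.inclusion hQY) (Subgroup.inclusion_injective hQY)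
  exact (normalizer_le_normalizer_of_isCyclic hQc hQ₀Q).trans (hLM ▸ hNL)

end StarE

/-- **The configuration (*) of B&G 13.7 / 14.2(d)**: all the (*)-facts. -/
theorem existsStar (hG : Cfsg.IsMinSimpleOddOrder G) : Cfsg.Agent.Helper28.BG13S.ExistsStar G := by
  intro M H hM hH p hpF hpM hcycM X hXM hXp hY1 hNX hpH
  have hp : p.Prime := hpF.out
  have c : StarIn M H p X := ⟨hG, hM, hH, hp, hpM, hcycM, hXM, hXp, hY1, hNX, hpH⟩
  obtain ⟨E, W, A, e⟩ := c.exists_starE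
  have hA1 : A ≠ ⊥ := by
    intro h
    apply e.hX1
    rw [eq_bot_iff, ← h]; exact e.hXA
  have hAt : A ≠ ⊤ := fun h => hH.1 (top_le_iff.1 (h ▸ e.hAH))
  obtain ⟨M₂, hM₂, hNA⟩ := Cfsg.Agent.Helper21.BG10.exists_coatom_normalizer_le hG.2.1 hA1 hAt
  have f : StarM M H p X E W A M₂ := ⟨e, e.hYβ, hM₂, hNA⟩
  refine ⟨M₂, ⁅A, centSigma M X⁆, ?_⟩
  have hY1' : Nat.card ↥(centSigma M X) ≠ 1 := fun h => hY1 (Subgroup.card_eq_one.mp h)
  exact
    { hM := hM
      hH := hH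
      hM₂ := hM₂
      hXp := hXp
      hXM := hXM
      hNX := hNX
      hpM := hpM
      hcycM := hcycM
      hY := rfl
      hY1 := hY1
      hpH := hpH
      hYβ := f.hYβ
      hNQ := e.hNQ
      hMσH := f.hMσH
      hI := f.hI
      hCX := f.hCXuniq
      hpτ₂ := f.mem_tau2
      hHσnil := f.nilpotent
      hσdisj := fun r hrM hrH => f.sigma_disjoint hrM hrH
      hHσA₂ := f.hσA₂
      hHσM₂ := f.hσM₂
      hHσ1 := f.hσ1
      hEA₂ := f.hEA₂
      hA₂ := f.A₂_props.1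
      hXA₂ := f.A₂_props.2.1
      hA₂X := by
        intro a ha
        rw [mem_centralizer_iff]
        intro x hx
        have := f.hAcomm.is_comm.comm ⟨x, f.hXA hx⟩ ⟨a, f.A₂_le ha⟩
        exact congrArg (fun z : ↥A => (z : G)) this
      hYA₂ := f.hYA₂
      hYA₂f := by
        intro y hy hy1 hyc
        have : y ∈ centSigma M X ⊓ centralizer ((⁅A, centSigma M X⁆ : Subgroup G) : Set G) :=
          ⟨hy, hyc⟩
        rw [f.hYCA₂, mem_bot] at this
        exact hy1 this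
      hNA₂ := f.hNA₂
      hpσ₂ := f.mem_sigma₂
      hXM₂ := f.hXM₂
      hYM₂ := f.hYM₂
      hYσ₂ := fun q hq hd => f.not_mem_sigma₂ hq hd
      hcyc₂ := by
        intro q hq hd
        haveI : Fact q.Prime := ⟨hq⟩
        obtain ⟨x, hx⟩ := exists_prime_orderOf_dvd_card' q hd
        set Q₀ : Subgroup G := Subgroup.zpowers (x : G) with hQ₀
        have hxo : orderOf (x : G) = q := by rw [Subgroup.orderOf_coe]; exact hx
        have hQ₀c : Nat.card Q₀ = q := by rw [Nat.card_zpowers, hxo]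
        have hQ₀Y : Q₀ ≤ centSigma M X := by rw [hQ₀, Subgroup.zpowers_le]; exact x.2
        exact Cfsg.Agent.Helper18.BG13P8.isCyclic_of_centralizer_le (bg_of_minSimple hG)
          (st1417' hG) hM hM₂ (fun h => f.not_conj₂ 1 (by rw [map_cj_one]; exact h.symm))
          (f.not_mem_sigma₂ hq hd) hQ₀c (hQ₀Y.trans f.hYM₂) (e.uniq_of_le_Y hQ₀Y hq hQ₀c).1
          f.hX1 f.hXσ₂ hXM
      hPna := by
        obtain ⟨P, hP, hPσ, hAP, hYP⟩ := f.exists_P
        exact ⟨P, hP.2.1, f.P_nonabelian hP hPσ hAP hYP, hPσ.trans (sigmaCore_le M₂)⟩ }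

end Cfsg.Agent.H9.BG12
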