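import Mathlib
import Cfsg.Agent.Helper10.BG13P
import Cfsg.Agent.Helper10.BG13M
import Cfsg.Agent.Helper4.BG13E2
import Cfsg.Agent.Helper21.BG13c
import Cfsg.Agent.Helper21.BG12f
import Cfsg.Agent.Helper21.BG10b
import Cfsg.Agent.Helper23.FrobFixA
import Cfsg.Agent.Helper28.BG13T1
import Cfsg.Agent.Lead.BG142d
import Cfsg.Agent.Lead.CoprimeAbelian
import Cfsg.Agent.Lead.PiHall
import Cfsg.Agent.S1415
import Cfsg.Agent.S1427
import Cfsg.Agent.S1428

/-!
# Final assembly of `Tau3` (B&G 13.8–13.12) from `NoPair` and the basic facts of setting T3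

`tau3_of hG hF hNP : Lead.BG142.Tau3 G`, where `hF : T3F G` are the facts (F1)–(F3) of the setting
T3 (helper4) and `hNP : NoPair G` (helper10).
-/

set_option autoImplicit false
set_option linter.style.haveILetI false

namespace Cfsg.Agent.H9.BG12

open Subgroup
open Cfsg.Agent.Helper14 (cj)

universe u

variable {G : Type u} [Group G] [Finite G]

/-- a prime divisor of `|H|` outside `σ(H)` lies in `τ₁ ∪ τ₂ ∪ τ₃` -/
theorem mem_tau_cases (hG : Cfsg.IsMinSimpleOddOrder G) {H : Subgroup G} (hH : IsCoatom H)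
    {s : ℕ} (hs : s.Prime) (hsH : s ∣ Nat.card H) (hsσ : s ∉ Cfsg.sigma H) :
    s ∈ Cfsg.tau1 H ∨ s ∈ Cfsg.tau2 H ∨ s ∈ Cfsg.tau3 H := by
  haveI : Fact s.Prime := ⟨hs⟩
  have hr2 : Cfsg.PRankLE s 2 H :=
    Cfsg.Agent.Helper4.BG10.sigma'_pRankLE_two hG (Cfsg.Agent.Helper21.BG12.uniq hG) hH hsσ
  by_cases hr1 : Cfsg.PRankLE s 1 H
  · by_cases hd : s ∣ Nat.card ↥⁅H, H⁆
    · exact Or.inr (Or.inr ⟨hs, hsσ, hd, hr1⟩)
    · exact Or.inl ⟨hs, hsσ, hsH, hd, hr1⟩
  · exact Or.inr (Or.inl ⟨hs, hsσ, hr2, hr1⟩)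

/-- **(N4c)**: a subgroup `R` of prime order `s ∉ σ(M)` of `M ∩ H` that does not centralize
`M_σ ∩ H` has `s ∈ τ₁(H)`. -/
theorem mem_tau1_of_not_centralizes (hG : Cfsg.IsMinSimpleOddOrder G) {M H : Subgroup G}
    (hM : IsCoatom M) (hH : IsCoatom H) (hnc : ∀ g : G, H ≠ M.map (cj g)) {s : ℕ}
    (hs : s.Prime) (hsM : s ∉ Cfsg.sigma M) {R : Subgroup G} (hRc : Nat.card R = s)
    (hRM : R ≤ M) (hRH : R ≤ H)
    (h : ¬ Cfsg.sigmaCore M ⊓ H ≤ centralizer (R : Set G)) : s ∈ Cfsg.tau1 H := by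
  haveI : Fact s.Prime := ⟨hs⟩
  have hsH : s ∣ Nat.card H := by
    have := Subgroup.card_dvd_of_le hRH
    rwa [hRc] at this
  have hRp : IsPGroup s R := IsPGroup.of_card (n := 1) (by rw [hRc, pow_one])
  by_cases hσ : s ∈ Cfsg.sigma H
  · exact absurd (Cfsg.Agent.Helper21.BG13.lemma_13_1_a hG hM hH hnc hsM (Or.inl hσ) hRp hRM hRH) h
  rcases mem_tau_cases hG hH hs hsH hσ with h1 | h2 | h3
  · exact h1
  · exact absurd (Cfsg.Agent.Helper21.BG13.lemma_13_1_tau2 hG hM hH hnc hsM h2 hRc hRM hRH) h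
  · exact absurd (Cfsg.Agent.Helper21.BG13.lemma_13_1_a hG hM hH hnc hsM (Or.inr h3) hRp hRM hRH) h

/-- The basic facts (F1)–(F3) of setting T3, as a hypothesis. -/
def T3F (G : Type u) [Group G] : Prop :=
  ∀ M : Subgroup G, IsCoatom M → ∀ E : Subgroup G, Cfsg.IsComplIn E (Cfsg.sigmaCore M) M →
    ∀ p : ℕ, p ∈ Cfsg.tau3 M → p ∈ Cfsg.kappa M → ∀ X : Subgroup G, X ≤ E → Nat.card X = p →
    (∀ q : ℕ, q.Prime → q ∉ Cfsg.sigma M → Cfsg.PRankLE q 1 M) ∧
    (∀ H : Subgroup G, IsCoatom H → normalizer (X : Set G) ≤ H →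
      p ∈ Cfsg.sigma H ∧ (∀ g : G, H ≠ M.map (cj g)) ∧
      Cfsg.sigmaCore M ⊓ H = Cfsg.sigmaCore M ⊓ centralizer (X : Set G) ∧ E ≤ H) ∧
    (∀ E₃ : Subgroup G, Cfsg.IsPiHallOf (Cfsg.tau3 M) E₃ E → ∀ e ∈ E₃, e ≠ 1 →
      Cfsg.sigmaCore M ⊓ centralizer ({e} : Set G) = Cfsg.sigmaCore M ⊓ centralizer (X : Set G))


/-- a complement of `H_σ` in `H` containing a given `σ(H)'`-subgroup -/
theorem exists_compl_ge_of_sigma' (hG : Cfsg.IsMinSimpleOddOrder G) {H K : Subgroup G}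
    (hH : IsCoatom H) (hKH : K ≤ H)
    (hK : ∀ q : ℕ, q.Prime → q ∣ Nat.card K → q ∉ Cfsg.sigma H) :
    ∃ E : Subgroup G, Cfsg.IsComplIn E (Cfsg.sigmaCore H) H ∧ K ≤ E := by
  apply Cfsg.Agent.Helper21.BG12.exists_complIn_sigmaCore_ge hG hH hKH
  have hcop : (Nat.card K).Coprime (Nat.card (Cfsg.sigmaCore H)) := by
    apply Nat.coprime_of_dvd
    intro q hq hqK hqσ
    exact hK q hq hqK (mem_sigma_of_dvd_card_sigmaCore hq hqσ)
  exact disjoint_iff.mp (Subgroup.disjoint_of_coprime_natCard hcop)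

/-- a subgroup of prime order `s` is generated by any of its non-identity elements; its
centralizer is the centralizer of that element -/
theorem centralizer_eq_of_card_prime {R : Subgroup G} (hR : (Nat.card R).Prime) {x : G}
    (hx : x ∈ R) (hx1 : x ≠ 1) : centralizer (R : Set G) = centralizer ({x} : Set G) := by
  have hz : Subgroup.zpowers x = R := by
    have hle : Subgroup.zpowers x ≤ R := Subgroup.zpowers_le.mpr hx
    apply Subgroup.eq_of_le_of_card_ge hle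
    have hd : Nat.card (Subgroup.zpowers x) ∣ Nat.card R := Subgroup.card_dvd_of_le hle
    rcases (Nat.dvd_prime hR).mp hd with h | h
    · exfalso
      rw [Nat.card_zpowers] at h
      exact hx1 (orderOf_eq_one_iff.mp h)
    · rw [h]
  rw [← hz]
  exact Cfsg.Agent.Helper10.BG13M.centralizer_zpowers_eq x


/-- **Final assembly of `Tau3`** from the facts (F1)–(F3) of setting T3 and `NoPair`. -/
theorem tau3_of (hG : Cfsg.IsMinSimpleOddOrder G) (hF : T3F G)
    (hNP : Cfsg.Agent.Helper10.BG13P.NoPair G) : Cfsg.Agent.Lead.BG142.Tau3 G := by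
  intro M hM E hE p hp3 hpκ
  have hp : p.Prime := hp3.1
  haveI : Fact p.Prime := ⟨hp⟩
  have h1350 := Cfsg.Agent.Helper21.BG12.st1350 hG
  have hEhall := isPiHallOf_compl h1350 hM hE
  have hEM : E ≤ M := hE.1
  have hEsolv : Group.IsSolvable ↥E := solvable_of_le_coatom hG hM hEM
  have hS : IsSimpleGroup G := hG.2.1
  -- `p ∣ |E|`
  have hpM : p ∣ Nat.card M :=
    hp3.2.2.1.trans (Subgroup.card_dvd_of_le (Subgroup.commutator_le_self M))
  have hpE : p ∣ Nat.card E := by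
    have h1 := Cfsg.Agent.Lead.relIndex_mul_card' hEM
    rw [← h1] at hpM
    rcases (Nat.Prime.dvd_mul hp).mp hpM with h | h
    · exact absurd h (hEhall.2.2 p hp hp3.2.1)
    · exact h
  have hprime_sub : ∀ {R : Subgroup G}, (Nat.card R).Prime → R ≠ ⊥ := by
    intro R hR h
    rw [h, Subgroup.card_bot] at hR
    exact Nat.not_prime_one hR
  refine ⟨?_, ?_⟩
  · obtain ⟨x, hxE, hxo⟩ := Cfsg.Agent.Lead.BG142.exists_mem_orderOf_eq hp hpE
    have hX0E : Subgroup.zpowers x ≤ E := Subgroup.zpowers_le.mpr hxE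
    have hX0p : Nat.card (Subgroup.zpowers x) = p := by rw [Nat.card_zpowers, hxo]
    exact (hF M hM E hE p hp3 hpκ _ hX0E hX0p).1
  intro X hXE hXp R hRE hRp
  obtain ⟨hF1, hF2, hF3⟩ := hF M hM E hE p hp3 hpκ X hXE hXp
  obtain ⟨s, hsdef⟩ : ∃ s : ℕ, Nat.card R = s := ⟨_, rfl⟩
  have hs : s.Prime := hsdef ▸ hRp
  haveI : Fact s.Prime := ⟨hs⟩
  have hsE : s ∣ Nat.card E := hsdef ▸ Subgroup.card_dvd_of_le hRE
  have hXprime : (Nat.card X).Prime := hXp.symm ▸ hp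
  have hX1 : X ≠ ⊥ := hprime_sub hXprime
  have hR1 : R ≠ ⊥ := hprime_sub hRp
  -- Hall subgroups
  have hXnum : Cfsg.Agent.Lead.IsPiNum (Cfsg.tau3 M) (Nat.card X) := by
    intro q hq hqd
    rw [hXp] at hqd
    rw [(Nat.prime_dvd_prime_iff_eq hq hp).mp hqd]; exact hp3
  obtain ⟨E3, hE3, hXE3⟩ := Cfsg.Agent.Lead.exists_isPiHallOf_ge hEsolv hXE hXnum
  obtain ⟨-, h1cyc, h3⟩ := Cfsg.Agent.S1415.result hG M hM E hE
  obtain ⟨hE3c, hE3le, hE3n⟩ := h3 E3 hE3
  have hτ2 : ∀ q : ℕ, q.Prime → q ∣ Nat.card E → q ∉ Cfsg.tau2 M :=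
    fun q hq _ h2 => h2.2.2.2 (hF1 q hq h2.2.1)
  have hRpg : IsPGroup s R := IsPGroup.of_card (n := 1) (by rw [hsdef, pow_one])
  have horder : ∀ u ∈ R, u ≠ 1 → orderOf u = s := by
    intro u hu hu1
    have h1 : orderOf u ∣ s := by
      have := orderOf_dvd_natCard (⟨u, hu⟩ : ↥R)
      rwa [Subgroup.orderOf_mk, hsdef] at this
    rcases (Nat.dvd_prime hs).mp h1 with h | h
    · exact absurd (orderOf_eq_one_iff.mp h) hu1
    · exact h
  obtain ⟨x, hxR, hx1⟩ : ∃ x ∈ R, x ≠ 1 := by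
    by_contra hcon
    push Not at hcon
    exact hR1 ((Subgroup.eq_bot_iff_forall R).mpr hcon)
  have hCR : centralizer (R : Set G) = centralizer ({x} : Set G) :=
    centralizer_eq_of_card_prime hRp hxR hx1
  rcases Cfsg.Agent.Helper4.BG13E.mem_tau_of_dvd_card_compl hG hM hE hs hsE with h1 | h2 | h3'
  · -- `s ∈ τ₁(M)`
    have hRnum : Cfsg.Agent.Lead.IsPiNum (Cfsg.tau1 M) (Nat.card R) := by
      intro q hq hqd
      rw [hsdef] at hqd
      rw [(Nat.prime_dvd_prime_iff_eq hq hs).mp hqd]; exact h1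
    obtain ⟨E1, hE1, hRE1⟩ := Cfsg.Agent.Lead.exists_isPiHallOf_ge hEsolv hRE hRnum
    have hE1c : IsCyclic ↥E1 := h1cyc E1 hE1
    have hab1 := Cfsg.Agent.Helper4.BG13E.comm_of_isCyclic' hE1c
    have hab3 := Cfsg.Agent.Helper4.BG13E.comm_of_isCyclic' hE3c
    obtain ⟨hsup, hbot, -, -⟩ :=
      Cfsg.Agent.Helper4.BG13E.centralizer_tau1_hall hG hM hE hE1 hE3 hτ2
    -- `NoPair`
    have hpair : ∀ R' T0 : Subgroup G, R' ≤ E1 → T0 ≤ E3 → (Nat.card R').Prime →
        (Nat.card T0).Prime → R' ≤ centralizer (T0 : Set G) :=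
      fun R' T0 h1' h2' h3'' h4' => hNP M hM E hE p hp3 hpκ E1 E3 hE1 hE3 R' T0 h1' h2' h3'' h4'
    have hRX : R ≤ centralizer (X : Set G) := hpair R X hRE1 hXE3 hRp hXprime
    -- `R` centralizes `E₃`
    haveI : IsMulCommutative ↥E3 := ⟨⟨fun a b => Subtype.ext (hab3 a a.2 b b.2)⟩⟩
    have hcop : (Nat.card R).Coprime (Nat.card E3) := by
      rw [hsdef]
      apply (Nat.Prime.coprime_iff_not_dvd hs).mpr
      intro hd
      exact h1.2.2.2.1 (hE3.2.1 s hs hd).2.2.1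
    have hRcE3 : R ≤ centralizer (E3 : Set G) := by
      apply Cfsg.Agent.Lead.coprime_abelian_centralizes_of_prime_order R E3
        ((hRE.trans hE3n)) hcop
      intro v hv hvo a ha
      have hT0 : Subgroup.zpowers v ≤ E3 := Subgroup.zpowers_le.mpr hv
      have hT0c : (Nat.card (Subgroup.zpowers v)).Prime := by rw [Nat.card_zpowers]; exact hvo
      have := hpair R (Subgroup.zpowers v) hRE1 hT0 hRp hT0c ha
      exact (Subgroup.mem_centralizer_iff.mp this v (Subgroup.mem_zpowers v)).symm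
    have hE3cR : E3 ≤ centralizer (R : Set G) := Subgroup.le_centralizer_iff.mp hRcE3
    have hE1cR : E1 ≤ centralizer (R : Set G) :=
      Cfsg.Agent.Lead.BG142.le_centralizer_of_comm hRE1 hab1
    refine ⟨?_, ?_⟩
    · rw [← hsup]
      exact sup_le (hE3cR.trans (Subgroup.centralizer_le_normalizer _))
        (hE1cR.trans (Subgroup.centralizer_le_normalizer _))
    -- the centralizers
    have hXcR : X ≤ centralizer (R : Set G) := hXE3.trans hE3cR
    apply le_antisymm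
    · exact Cfsg.Agent.S1428.result hG M hM E hE s h1 R hRE hsdef X (le_inf hXE hXcR) hXprime
    -- `Y₀ ≤ C(R)`
    refine le_inf inf_le_left ?_
    by_contra hcon
    have hXt : X ≠ ⊤ := fun h => hM.1 (top_le_iff.mp (h ▸ hXE.trans hEM))
    obtain ⟨H, hH, hNH⟩ := Cfsg.Agent.Helper21.BG10.exists_coatom_normalizer_le hS hX1 hXt
    obtain ⟨hpH, hnc, hYH, hEH⟩ := hF2 H hH hNH
    -- all subgroups of prime order of `E₁` have the same centralizer in `M_σ`
    have hτ1E1 : ∀ q : ℕ, q.Prime → q ∣ Nat.card E1 → q ∈ Cfsg.tau1 M := hE1.2.1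
    have hcomM : ∀ R₁ R₂ : Subgroup G, R₁ ≤ E1 → R₂ ≤ E1 → (Nat.card R₁).Prime →
        (Nat.card R₂).Prime → Cfsg.sigmaCore M ⊓ centralizer (R₁ : Set G) ≤
          Cfsg.sigmaCore M ⊓ centralizer (R₂ : Set G) := by
      intro R₁ R₂ h1' h2' h3'' h4'
      exact Cfsg.Agent.S1428.result hG M hM E hE _
        (hτ1E1 _ h3'' (Subgroup.card_dvd_of_le h1')) R₁ (h1'.trans hE1.1) rfl R₂
        (le_inf (h2'.trans hE1.1) (Cfsg.Agent.Lead.BG142.le_centralizer_of_comm h1' hab1 |>.trans'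
          h2')) h4'
    -- the primes of `E₁` are in `τ₁(H)`
    have hτ1H : ∀ q : ℕ, q.Prime → q ∣ Nat.card E1 → q ∈ Cfsg.tau1 H := by
      intro q hq hqd
      obtain ⟨c, hcE1, hco⟩ := Cfsg.Agent.Lead.BG142.exists_mem_orderOf_eq hq hqd
      have hR'E1 : Subgroup.zpowers c ≤ E1 := Subgroup.zpowers_le.mpr hcE1
      have hR'c : Nat.card (Subgroup.zpowers c) = q := by rw [Nat.card_zpowers, hco]
      have hqσ : q ∉ Cfsg.sigma M := (hτ1E1 q hq hqd).2.1
      apply mem_tau1_of_not_centralizes hG hM hH hnc hq hqσ hR'c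
        (hR'E1.trans (hE1.1.trans hEM)) (hR'E1.trans (hE1.1.trans hEH))
      intro hle
      apply hcon
      intro y hy
      have hy' : y ∈ Cfsg.sigmaCore M ⊓ H := by rw [hYH]; exact hy
      have h1' : y ∈ Cfsg.sigmaCore M ⊓
          centralizer ((Subgroup.zpowers c : Subgroup G) : Set G) :=
        Subgroup.mem_inf.mpr ⟨hy.1, hle hy'⟩
      exact (hcomM _ R hR'E1 hRE1 (hR'c.symm ▸ hq) hRp h1').2
    -- a complement of `H_σ` containing `E₁`
    obtain ⟨EH, hEHc, hE1EH⟩ := exists_compl_ge_of_sigma' hG hH (hE1.1.trans hEH)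
      (fun q hq hqd => (hτ1H q hq hqd).2.1)
    have h1427 : Cfsg.Agent.Lead.BG142.St1427 G :=
      fun M hM E hE p _ S hS1 hSc => Cfsg.Agent.S1427.result hG M hM E hE p S hS1 hSc
    have hsemi := Cfsg.Agent.Lead.BG142.semiprime_of_prime hG h1427 hH hEHc hE1EH
      (fun q hq hqd => (hτ1H q hq hqd).2.2.2.2)
      (by
        intro R₁ R₂ h1' h2' h3'' h4'
        exact Cfsg.Agent.S1428.result hG H hH EH hEHc _
          (hτ1H _ h3'' (Subgroup.card_dvd_of_le h1')) R₁ (h1'.trans hE1EH) rfl R₂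
          (le_inf (h2'.trans hE1EH)
            (Cfsg.Agent.Lead.BG142.le_centralizer_of_comm h1' hab1 |>.trans' h2')) h4')
    have hXσH : X ≤ Cfsg.sigmaCore H :=
      le_sigmaCore_of_isPGroup h1350 hH hpH (hXE.trans hEH)
        (IsPGroup.of_card (n := 1) (by rw [hXp, pow_one]))
    have hXle : X ≤ centralizer (E1 : Set G) := by
      intro z hz
      have h1' : z ∈ Cfsg.sigmaCore H ⊓ centralizer ({x} : Set G) := by
        refine Subgroup.mem_inf.mpr ⟨hXσH hz, ?_⟩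
        rw [← hCR]
        exact hXcR hz
      rw [hsemi x (hRE1 hxR) hx1] at h1'
      exact h1'.2
    have hfin : X ≤ E3 ⊓ centralizer (E1 : Set G) := le_inf hXE3 hXle
    rw [hbot] at hfin
    exact hX1 (le_bot_iff.mp hfin)
  · exact absurd h2 (hτ2 s hs hsE)
  · -- `s ∈ τ₃(M)`
    have hRE3 : R ≤ E3 := by
      apply le_of_coprime_card_relIndex hRE hE3.1 hE3n
      rw [hsdef]
      exact (Nat.Prime.coprime_iff_not_dvd hs).mpr (hE3.2.2 s hs h3')
    haveI : IsCyclic ↥E3 := hE3c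
    refine ⟨?_, ?_⟩
    · apply Cfsg.Agent.Helper28.BG13T1.le_normalizer_of_conj
      intro e he u hu
      by_cases hu1 : u = 1
      · rw [hu1]; simp
      have hmem : e * u * e⁻¹ ∈ E3 := (mem_normalizer_iff.mp (hE3n he) u).mp (hRE3 hu)
      have hord : orderOf (e * u * e⁻¹) = s := by
        have hc : orderOf (e * u * e⁻¹) = orderOf u := by
          have h := orderOf_injective (MulAut.conj e).toMonoidHom (MulAut.conj e).injective u
          simpa using h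
        rw [hc]
        exact horder u hu hu1
      exact Cfsg.Agent.Helper23.FrobFix.mem_of_le_cyclic E3 R s hRE3 hRpg hR1 _ hmem hord
    · rw [hCR]
      exact hF3 E3 hE3 x (hRE3 hxR) hx1

end Cfsg.Agent.H9.BG12
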