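import Mathlib
import Cfsg.Agent.Helper9.BG13Ta
import Cfsg.Agent.Helper4.BG13T3
import Cfsg.Agent.Helper10.BG13Q

/-!
# Adapters for the final assembly of `Tau3`

`t3f hG : T3F G`, `t3Basics hG : Helper10.BG13Q.T3Basics G` (from helper4's `Helper4.BG13T3`),
`f5b hG : Helper10.BG13Q.F5b G`.
-/

set_option autoImplicit false
set_option linter.style.haveILetI false

namespace Cfsg.Agent.H9.BG12

open Subgroup
open Cfsg.Agent.Helper14 (cj)

universe u

variable {G : Type u} [Group G] [Finite G]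

/-- helper4's F1–F3 in the shape consumed by `tau3_of` -/
theorem t3f (hG : Cfsg.IsMinSimpleOddOrder G) : T3F G := by
  intro M hM E hE p hp3 hpκ X hXE hXp
  have c : Cfsg.Agent.Helper4.BG13T3.T3 M E X p := ⟨hM, hE, hp3, hpκ, hXE, hXp⟩
  refine ⟨c.tau2_free hG, ?_, ?_⟩
  · intro H hH hNH
    exact ⟨c.mem_sigma hG hH hNH, c.not_conj hG hH hNH, c.sigmaCore_inf hG hH hNH, c.E_le hG hNH⟩
  · intro E₃ hE₃
    exact (c.centralizer_singleton_eq hG hE₃).1

/-- helper4's F1–F4 in the shape consumed by helper10's `noPair_of` -/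
theorem t3Basics (hG : Cfsg.IsMinSimpleOddOrder G) : Cfsg.Agent.Helper10.BG13Q.T3Basics G := by
  intro M E X E3 E1 p hM hE hp3 hpκ hXE hXp hE3 hE1
  have c : Cfsg.Agent.Helper4.BG13T3.T3 M E X p := ⟨hM, hE, hp3, hpκ, hXE, hXp⟩
  refine ⟨c.tau2_free hG, c.le_E3 hG hE3, c.le_normalizer hG, ?_,
    (c.centralizer_singleton_eq hG hE3).1,
    Cfsg.Agent.Helper4.BG13T3.prime_action_tau1 hG hM hE hE1⟩
  intro H hH hNH
  exact ⟨c.mem_sigma hG hH hNH, c.not_conj hG hH hNH, c.sigmaCore_inf hG hH hNH, c.E_le hG hNH⟩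

/-- (N4c) in the shape consumed by helper10's `noPair_of` -/
theorem f5b (hG : Cfsg.IsMinSimpleOddOrder G) : Cfsg.Agent.Helper10.BG13Q.F5b G := by
  intro M H Y R hM hH hnc hY hR hRp hRσ hne
  apply mem_tau1_of_not_centralizes hG hM hH hnc hRp hRσ rfl (hR.trans inf_le_left)
    (hR.trans inf_le_right)
  intro hle
  apply hne
  rw [Subgroup.le_centralizer_iff]
  exact hY.trans hle

end Cfsg.Agent.H9.BG12
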