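import Mathlib
import Cfsg.Agent.Helper9.PGroupCent
import Cfsg.Agent.Helper9.NormalSeries

set_option autoImplicit false

namespace Cfsg.Agent.Helper9

open Subgroup
open scoped commutatorElement

universe u

/-- A `p`-group with a self-centralizing subgroup of order `p^2` is of maximal class
(inductive form). -/
theorem nilpotencyClass_of_self_centralizing_sq_aux (p : ℕ) [Fact p.Prime] :
    ∀ (n : ℕ) (X : Type u) [Group X] [Finite X], Nat.card X = p ^ n →
    ∀ A : Subgroup X, Nat.card A = p ^ 2 → Subgroup.centralizer (A : Set X) = A →
    Group.nilpotencyClass X = n - 1 := by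
  intro n
  induction n with
  | zero =>
    intro X _ _ hX A hA hC
    exfalso
    have hp : p.Prime := Fact.out
    have := Subgroup.card_subgroup_dvd_card A
    rw [hA, hX, pow_zero, Nat.dvd_one] at this
    have h2 : 1 < p ^ 2 := Nat.one_lt_pow (by norm_num) hp.one_lt
    omega
  | succ n ih =>
    intro X _ _ hX A hA hC
    have hp : p.Prime := Fact.out
    have hPG : IsPGroup p X := IsPGroup.of_card hX
    have hnil : Group.IsNilpotent X := hPG.isNilpotent
    have hnt : Nontrivial X := by
      rw [← Finite.one_lt_card_iff_nontrivial, hX]
      exact Nat.one_lt_pow (Nat.succ_ne_zero n) hp.one_lt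
    by_cases hAtop : A = ⊤
    · subst hAtop
      have hcen : Subgroup.center X = ⊤ := by
        rw [← hC, Subgroup.coe_top, Subgroup.centralizer_univ]
      have hn : n + 1 = 2 := by
        have : Nat.card X = p ^ 2 := by rw [← hA]; exact (Subgroup.card_top).symm
        rw [hX] at this
        exact Nat.pow_right_injective hp.two_le this
      have h1 : Group.nilpotencyClass X ≤ 1 :=
        Subgroup.upperCentralSeries_eq_top_iff_nilpotencyClass_le.mp
          (by rw [Subgroup.upperCentralSeries_one]; exact hcen)
      have h0 : Group.nilpotencyClass X ≠ 0 := by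
        rw [Ne, Group.nilpotencyClass_zero_iff_subsingleton]
        exact not_subsingleton X
      omega
    · -- the general case
      have hZA : Subgroup.center X ≤ A := by
        intro z hz
        rw [← hC]
        intro a _
        exact (Subgroup.mem_center_iff.mp hz a)
      have hZne : Subgroup.center X ≠ ⊥ :=
        (Subgroup.nontrivial_iff_ne_bot _).mp hPG.center_nontrivial
      have hZneA : Subgroup.center X ≠ A := by
        intro h
        apply hAtop
        rw [eq_top_iff]
        intro x _
        rw [← hC]
        intro a ha
        rw [SetLike.mem_coe, ← h] at ha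
        exact ((Subgroup.mem_center_iff.mp ha) x).symm
      have hZcard : Nat.card (Subgroup.center X) = p := by
        obtain ⟨i, hi⟩ := IsPGroup.iff_card.mp (hPG.to_subgroup (Subgroup.center X))
        have hdvd := Subgroup.card_dvd_of_le hZA
        rw [hi, hA] at hdvd
        have hi2 : i ≤ 2 := (Nat.pow_dvd_pow_iff_le_right hp.one_lt).mp hdvd
        have hi0 : i ≠ 0 := by
          rintro rfl
          rw [pow_zero] at hi
          exact hZne ((Subgroup.card_eq_one).mp hi)
        have hi2' : i ≠ 2 := by
          rintro rfl
          exact hZneA (Subgroup.eq_of_le_of_card_ge hZA (by rw [hi, hA]))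
        have : i = 1 := by omega
        rw [hi, this, pow_one]
      obtain ⟨a, haA, haZ⟩ : ∃ a ∈ A, a ∉ Subgroup.center X := by
        by_contra h
        push Not at h
        exact hZneA (le_antisymm hZA h)
      have hcardq : Nat.card (X ⧸ Subgroup.center X) = p ^ n := by
        have := Subgroup.card_eq_card_quotient_mul_card_subgroup (Subgroup.center X)
        rw [hX, hZcard, pow_succ] at this
        exact (Nat.eq_of_mul_eq_mul_right hp.pos this).symm
      have hPGq : IsPGroup p (X ⧸ Subgroup.center X) := IsPGroup.of_card hcardq
      have hn2 : 2 ≤ n := by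
        by_contra hn2
        push Not at hn2
        apply hAtop
        apply Subgroup.eq_top_of_le_card
        rw [hX, hA]
        exact Nat.pow_le_pow_right hp.pos (by omega)
      -- the centralizer of the image of `a`
      have hM : ∀ x : X, (QuotientGroup.mk' (Subgroup.center X)) x ∈
          Subgroup.centralizer ({(QuotientGroup.mk' (Subgroup.center X)) a} :
            Set (X ⧸ Subgroup.center X)) ↔ ⁅x, a⁆ ∈ Subgroup.center X := by
        intro x
        rw [Subgroup.mem_centralizer_singleton_iff, ← QuotientGroup.eq_one_iff,
          ← QuotientGroup.mk'_apply, map_commutatorElement, commutatorElement_eq_one_iff_commute]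
        exact Iff.rfl
      have haq : (QuotientGroup.mk' (Subgroup.center X)) a ≠ 1 := by
        intro h
        exact haZ ((QuotientGroup.eq_one_iff a).mp h)
      -- upper bound for the order
      have hBle : Nat.card (Subgroup.centralizer ({(QuotientGroup.mk' (Subgroup.center X)) a} :
            Set (X ⧸ Subgroup.center X))) ≤ p ^ 2 := by
        have hMc := card_comap_mk' (Subgroup.center X)
          (Subgroup.centralizer ({(QuotientGroup.mk' (Subgroup.center X)) a} :
            Set (X ⧸ Subgroup.center X)))
        rw [hZcard] at hMc
        have hmem : ∀ x : (Subgroup.centralizer ({(QuotientGroup.mk' (Subgroup.center X)) a} :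
            Set (X ⧸ Subgroup.center X))).comap (QuotientGroup.mk' (Subgroup.center X)),
            ⁅(x : X), a⁆ ∈ Subgroup.center X := fun x => (hM x).mp x.2
        let f : ((Subgroup.centralizer ({(QuotientGroup.mk' (Subgroup.center X)) a} :
            Set (X ⧸ Subgroup.center X))).comap (QuotientGroup.mk' (Subgroup.center X))) →* X :=
          { toFun := fun x => ⁅(x : X), a⁆
            map_one' := by simp
            map_mul' := by
              intro x y
              have hx := hmem x
              have hy := hmem y
              show ⁅(x : X) * (y : X), a⁆ = ⁅(x : X), a⁆ * ⁅(y : X), a⁆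
              have e1 : ⁅(x : X) * (y : X), a⁆ = (x : X) * ⁅(y : X), a⁆ * (x : X)⁻¹ * ⁅(x : X), a⁆ := by
                simp only [commutatorElement_def]; group
              have e2 : (x : X) * ⁅(y : X), a⁆ * (x : X)⁻¹ = ⁅(y : X), a⁆ := by
                rw [Subgroup.mem_center_iff.mp hy (x : X), mul_assoc, mul_inv_cancel, mul_one]
              rw [e1, e2]
              exact (Subgroup.mem_center_iff.mp hy _).symm }
        have h2 := Subgroup.card_mul_index f.ker
        rw [Subgroup.index_ker] at h2
        have h3 : Nat.card f.range ≤ p := by
          rw [← hZcard]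
          apply Subgroup.card_le_of_le
          rintro _ ⟨x, rfl⟩
          exact hmem x
        have h4 : Nat.card f.ker ≤ p ^ 2 := by
          rw [← hA, ← Subgroup.card_map_of_injective (Subgroup.subtype_injective _) (K := f.ker)]
          apply Subgroup.card_le_of_le
          rintro _ ⟨x, hx, rfl⟩
          have hxa : ⁅(x : X), a⁆ = 1 := MonoidHom.mem_ker.mp hx
          rw [commutatorElement_eq_one_iff_commute] at hxa
          -- `x` centralizes `A`
          have hD : A ⊓ Subgroup.centralizer ({(x : X)} : Set X) = A := by
            apply eq_of_lt_of_card_pow hp 1 (B₀ := Subgroup.center X) _ inf_le_left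
              (by rw [hZcard, pow_one]) hA
            refine lt_of_le_of_ne (le_inf hZA (Subgroup.center_le_centralizer _)) ?_
            intro h
            apply haZ
            rw [h]
            exact ⟨haA, Subgroup.mem_centralizer_singleton_iff.mpr hxa.symm.eq⟩
          rw [Subgroup.subtype_apply, ← hC]
          intro b hb
          have hb' : b ∈ A ⊓ Subgroup.centralizer ({(x : X)} : Set X) := by rw [hD]; exact hb
          exact (Subgroup.mem_centralizer_singleton_iff.mp hb'.2)
        have h5 : Nat.card (Subgroup.centralizer ({(QuotientGroup.mk' (Subgroup.center X)) a} :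
            Set (X ⧸ Subgroup.center X))) * p ≤ p ^ 2 * p := by
          rw [← hMc, ← h2]
          exact Nat.mul_le_mul h4 h3
        exact Nat.le_of_mul_le_mul_right h5 hp.pos
      -- lower bound for the order
      have hBge : p ^ 2 ≤ Nat.card (Subgroup.centralizer ({(QuotientGroup.mk' (Subgroup.center X)) a} :
            Set (X ⧸ Subgroup.center X))) := by
        obtain ⟨j, hj⟩ := IsPGroup.iff_card.mp (hPGq.to_subgroup
          (Subgroup.centralizer ({(QuotientGroup.mk' (Subgroup.center X)) a} :
            Set (X ⧸ Subgroup.center X))))
        rw [hj]
        apply Nat.pow_le_pow_right hp.pos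
        by_contra hj2
        push Not at hj2
        have hntq : Nontrivial (X ⧸ Subgroup.center X) := by
          rw [← Finite.one_lt_card_iff_nontrivial, hcardq]
          exact Nat.one_lt_pow (by omega) hp.one_lt
        have hZq_ne : Subgroup.center (X ⧸ Subgroup.center X) ≠ ⊥ :=
          (Subgroup.nontrivial_iff_ne_bot _).mp hPGq.center_nontrivial
        have hZq_le : Subgroup.center (X ⧸ Subgroup.center X) ≤
            Subgroup.centralizer ({(QuotientGroup.mk' (Subgroup.center X)) a} :
              Set (X ⧸ Subgroup.center X)) := Subgroup.center_le_centralizer _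
        obtain ⟨i, hi⟩ := IsPGroup.iff_card.mp (hPGq.to_subgroup
          (Subgroup.center (X ⧸ Subgroup.center X)))
        have hi0 : i ≠ 0 := by
          rintro rfl
          rw [pow_zero] at hi
          exact hZq_ne ((Subgroup.card_eq_one).mp hi)
        have hdvd := Subgroup.card_dvd_of_le hZq_le
        rw [hi, hj] at hdvd
        have hij : i ≤ j := (Nat.pow_dvd_pow_iff_le_right hp.one_lt).mp hdvd
        have hij' : i = j := by omega
        have heq : Subgroup.center (X ⧸ Subgroup.center X) =
            Subgroup.centralizer ({(QuotientGroup.mk' (Subgroup.center X)) a} :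
              Set (X ⧸ Subgroup.center X)) :=
          Subgroup.eq_of_le_of_card_ge hZq_le (by rw [hi, hj, hij'])
        have hac : (QuotientGroup.mk' (Subgroup.center X)) a ∈
            Subgroup.center (X ⧸ Subgroup.center X) := by
          rw [heq, Subgroup.mem_centralizer_singleton_iff]
        have htop : Subgroup.centralizer ({(QuotientGroup.mk' (Subgroup.center X)) a} :
              Set (X ⧸ Subgroup.center X)) = ⊤ := by
          rw [Subgroup.centralizer_eq_top_iff_subset]
          intro y hy
          rw [Set.mem_singleton_iff] at hy
          rw [hy]; exact hac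
        rw [htop, Subgroup.card_top, hcardq] at hj
        have : n = j := Nat.pow_right_injective hp.two_le hj
        omega
      have hBcard : Nat.card (Subgroup.centralizer ({(QuotientGroup.mk' (Subgroup.center X)) a} :
            Set (X ⧸ Subgroup.center X))) = p ^ 2 := le_antisymm hBle hBge
      -- it is self-centralizing
      have hBself : Subgroup.centralizer ((Subgroup.centralizer
          ({(QuotientGroup.mk' (Subgroup.center X)) a} : Set (X ⧸ Subgroup.center X)) :
            Subgroup (X ⧸ Subgroup.center X)) : Set (X ⧸ Subgroup.center X)) =
          Subgroup.centralizer ({(QuotientGroup.mk' (Subgroup.center X)) a} :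
            Set (X ⧸ Subgroup.center X)) := by
        apply le_antisymm
        · apply Subgroup.centralizer_le
          intro y hy
          rw [Set.mem_singleton_iff] at hy
          rw [hy, SetLike.mem_coe, Subgroup.mem_centralizer_singleton_iff]
        · have hcomm := IsPGroup.isMulCommutative_of_card_eq_prime_sq hBcard
          exact Subgroup.le_centralizer_iff_isMulCommutative.mpr hcomm
      have hq := ih (X ⧸ Subgroup.center X) hcardq _ hBcard hBself
      rw [Group.nilpotencyClass_eq_quotient_center_plus_one, hq]
      omega

/-- A `p`-group with a self-centralizing subgroup of order `p^2` is of maximal class. -/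
theorem nilpotencyClass_of_self_centralizing_sq {X : Type u} [Group X] [Finite X] {p : ℕ}
    [Fact p.Prime] (n : ℕ) (hX : Nat.card X = p ^ n) (A : Subgroup X) (hA : Nat.card A = p ^ 2)
    (hC : Subgroup.centralizer (A : Set X) = A) : Group.nilpotencyClass X = n - 1 :=
  nilpotencyClass_of_self_centralizing_sq_aux p n X hX A hA hC

end Cfsg.Agent.Helper9
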