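import Mathlib

set_option autoImplicit false
set_option linter.style.haveILetI false

/-! A nonabelian group `X` with an abelian subgroup of index 2 satisfies
`|X| = 2 |X'| |Z(X)|`. -/

namespace Cfsg.Agent.Helper9

open Subgroup
open scoped commutatorElement

universe u

section
variable {X : Type u} [Group X] (H : Subgroup X)

/-- In a noncommutative group, the centre lies in every commutative subgroup of index 2. -/
theorem center_le_of_commutative_index_two (hH : H.index = 2)
    (comm : ∀ s ∈ H, ∀ t ∈ H, s * t = t * s) (hnc : ¬ IsMulCommutative X) :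
    Subgroup.center X ≤ H := by
  intro z hz
  by_contra hzH
  apply hnc
  refine ⟨⟨fun a b => ?_⟩⟩
  have key : ∀ y : X, ∃ t ∈ H, ∃ w ∈ Subgroup.center X, y = w * t := by
    intro y
    by_cases hy : y ∈ H
    · exact ⟨y, hy, 1, Subgroup.one_mem _, by rw [one_mul]⟩
    · have h1 : z⁻¹ * y ∈ H := by
        rw [Subgroup.mul_mem_iff_of_index_two hH, Subgroup.inv_mem_iff]
        exact ⟨fun h => absurd h hzH, fun h => absurd h hy⟩
      exact ⟨z⁻¹ * y, h1, z, hz, by group⟩
  obtain ⟨s, hs, w, hw, rfl⟩ := key a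
  obtain ⟨t, ht, v, hv, rfl⟩ := key b
  have hwc : ∀ a : X, w * a = a * w := fun a => (Subgroup.mem_center_iff.mp hw a).symm
  have hvc : ∀ a : X, v * a = a * v := fun a => (Subgroup.mem_center_iff.mp hv a).symm
  calc w * s * (v * t) = w * (s * v) * t := by group
    _ = w * (v * s) * t := by rw [← hvc]
    _ = w * v * (s * t) := by group
    _ = v * w * (t * s) := by rw [hvc w, comm s hs t ht]
    _ = v * (w * t) * s := by group
    _ = v * (t * w) * s := by rw [hwc]
    _ = v * t * (w * s) := by group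

/-- The commutator map `h ↦ [h, x]` on an abelian normal subgroup is a homomorphism. -/
theorem commutator_map_mul [H.Normal] (comm : ∀ s ∈ H, ∀ t ∈ H, s * t = t * s) (x : X)
    (a b : X) (ha : a ∈ H) (hb : b ∈ H) :
    (a * b) * x * (a * b)⁻¹ * x⁻¹ = (a * x * a⁻¹ * x⁻¹) * (b * x * b⁻¹ * x⁻¹) := by
  have hu : x * a⁻¹ * x⁻¹ ∈ H := ‹H.Normal›.conj_mem _ (H.inv_mem ha) x
  have hw : x * b⁻¹ * x⁻¹ ∈ H := ‹H.Normal›.conj_mem _ (H.inv_mem hb) x
  calc (a * b) * x * (a * b)⁻¹ * x⁻¹ = a * b * ((x * b⁻¹ * x⁻¹) * (x * a⁻¹ * x⁻¹)) := by group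
    _ = a * b * ((x * a⁻¹ * x⁻¹) * (x * b⁻¹ * x⁻¹)) := by rw [comm _ hw _ hu]
    _ = a * (b * (x * a⁻¹ * x⁻¹)) * (x * b⁻¹ * x⁻¹) := by group
    _ = a * ((x * a⁻¹ * x⁻¹) * b) * (x * b⁻¹ * x⁻¹) := by rw [comm _ hb _ hu]
    _ = (a * x * a⁻¹ * x⁻¹) * (b * x * b⁻¹ * x⁻¹) := by group

/-- The commutator homomorphism `H → X`, `h ↦ [h, x]`. -/
noncomputable def commHom [H.Normal] (comm : ∀ s ∈ H, ∀ t ∈ H, s * t = t * s) (x : X) :
    H →* X where
  toFun h := (h : X) * x * (h : X)⁻¹ * x⁻¹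
  map_one' := by simp
  map_mul' a b := by
    have := commutator_map_mul H comm x a b a.2 b.2
    simpa using this

theorem commHom_apply [H.Normal] (comm : ∀ s ∈ H, ∀ t ∈ H, s * t = t * s) (x : X) (h : H) :
    commHom H comm x h = (h : X) * x * (h : X)⁻¹ * x⁻¹ := rfl

end

/-- A noncommutative finite group with a commutative subgroup of index 2 has order
`2 |X'| |Z(X)|`. -/
theorem card_eq_of_commutative_index_two {X : Type u} [Group X] [Finite X] (H : Subgroup X)
    (hH : H.index = 2) (comm : ∀ s ∈ H, ∀ t ∈ H, s * t = t * s) (hnc : ¬ IsMulCommutative X) :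
    Nat.card X = 2 * Nat.card (commutator X) * Nat.card (Subgroup.center X) := by
  haveI : H.Normal := Subgroup.normal_of_index_eq_two hH
  have hne : H ≠ ⊤ := by
    intro h
    rw [← Subgroup.index_eq_one, hH] at h
    omega
  obtain ⟨x, hx⟩ : ∃ x : X, x ∉ H := by
    by_contra hcon
    push Not at hcon
    exact hne (eq_top_iff.mpr fun y _ => hcon y)
  have hxx : x * x ∈ H := Subgroup.mul_self_mem_of_index_two hH x
  have hZH : Subgroup.center X ≤ H := center_le_of_commutative_index_two H hH comm hnc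
  -- every element outside `H` is `x * t`
  have hout : ∀ y : X, y ∉ H → ∃ t ∈ H, y = x * t := by
    intro y hy
    have h1 : x⁻¹ * y ∈ H := by
      rw [Subgroup.mul_mem_iff_of_index_two hH, Subgroup.inv_mem_iff]
      exact ⟨fun h => absurd h hx, fun h => absurd h hy⟩
    exact ⟨x⁻¹ * y, h1, by group⟩
  set ψ := commHom H comm x with hψ
  -- kernel
  have hker : (ψ.ker).map H.subtype = Subgroup.center X := by
    ext z
    constructor
    · rintro ⟨h, hh, rfl⟩
      have h1 : (h : X) * x * (h : X)⁻¹ * x⁻¹ = 1 := MonoidHom.mem_ker.mp hh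
      have h2 : (h : X) * x = x * h := by
        have : (h : X) * x = ((h : X) * x * (h : X)⁻¹ * x⁻¹) * (x * h) := by group
        rw [this, h1, one_mul]
      refine Subgroup.mem_center_iff.mpr ?_
      intro y
      by_cases hy : y ∈ H
      · exact comm y hy h h.2
      · obtain ⟨t, ht, rfl⟩ := hout y hy
        calc x * t * (h : X) = x * (t * h) := by group
          _ = x * (h * t) := by rw [comm t ht h h.2]
          _ = (x * h) * t := by group
          _ = (h * x) * t := by rw [h2]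
          _ = h * (x * t) := by group
    · intro hz
      refine ⟨⟨z, hZH hz⟩, ?_, rfl⟩
      rw [SetLike.mem_coe, MonoidHom.mem_ker, hψ, commHom_apply]
      have := Subgroup.mem_center_iff.mp hz x
      show z * x * z⁻¹ * x⁻¹ = 1
      rw [← this]; group
  -- range
  have hψmem : ∀ h : X, h ∈ H → h * x * h⁻¹ * x⁻¹ ∈ ψ.range := fun h hh => ⟨⟨h, hh⟩, rfl⟩
  have hrange : ψ.range = commutator X := by
    apply le_antisymm
    · rintro _ ⟨h, rfl⟩
      rw [hψ, commHom_apply, commutator_def]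
      exact Subgroup.commutator_mem_commutator (Subgroup.mem_top (h : X)) (Subgroup.mem_top x)
    · rw [commutator_eq_closure, Subgroup.closure_le]
      rintro _ ⟨a, b, rfl⟩
      rw [SetLike.mem_coe, commutatorElement_def]
      -- case `a ∈ H`, `b ∉ H`
      have case2 : ∀ a ∈ H, ∀ t ∈ H, a * (x * t) * a⁻¹ * (x * t)⁻¹ ∈ ψ.range := by
        intro a ha t ht
        have h1 : a * (x * t) * a⁻¹ * (x * t)⁻¹ = a * x * (t * a⁻¹) * t⁻¹ * x⁻¹ := by group
        have h2 : a * x * (a⁻¹ * t) * t⁻¹ * x⁻¹ = a * x * a⁻¹ * x⁻¹ := by group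
        rw [h1, comm t ht a⁻¹ (H.inv_mem ha), h2]
        exact hψmem a ha
      by_cases ha : a ∈ H
      · by_cases hb : b ∈ H
        · have : a * b * a⁻¹ * b⁻¹ = 1 := by rw [comm a ha b hb]; group
          rw [this]; exact Subgroup.one_mem _
        · obtain ⟨t, ht, rfl⟩ := hout b hb
          exact case2 a ha t ht
      · obtain ⟨s, hs, rfl⟩ := hout a ha
        by_cases hb : b ∈ H
        · have h1 : x * s * b * (x * s)⁻¹ * b⁻¹ = (b * (x * s) * b⁻¹ * (x * s)⁻¹)⁻¹ := by group
          rw [h1]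
          exact Subgroup.inv_mem _ (case2 b hb s hs)
        · obtain ⟨t, ht, rfl⟩ := hout b hb
          have hp : x * s * x⁻¹ ∈ H := ‹H.Normal›.conj_mem _ hs x
          have hq : x * t⁻¹ * x⁻¹ ∈ H := ‹H.Normal›.conj_mem _ (H.inv_mem ht) x
          have hts : t * s⁻¹ ∈ H := H.mul_mem ht (H.inv_mem hs)
          have e1 : (x * x) * (t * s⁻¹) * (x * x)⁻¹ = t * s⁻¹ := by
            rw [comm _ hxx _ hts]; group
          have e2 : x * s * (x * t) * (x * s)⁻¹ * (x * t)⁻¹
              = (t * x * t⁻¹ * x⁻¹) * (s * x * s⁻¹ * x⁻¹)⁻¹ := by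
            calc x * s * (x * t) * (x * s)⁻¹ * (x * t)⁻¹
                = (x * s * x⁻¹) * ((x * x) * (t * s⁻¹) * (x * x)⁻¹) * (x * t⁻¹ * x⁻¹) := by group
              _ = (x * s * x⁻¹) * (t * s⁻¹) * (x * t⁻¹ * x⁻¹) := by rw [e1]
              _ = (t * s⁻¹) * (x * s * x⁻¹) * (x * t⁻¹ * x⁻¹) := by rw [comm _ hp _ hts]
              _ = t * (s⁻¹ * ((x * s * x⁻¹) * (x * t⁻¹ * x⁻¹))) := by group
              _ = t * (((x * s * x⁻¹) * (x * t⁻¹ * x⁻¹)) * s⁻¹) := by
                  rw [comm _ (H.inv_mem hs) _ (H.mul_mem hp hq)]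
              _ = t * (((x * t⁻¹ * x⁻¹) * (x * s * x⁻¹)) * s⁻¹) := by rw [comm _ hp _ hq]
              _ = (t * x * t⁻¹ * x⁻¹) * (s * x * s⁻¹ * x⁻¹)⁻¹ := by group
          rw [e2]
          exact Subgroup.mul_mem _ (hψmem t ht) (Subgroup.inv_mem _ (hψmem s hs))
  -- count
  have h1 : Nat.card H * 2 = Nat.card X := by rw [← hH]; exact H.card_mul_index
  have h2 : Nat.card ψ.ker * Nat.card ψ.range = Nat.card H := by
    rw [← Subgroup.index_ker]; exact ψ.ker.card_mul_index
  have h3 : Nat.card ψ.ker = Nat.card (Subgroup.center X) := by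
    rw [← hker, Subgroup.card_map_of_injective H.subtype_injective]
  rw [hrange, h3] at h2
  rw [← h1, ← h2]; ring

end Cfsg.Agent.Helper9
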