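import Mathlib
import Cfsg.Agent.Helper9.MaxClassTwo
import Cfsg.Agent.Helper11.DihedralLift

set_option autoImplicit false
set_option linter.style.haveILetI false

/-! 2-groups of maximal class: central quotient is dihedral. -/

namespace Cfsg.Agent.Helper9

open Subgroup
open scoped commutatorElement

universe u

/-- If `⟨c⟩` has index 2 and `x ∉ ⟨c⟩`, every element is `c^i` or `x * c^i`. -/
theorem exists_zpow_of_index_two {X : Type u} [Group X] (c : X)
    (hC : (Subgroup.zpowers c).index = 2) (x : X) (hx : x ∉ Subgroup.zpowers c) (y : X) :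
    (∃ i : ℤ, y = c ^ i) ∨ ∃ i : ℤ, y = x * c ^ i := by
  by_cases hy : y ∈ Subgroup.zpowers c
  · left
    obtain ⟨i, hi⟩ := Subgroup.mem_zpowers_iff.mp hy
    exact ⟨i, hi.symm⟩
  · right
    have h1 : x⁻¹ * y ∈ Subgroup.zpowers c := by
      rw [Subgroup.mul_mem_iff_of_index_two hC, Subgroup.inv_mem_iff]
      exact ⟨fun h => absurd h hx, fun h => absurd h hy⟩
    obtain ⟨i, hi⟩ := Subgroup.mem_zpowers_iff.mp h1
    exact ⟨i, by rw [hi]; group⟩

/-- If `⟨c⟩` has index 2 and `x ∉ ⟨c⟩`, then `x^2` is central. -/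
theorem mul_self_mem_center_of_cyclic_index_two {X : Type u} [Group X] (c : X)
    (hC : (Subgroup.zpowers c).index = 2) (x : X) (hx : x ∉ Subgroup.zpowers c) :
    x * x ∈ Subgroup.center X := by
  obtain ⟨j, hj⟩ := Subgroup.mem_zpowers_iff.mp (Subgroup.mul_self_mem_of_index_two hC x)
  refine Subgroup.mem_center_iff.mpr ?_
  intro y
  rcases exists_zpow_of_index_two c hC x hx y with ⟨i, rfl⟩ | ⟨i, rfl⟩
  · rw [← hj, ← zpow_add, ← zpow_add, add_comm]
  · have h1 : x * c ^ i * (x * x) = x * (c ^ i * c ^ j) := by rw [← hj]; group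
    have h2 : x * x * (x * c ^ i) = x * (c ^ j * c ^ i) := by
      rw [hj]; group
    rw [h1, h2, ← zpow_add, ← zpow_add, add_comm]

/-- In a noncommutative group, the centre lies in every cyclic subgroup of index 2. -/
theorem center_le_of_cyclic_index_two {X : Type u} [Group X] (c : X)
    (hC : (Subgroup.zpowers c).index = 2) (hnc : ¬ IsMulCommutative X) :
    Subgroup.center X ≤ Subgroup.zpowers c := by
  intro z hz
  by_contra hzC
  apply hnc
  have hzc : ∀ a : X, z * a = a * z := fun a => (Subgroup.mem_center_iff.mp hz a).symm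
  refine ⟨⟨fun a b => ?_⟩⟩
  have key : ∀ y : X, ∃ i : ℤ, ∃ w ∈ Subgroup.center X, y = w * c ^ i := by
    intro y
    rcases exists_zpow_of_index_two c hC z hzC y with ⟨i, rfl⟩ | ⟨i, rfl⟩
    · exact ⟨i, 1, Subgroup.one_mem _, by rw [one_mul]⟩
    · exact ⟨i, z, hz, rfl⟩
  obtain ⟨i, w, hw, rfl⟩ := key a
  obtain ⟨j, v, hv, rfl⟩ := key b
  have hwc : ∀ a : X, w * a = a * w := fun a => (Subgroup.mem_center_iff.mp hw a).symm
  have hvc : ∀ a : X, v * a = a * v := fun a => (Subgroup.mem_center_iff.mp hv a).symm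
  calc w * c ^ i * (v * c ^ j) = w * (c ^ i * v) * c ^ j := by group
    _ = w * (v * c ^ i) * c ^ j := by rw [← hvc]
    _ = w * v * (c ^ i * c ^ j) := by group
    _ = v * w * (c ^ j * c ^ i) := by
        rw [hvc w, ← zpow_add, ← zpow_add, add_comm]
    _ = v * (w * c ^ j) * c ^ i := by group
    _ = v * (c ^ j * w) * c ^ i := by rw [hwc]
    _ = v * c ^ j * (w * c ^ i) := by group

/-- The central quotient of a 2-group of maximal class is dihedral. -/
theorem quotient_center_dihedral_of_maxClass {X : Type u} [Group X] [Finite X] (n : ℕ)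
    (hn : 3 ≤ n) (hX : Nat.card X = 2 ^ n) (hc : Group.nilpotencyClass X = n - 1) :
    Nonempty (X ⧸ Subgroup.center X ≃* DihedralGroup (2 ^ (n - 2))) := by
  haveI : Fact (Nat.Prime 2) := ⟨Nat.prime_two⟩
  have hPG : IsPGroup 2 X := IsPGroup.of_card hX
  haveI : Group.IsNilpotent X := hPG.isNilpotent
  have hnc : ¬ IsMulCommutative X := by
    intro h
    have := Group.IsNilpotent.nilpotencyClass_le_one_iff.mpr h
    omega
  obtain ⟨C, hCcyc, hCi⟩ := exists_isCyclic_index_two_of_maxClass_aux n hn X hX hc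
  obtain ⟨c, rfl⟩ := (Subgroup.isCyclic_iff_exists_zpowers_eq_top C).mp hCcyc
  have hZ : Nat.card (Subgroup.center X) = 2 := card_center_of_maxClass n hn hX hc
  have hq : Nat.card (X ⧸ Subgroup.center X) = 2 ^ (n - 1) :=
    card_quotient_center_of_maxClass n hn hX hc
  have hZC : Subgroup.center X ≤ Subgroup.zpowers c := center_le_of_cyclic_index_two c hCi hnc
  have hne : Subgroup.zpowers c ≠ ⊤ := by
    intro h
    rw [← Subgroup.index_eq_one, hCi] at h
    omega
  obtain ⟨x, hx⟩ : ∃ x : X, x ∉ Subgroup.zpowers c := by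
    by_contra hcon
    push Not at hcon
    exact hne (eq_top_iff.mpr fun y _ => hcon y)
  set Z := Subgroup.center X with hZdef
  have hcard : Nat.card (X ⧸ Z) = 2 * 2 ^ (n - 2) := by
    rw [hq, ← pow_succ']; congr 1; omega
  -- order of the image of `c`
  have horder : orderOf (QuotientGroup.mk' Z c) = 2 ^ (n - 2) := by
    have h1 : ((Subgroup.zpowers c).map (QuotientGroup.mk' Z)).index = 2 := by
      rw [Subgroup.index_map_eq _ (QuotientGroup.mk'_surjective Z) (by rwa [QuotientGroup.ker_mk']),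
        hCi]
    rw [MonoidHom.map_zpowers] at h1
    have h2 := (Subgroup.zpowers (QuotientGroup.mk' Z c)).card_mul_index
    rw [h1, Nat.card_zpowers, hcard] at h2
    omega
  have hb : QuotientGroup.mk' Z x * QuotientGroup.mk' Z x = 1 := by
    rw [← map_mul]
    exact (QuotientGroup.eq_one_iff _).mpr (mul_self_mem_center_of_cyclic_index_two c hCi x hx)
  have hxc : x * c ∉ Subgroup.zpowers c := by
    intro h
    rw [Subgroup.mul_mem_iff_of_index_two hCi] at h
    exact hx (h.mpr (Subgroup.mem_zpowers c))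
  have hab : QuotientGroup.mk' Z x * QuotientGroup.mk' Z c * QuotientGroup.mk' Z x
      = (QuotientGroup.mk' Z c)⁻¹ := by
    apply eq_inv_of_mul_eq_one_left
    rw [← map_mul, ← map_mul, ← map_mul]
    have := mul_self_mem_center_of_cyclic_index_two c hCi (x * c) hxc
    have h2 : x * c * x * c = x * c * (x * c) := by group
    rw [h2]
    exact (QuotientGroup.eq_one_iff _).mpr this
  have hba : QuotientGroup.mk' Z x ∉ Subgroup.zpowers (QuotientGroup.mk' Z c) := by
    intro h
    obtain ⟨i, hi⟩ := Subgroup.mem_zpowers_iff.mp h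
    rw [← map_zpow] at hi
    have h1 : (c ^ i)⁻¹ * x ∈ Z := QuotientGroup.eq.mp hi
    have h2 := hZC h1
    apply hx
    have h3 : x = c ^ i * ((c ^ i)⁻¹ * x) := by group
    rw [h3]
    exact Subgroup.mul_mem _ (Subgroup.zpow_mem_zpowers c i) h2
  exact Cfsg.Agent.Helper11.nonempty_mulEquiv_dihedralGroup (2 ^ (n - 2)) hcard
    (QuotientGroup.mk' Z c) (QuotientGroup.mk' Z x) horder hb hab hba

end Cfsg.Agent.Helper9
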