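import Mathlib
import Cfsg.Agent.Helper9.MaxClassTwoB
import Cfsg.Agent.Helper9.AbelianIndexTwo

set_option autoImplicit false
set_option linter.style.haveILetI false

/-! 2-groups of maximal class: Taussky's theorem (`|X/X'| = 4` iff maximal class). -/

namespace Cfsg.Agent.Helper9

open Subgroup
open scoped commutatorElement

universe u

/-- The preimage of a cyclic subgroup under a central quotient is commutative. -/
theorem comap_cyclic_commutative {X : Type u} [Group X] (Z0 : Subgroup X) [Z0.Normal]
    (hZ0 : Z0 ≤ Subgroup.center X) (Cb : Subgroup (X ⧸ Z0)) (hCb : IsCyclic Cb) :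
    ∀ s ∈ Cb.comap (QuotientGroup.mk' Z0), ∀ t ∈ Cb.comap (QuotientGroup.mk' Z0),
      s * t = t * s := by
  have hcomm : IsMulCommutative (Cb.comap (QuotientGroup.mk' Z0)) := by
    apply MonoidHom.isMulCommutative_of_isCyclic_of_ker_le_center
      ((QuotientGroup.mk' Z0).subgroupComap Cb)
    intro h hh
    rw [MonoidHom.mem_ker] at hh
    have h1 : QuotientGroup.mk' Z0 (h : X) = 1 := by
      have := congrArg Subtype.val hh
      exact this
    have h2 : (h : X) ∈ Z0 := (QuotientGroup.eq_one_iff _).mp h1
    have h3 := hZ0 h2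
    refine Subgroup.mem_center_iff.mpr ?_
    intro k
    apply Subtype.ext
    exact Subgroup.mem_center_iff.mp h3 k
  intro s hs t ht
  have := hcomm.is_comm.comm ⟨s, hs⟩ ⟨t, ht⟩
  exact congrArg Subtype.val this

theorem commutator_eq_bot_of_comm {X : Type u} [Group X] (h : IsMulCommutative X) :
    commutator X = ⊥ := by
  rw [eq_bot_iff, ← Subgroup.Normal.quotient_commutative_iff_commutator_le]
  refine ⟨⟨fun a b => ?_⟩⟩
  obtain ⟨a, rfl⟩ := QuotientGroup.mk_surjective a
  obtain ⟨b, rfl⟩ := QuotientGroup.mk_surjective b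
  rw [← QuotientGroup.mk_mul, ← QuotientGroup.mk_mul, h.is_comm.comm a b]

/-- A 2-group of maximal class has commutator subgroup of index 4, with all squares in it. -/
theorem commutator_of_maxClass {X : Type u} [Group X] [Finite X] (n : ℕ)
    (hn : 3 ≤ n) (hX : Nat.card X = 2 ^ n) (hc : Group.nilpotencyClass X = n - 1) :
    (commutator X).index = 4 ∧ ∀ g : X, g * g ∈ commutator X := by
  haveI : Fact (Nat.Prime 2) := ⟨Nat.prime_two⟩
  have hPG : IsPGroup 2 X := IsPGroup.of_card hX
  haveI : Group.IsNilpotent X := hPG.isNilpotent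
  have hnc : ¬ IsMulCommutative X := by
    intro h
    have := Group.IsNilpotent.nilpotencyClass_le_one_iff.mpr h
    omega
  obtain ⟨C, hCcyc, hCi⟩ := exists_isCyclic_index_two_of_maxClass_aux n hn X hX hc
  obtain ⟨c, rfl⟩ := (Subgroup.isCyclic_iff_exists_zpowers_eq_top C).mp hCcyc
  have hZ : Nat.card (Subgroup.center X) = 2 := card_center_of_maxClass n hn hX hc
  have hcommC : ∀ s ∈ Subgroup.zpowers c, ∀ t ∈ Subgroup.zpowers c, s * t = t * s := by
    intro s hs t ht
    obtain ⟨i, rfl⟩ := Subgroup.mem_zpowers_iff.mp hs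
    obtain ⟨j, rfl⟩ := Subgroup.mem_zpowers_iff.mp ht
    rw [← zpow_add, ← zpow_add, add_comm]
  have hcount := card_eq_of_commutative_index_two (Subgroup.zpowers c) hCi hcommC hnc
  rw [hX, hZ] at hcount
  have hcardC : Nat.card (commutator X) = 2 ^ (n - 2) := by
    have h2 : 2 ^ n = 2 * 2 ^ (n - 2) * 2 := by
      have : n = (n - 2) + 1 + 1 := by omega
      conv_lhs => rw [this, pow_succ, pow_succ]
      ring
    rw [h2] at hcount
    omega
  have hindex : (commutator X).index = 4 := by
    have h1 := (commutator X).index_mul_card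
    rw [hcardC, hX] at h1
    have h2 : 2 ^ n = 4 * 2 ^ (n - 2) := by
      have : n = (n - 2) + 2 := by omega
      conv_lhs => rw [this, pow_add]
      ring
    rw [h2] at h1
    exact Nat.eq_of_mul_eq_mul_right (pow_pos (by norm_num) _) h1
  refine ⟨hindex, ?_⟩
  -- the centre lies in the commutator subgroup
  have hne : commutator X ≠ ⊥ := by
    intro h
    rw [h, Subgroup.card_bot] at hcardC
    have : 2 ^ 1 ≤ 2 ^ (n - 2) := Nat.pow_le_pow_right (by norm_num) (by omega)
    omega
  obtain ⟨y, hyN, hy1, hyZ⟩ :=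
    Cfsg.Agent.Helper10.exists_ne_one_mem_inf_center hPG (commutator X) hne
  have hZy : Subgroup.zpowers y = Subgroup.center X := zpowers_eq_of_card_two _ hZ hyZ hy1
  have hZle : Subgroup.center X ≤ commutator X := by
    rw [← hZy, Subgroup.zpowers_le]; exact hyN
  have hout : ∀ g : X, g ∉ Subgroup.zpowers c → g * g ∈ commutator X := fun g hg =>
    hZle (mul_self_mem_center_of_cyclic_index_two c hCi g hg)
  have hne' : Subgroup.zpowers c ≠ ⊤ := by
    intro h
    rw [← Subgroup.index_eq_one, hCi] at h
    omega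
  obtain ⟨x, hx⟩ : ∃ x : X, x ∉ Subgroup.zpowers c := by
    by_contra hcon
    push Not at hcon
    exact hne' (eq_top_iff.mpr fun y _ => hcon y)
  have hxc : x * c ∉ Subgroup.zpowers c := by
    intro h
    rw [Subgroup.mul_mem_iff_of_index_two hCi] at h
    exact hx (h.mpr (Subgroup.mem_zpowers c))
  have hcc : c * c ∈ commutator X := by
    have h1 : c * c = (⁅x⁻¹, c⁆)⁻¹ * (x * x)⁻¹ * (x * c * (x * c)) := by
      rw [commutatorElement_def]; group
    rw [h1]
    refine Subgroup.mul_mem _ (Subgroup.mul_mem _ (Subgroup.inv_mem _ ?_)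
      (Subgroup.inv_mem _ (hout x hx))) (hout _ hxc)
    rw [commutator_def]
    exact Subgroup.commutator_mem_commutator (Subgroup.mem_top _) (Subgroup.mem_top _)
  intro g
  by_cases hg : g ∈ Subgroup.zpowers c
  · obtain ⟨i, rfl⟩ := Subgroup.mem_zpowers_iff.mp hg
    have : c ^ i * c ^ i = (c * c) ^ i := by
      rw [(Commute.refl c).mul_zpow]
    rw [this]
    exact Subgroup.zpow_mem _ hcc i
  · exact hout g hg

/-- The abelianization of a 2-group of maximal class is a Klein four-group. -/
theorem isKleinFour_abelianization_of_maxClass {X : Type u} [Group X] [Finite X] (n : ℕ)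
    (hn : 3 ≤ n) (hX : Nat.card X = 2 ^ n) (hc : Group.nilpotencyClass X = n - 1) :
    IsKleinFour (X ⧸ commutator X) := by
  obtain ⟨hidx, hsq⟩ := commutator_of_maxClass n hn hX hc
  have hcard : Nat.card (X ⧸ commutator X) = 4 := by
    rw [← Subgroup.index_eq_card]; exact hidx
  haveI : Nontrivial (X ⧸ commutator X) := by
    haveI : Finite (X ⧸ commutator X) := inferInstance
    rw [← Finite.one_lt_card_iff_nontrivial, hcard]; norm_num
  refine ⟨hcard, ?_⟩
  rw [Monoid.exponent_eq_prime_iff Nat.prime_two]
  intro g hg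
  obtain ⟨g, rfl⟩ := QuotientGroup.mk_surjective g
  haveI : Fact (Nat.Prime 2) := ⟨Nat.prime_two⟩
  apply orderOf_eq_prime _ hg
  rw [sq, ← QuotientGroup.mk_mul]
  exact (QuotientGroup.eq_one_iff _).mpr (hsq g)

/-- Taussky: a 2-group with abelianization of order 4 is of maximal class (inductive form). -/
theorem maxClass_of_index_commutator_aux : ∀ (n : ℕ), 3 ≤ n → ∀ (X : Type u) [Group X]
    [Finite X], Nat.card X = 2 ^ n → (commutator X).index = 4 →
    Group.nilpotencyClass X = n - 1 := by
  intro n hn
  induction n, hn using Nat.le_induction with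
  | base =>
    intro X _ _ hX hidx
    haveI : Fact (Nat.Prime 2) := ⟨Nat.prime_two⟩
    have hPG : IsPGroup 2 X := IsPGroup.of_card hX
    haveI : Group.IsNilpotent X := hPG.isNilpotent
    have h1 := (commutator X).index_mul_card
    rw [hidx, hX] at h1
    have hnc : ¬ IsMulCommutative X := by
      intro h
      have h2 : commutator X = ⊥ := commutator_eq_bot_of_comm h
      rw [h2, Subgroup.card_bot] at h1
      omega
    have h3 : ¬ Group.nilpotencyClass X ≤ 1 := by
      rwa [Group.IsNilpotent.nilpotencyClass_le_one_iff]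
    have h4 := Cfsg.Agent.S0063.class_le_aux 2 3 X hX (by norm_num)
    omega
  | succ n hn ih =>
    intro X _ _ hX hidx
    haveI : Fact (Nat.Prime 2) := ⟨Nat.prime_two⟩
    have hPG : IsPGroup 2 X := IsPGroup.of_card hX
    haveI : Group.IsNilpotent X := hPG.isNilpotent
    have hcardC : Nat.card (commutator X) = 2 ^ (n - 1) := by
      have h1 := (commutator X).index_mul_card
      rw [hidx, hX] at h1
      have h2 : 2 ^ (n + 1) = 4 * 2 ^ (n - 1) := by
        have : n + 1 = (n - 1) + 2 := by omega
        conv_lhs => rw [this, pow_add]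
        ring
      rw [h2] at h1
      exact Nat.eq_of_mul_eq_mul_left (by norm_num) h1
    have hne : commutator X ≠ ⊥ := by
      intro h
      rw [h, Subgroup.card_bot] at hcardC
      have : 2 ^ 1 ≤ 2 ^ (n - 1) := Nat.pow_le_pow_right (by norm_num) (by omega)
      omega
    have hnc : ¬ IsMulCommutative X := by
      intro h
      exact hne (commutator_eq_bot_of_comm h)
    -- a central subgroup of order 2 inside the commutator subgroup
    have hKne : commutator X ⊓ Subgroup.center X ≠ ⊥ := by
      obtain ⟨y, hyN, hy1, hyZ⟩ :=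
        Cfsg.Agent.Helper10.exists_ne_one_mem_inf_center hPG (commutator X) hne
      intro h
      apply hy1
      have : y ∈ commutator X ⊓ Subgroup.center X := Subgroup.mem_inf.mpr ⟨hyN, hyZ⟩
      rw [h] at this
      exact Subgroup.mem_bot.mp this
    have hKdvd : 2 ∣ Nat.card (commutator X ⊓ Subgroup.center X : Subgroup X) := by
      have hKp : IsPGroup 2 (commutator X ⊓ Subgroup.center X : Subgroup X) := hPG.to_subgroup _
      obtain ⟨k, hk⟩ := hKp.exists_card_eq
      rcases Nat.eq_zero_or_pos k with rfl | hk0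
      · exfalso
        apply hKne
        rw [pow_zero] at hk
        exact Subgroup.card_eq_one.mp hk
      · rw [hk]; exact dvd_pow_self 2 (by omega)
    obtain ⟨⟨y, hyK⟩, hyord⟩ := exists_prime_orderOf_dvd_card' 2 hKdvd
    have hyord' : orderOf y = 2 := by
      rw [← hyord]; exact (Subgroup.orderOf_mk y hyK).symm
    obtain ⟨hyC, hyZ⟩ := Subgroup.mem_inf.mp hyK
    set Z0 := Subgroup.zpowers y with hZ0def
    have hZ0le : Z0 ≤ Subgroup.center X := Subgroup.zpowers_le.mpr hyZ
    have hZ0C : Z0 ≤ commutator X := Subgroup.zpowers_le.mpr hyC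
    have hZ0card : Nat.card Z0 = 2 := by rw [hZ0def, Nat.card_zpowers, hyord']
    haveI hZ0n : Z0.Normal := by
      constructor
      intro z hz g
      have := Subgroup.mem_center_iff.mp (hZ0le hz) g
      have h1 : g * z * g⁻¹ = z := by rw [this]; group
      rw [h1]; exact hz
    -- the quotient
    have hq : Nat.card (X ⧸ Z0) = 2 ^ n := by
      have h1 := Subgroup.card_eq_card_quotient_mul_card_subgroup Z0
      rw [hX, hZ0card, pow_succ] at h1
      omega
    have hqidx : (commutator (X ⧸ Z0)).index = 4 := by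
      have h1 : commutator (X ⧸ Z0) = (commutator X).map (QuotientGroup.mk' Z0) := by
        rw [commutator_def, commutator_def, Subgroup.map_commutator,
          Subgroup.map_top_of_surjective _ (QuotientGroup.mk'_surjective Z0)]
      rw [h1, Subgroup.index_map_eq _ (QuotientGroup.mk'_surjective Z0)
        (by rwa [QuotientGroup.ker_mk']), hidx]
    have hqc : Group.nilpotencyClass (X ⧸ Z0) = n - 1 := ih (X ⧸ Z0) hq hqidx
    obtain ⟨Cb, hCb, hCbi⟩ := exists_isCyclic_index_two_of_maxClass_aux n hn (X ⧸ Z0) hq hqc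
    have hHi : (Cb.comap (QuotientGroup.mk' Z0)).index = 2 := by
      rw [Subgroup.index_comap_of_surjective _ (QuotientGroup.mk'_surjective Z0)]
      exact hCbi
    have hHcomm := comap_cyclic_commutative Z0 hZ0le Cb hCb
    have hcount := card_eq_of_commutative_index_two _ hHi hHcomm hnc
    rw [hX, hcardC] at hcount
    have hZ : Nat.card (Subgroup.center X) = 2 := by
      have h2 : 2 ^ (n + 1) = 2 * 2 ^ (n - 1) * 2 := by
        have : n + 1 = (n - 1) + 1 + 1 := by omega
        conv_lhs => rw [this, pow_succ, pow_succ]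
        ring
      rw [h2] at hcount
      have hpos : 0 < 2 * 2 ^ (n - 1) := by positivity
      exact (Nat.eq_of_mul_eq_mul_left hpos hcount).symm
    have hZ0eq : Z0 = Subgroup.center X :=
      Subgroup.eq_of_le_of_card_ge hZ0le (by rw [hZ, hZ0card])
    have key : ∀ (N : Subgroup X) [N.Normal], N = Subgroup.center X →
        Group.nilpotencyClass (X ⧸ N) = n - 1 → Group.nilpotencyClass X = n + 1 - 1 := by
      intro N _ hN hcl
      subst hN
      haveI : Nontrivial X := by
        rw [← Finite.one_lt_card_iff_nontrivial, hX]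
        exact Nat.one_lt_pow (by omega) (by norm_num)
      rw [Group.nilpotencyClass_eq_quotient_center_plus_one, hcl]
      omega
    exact key Z0 hZ0eq hqc

end Cfsg.Agent.Helper9
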