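import Mathlib
import Cfsg.Prelude.Def_Transfer
import Cfsg.Agent.Helper9.NPC
import Cfsg.Agent.Helper9.Burnside
import Cfsg.Agent.Helper9.NormalSeries
import Cfsg.Agent.Helper17.Basic
import Cfsg.Agent.Helper18.FocalFusion
import Cfsg.Agent.Lead.Coprime
import Cfsg.Agent.Lead.CoprimeSylow

set_option autoImplicit false

namespace Cfsg.Agent.Helper9

open Subgroup
open scoped Pointwise

/-- Burnside in a quotient: if `P' ≤ Q ≤ P`, `Q ⊴ H`, and the `p'`-elements of `N_H(P)` centralize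
`P`, then `H ⧸ Q` has a normal `p`-complement. -/
theorem hasNormalPComplement_quotient_of_abelian {H : Type*} [Group H] [Finite H] {p : ℕ}
    [Fact p.Prime] (P : Sylow p H) (Q : Subgroup H) [Q.Normal] (hQP : Q ≤ (P : Subgroup H))
    (hPQ : ∀ x ∈ (P : Subgroup H), ∀ y ∈ (P : Subgroup H), x * y * x⁻¹ * y⁻¹ ∈ Q)
    (hB : ∀ g ∈ normalizer ((P : Subgroup H) : Set H), Nat.Coprime (orderOf g) p →
      ∀ x ∈ (P : Subgroup H), g * x = x * g) :
    Cfsg.HasNormalPComplement p (H ⧸ Q) := by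
  have hp : p.Prime := Fact.out
  have hsurj := QuotientGroup.mk'_surjective Q
  apply hasNormalPComplement_of_normalizer_le_centralizer (P.mapSurjective hsurj)
  change normalizer (((P.mapSurjective hsurj : Sylow p (H ⧸ Q)) : Subgroup (H ⧸ Q)) : Set (H ⧸ Q)) ≤
    centralizer (((P.mapSurjective hsurj : Sylow p (H ⧸ Q)) : Subgroup (H ⧸ Q)) : Set (H ⧸ Q))
  rw [Sylow.coe_mapSurjective]
  intro nbar hn
  obtain ⟨n, rfl⟩ := hsurj nbar
  have key : ∀ m : H, (QuotientGroup.mk' Q m) ∈ normalizer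
      (((P : Subgroup H).map (QuotientGroup.mk' Q) : Subgroup (H ⧸ Q)) : Set (H ⧸ Q)) →
      ∀ x ∈ (P : Subgroup H), m * x * m⁻¹ ∈ (P : Subgroup H) := by
    intro m hm x hx
    have h1 : QuotientGroup.mk' Q (m * x * m⁻¹) ∈ (P : Subgroup H).map (QuotientGroup.mk' Q) := by
      rw [map_mul, map_mul, map_inv]
      exact (mem_normalizer_iff.mp hm _).mp ⟨x, hx, rfl⟩
    obtain ⟨y, hy, hyx⟩ := h1
    have h2 : y⁻¹ * (m * x * m⁻¹) ∈ Q := by
      rw [← QuotientGroup.eq]
      exact hyx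
    have : m * x * m⁻¹ = y * (y⁻¹ * (m * x * m⁻¹)) := by group
    rw [this]
    exact mul_mem hy (hQP h2)
  have hnN : n ∈ normalizer ((P : Subgroup H) : Set H) := by
    rw [mem_normalizer_iff]
    intro x
    constructor
    · exact key n hn x
    · intro hx
      have := key n⁻¹ (by rw [map_inv]; exact inv_mem hn) _ hx
      have e : n⁻¹ * (n * x * n⁻¹) * n⁻¹⁻¹ = x := by group
      rwa [e] at this
  obtain ⟨x, y, hxy, hxz, hyz, ⟨k, hxk⟩, hycop⟩ := Cfsg.Agent.Helper18.exists_pPart_decomp p n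
  have hzN : zpowers n ≤ normalizer ((P : Subgroup H) : Set H) := by
    rw [zpowers_le]; exact hnN
  have hyc := hB y (hzN hyz) hycop
  have hxP : x ∈ (P : Subgroup H) := by
    have hxp : IsPGroup p (zpowers x) := by
      apply IsPGroup.of_card (n := k)
      rw [Nat.card_zpowers, hxk]
    have h1 := hxp.inf_normalizer_sylow P
    have hx' : x ∈ zpowers x ⊓ normalizer ((P : Subgroup H) : Set H) :=
      mem_inf.mpr ⟨mem_zpowers x, hzN hxz⟩
    have hx'' : x ∈ zpowers x ⊓ (P : Subgroup H) := by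
      rw [← h1]; exact hx'
    exact (mem_inf.mp hx'').2
  rw [mem_centralizer_iff]
  rintro _ ⟨z, hz, rfl⟩
  rw [← map_mul, ← map_mul]
  change ((z * n : H) : H ⧸ Q) = ((n * z : H) : H ⧸ Q)
  rw [QuotientGroup.eq]
  have hyz' : y * z = z * y := hyc z hz
  have e : (z * n)⁻¹ * (n * z) = y⁻¹ * (x⁻¹ * z⁻¹ * x⁻¹⁻¹ * z⁻¹⁻¹) * y⁻¹⁻¹ := by
    rw [hxy]
    have : x * y * z = x * z * y := by rw [mul_assoc, hyz', ← mul_assoc]
    rw [this]
    group
  rw [e]
  exact ‹Q.Normal›.conj_mem _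
    (hPQ _ (inv_mem hxP) _ (inv_mem hz)) _

/-- If `Q ⊴ H` lies in a Sylow `p`-subgroup `P` as a set of non-generators of `P`, and `H ⧸ Q`
has a normal `p`-complement, then so has `H`. -/
theorem hasNormalPComplement_of_quotient_nongenerating {H : Type*} [Group H] [Finite H] {p : ℕ}
    [Fact p.Prime] (P : Sylow p H) (Q : Subgroup H) [hQn : Q.Normal] (hQP : Q ≤ (P : Subgroup H))
    (hQΦ : ∀ X : Subgroup H, X ≤ (P : Subgroup H) → Q ⊔ X = (P : Subgroup H) →
      X = (P : Subgroup H))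
    (h : Cfsg.HasNormalPComplement p (H ⧸ Q)) : Cfsg.HasNormalPComplement p H := by
  have hp : p.Prime := Fact.out
  have hsurj := QuotientGroup.mk'_surjective Q
  rw [hasNormalPComplement_iff (P.mapSurjective hsurj)] at h
  obtain ⟨Kbar, hKn, hKc⟩ := h
  rw [Sylow.coe_mapSurjective] at hKc
  have hQp : IsPGroup p Q := P.2.to_le hQP
  obtain ⟨a, ha⟩ := IsPGroup.iff_card.mp hQp
  obtain ⟨b, hb⟩ := IsPGroup.iff_card.mp P.2
  -- the order of `Kbar` is prime to `p`
  have hKbar_cop : (Nat.card Kbar).Coprime p := by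
    have h1 := hKc.index_eq_card
    rw [← h1, Nat.coprime_comm, Nat.Prime.coprime_iff_not_dvd hp]
    have := (P.mapSurjective hsurj).not_dvd_index
    rwa [Sylow.coe_mapSurjective] at this
  -- the preimage `K`
  have hKnorm : (Kbar.comap (QuotientGroup.mk' Q)).Normal := hKn.comap _
  have hQK : Q ≤ Kbar.comap (QuotientGroup.mk' Q) := by
    intro q hq
    rw [mem_comap]
    have : QuotientGroup.mk' Q q = 1 := (QuotientGroup.eq_one_iff q).mpr hq
    rw [this]
    exact one_mem _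
  have hKcard : Nat.card (Kbar.comap (QuotientGroup.mk' Q)) = Nat.card Kbar * Nat.card Q :=
    card_comap_mk' Q Kbar
  generalize hKdef : Kbar.comap (QuotientGroup.mk' Q) = K at hKnorm hQK hKcard
  -- Schur–Zassenhaus in `K`
  have hQKn : (Q.subgroupOf K).Normal := hQn.subgroupOf K
  have hQKcard : Nat.card (Q.subgroupOf K) = Nat.card Q :=
    Cfsg.Agent.Helper17.card_subgroupOf_of_le hQK
  have hQKidx : (Q.subgroupOf K).index = Nat.card Kbar := by
    have h1 := Subgroup.card_mul_index (Q.subgroupOf K)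
    rw [hQKcard, hKcard, mul_comm] at h1
    exact Nat.eq_of_mul_eq_mul_right Nat.card_pos h1
  have hcop1 : Nat.Coprime (Nat.card (Q.subgroupOf K)) (Q.subgroupOf K).index := by
    rw [hQKcard, hQKidx, ha]
    exact Nat.Coprime.pow_left a hKbar_cop.symm
  obtain ⟨L', hL'⟩ := Subgroup.exists_right_complement'_of_coprime hcop1
  have hL'card : Nat.card L' = Nat.card Kbar := by
    have h1 := hL'.card_mul_card
    rw [hQKcard, hKcard, mul_comm] at h1
    exact Nat.eq_of_mul_eq_mul_right Nat.card_pos h1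
  have hLcard : Nat.card (L'.map K.subtype) = Nat.card Kbar := by
    rw [card_map_of_injective K.subtype_injective, hL'card]
  have hLK : L'.map K.subtype ≤ K := map_subtype_le L'
  generalize L'.map K.subtype = L at hLcard hLK
  have hLQcop : (Nat.card L).Coprime (Nat.card Q) := by
    rw [hLcard, ha]
    exact Nat.Coprime.pow_right a hKbar_cop
  have hQL : Q ⊓ L = ⊥ := (disjoint_of_coprime_natCard hLQcop.symm).eq_bot
  have hQLK : Q ⊔ L = K := by
    apply Subgroup.eq_of_le_of_card_ge (sup_le hQK hLK)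
    have h1 := Cfsg.Agent.Helper17.card_sup_mul_card_inf_of_normal Q L
    rw [hQL, card_bot, mul_one] at h1
    rw [h1, hKcard, hLcard, mul_comm]
  -- Frattini argument
  have hsolv : Group.IsSolvable Q := by
    have : Group.IsNilpotent Q := hQp.isNilpotent
    infer_instance
  have hfrat : ∀ h : H, ∃ q ∈ Q, q⁻¹ * h ∈ normalizer (L : Set H) := by
    intro h
    have hB : MulAut.conj h • L ≤ Q ⊔ L := by
      rw [hQLK]
      rintro _ ⟨l, hl, rfl⟩
      exact hKnorm.conj_mem l (hLK hl) h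
    have hBcard : Nat.card (MulAut.conj h • L : Subgroup H) = Nat.card L :=
      card_map_of_injective (MulAut.conj h).injective
    obtain ⟨q, hq, hqL⟩ := Cfsg.Agent.Lead.sz_conj_rel (K := Q) (A := L)
      (by rw [normalizer_eq_top]; exact le_top) hLQcop (Or.inr hsolv) hB hBcard
    refine ⟨q, hq, ?_⟩
    rw [← Cfsg.Agent.Lead.conj_smul_eq_self_iff_mem_normalizer, map_mul, mul_smul, ← hqL,
      ← mul_smul, ← map_mul, inv_mul_cancel, map_one, one_smul]
  -- `P` normalizes `L`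
  have hPL : (P : Subgroup H) ≤ normalizer (L : Set H) := by
    have hX : (P : Subgroup H) ⊓ normalizer (L : Set H) = (P : Subgroup H) := by
      apply hQΦ _ inf_le_left
      apply le_antisymm (sup_le hQP inf_le_left)
      intro x hx
      obtain ⟨q, hq, hqx⟩ := hfrat x
      have : x = q * (q⁻¹ * x) := by group
      rw [this]
      exact mul_mem ((le_sup_left : Q ≤ Q ⊔ _) hq)
        ((le_sup_right : _ ≤ Q ⊔ ((P : Subgroup H) ⊓ normalizer (L : Set H)))
          (mem_inf.mpr ⟨mul_mem (inv_mem (hQP hq)) hx, hqx⟩))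
    rw [← hX]
    exact inf_le_right
  have hcomm : ∀ q ∈ Q, ∀ l ∈ L, q * l = l * q := by
    intro q hq l hl
    have h1 : q * l * q⁻¹ * l⁻¹ ∈ L :=
      L.mul_mem ((mem_normalizer_iff.mp (hPL (hQP hq)) l).mp hl) (L.inv_mem hl)
    have h2 : q * l * q⁻¹ * l⁻¹ ∈ Q := by
      have : l * q⁻¹ * l⁻¹ ∈ Q := hQn.conj_mem q⁻¹ (Q.inv_mem hq) l
      have e : q * l * q⁻¹ * l⁻¹ = q * (l * q⁻¹ * l⁻¹) := by group
      rw [e]
      exact Q.mul_mem hq this
    have h3 : q * l * q⁻¹ * l⁻¹ ∈ Q ⊓ L := mem_inf.mpr ⟨h2, h1⟩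
    rw [hQL, mem_bot] at h3
    have e : q * l = (q * l * q⁻¹ * l⁻¹) * (l * q) := by group
    rw [e, h3, one_mul]
  have hLn : L.Normal := by
    refine ⟨fun l hl h => ?_⟩
    obtain ⟨q, hq, hqh⟩ := hfrat h
    have h1 : (q⁻¹ * h) * l * (q⁻¹ * h)⁻¹ ∈ L := (mem_normalizer_iff.mp hqh l).mp hl
    have h2 := hcomm q hq _ h1
    have e : h * l * h⁻¹ = q * ((q⁻¹ * h) * l * (q⁻¹ * h)⁻¹) * q⁻¹ := by group
    rw [e, h2]
    simpa using h1
  -- cardinalities
  have hPcard : Nat.card (P : Subgroup H) =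
      Nat.card ((P : Subgroup H).map (QuotientGroup.mk' Q)) * Nat.card Q := by
    have h1 := card_comap_mk' Q ((P : Subgroup H).map (QuotientGroup.mk' Q))
    rw [comap_map_eq, QuotientGroup.ker_mk', sup_eq_left.mpr hQP] at h1
    exact h1
  have hHcard : Nat.card H = Nat.card (H ⧸ Q) * Nat.card Q :=
    Subgroup.card_eq_card_quotient_mul_card_subgroup Q
  have hquot := hKc.card_mul_card
  rw [hasNormalPComplement_iff P]
  refine ⟨L, hLn, isComplement'_of_coprime ?_ ?_⟩
  · rw [hLcard, hPcard, hHcard, ← hquot]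
    ring
  · rw [hLcard, hb]
    exact Nat.Coprime.pow_right b hKbar_cop

end Cfsg.Agent.Helper9
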