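import Mathlib

/-! S2511 board (driver helper13), piece CT1: the conjugate transpose of a polynomial in a unitary
matrix. -/

set_option autoImplicit false

namespace Cfsg.Agent.S2511P

open Polynomial Matrix

namespace CT1

variable {F : Type*} [Field F] {n : ℕ}

theorem ct_mul (σ : F ≃+* F) (M N : Matrix (Fin n) (Fin n) F) :
    ((M * N).map (σ : F →+* F))ᵀ = (N.map (σ : F →+* F))ᵀ * (M.map (σ : F →+* F))ᵀ := by
  rw [Matrix.map_mul, Matrix.transpose_mul]

theorem ct_pow (σ : F ≃+* F) (M : Matrix (Fin n) (Fin n) F) (k : ℕ) :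
    ((M ^ k).map (σ : F →+* F))ᵀ = ((M.map (σ : F →+* F))ᵀ) ^ k := by
  induction k with
  | zero =>
    rw [pow_zero, pow_zero]
    ext i j
    simp [Matrix.one_apply, eq_comm]
  | succ k ih =>
    rw [pow_succ, ct_mul, ih, pow_succ']

theorem ct_inv (σ : F ≃+* F) (A : Matrix (Fin n) (Fin n) F)
    (hA : Aᵀ * A.map (σ : F →+* F) = 1) : (A.map (σ : F →+* F))ᵀ = A⁻¹ := by
  have h : (A.map (σ : F →+* F))ᵀ * A = 1 := by
    have := congrArg Matrix.transpose hA
    rwa [Matrix.transpose_mul, Matrix.transpose_transpose, Matrix.transpose_one] at this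
  exact (Matrix.inv_eq_left_inv h).symm

end CT1

/-- CT1 -/
theorem ct_aeval {F : Type*} [Field F] {n : ℕ} (σ : F ≃+* F) (A : Matrix (Fin n) (Fin n) F)
    (hA : Aᵀ * A.map (σ : F →+* F) = 1) (φ : F[X]) :
    ((aeval A φ).map (σ : F →+* F))ᵀ = aeval A⁻¹ (φ.map (σ : F →+* F)) := by
  induction φ using Polynomial.induction_on' with
  | add p q hp hq =>
    rw [map_add, Matrix.map_add (σ : F →+* F) (fun a b => map_add _ a b), Matrix.transpose_add, hp, hq,
      Polynomial.map_add, map_add]
  | monomial k a =>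
    rw [Polynomial.map_monomial, aeval_monomial, aeval_monomial, ← CT1.ct_inv σ A hA, ← CT1.ct_pow,
      Algebra.algebraMap_eq_smul_one, Algebra.algebraMap_eq_smul_one, smul_mul_assoc, one_mul,
      smul_mul_assoc, one_mul]
    ext i j
    simp [Matrix.smul_apply]

end Cfsg.Agent.S2511P
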