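import Mathlib
import Cfsg.Agent.Helper10.S2548Defs
import Cfsg.Agent.Helper10.S2548PRES
import Cfsg.Agent.Helper10.S2548ROOTMEM

set_option autoImplicit false
set_option linter.unusedSimpArgs false
open scoped Matrix

/-!
# S2548 piece HTOR: the torus element `diag(1, …, 1, μ², μ⁻², 1, …, 1)` lies in `Rt`

With `A = E(a,c) - E(rev c, rev a)`, `B = E(c,a) - E(rev a, rev c)` one has `A² = 0`, `ABA = A`, `B² = 0`, `BAB = B`,
so in any ring `w(μ) = (1 + μA)(1 - μ⁻¹B)(1 + μA) = 1 - AB - BA + μA - μ⁻¹B` and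
`h(μ) = w(μ) w(-1) = 1 + (μ - 1) AB + (μ⁻¹ - 1) BA`, which is diagonal: `μ` at `a, rev c`, `μ⁻¹` at `c, rev a`.
The element wanted is `h_{m-2,m}(μ) h_{m-2,m-1}(μ⁻¹)`.
-/

namespace Cfsg.Agent.S2548P

open Cfsg.Agent.MatBN
open Cfsg.Agent.S2546P (E)

variable {K : Type*} [Field K] {n : ℕ}

namespace HTOR

theorem w_formula {R : Type*} [Ring R] [Algebra K R] (A B : R) (hA : A * A = 0)
    (hABA : A * B * A = A) (μ : K) (hμ : μ ≠ 0) :
    (1 + μ • A) * (1 + (-μ⁻¹) • B) * (1 + μ • A) = 1 - A * B - B * A + μ • A - μ⁻¹ • B := by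
  have h1 : (μ • A) * (μ • A) = 0 := by
    rw [smul_mul_smul_comm, hA, smul_zero]
  have h2 : (μ • A) * (μ⁻¹ • B) * (μ • A) = μ • A := by
    rw [smul_mul_smul_comm, smul_mul_smul_comm, hABA, mul_inv_cancel₀ hμ, one_mul]
  have h3 : (μ • A) * (μ⁻¹ • B) = A * B := by
    rw [smul_mul_smul_comm, mul_inv_cancel₀ hμ, one_smul]
  have h4 : (μ⁻¹ • B) * (μ • A) = B * A := by
    rw [smul_mul_smul_comm, inv_mul_cancel₀ hμ, one_smul]
  rw [neg_smul]
  generalize hX : μ • A = X at *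
  generalize hY : μ⁻¹ • B = Y at *
  have e : (1 + X) * (1 + -Y) * (1 + X) = 1 + X + X - Y - X * Y - Y * X + X * X - X * Y * X := by
    noncomm_ring
  rw [e, h1, h2, h3, h4]
  abel

theorem h_formula {R : Type*} [Ring R] [Algebra K R] (A B : R) (hA : A * A = 0) (hB : B * B = 0)
    (hABA : A * B * A = A) (hBAB : B * A * B = B) (μ : K) (hμ : μ ≠ 0) :
    (1 + μ • A) * (1 + (-μ⁻¹) • B) * (1 + μ • A) *
      ((1 + (-1 : K) • A) * (1 + (-(-1 : K)⁻¹) • B) * (1 + (-1 : K) • A)) =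
      1 + (μ - 1) • (A * B) + (μ⁻¹ - 1) • (B * A) := by
  rw [w_formula A B hA hABA μ hμ, w_formula A B hA hABA (-1) (by simp)]
  obtain ⟨P, hP⟩ : ∃ P, P = A * B := ⟨_, rfl⟩
  obtain ⟨Q, hQ⟩ : ∃ Q, Q = B * A := ⟨_, rfl⟩
  have tAA := hA
  have tAB : A * B = P := hP.symm
  have tAP : A * P = 0 := by rw [hP, ← mul_assoc, hA, zero_mul]
  have tAQ : A * Q = A := by rw [hQ, ← mul_assoc, hABA]
  have tBA : B * A = Q := hQ.symm
  have tBB := hB
  have tBP : B * P = B := by rw [hP, ← mul_assoc, hBAB]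
  have tBQ : B * Q = 0 := by rw [hQ, ← mul_assoc, hB, zero_mul]
  have tPA : P * A = A := by rw [hP, hABA]
  have tPB : P * B = 0 := by rw [hP, mul_assoc, hB, mul_zero]
  have tPP : P * P = P := by rw [hP, ← mul_assoc, hABA]
  have tPQ : P * Q = 0 := by rw [hP, hQ, mul_assoc, ← mul_assoc B B A, hB, zero_mul, mul_zero]
  have tQA : Q * A = 0 := by rw [hQ, mul_assoc, hA, mul_zero]
  have tQB : Q * B = B := by rw [hQ, hBAB]
  have tQP : Q * P = 0 := by rw [hP, hQ, mul_assoc, ← mul_assoc A A B, hA, zero_mul, mul_zero]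
  have tQQ : Q * Q = Q := by rw [hQ, ← mul_assoc, hBAB]
  rw [tAB, tBA]
  simp only [inv_neg, inv_one, neg_smul, one_smul, mul_add, add_mul, mul_sub, sub_mul, mul_one, one_mul,
    smul_mul_assoc, mul_neg, tAA, tAB, tAP, tAQ, tBA, tBB, tBP, tBQ, tPA, tPB, tPP, tPQ,
    tQA, tQB, tQP, tQQ]
  module

/-- the nilpotent part of the root element `x_{a,c}(t)` -/
def AF (a c : Fin n) : Matrix (Fin n) (Fin n) K := Matrix.single a c 1 - Matrix.single c.rev a.rev 1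

theorem xF_eq (a c : Fin n) (t : K) : ROOTMEM.xF a c t = 1 + t • AF a c := by
  unfold ROOTMEM.xF AF
  rw [smul_sub, Matrix.smul_single, Matrix.smul_single, smul_eq_mul, mul_one, add_sub_assoc]

theorem AF_mul_self (hn : n % 2 = 0) {a c : Fin n} (hac : a ≠ c) :
    (AF a c : Matrix (Fin n) (Fin n) K) * AF a c = 0 := by
  unfold AF
  have h1 : c ≠ a := hac.symm
  have h2 : c ≠ c.rev := (ROOTMEM.rev_ne_self hn c).symm
  have h3 : a.rev ≠ a := ROOTMEM.rev_ne_self hn a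
  have h4 : a.rev ≠ c.rev := fun e => hac (Fin.rev_injective e)
  simp only [mul_sub, sub_mul, Matrix.single_mul_single_of_ne _ _ _ _ h1, Matrix.single_mul_single_of_ne _ _ _ _ h2,
    Matrix.single_mul_single_of_ne _ _ _ _ h3, Matrix.single_mul_single_of_ne _ _ _ _ h4, sub_zero]

theorem AF_mul_swap {a c : Fin n} (hac' : a ≠ c.rev) : (AF a c : Matrix (Fin n) (Fin n) K) * AF c a =
    Matrix.single a a 1 + Matrix.single c.rev c.rev 1 := by
  unfold AF
  have h1 : c ≠ a.rev := fun e => hac' (by rw [e, Fin.rev_rev])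
  have h2 : a.rev ≠ c := fun e => h1 e.symm
  simp only [mul_sub, sub_mul, Matrix.single_mul_single_same, Matrix.single_mul_single_of_ne _ _ _ _ h1,
    Matrix.single_mul_single_of_ne _ _ _ _ h2, mul_one, sub_zero, zero_sub, sub_neg_eq_add]

theorem AF_ABA {a c : Fin n} (hac' : a ≠ c.rev) :
    (AF a c : Matrix (Fin n) (Fin n) K) * AF c a * AF a c = AF a c := by
  rw [AF_mul_swap hac']
  unfold AF
  have h2 : c.rev ≠ a := fun e => hac' e.symm
  simp only [mul_sub, add_mul, Matrix.single_mul_single_same, Matrix.single_mul_single_of_ne _ _ _ _ hac',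
    Matrix.single_mul_single_of_ne _ _ _ _ h2, mul_one, add_zero, zero_add]

/-- the torus element `h_{a,c}(μ) = w_{a,c}(μ) w_{a,c}(-1)` is diagonal -/
theorem hF_formula (hn : n % 2 = 0) {a c : Fin n} (hac : a ≠ c) (hac' : a ≠ c.rev) (μ : K) (hμ : μ ≠ 0) :
    ROOTMEM.xF a c μ * ROOTMEM.xF c a (-μ⁻¹) * ROOTMEM.xF a c μ *
      (ROOTMEM.xF a c (-1 : K) * ROOTMEM.xF c a (-(-1 : K)⁻¹) * ROOTMEM.xF a c (-1 : K)) =
    Matrix.diagonal (fun j : Fin n =>
      if j = a ∨ j = c.rev then μ else if j = c ∨ j = a.rev then μ⁻¹ else 1) := by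
  have hca' : c ≠ a.rev := fun e => hac' (by rw [e, Fin.rev_rev])
  simp only [xF_eq]
  rw [h_formula (AF a c) (AF c a) (AF_mul_self hn hac) (AF_mul_self hn hac.symm) (AF_ABA hac') (AF_ABA hca') μ hμ,
    AF_mul_swap hac', AF_mul_swap hca']
  ext x y
  by_cases hxy : x = y
  · subst hxy
    simp only [Matrix.add_apply, Matrix.smul_apply, Matrix.one_apply_eq, Matrix.single_apply, Matrix.diagonal_apply_eq,
      smul_eq_mul, and_self]
    have h1 : a ≠ a.rev := (ROOTMEM.rev_ne_self hn a).symm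
    have h2 : c ≠ c.rev := (ROOTMEM.rev_ne_self hn c).symm
    have h3 : c.rev ≠ a.rev := fun e => hac (Fin.rev_injective e).symm
    have f1 := hac.symm
    have f2 := hac'.symm
    have f3 := hca'.symm
    have f4 := h1.symm
    have f5 := h2.symm
    have f6 := h3.symm
    by_cases e1 : x = a
    · rw [e1]
      simp [hac, hac', hca', h1, h2, h3, f1, f2, f3, f4, f5, f6]
    · by_cases e2 : x = c.rev
      · rw [e2]
        simp [hac, hac', hca', h1, h2, h3, f1, f2, f3, f4, f5, f6]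
      · by_cases e3 : x = c
        · rw [e3]
          simp [hac, hac', hca', h1, h2, h3, f1, f2, f3, f4, f5, f6]
        · by_cases e4 : x = a.rev
          · rw [e4]
            simp [hac, hac', hca', h1, h2, h3, f1, f2, f3, f4, f5, f6]
          · simp [e1, e2, e3, e4, Ne.symm e1, Ne.symm e2, Ne.symm e3, Ne.symm e4]
  · simp only [Matrix.add_apply, Matrix.smul_apply, Matrix.one_apply_ne hxy, Matrix.single_apply,
      Matrix.diagonal_apply_ne _ hxy, smul_eq_mul]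
    have : ∀ z : Fin n, ¬ (z = x ∧ z = y) := fun z hz => hxy (hz.1.symm.trans hz.2)
    simp [this]

theorem xR_mem_Rt (hn : n % 2 = 0) {i k : ℕ} (h : IsRt n i k) (t : K) :
    ∃ g : OJ K n, g ∈ Rt (K := K) n ∧ mat n g = xR n i k t := by
  obtain ⟨g, hg⟩ := PRES.exists_of_presQ hn (xR n i k t) (ROOTMEM.presQ_xR hn h t)
  exact ⟨g, Subgroup.subset_closure ⟨i, k, h, t, hg⟩, hg⟩

/-- the torus element `h_{i,k}(μ)` lies in `Rt` -/
theorem hR_mem (hn : n % 2 = 0) {i k : ℕ} (h : IsRt n i k) (μ : K) (hμ : μ ≠ 0) :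
    ∃ g : OJ K n, g ∈ Rt (K := K) n ∧ mat n g = Matrix.diagonal (fun j : Fin n =>
      if j = (⟨i, h.1⟩ : Fin n) ∨ j = (⟨k, h.2.1⟩ : Fin n).rev then μ
      else if j = (⟨k, h.2.1⟩ : Fin n) ∨ j = (⟨i, h.1⟩ : Fin n).rev then μ⁻¹ else 1) := by
  have h' : IsRt n k i := ⟨h.2.1, h.1, h.2.2.1.symm, by have := h.2.2.2; omega⟩
  obtain ⟨g1, m1, e1⟩ := xR_mem_Rt hn h μ
  obtain ⟨g2, m2, e2⟩ := xR_mem_Rt hn h' (-μ⁻¹)
  obtain ⟨g4, m4, e4⟩ := xR_mem_Rt hn h (-1 : K)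
  obtain ⟨g5, m5, e5⟩ := xR_mem_Rt hn h' (-(-1 : K)⁻¹)
  refine ⟨g1 * g2 * g1 * (g4 * g5 * g4), ?_, ?_⟩
  · exact mul_mem (mul_mem (mul_mem m1 m2) m1) (mul_mem (mul_mem m4 m5) m4)
  · have hf := ROOTMEM.isRt_fin (a := (⟨i, h.1⟩ : Fin n)) (c := ⟨k, h.2.1⟩) h
    simp only [map_mul, e1, e2, e4, e5]
    rw [ROOTMEM.xR_eq_xF h, ROOTMEM.xR_eq_xF h', ROOTMEM.xR_eq_xF h, ROOTMEM.xR_eq_xF h']
    exact hF_formula hn hf.1 hf.2.1 μ hμ

/-- `diag(1, …, 1, μ², μ⁻², 1, …, 1) ∈ Rt` (positions `n/2 - 1`, `n/2`) -/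
theorem htor_mem (hn : n % 2 = 0) (hn4 : 4 ≤ n) (μ : K) (hμ : μ ≠ 0) (g : OJ K n)
    (hg : mat n g = Matrix.diagonal (fun a : Fin n =>
      if a.val + 1 = n / 2 then μ ^ 2 else if a.val = n / 2 then (μ ^ 2)⁻¹ else 1)) :
    g ∈ Rt (K := K) n := by
  have r1 : IsRt n (n / 2 - 2) (n / 2) := ⟨by omega, by omega, by omega, by omega⟩
  have r2 : IsRt n (n / 2 - 2) (n / 2 - 1) := ⟨by omega, by omega, by omega, by omega⟩
  obtain ⟨g1, hg1, e1⟩ := hR_mem hn r1 μ hμ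
  obtain ⟨g2, hg2, e2⟩ := hR_mem hn r2 μ⁻¹ (inv_ne_zero hμ)
  have : g = g1 * g2 := by
    apply PRES.mat_injective
    rw [map_mul, hg, e1, e2, Matrix.diagonal_mul_diagonal]
    congr 1
    funext j
    simp only [Fin.ext_iff, Fin.val_rev, inv_inv]
    split_ifs <;> first | omega | (field_simp)
  rw [this]
  exact mul_mem hg1 hg2

end HTOR

end Cfsg.Agent.S2548P
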