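import Mathlib
import Cfsg.Agent.Helper9.S4Section

set_option autoImplicit false
set_option linter.unusedSectionVars false
set_option linter.unusedVariables false

/-! # Recognising `S₄` as a section: version with a subgroup of odd-order elements -/

namespace Cfsg.Agent.Helper9.S4Sec

open Subgroup

theorem eq_one_of_sq_of_odd_order {Y : Type*} [Group Y] (z : Y) (h2 : z * z = 1)
    (hodd : Odd (orderOf z)) : z = 1 :=
  eq_one_of_sq_of_odd_pow z h2 (orderOf z) hodd (pow_orderOf_eq_one z)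

theorem commute_of_sq_commute {Y : Type*} [Group Y] {y v : Y} (hodd : Odd (orderOf y))
    (h : y ^ 2 * v = v * y ^ 2) : y * v = v * y := by
  obtain ⟨m, hm⟩ := hodd
  have hpow : (y ^ 2) ^ (m + 1) = y := by
    rw [← pow_mul]
    have : 2 * (m + 1) = orderOf y + 1 := by omega
    rw [this, pow_succ, pow_orderOf_eq_one, one_mul]
  have hc : Commute (y ^ 2) v := h
  have : Commute y v := by
    rw [← hpow]; exact hc.pow_left _
  exact this.eq

theorem involves_S4' {Y : Type*} [Group Y] [Finite Y] (V1 : Subgroup Y) [V1.Normal]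
    (hV1 : ∀ v ∈ V1, v * v = 1) (Q1 : Subgroup Y) (hQodd : ∀ y ∈ Q1, Odd (orderOf y))
    (F : Subgroup Y) (hFV : F ≤ V1) (hFc : ∀ f ∈ F, ∀ y ∈ Q1, f * y = y * f)
    (hFmax : ∀ v ∈ V1, (∀ y ∈ Q1, v * y = y * v) → v ∈ F)
    (hcard : Nat.card V1 = 4 * Nat.card F)
    (b : Y) (hbN : b ∈ normalizer (Q1 : Set Y)) (k : ℕ) (hb2 : b ^ (2 ^ k) = 1)
    (hbv : ∃ v ∈ V1, b * v * b⁻¹ * v⁻¹ ∉ F) : Cfsg.Involves (Equiv.Perm (Fin 4)) Y := by
  classical
  set N0 : Subgroup Y := normalizer (Q1 : Set Y) with hN0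
  have hQN : Q1 ≤ N0 := le_normalizer
  -- Step 1: `V1 ⊓ N0 = F`
  have hinf : V1 ⊓ N0 = F := by
    apply le_antisymm
    · intro v hv
      obtain ⟨hv1, hvN⟩ := hv
      apply hFmax v hv1
      intro y hy
      have h1 : v * y * v⁻¹ ∈ Q1 := (mem_normalizer_iff.mp hvN y).mp hy
      have h2 : v * y * v⁻¹ * y⁻¹ ∈ V1 := by
        have : y * v⁻¹ * y⁻¹ ∈ V1 := ‹V1.Normal›.conj_mem _ (V1.inv_mem hv1) y
        have h3 := V1.mul_mem hv1 this
        have : v * y * v⁻¹ * y⁻¹ = v * (y * v⁻¹ * y⁻¹) := by group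
        rw [this]; exact h3
      have h4 : v * y * v⁻¹ * y⁻¹ ∈ Q1 := Q1.mul_mem h1 (Q1.inv_mem hy)
      have h6 := eq_one_of_sq_of_odd_order _ (hV1 _ h2) (hQodd _ h4)
      have h7 : v * y * v⁻¹ = y := by
        have := congrArg (· * y) h6
        simpa using this
      calc v * y = v * y * v⁻¹ * v := by group
        _ = y * v := by rw [h7]
    · intro f hf
      refine ⟨hFV hf, ?_⟩
      show f ∈ normalizer (Q1 : Set Y)
      have hcz : ∀ z ∈ Q1, f * z * f⁻¹ = z := by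
        intro z hz
        rw [hFc f hf z hz]; group
      rw [mem_normalizer_iff]
      intro z
      constructor
      · intro hz
        rw [hcz z hz]; exact hz
      · intro hz
        have h8 := hcz _ hz
        have : z = f * z * f⁻¹ := by
          have h9 : f * (f * z * f⁻¹) * f⁻¹ = f * z * f⁻¹ := h8
          have h10 : f * (f * z * f⁻¹) = f * z := mul_right_cancel h9
          exact (mul_left_cancel h10).symm
        rw [this]; exact hz
  set K1 : Subgroup Y := V1 ⊔ N0 with hK1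
  have hVK : V1 ≤ K1 := le_sup_left
  have hNK : N0 ≤ K1 := le_sup_right
  have hFpos : 0 < Nat.card F := Nat.card_pos
  have hN0pos : 0 < Nat.card N0 := Nat.card_pos
  have hcardK : Nat.card K1 = 4 * Nat.card N0 := by
    have h1 := Cfsg.Agent.Helper17.card_sup_mul_card_inf_of_normal V1 N0
    rw [hinf, hcard] at h1
    have : Nat.card K1 * Nat.card F = (4 * Nat.card N0) * Nat.card F := by
      rw [hK1, h1]; ring
    exact Nat.eq_of_mul_eq_mul_right hFpos this
  have hrel : N0.relIndex K1 = 4 := by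
    have h1 := Cfsg.Agent.Helper17.relIndex_mul_card_inf N0 K1
    rw [inf_eq_left.mpr hNK, hcardK] at h1
    exact Nat.eq_of_mul_eq_mul_right hN0pos h1
  set N0' : Subgroup ↥K1 := N0.subgroupOf K1 with hN0'
  have hidx : N0'.index = 4 := hrel
  have hcardQ : Nat.card (↥K1 ⧸ N0') = 4 := hidx
  have : Finite (↥K1 ⧸ N0') := Nat.finite_of_card_ne_zero (by rw [hcardQ]; norm_num)
  set φ : ↥K1 →* Equiv.Perm (↥K1 ⧸ N0') := MulAction.toPermHom ↥K1 (↥K1 ⧸ N0') with hφ
  have hker : φ.ker ≤ N0' := by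
    rw [hφ, ← Subgroup.normalCore_eq_ker]
    exact Subgroup.normalCore_le _
  have hcore : ∀ e : ↥K1, e ∈ φ.ker → ∀ v ∈ V1, (e : Y) * v * (e : Y)⁻¹ * v⁻¹ ∈ F := by
    intro e he v hv
    rw [← hinf]
    constructor
    · have h1 : (e : Y) * v * (e : Y)⁻¹ ∈ V1 := ‹V1.Normal›.conj_mem _ hv _
      exact V1.mul_mem h1 (V1.inv_mem hv)
    · have h1 : (⟨v, hVK hv⟩ : ↥K1) * e⁻¹ * (⟨v, hVK hv⟩ : ↥K1)⁻¹ ∈ φ.ker :=
        (inferInstance : φ.ker.Normal).conj_mem _ (φ.ker.inv_mem he) _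
      have h2 : e * ((⟨v, hVK hv⟩ : ↥K1) * e⁻¹ * (⟨v, hVK hv⟩ : ↥K1)⁻¹) ∈ N0' :=
        hker (φ.ker.mul_mem he h1)
      rw [hN0', mem_subgroupOf] at h2
      have : (e : Y) * v * (e : Y)⁻¹ * v⁻¹ =
          ((e * ((⟨v, hVK hv⟩ : ↥K1) * e⁻¹ * (⟨v, hVK hv⟩ : ↥K1)⁻¹) : ↥K1) : Y) := by
        push_cast
        group
      rw [this]; exact h2
  -- some element of `Q1` is outside the core
  obtain ⟨y0, hy0Q, hy0core⟩ : ∃ y0, ∃ hy : y0 ∈ Q1, (⟨y0, hNK (hQN hy)⟩ : ↥K1) ∉ φ.ker := by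
    by_contra hc
    push Not at hc
    have h2 : ∀ v ∈ V1, ∀ y ∈ Q1, v * y = y * v := by
      intro v hv y hy
      have hf := hcore ⟨y, hNK (hQN hy)⟩ (hc y hy) v hv
      change y * v * y⁻¹ * v⁻¹ ∈ F at hf
      obtain ⟨f, hfdef⟩ : ∃ f, f = y * v * y⁻¹ * v⁻¹ := ⟨_, rfl⟩
      rw [← hfdef] at hf
      have hyv : y * v * y⁻¹ = f * v := by rw [hfdef]; group
      have hyf : y * f * y⁻¹ = f := by
        have := hFc f hf y hy
        calc y * f * y⁻¹ = (f * y) * y⁻¹ := by rw [this]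
          _ = f := by group
      have hff : f * f = 1 := hV1 f (hFV hf)
      have hy2 : y ^ 2 * v * (y ^ 2)⁻¹ = v := by
        calc y ^ 2 * v * (y ^ 2)⁻¹ = y * (y * v * y⁻¹) * y⁻¹ := by
              rw [pow_two, mul_inv_rev]; simp only [mul_assoc]
          _ = y * (f * v) * y⁻¹ := by rw [hyv]
          _ = (y * f * y⁻¹) * (y * v * y⁻¹) := by group
          _ = f * (f * v) := by rw [hyf, hyv]
          _ = (f * f) * v := by group
          _ = v := by rw [hff, one_mul]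
      have hcomm2 : y ^ 2 * v = v * y ^ 2 := by
        calc y ^ 2 * v = y ^ 2 * v * (y ^ 2)⁻¹ * y ^ 2 := by group
          _ = v * y ^ 2 := by rw [hy2]
      exact (commute_of_sq_commute (hQodd y hy) hcomm2).symm
    have h3 : V1 ≤ F := fun v hv => hFmax v hv (h2 v hv)
    have h4 : Nat.card V1 ≤ Nat.card F := Subgroup.card_le_of_le h3
    omega
  set y0' : ↥K1 := ⟨y0, hNK (hQN hy0Q)⟩ with hy0'
  set b' : ↥K1 := ⟨b, hNK hbN⟩ with hb'
  have hbcore : b' ∉ φ.ker := by
    intro hmem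
    obtain ⟨v, hv, hvF⟩ := hbv
    exact hvF (hcore b' hmem v hv)
  set Q := ↥K1 ⧸ φ.ker with hQ
  set Nbar : Subgroup Q := N0'.map (QuotientGroup.mk' φ.ker) with hNbar
  have hNbaridx : Nbar.index = 4 := by
    rw [hNbar, Subgroup.index_map_eq _ (QuotientGroup.mk'_surjective _) (by
      rw [QuotientGroup.ker_mk']; exact hker)]
    exact hidx
  have hy0bar : (QuotientGroup.mk' φ.ker y0') ∈ Nbar :=
    Subgroup.mem_map_of_mem _ (by rw [hN0', mem_subgroupOf]; exact hQN hy0Q)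
  have hbbar : (QuotientGroup.mk' φ.ker b') ∈ Nbar :=
    Subgroup.mem_map_of_mem _ (by rw [hN0', mem_subgroupOf]; exact hbN)
  -- the order of the image of `y0` is odd and not one
  have hordy_odd : Odd (orderOf (QuotientGroup.mk' φ.ker y0')) := by
    have h1 : orderOf (QuotientGroup.mk' φ.ker y0') ∣ orderOf y0' := orderOf_map_dvd _ y0'
    have h2 : orderOf y0' = orderOf y0 := by
      rw [hy0']; exact Subgroup.orderOf_mk y0 _
    rw [h2] at h1
    exact Odd.of_dvd_nat (hQodd y0 hy0Q) h1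
  have hordy_ne : orderOf (QuotientGroup.mk' φ.ker y0') ≠ 1 := by
    intro h3
    rw [orderOf_eq_one_iff] at h3
    exact hy0core ((QuotientGroup.eq_one_iff _).mp h3)
  have hordb : 2 ∣ orderOf (QuotientGroup.mk' φ.ker b') := by
    have h1 : (QuotientGroup.mk' φ.ker b') ^ (2 ^ k) = 1 := by
      rw [← map_pow]
      have : b' ^ (2 ^ k) = 1 := by
        apply Subtype.ext
        rw [Subgroup.coe_pow, hb']
        exact hb2
      rw [this, map_one]
    have h2 := orderOf_dvd_of_pow_eq_one h1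
    obtain ⟨j, hj, hj2⟩ := (Nat.dvd_prime_pow Nat.prime_two).mp h2
    rcases Nat.eq_zero_or_pos j with h0 | h0
    · exfalso
      rw [h0, pow_zero, orderOf_eq_one_iff] at hj2
      exact hbcore ((QuotientGroup.eq_one_iff _).mp hj2)
    · rw [hj2]; exact dvd_pow_self 2 (by omega)
  have hdvd2 : 2 ∣ Nat.card Nbar := hordb.trans (Subgroup.orderOf_dvd_natCard _ hbbar)
  obtain ⟨d, hd⟩ : ∃ d, d = orderOf (QuotientGroup.mk' φ.ker y0') := ⟨_, rfl⟩
  have hdvdd : d ∣ Nat.card Nbar := by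
    rw [hd]; exact Subgroup.orderOf_dvd_natCard _ hy0bar
  have hdodd : Odd d := hd ▸ hordy_odd
  have hd1 : d ≠ 1 := hd ▸ hordy_ne
  have hcop : Nat.Coprime 2 d := Nat.coprime_two_left.mpr hdodd
  have h2d : 2 * d ∣ Nat.card Nbar := hcop.mul_dvd_of_dvd_of_dvd hdvd2 hdvdd
  have hNbarpos : 0 < Nat.card Nbar := Nat.card_pos
  have hd3 : 3 ≤ d := by
    obtain ⟨m, hm⟩ := hdodd
    rcases Nat.eq_zero_or_pos m with h0 | h0
    · exfalso; apply hd1; omega
    · omega
  have hle : 6 ≤ Nat.card Nbar := by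
    have := Nat.le_of_dvd hNbarpos h2d
    omega
  have hcardQ' : Nat.card Q = 4 * Nat.card Nbar := by
    rw [← hNbaridx, mul_comm]; exact (Subgroup.card_mul_index Nbar).symm
  have hperm : Nat.card (Equiv.Perm (↥K1 ⧸ N0')) = 24 := by
    rw [Nat.card_perm, hcardQ]; rfl
  have hinj : Function.Injective (QuotientGroup.kerLift φ) := QuotientGroup.kerLift_injective φ
  have hle2 : Nat.card Q ≤ 24 := by
    rw [← hperm]; exact Nat.card_le_card_of_injective _ hinj
  have hQ24 : Nat.card Q = 24 := by omega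
  have hbij : Function.Bijective (QuotientGroup.kerLift φ) := by
    apply Function.Injective.bijective_of_nat_card_le hinj
    rw [hperm, hQ24]
  have hsurj : Function.Surjective φ := by
    intro σ
    obtain ⟨x, hx⟩ := hbij.2 σ
    obtain ⟨z, rfl⟩ := QuotientGroup.mk_surjective x
    exact ⟨z, hx⟩
  let e : (↥K1 ⧸ N0') ≃ Fin 4 := Finite.equivFinOfCardEq hcardQ
  refine involves_of_surjective K1 ((Equiv.permCongrHom e).toMonoidHom.comp φ) ?_
  intro σ
  obtain ⟨x, hx⟩ := hsurj ((Equiv.permCongrHom e).symm σ)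
  refine ⟨x, ?_⟩
  change (Equiv.permCongrHom e) (φ x) = σ
  rw [hx]; exact (Equiv.permCongrHom e).apply_symm_apply σ

end Cfsg.Agent.Helper9.S4Sec
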