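import Mathlib
import Cfsg.Agent.Helper26.ZJInst

set_option autoImplicit false
set_option linter.unusedSectionVars false
set_option linter.unusedVariables false

/-! # Thompson--Glauberman replacement, also for `p = 2` when `B` is abelian -/

namespace Cfsg.Agent.Helper9.Repl2

open Subgroup
open scoped commutatorElement
open Cfsg.Agent.Helper26

section repl

variable {S : Type*} [Group S]

/-- Generic replacement property (`p = 2` allowed when `B` is abelian). -/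
theorem replacement_family2 [Finite S] {p : ℕ} [Fact p.Prime] (hS : IsPGroup p S)
    (𝒜 : Set (Subgroup S))
    (hcomm : ∀ A ∈ 𝒜, ∀ x ∈ A, ∀ y ∈ A, x * y = y * x)
    (hstar : ∀ A ∈ 𝒜, ∀ (b : S) (A' : Subgroup S), (∀ x ∈ A', ∀ y ∈ A', x * y = y * x) →
      Nat.card A' = Nat.card A → A' ≤ A ⊔ conjSub A b →
      (∀ n : ℕ, Odd n → (∀ a ∈ A, a ^ n = 1) → ∀ x ∈ A', x ^ n = 1) → A' ∈ 𝒜)
    (B : Subgroup S) [B.Normal] (hB2 : p = 2 → ∀ x ∈ B, ∀ y ∈ B, x * y = y * x)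
    (U : Subgroup S) (hU : U ∈ 𝒜) (hBU : ⁅B, B⁆ ≤ U)
    (hnB : ¬ B ≤ U) :
    ∃ A ∈ 𝒜, ⁅B, B⁆ ≤ A ∧ ¬ B ≤ A ∧ B ≤ normalizer (A : Set S) := by
  classical
  let C : Set (Subgroup S) := {A | A ∈ 𝒜 ∧ ⁅B, B⁆ ≤ A ∧ ¬ B ≤ A}
  have hCne : C.Nonempty := ⟨U, hU, hBU, hnB⟩
  obtain ⟨A, ⟨hA𝒜, hBA, hnBA⟩, hmax⟩ := Set.exists_max_image C
    (fun A => Nat.card (A ⊓ B : Subgroup S)) (Set.toFinite C) hCne
  refine ⟨A, hA𝒜, hBA, hnBA, ?_⟩
  by_contra hnot
  obtain ⟨b, hb, hbN, hbA⟩ := exists_mem_normalizer_not_mem hS (normalizer (A : Set S)) B hnot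
  have h : ReplHyp A B b :=
    { comm := hcomm A hA𝒜
      normalB := fun g x hx => (inferInstance : B.Normal).conj_mem x hx g
      derived := hBA
      hb := hb
      hbN := hbN }
  have hXc := h.replX_comm hS hB2
  have hstarmem : replStar A b ∈ 𝒜 := hstar A hA𝒜 b (replStar A b) (h.replStar_comm hXc)
    (h.card_star hXc) (sup_le (inf_le_left.trans le_sup_left) h.replX_le_sup)
    (fun n hodd hn => h.pow_eq_one_star hXc n hn hodd)
  have hlt := h.inf_B_lt hbA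
  have hlt2 := h.star_inf_B_lt hnot
  have hC : replStar A b ∈ C :=
    ⟨hstarmem, h.derived_le_replZ.trans le_sup_left, fun hle => hlt2.ne (inf_eq_right.mpr hle)⟩
  have h1 : Nat.card (replStar A b ⊓ B : Subgroup S) ≤ Nat.card (A ⊓ B : Subgroup S) := hmax _ hC
  have h2 := Subgroup.eq_of_le_of_card_ge hlt.le h1
  exact hlt.ne h2

theorem replacement_famEl2 [Finite S] {p : ℕ} [Fact p.Prime] (hS : IsPGroup p S)
    (e : ℕ) (he : e = 0 ∨ Odd e)
    (D : Subgroup S) [D.Normal] (B : Subgroup S) [B.Normal]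
    (hB2 : p = 2 → ∀ x ∈ B, ∀ y ∈ B, x * y = y * x)
    (U : Subgroup S) (hU : U ∈ famEl e D)
    (hBU : ⁅B, B⁆ ≤ U) (hnB : ¬ B ≤ U) :
    ∃ A ∈ famEl e D, ⁅B, B⁆ ≤ A ∧ ¬ B ≤ A ∧ B ≤ normalizer (A : Set S) := by
  refine replacement_family2 hS (famEl e D) (fun A hA => hA.2.1.1) ?_ B hB2 U hU hBU hnB
  intro A hA b A' hA'c hcard hle hexp
  refine ⟨hle.trans (sup_le hA.1 (conjSub_le_of_normal hA.1 b)), ⟨hA'c, ?_⟩, ?_⟩
  · rcases he with he | he
    · intro x _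
      rw [he, pow_zero]
    · exact hexp e he hA.2.1.2
  · intro Y hY hYc
    rw [hcard]
    exact hA.2.2 Y hY hYc

end repl

variable {G : Type*} [Group G]

theorem famEl_repl2 [Finite G] {p : ℕ} [Fact p.Prime] (e : ℕ) (he : e = 0 ∨ Odd e)
    (S B : Subgroup G) (hS : IsPGroup p S) (hBS : B ≤ S) (hSB : S ≤ normalizer (B : Set G))
    (hB2 : p = 2 → ∀ x ∈ B, ∀ y ∈ B, x * y = y * x)
    (A : Subgroup G) (hA : A ∈ famEl e S) (hBA : ⁅B, B⁆ ≤ A) (hnBA : ¬ B ≤ A) :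
    ∃ A' ∈ famEl e S, ⁅B, B⁆ ≤ A' ∧ ¬ B ≤ A' ∧ B ≤ normalizer (A' : Set G) := by
  have hB₀n : (B.subgroupOf S).Normal := (normal_subgroupOf_iff_le_normalizer hBS).mpr hSB
  have hcomm_eq : (⁅B.subgroupOf S, B.subgroupOf S⁆).map S.subtype = ⁅B, B⁆ := by
    rw [map_commutator, subgroupOf_map_subtype, inf_eq_left.mpr hBS]
  have hA₀ : A.subgroupOf S ∈ famEl e (⊤ : Subgroup S) := by
    refine ⟨le_top, ⟨comm_subgroupOf hA.2.1.1, ?_⟩, ?_⟩
    · intro x hx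
      apply Subtype.ext
      rw [SubmonoidClass.coe_pow, OneMemClass.coe_one]
      exact hA.2.1.2 x.1 (mem_subgroupOf.mp hx)
    · intro Y _ hYc
      have h1 : (∀ x ∈ Y.map S.subtype, ∀ y ∈ Y.map S.subtype, x * y = y * x) ∧
          ∀ x ∈ Y.map S.subtype, x ^ e = 1 := by
        refine ⟨comm_map_subtype hYc.1, ?_⟩
        rintro _ ⟨y, hy, rfl⟩
        have := congrArg Subtype.val (hYc.2 y hy)
        simpa using this
      have := hA.2.2 _ (map_subtype_le Y) h1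
      rw [card_map_subtype] at this
      rw [card_subgroupOf_of_le hA.1]
      exact this
  have h1 : ⁅B.subgroupOf S, B.subgroupOf S⁆ ≤ A.subgroupOf S := by
    intro x hx
    rw [mem_subgroupOf]
    apply hBA
    rw [← hcomm_eq]
    exact ⟨x, hx, rfl⟩
  have h2 : ¬ B.subgroupOf S ≤ A.subgroupOf S := by
    intro hle
    apply hnBA
    intro b hb
    have : (⟨b, hBS hb⟩ : S) ∈ A.subgroupOf S := hle (mem_subgroupOf.mpr hb)
    exact mem_subgroupOf.mp this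
  have hB2' : p = 2 → ∀ x ∈ B.subgroupOf S, ∀ y ∈ B.subgroupOf S, x * y = y * x :=
    fun h2 => comm_subgroupOf (hB2 h2)
  obtain ⟨A₁, hA₁, hBA₁, hnBA₁, hNA₁⟩ := replacement_famEl2 hS e he (⊤ : Subgroup S)
    (B.subgroupOf S) hB2' (A.subgroupOf S) hA₀ h1 h2
  refine ⟨A₁.map S.subtype, ?_, ?_, ?_, ?_⟩
  · refine ⟨map_subtype_le A₁, ⟨comm_map_subtype hA₁.2.1.1, ?_⟩, ?_⟩
    · rintro _ ⟨y, hy, rfl⟩
      have := congrArg Subtype.val (hA₁.2.1.2 y hy)
      simpa using this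
    · intro Y hY hYc
      have h3 : (∀ x ∈ Y.subgroupOf S, ∀ y ∈ Y.subgroupOf S, x * y = y * x) ∧
          ∀ x ∈ Y.subgroupOf S, x ^ e = 1 := by
        refine ⟨comm_subgroupOf hYc.1, ?_⟩
        intro x hx
        apply Subtype.ext
        rw [SubmonoidClass.coe_pow, OneMemClass.coe_one]
        exact hYc.2 x.1 (mem_subgroupOf.mp hx)
      have := hA₁.2.2 _ le_top h3
      rw [card_subgroupOf_of_le hY] at this
      rw [card_map_subtype]
      exact this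
  · rw [← hcomm_eq]
    exact map_mono hBA₁
  · intro hle
    apply hnBA₁
    intro x hx
    obtain ⟨y, hy, hyx⟩ := hle (mem_subgroupOf.mp hx)
    have : y = x := Subtype.ext hyx
    rwa [← this]
  · intro b hb
    have hbN : (⟨b, hBS hb⟩ : S) ∈ normalizer (A₁ : Set S) := hNA₁ (mem_subgroupOf.mpr hb)
    apply mem_normalizer_of_map_conj_le
    rintro _ ⟨_, ⟨y, hy, rfl⟩, rfl⟩
    have h3 := (mem_normalizer_iff.mp hbN y).mp hy
    refine ⟨_, h3, ?_⟩
    simp [MulAut.conj_apply]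

end Cfsg.Agent.Helper9.Repl2
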