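import Mathlib
import Cfsg.Agent.Helper9.Repl2

set_option autoImplicit false
set_option linter.unusedSectionVars false
set_option linter.unusedVariables false

/-! # S2799 board, piece F3: Thompson replacement with maximal `|A ∩ K|` exported -/

namespace Cfsg.Agent.S2799P

open Subgroup
open scoped commutatorElement
open Cfsg.Agent.Helper26 Cfsg.Agent.Helper9.Repl2

/-- Generic replacement property for an abelian normal `B`, with the maximality exported. -/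
theorem F3_aux_family {S : Type*} [Group S] [Finite S] {p : ℕ} [Fact p.Prime]
    (hS : IsPGroup p S)
    (𝒜 : Set (Subgroup S))
    (hcomm : ∀ A ∈ 𝒜, ∀ x ∈ A, ∀ y ∈ A, x * y = y * x)
    (hstar : ∀ A ∈ 𝒜, ∀ (b : S) (A' : Subgroup S), (∀ x ∈ A', ∀ y ∈ A', x * y = y * x) →
      Nat.card A' = Nat.card A → A' ≤ A ⊔ conjSub A b →
      (∀ n : ℕ, Odd n → (∀ a ∈ A, a ^ n = 1) → ∀ x ∈ A', x ^ n = 1) → A' ∈ 𝒜)
    (B : Subgroup S) [B.Normal] (hBab : ∀ x ∈ B, ∀ y ∈ B, x * y = y * x)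
    (U : Subgroup S) (hU : U ∈ 𝒜) (hnB : ¬ B ≤ U) :
    ∃ A ∈ 𝒜, ¬ B ≤ A ∧ B ≤ normalizer (A : Set S) ∧
      ∀ A' ∈ 𝒜, ¬ B ≤ A' → Nat.card (A' ⊓ B : Subgroup S) ≤ Nat.card (A ⊓ B : Subgroup S) := by
  classical
  have hder : ⁅B, B⁆ = ⊥ := by
    rw [eq_bot_iff, commutator_le]
    intro x hx y hy
    rw [mem_bot, commutatorElement_eq_one_iff_mul_comm]
    exact hBab x hx y hy
  let C : Set (Subgroup S) := {A | A ∈ 𝒜 ∧ ¬ B ≤ A}
  have hCne : C.Nonempty := ⟨U, hU, hnB⟩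
  obtain ⟨A, ⟨hA𝒜, hnBA⟩, hmax⟩ := Set.exists_max_image C
    (fun A => Nat.card (A ⊓ B : Subgroup S)) (Set.toFinite C) hCne
  refine ⟨A, hA𝒜, hnBA, ?_, fun A' hA' hn => hmax A' ⟨hA', hn⟩⟩
  by_contra hnot
  obtain ⟨b, hb, hbN, hbA⟩ := exists_mem_normalizer_not_mem hS (normalizer (A : Set S)) B hnot
  have h : ReplHyp A B b :=
    { comm := hcomm A hA𝒜
      normalB := fun g x hx => (inferInstance : B.Normal).conj_mem x hx g
      derived := by rw [hder]; exact bot_le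
      hb := hb
      hbN := hbN }
  have hXc := h.replX_comm hS (fun _ => hBab)
  have hstarmem : replStar A b ∈ 𝒜 := hstar A hA𝒜 b (replStar A b) (h.replStar_comm hXc)
    (h.card_star hXc) (sup_le (inf_le_left.trans le_sup_left) h.replX_le_sup)
    (fun n hodd hn => h.pow_eq_one_star hXc n hn hodd)
  have hlt := h.inf_B_lt hbA
  have hlt2 := h.star_inf_B_lt hnot
  have hC : replStar A b ∈ C :=
    ⟨hstarmem, fun hle => hlt2.ne (inf_eq_right.mpr hle)⟩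
  have h1 : Nat.card (replStar A b ⊓ B : Subgroup S) ≤ Nat.card (A ⊓ B : Subgroup S) := hmax _ hC
  have h2 := Subgroup.eq_of_le_of_card_ge hlt.le h1
  exact hlt.ne h2

/-- the family version in a `p`-group `S` (as a type). -/
theorem F3_aux_famEl {S : Type*} [Group S] [Finite S] {p : ℕ} [Fact p.Prime] (hS : IsPGroup p S)
    (B : Subgroup S) [B.Normal] (hBab : ∀ x ∈ B, ∀ y ∈ B, x * y = y * x)
    (U : Subgroup S) (hU : U ∈ famEl 0 (⊤ : Subgroup S)) (hnB : ¬ B ≤ U) :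
    ∃ A ∈ famEl 0 (⊤ : Subgroup S), ¬ B ≤ A ∧ B ≤ normalizer (A : Set S) ∧
      ∀ A' ∈ famEl 0 (⊤ : Subgroup S), ¬ B ≤ A' →
        Nat.card (A' ⊓ B : Subgroup S) ≤ Nat.card (A ⊓ B : Subgroup S) := by
  refine F3_aux_family hS (famEl 0 (⊤ : Subgroup S)) (fun A hA => hA.2.1.1) ?_ B hBab U hU hnB
  intro A hA b A' hA'c hcard hle hexp
  refine ⟨le_top, ⟨hA'c, ?_⟩, ?_⟩
  · intro x _
    rw [pow_zero]
  · intro Y hY hYc
    rw [hcard]
    exact hA.2.2 Y hY hYc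

/-- transport of membership in `famEl 0` from `X` to `↥S`. -/
theorem F3_aux_subgroupOf_mem {X : Type*} [Group X] [Finite X] {S A : Subgroup X}
    (hA : A ∈ famEl 0 S) : A.subgroupOf S ∈ famEl 0 (⊤ : Subgroup S) := by
  refine ⟨le_top, ⟨comm_subgroupOf hA.2.1.1, ?_⟩, ?_⟩
  · intro x _
    rw [pow_zero]
  · intro Y _ hYc
    have h1 : (∀ x ∈ Y.map S.subtype, ∀ y ∈ Y.map S.subtype, x * y = y * x) ∧
        ∀ x ∈ Y.map S.subtype, x ^ 0 = 1 := by
      refine ⟨comm_map_subtype hYc.1, ?_⟩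
      intro x _
      rw [pow_zero]
    have := hA.2.2 _ (map_subtype_le Y) h1
    rw [card_map_subtype] at this
    rw [card_subgroupOf_of_le hA.1]
    exact this

/-- F3 (blueprint L3): Thompson replacement with maximal `|A ∩ K|` exported.
Copy of `Helper9.Repl2.replacement_family2` / `famEl_repl2`, keeping the maximality. -/
theorem F3 {X : Type*} [Group X] [Finite X] {p : ℕ} [Fact p.Prime] (S K : Subgroup X)
    (hS : IsPGroup p S) (hKS : K ≤ S) (hSK : S ≤ normalizer (K : Set X))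
    (hKab : ∀ x ∈ K, ∀ y ∈ K, x * y = y * x)
    (U : Subgroup X) (hU : U ∈ Cfsg.Agent.Helper26.famEl 0 S) (hnU : ¬ K ≤ U) :
    ∃ A ∈ Cfsg.Agent.Helper26.famEl 0 S, ¬ K ≤ A ∧ K ≤ normalizer (A : Set X) ∧
      ∀ A' ∈ Cfsg.Agent.Helper26.famEl 0 S, ¬ K ≤ A' →
        Nat.card (A' ⊓ K : Subgroup X) ≤ Nat.card (A ⊓ K : Subgroup X) := by
  have hK₀n : (K.subgroupOf S).Normal := (normal_subgroupOf_iff_le_normalizer hKS).mpr hSK
  have hnot : ∀ A' : Subgroup X, ¬ K ≤ A' → ¬ K.subgroupOf S ≤ A'.subgroupOf S := by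
    intro A' hn hle
    apply hn
    intro b hb
    have : (⟨b, hKS hb⟩ : S) ∈ A'.subgroupOf S := hle (mem_subgroupOf.mpr hb)
    exact mem_subgroupOf.mp this
  have hcardinf : ∀ A' : Subgroup X, Nat.card (A'.subgroupOf S ⊓ K.subgroupOf S : Subgroup S) =
      Nat.card (A' ⊓ K : Subgroup X) := by
    intro A'
    have h1 : (A'.subgroupOf S ⊓ K.subgroupOf S : Subgroup S) = (A' ⊓ K).subgroupOf S := by
      ext x
      simp only [mem_inf, mem_subgroupOf]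
    rw [h1]
    exact card_subgroupOf_of_le (inf_le_right.trans hKS)
  have hKab' : ∀ x ∈ K.subgroupOf S, ∀ y ∈ K.subgroupOf S, x * y = y * x := comm_subgroupOf hKab
  have hS' : IsPGroup p ↥S := hS
  obtain ⟨A₁, hA₁, hnKA₁, hNA₁, hmax₁⟩ := F3_aux_famEl hS' (K.subgroupOf S) hKab'
    (U.subgroupOf S) (F3_aux_subgroupOf_mem hU) (hnot U hnU)
  have hmapinf : (A₁.map S.subtype ⊓ K : Subgroup X) = (A₁ ⊓ K.subgroupOf S).map S.subtype := by
    ext x
    constructor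
    · rintro ⟨⟨y, hy, rfl⟩, hxK⟩
      exact ⟨y, ⟨hy, mem_subgroupOf.mpr hxK⟩, rfl⟩
    · rintro ⟨y, ⟨hy, hyK⟩, rfl⟩
      exact ⟨⟨y, hy, rfl⟩, mem_subgroupOf.mp hyK⟩
  refine ⟨A₁.map S.subtype, ?_, ?_, ?_, ?_⟩
  · refine ⟨map_subtype_le A₁, ⟨comm_map_subtype hA₁.2.1.1, ?_⟩, ?_⟩
    · intro x _
      rw [pow_zero]
    · intro Y hY hYc
      have h3 : (∀ x ∈ Y.subgroupOf S, ∀ y ∈ Y.subgroupOf S, x * y = y * x) ∧
          ∀ x ∈ Y.subgroupOf S, x ^ 0 = 1 := by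
        refine ⟨comm_subgroupOf hYc.1, ?_⟩
        intro x _
        rw [pow_zero]
      have := hA₁.2.2 _ le_top h3
      rw [card_subgroupOf_of_le hY] at this
      rw [card_map_subtype]
      exact this
  · intro hle
    apply hnKA₁
    intro x hx
    obtain ⟨y, hy, hyx⟩ := hle (mem_subgroupOf.mp hx)
    have : y = x := Subtype.ext hyx
    rwa [← this]
  · intro b hb
    have hbN : (⟨b, hKS hb⟩ : S) ∈ normalizer (A₁ : Set S) := hNA₁ (mem_subgroupOf.mpr hb)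
    apply mem_normalizer_of_map_conj_le
    rintro _ ⟨_, ⟨y, hy, rfl⟩, rfl⟩
    have h3 := (mem_normalizer_iff.mp hbN y).mp hy
    refine ⟨_, h3, ?_⟩
    simp [MulAut.conj_apply]
  · intro A' hA' hnA'
    have h4 := hmax₁ (A'.subgroupOf S) (F3_aux_subgroupOf_mem hA') (hnot A' hnA')
    rw [hcardinf A'] at h4
    rw [hmapinf, card_map_subtype]
    exact h4

end Cfsg.Agent.S2799P
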