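import Cfsg.Agent.Helper26.S3818Defs

/-! Board `s3818pieces`, row A1 (`A1_perm_summands`). -/

set_option autoImplicit false

namespace Cfsg.Agent.S3818P

open Module

/-- `σ ^ b = σ ^ (b % p)` when `σ ^ p = 1`. -/
theorem A1_aux_pow_mod {ι : Type*} (σ : Equiv.Perm ι) (p : ℕ) (hσ : σ ^ p = 1) (b : ℕ) :
    σ ^ b = σ ^ (b % p) := by
  conv_lhs => rw [← Nat.div_add_mod b p]
  rw [pow_add, pow_mul, hσ, one_pow, one_mul]

/-- A set of orbit representatives `R` of `⟨σ⟩` (`σ ^ p = 1`, `p` prime) with `p * #R ≤ (p-1) * #Fix + #ι`. -/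
theorem A1_aux_reps {ι : Type*} [Fintype ι] [DecidableEq ι] (σ : Equiv.Perm ι) (p : ℕ) (hp : p.Prime)
    (hσ : σ ^ p = 1) :
    ∃ R : Finset ι, (∀ j, ∃ i ∈ R, ∃ a : ℕ, (σ ^ a) i = j) ∧
      p * R.card ≤ (p - 1) * (Finset.univ.filter fun i => σ i = i).card + Fintype.card ι := by
  classical
  let e : ι ≃ Fin (Fintype.card ι) := Fintype.equivFin ι
  let R : Finset ι := Finset.univ.filter (fun i => ∀ a : ℕ, e i ≤ e ((σ ^ a) i))
  have hRmem : ∀ i, i ∈ R ↔ ∀ a : ℕ, e i ≤ e ((σ ^ a) i) := by
    intro i; simp [R]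
  have hcov : ∀ j, ∃ i ∈ R, ∃ a : ℕ, (σ ^ a) i = j := by
    intro j
    obtain ⟨b₀, hb₀, hmin⟩ := Finset.exists_min_image (Finset.range p) (fun b => e ((σ ^ b) j))
      ⟨0, Finset.mem_range.mpr hp.pos⟩
    refine ⟨(σ ^ b₀) j, ?_, p - b₀, ?_⟩
    · rw [hRmem]
      intro a
      have h1 : (σ ^ a) ((σ ^ b₀) j) = (σ ^ ((a + b₀) % p)) j := by
        rw [← Equiv.Perm.mul_apply, ← pow_add, A1_aux_pow_mod σ p hσ (a + b₀)]
      rw [h1]
      exact hmin _ (Finset.mem_range.mpr (Nat.mod_lt _ hp.pos))
    · rw [← Equiv.Perm.mul_apply, ← pow_add, Nat.sub_add_cancel (Finset.mem_range.mp hb₀).le, hσ]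
      rfl
  refine ⟨R, hcov, ?_⟩
  set F := Finset.univ.filter (fun i => σ i = i) with hF
  set M := R.filter (fun i => σ i ≠ i) with hM
  have h1 : R.card ≤ F.card + M.card := by
    have : R ⊆ F ∪ M := by
      intro i hi
      by_cases h : σ i = i
      · exact Finset.mem_union_left _ (Finset.mem_filter.mpr ⟨Finset.mem_univ _, h⟩)
      · exact Finset.mem_union_right _ (Finset.mem_filter.mpr ⟨hi, h⟩)
    exact (Finset.card_le_card this).trans (Finset.card_union_le _ _)
  have hperiod : ∀ i, σ i ≠ i → Function.minimalPeriod σ i = p := by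
    intro i hi
    have hper : Function.IsPeriodicPt σ p i := by
      show σ^[p] i = i
      rw [Equiv.Perm.iterate_eq_pow, hσ]; rfl
    rcases (Nat.dvd_prime hp).mp hper.minimalPeriod_dvd with h | h
    · exfalso
      apply hi
      exact Function.minimalPeriod_eq_one_iff_isFixedPt.mp h
    · exact h
  have h2 : M.card * p ≤ (Finset.univ.filter (fun i => σ i ≠ i)).card := by
    rw [← Finset.card_range p, ← Finset.card_product]
    apply Finset.card_le_card_of_injOn (fun x => (σ ^ x.2) x.1)
    · rintro ⟨i, a⟩ hx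
      rw [Finset.mem_coe, Finset.mem_product] at hx
      have hi : σ i ≠ i := (Finset.mem_filter.mp hx.1).2
      rw [Finset.mem_coe, Finset.mem_filter]
      refine ⟨Finset.mem_univ _, ?_⟩
      show σ ((σ ^ a) i) ≠ (σ ^ a) i
      intro h
      apply hi
      have : (σ ^ a) (σ i) = (σ ^ a) i := by
        rw [← Equiv.Perm.mul_apply, ← pow_succ, pow_succ', Equiv.Perm.mul_apply]; exact h
      exact (σ ^ a).injective this
    · rintro ⟨i, a⟩ hx ⟨i', b⟩ hx' h
      rw [Finset.mem_coe, Finset.mem_product] at hx hx'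
      have hiR : i ∈ R := (Finset.mem_filter.mp hx.1).1
      have hi'R : i' ∈ R := (Finset.mem_filter.mp hx'.1).1
      have hi : σ i ≠ i := (Finset.mem_filter.mp hx.1).2
      have ha : a < p := Finset.mem_range.mp hx.2
      have hb : b < p := Finset.mem_range.mp hx'.2
      have h' : (σ ^ a) i = (σ ^ b) i' := h
      -- `i'` is in the orbit of `i` and conversely
      have e1 : (σ ^ (p - b + a)) i = i' := by
        rw [pow_add, Equiv.Perm.mul_apply, h', ← Equiv.Perm.mul_apply, ← pow_add, Nat.sub_add_cancel hb.le, hσ]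
        rfl
      have e2 : (σ ^ (p - a + b)) i' = i := by
        rw [pow_add, Equiv.Perm.mul_apply, ← h', ← Equiv.Perm.mul_apply, ← pow_add, Nat.sub_add_cancel ha.le, hσ]
        rfl
      have l1 : e i ≤ e i' := by
        have := (hRmem i).mp hiR (p - b + a)
        rwa [e1] at this
      have l2 : e i' ≤ e i := by
        have := (hRmem i').mp hi'R (p - a + b)
        rwa [e2] at this
      have hii' : i = i' := e.injective (le_antisymm l1 l2)
      subst hii'
      have hab : a = b := by
        have hinj := Function.iterate_injOn_Iio_minimalPeriod (f := σ) (x := i)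
        rw [hperiod i hi] at hinj
        apply hinj (Set.mem_Iio.mpr ha) (Set.mem_Iio.mpr hb)
        show σ^[a] i = σ^[b] i
        rw [Equiv.Perm.iterate_eq_pow, Equiv.Perm.iterate_eq_pow]
        exact h'
      rw [hab]
  have h3 : F.card + (Finset.univ.filter (fun i => σ i ≠ i)).card = Fintype.card ι := by
    rw [← Finset.card_univ]
    exact Finset.card_filter_add_card_filter_not (fun i => σ i = i)
  have hFeq : (Finset.univ.filter fun i => σ i = i) = F := by
    rw [hF]
  have h4 : p * F.card = (p - 1) * F.card + F.card := by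
    have : p = (p - 1) + 1 := (Nat.sub_add_cancel hp.pos).symm
    conv_lhs => rw [this]
    ring
  have h5 : p * R.card ≤ p * F.card + M.card * p := by
    calc p * R.card ≤ p * (F.card + M.card) := Nat.mul_le_mul_left _ h1
      _ = p * F.card + M.card * p := by ring
  omega

/-- A1 (permuted summands). -/
theorem A1_perm_summands {K : Type*} [Field K] {E : Type*} [AddCommGroup E] [Module K E]
    [FiniteDimensional K E] {ι : Type*} [Fintype ι] [DecidableEq ι] (S : ι → Submodule K E)
    (hind : iSupIndep S) (htop : ⨆ i, S i = ⊤) (κ : E →ₗ[K] E) (σ : Equiv.Perm ι)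
    (hκ : ∀ i, (S i).map κ ≤ S (σ i)) (p : ℕ) (hp : p.Prime) (hσ : σ ^ p = 1) (m : ℕ)
    (hm : ∀ i, finrank K (S i) ≤ m) :
    p * finrank K (LinearMap.ker (κ - 1)) ≤
      m * ((p - 1) * (Finset.univ.filter fun i => σ i = i).card + Fintype.card ι) := by
  classical
  obtain ⟨R, hcov, hcount⟩ := A1_aux_reps σ p hp hσ
  have hint : DirectSum.IsInternal S :=
    DirectSum.isInternal_submodule_of_iSupIndep_of_iSup_eq_top hind htop
  let _inst : DirectSum.Decomposition S := hint.chooseDecomposition
  -- the component maps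
  let c : ι → E →ₗ[K] E := fun i =>
    (S i).subtype ∘ₗ (DirectSum.component K ι (fun i => ↥(S i)) i) ∘ₗ
      (DirectSum.decomposeLinearEquiv S).toLinearMap
  have hc_mem : ∀ i v, c i v ∈ S i := fun i v => ((DirectSum.decompose S v) i).2
  have hc_same : ∀ i v, v ∈ S i → c i v = v := fun i v hv => DirectSum.decompose_of_mem_same S hv
  have hc_ne : ∀ i j v, v ∈ S i → i ≠ j → c j v = 0 :=
    fun i j v hv hij => DirectSum.decompose_of_mem_ne S hv hij
  have hsum : ∀ v, ∑ i, c i v = v := by
    intro v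
    conv_rhs => rw [← DirectSum.sum_support_decompose S v]
    symm
    apply Finset.sum_subset (Finset.subset_univ _)
    intro i _ hi
    rw [DFinsupp.notMem_support_iff] at hi
    show ((DirectSum.decompose S v) i : E) = 0
    rw [hi]; rfl
  have hkey : ∀ T, κ T = T → ∀ i, c (σ i) T = κ (c i T) := by
    intro T hT i
    have h1 : κ T = ∑ j, κ (c j T) := by
      conv_lhs => rw [← hsum T]
      rw [map_sum]
    have h2 : c (σ i) (κ T) = ∑ j, c (σ i) (κ (c j T)) := by rw [h1, map_sum]
    rw [hT] at h2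
    rw [h2, Finset.sum_eq_single i]
    · exact hc_same _ _ (hκ i (Submodule.mem_map_of_mem (hc_mem i T)))
    · intro j _ hji
      exact hc_ne (σ j) (σ i) _ (hκ j (Submodule.mem_map_of_mem (hc_mem j T)))
        (fun h => hji (σ.injective h))
    · intro h; exact absurd (Finset.mem_univ i) h
  have hiter : ∀ T, κ T = T → ∀ (a : ℕ) i, c ((σ ^ a) i) T = (κ ^ a) (c i T) := by
    intro T hT a
    induction a with
    | zero => intro i; simp
    | succ a ih =>
      intro i
      rw [pow_succ', Equiv.Perm.mul_apply, hkey T hT, ih, pow_succ', Module.End.mul_apply]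
  -- the injective map into the product over the representatives
  let Kf : Submodule K E := LinearMap.ker (κ - 1)
  have hKf : ∀ T ∈ Kf, κ T = T := by
    intro T hT
    have : (κ - 1) T = 0 := hT
    rw [LinearMap.sub_apply, Module.End.one_apply, sub_eq_zero] at this
    exact this
  let Φ : ↥Kf →ₗ[K] (∀ i : ↥R, ↥(S (i : ι))) :=
    LinearMap.pi (fun i => ((c (i : ι)).codRestrict (S (i : ι)) (hc_mem (i : ι))) ∘ₗ Kf.subtype)
  have hΦinj : Function.Injective Φ := by
    rw [← LinearMap.ker_eq_bot, Submodule.eq_bot_iff]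
    rintro ⟨T, hT⟩ h0
    have h0' : Φ ⟨T, hT⟩ = 0 := h0
    have hR : ∀ i ∈ R, c i T = 0 := by
      intro i hi
      have := congrFun h0' ⟨i, hi⟩
      exact congrArg Subtype.val this
    have hall : ∀ j, c j T = 0 := by
      intro j
      obtain ⟨i, hi, a, rfl⟩ := hcov j
      rw [hiter T (hKf T hT) a i, hR i hi, map_zero]
    apply Subtype.ext
    show T = 0
    rw [← hsum T]
    exact Finset.sum_eq_zero (fun j _ => hall j)
  have hdim : finrank K ↥Kf ≤ m * R.card := by
    calc finrank K ↥Kf ≤ finrank K (∀ i : ↥R, ↥(S (i : ι))) :=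
          LinearMap.finrank_le_finrank_of_injective hΦinj
      _ = ∑ i : ↥R, finrank K ↥(S (i : ι)) := Module.finrank_pi_fintype K
      _ ≤ ∑ _i : ↥R, m := Finset.sum_le_sum (fun i _ => hm (i : ι))
      _ = m * R.card := by
          rw [Finset.sum_const, Finset.card_univ, Fintype.card_coe, smul_eq_mul, mul_comm]
  calc p * finrank K (LinearMap.ker (κ - 1)) ≤ p * (m * R.card) := Nat.mul_le_mul_left _ hdim
    _ = m * (p * R.card) := by ring
    _ ≤ m * ((p - 1) * (Finset.univ.filter fun i => σ i = i).card + Fintype.card ι) :=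
        Nat.mul_le_mul_left _ hcount

end Cfsg.Agent.S3818P
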