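import Cfsg.Agent.Helper26.S3818Defs

/-! Board `s3818pieces`, rows TR (`TR_transfer`) and QUOT (`QUOT_exists`). -/

set_option autoImplicit false

namespace Cfsg.Agent.S3818P

open Module

universe u v w

/-- TR (transfer of the bound from `F` back to `k`). -/
theorem TR_transfer {G : Type*} [Group G] {k F V : Type*} [Field k] [Field F] [Algebra k F]
    [AddCommGroup V] [Module k V] [Module F V] [IsScalarTower k F V] [FiniteDimensional k F]
    [FiniteDimensional k V] (ρ : Representation k G V) (ρF : Representation F G V)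
    (h : ∀ g v, ρF g v = ρ g v) (x : G) : Bound ρF x → Bound ρ x := by
  intro hb
  unfold Bound at hb ⊢
  have hfd : FiniteDimensional F V := Module.Finite.right k F V
  have hd : 0 < finrank k F := Module.finrank_pos
  have h1 : finrank k V = finrank k F * finrank F V := (Module.finrank_mul_finrank k F V).symm
  set KF : Submodule F V := LinearMap.ker (ρF x - 1) with hKF
  have h2 : finrank k ↥KF = finrank k F * finrank F ↥KF := (Module.finrank_mul_finrank k F ↥KF).symm
  have h3 : KF.restrictScalars k = LinearMap.ker (ρ x - 1) := by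
    ext v
    simp only [Submodule.restrictScalars_mem, hKF, LinearMap.mem_ker, LinearMap.sub_apply,
      Module.End.one_apply, h x v]
  have h4 : finrank k ↥(LinearMap.ker (ρ x - 1)) = finrank k ↥KF := by
    rw [← h3]
    exact LinearEquiv.finrank_eq ((Submodule.restrictScalarsEquiv k F V KF).restrictScalars k)
  rw [h4, h2, h1]
  calc 2 * (finrank k F * finrank F ↥KF) = finrank k F * (2 * finrank F ↥KF) := by ring
    _ < finrank k F * finrank F V := Nat.mul_lt_mul_of_pos_left hb hd

/-- two representations on the same space with the same image operators: irreducibility transfers. -/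
theorem QUOT_aux_irr {G H : Type*} [Group G] [Group H] {k : Type*} [Field k] {V : Type*}
    [AddCommGroup V] [Module k V] (τ : Representation k G V) (σ : Representation k H V)
    (h1 : ∀ g : G, ∃ q : H, σ q = τ g) (h2 : ∀ q : H, ∃ g : G, τ g = σ q) (hτ : τ.IsIrreducible) :
    σ.IsIrreducible := by
  let e : Subrepresentation σ ≃o Subrepresentation τ :=
    { toFun := fun W => ⟨W.toSubmodule, fun g v hv => by
        obtain ⟨q, hq⟩ := h1 g
        rw [← hq]; exact W.apply_mem_toSubmodule _ hv⟩
      invFun := fun W => ⟨W.toSubmodule, fun q v hv => by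
        obtain ⟨g, hg⟩ := h2 q
        rw [← hg]; exact W.apply_mem_toSubmodule g hv⟩
      left_inv := fun W => rfl
      right_inv := fun W => rfl
      map_rel_iff' := Iff.rfl }
  exact (OrderIso.isSimpleOrder_iff e).mpr hτ

/-- QUOT (faithful quotient representation). -/
theorem QUOT_exists {G : Type u} [Group G] {k : Type v} [Field k] {V : Type w}
    [AddCommGroup V] [Module k V] (τ : Representation k G V) [τ.IsIrreducible] :
    ∃ σ : Representation k (G ⧸ MonoidHom.ker τ) V, σ.IsIrreducible ∧ Function.Injective σ ∧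
      ∀ g : G, σ (g : G ⧸ MonoidHom.ker τ) = τ g := by
  have hτ : τ.IsIrreducible := inferInstance
  have hmk : ∀ g : G, (QuotientGroup.lift (MonoidHom.ker τ) τ le_rfl) (g : G ⧸ MonoidHom.ker τ) = τ g :=
    fun g => rfl
  refine ⟨QuotientGroup.lift (MonoidHom.ker τ) τ le_rfl, ?_, ?_, hmk⟩
  · apply QUOT_aux_irr τ _ _ _ hτ
    · intro g
      exact ⟨(g : G ⧸ MonoidHom.ker τ), hmk g⟩
    · intro q
      obtain ⟨g, rfl⟩ := QuotientGroup.mk_surjective q
      exact ⟨g, (hmk g).symm⟩
  · intro q₁ q₂ h
    obtain ⟨g₁, rfl⟩ := QuotientGroup.mk_surjective q₁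
    obtain ⟨g₂, rfl⟩ := QuotientGroup.mk_surjective q₂
    have h' : τ g₁ = τ g₂ := by
      have := h
      rwa [show (QuotientGroup.mk g₁ : G ⧸ MonoidHom.ker τ) = (g₁ : G ⧸ MonoidHom.ker τ) from rfl,
        show (QuotientGroup.mk g₂ : G ⧸ MonoidHom.ker τ) = (g₂ : G ⧸ MonoidHom.ker τ) from rfl, hmk, hmk] at this
    rw [QuotientGroup.eq, MonoidHom.mem_ker, map_mul, ← h', ← map_mul, inv_mul_cancel, map_one]

end Cfsg.Agent.S3818P
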