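import Mathlib
import Cfsg.Prelude.Def_Local
import Cfsg.Agent.Helper7.Wielandt

/-! # S4091 (Gheri: number of `p`-elements of a `p`-solvable group) — definitions
Blueprint: `departures/helper9_S4091_blueprint.md`. -/

set_option autoImplicit false

namespace Cfsg.Agent.S4091P

universe u v

section aut

variable {N : Type*} [Group N]

/-- the fixed subgroup of an automorphism -/
def fixSub (a : MulAut N) : Subgroup N where
  carrier := {n | a n = n}
  one_mem' := map_one a
  mul_mem' := by
    intro x y hx hy
    show a (x * y) = x * y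
    rw [map_mul, hx, hy]
  inv_mem' := by
    intro x hx
    show a x⁻¹ = x⁻¹
    rw [map_inv, hx]

theorem mem_fixSub {a : MulAut N} {n : N} : n ∈ fixSub a ↔ a n = n := Iff.rfl

/-- the number of fixed points of an automorphism -/
noncomputable def fx (a : MulAut N) : ℕ := Nat.card ↥(fixSub a)

/-- the number of common fixed points of two automorphisms -/
noncomputable def fx2 (a z : MulAut N) : ℕ := Nat.card ↥(fixSub a ⊓ fixSub z)

/-- the number of common fixed points of a group of automorphisms -/
noncomputable def fxAll {P : Type*} [Group P] (φ : P →* MulAut N) : ℕ :=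
  Nat.card ↥(⨅ x : P, fixSub (φ x))

theorem commute_apply {b z : MulAut N} (h : Commute b z) (n : N) : z (b n) = b (z n) := by
  have h1 : (z * b) n = (b * z) n := by rw [h.eq]
  simpa [MulAut.mul_apply] using h1

/-- restriction of `b` to the fixed subgroup of a commuting automorphism `z` -/
def resAut (z b : MulAut N) (h : Commute b z) : MulAut ↥(fixSub z) where
  toFun n := ⟨b n, by
    show z (b n) = b n
    rw [commute_apply h, mem_fixSub.1 n.2]⟩
  invFun n := ⟨b⁻¹ n, by
    show z (b⁻¹ n) = b⁻¹ n
    rw [commute_apply h.inv_left, mem_fixSub.1 n.2]⟩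
  left_inv n := by
    apply Subtype.ext
    show b⁻¹ (b n) = n
    simp
  right_inv n := by
    apply Subtype.ext
    show b (b⁻¹ n) = n
    simp
  map_mul' m n := by
    apply Subtype.ext
    show b ((m : N) * (n : N)) = b m * b n
    rw [map_mul]

@[simp] theorem resAut_apply (z b : MulAut N) (h : Commute b z) (n : ↥(fixSub z)) :
    ((resAut z b h n : ↥(fixSub z)) : N) = b (n : N) := rfl

/-- restriction of a group of automorphisms commuting with `z` to the fixed subgroup of `z` -/
def resHom {P : Type*} [Group P] (φ : P →* MulAut N) (z : MulAut N) (h : ∀ x, Commute (φ x) z) :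
    P →* MulAut ↥(fixSub z) where
  toFun x := resAut z (φ x) (h x)
  map_one' := by
    ext n
    show ((φ 1) (n : N)) = (n : N)
    rw [map_one]; rfl
  map_mul' x y := by
    ext n
    show (φ (x * y)) (n : N) = (φ x) ((φ y) (n : N))
    rw [map_mul]; rfl

@[simp] theorem resHom_apply {P : Type*} [Group P] (φ : P →* MulAut N) (z : MulAut N)
    (h : ∀ x, Commute (φ x) z) (x : P) (n : ↥(fixSub z)) :
    ((resHom φ z h x n : ↥(fixSub z)) : N) = φ x (n : N) := rfl

end aut

section ambient

variable {G : Type*} [Group G]

/-- `|T(x)|`, `T(x) = {g : g x g⁻¹ ∈ P}` -/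
noncomputable def tc (P : Subgroup G) (x : G) : ℕ := Nat.card {g : G // g * x * g⁻¹ ∈ P}

end ambient

/-- the key inequality `(∏_{x ∈ P} |T(x)|)^p ≤ |N_G(P)|^((p-1)|P|) |G|^|P|` for every Sylow `p`-subgroup -/
def LG (p : ℕ) (G : Type u) [Group G] [Finite G] : Prop :=
  ∀ P : Sylow p G,
    (∏ x ∈ Cfsg.Agent.Helper7.subFinset (P : Subgroup G), tc (P : Subgroup G) x) ^ p
      ≤ Nat.card ↥(Subgroup.normalizer ((P : Subgroup G) : Set G))
            ^ ((p - 1) * Nat.card ↥(P : Subgroup G))
          * Nat.card G ^ Nat.card ↥(P : Subgroup G)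

end Cfsg.Agent.S4091P
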