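import Mathlib

/-! Explicit Clifford-type operators (Jordan–Wigner) on functions `(Fin n → ZMod 2) → ZMod 3`. -/

set_option autoImplicit false

namespace Cfsg.Agent.Helper9.Dc

abbrev K := ZMod 3
abbrev V (n : ℕ) := Fin n → ZMod 2
abbrev W (n : ℕ) := V n → K

/-- sign character. -/
def chi (a : ZMod 2) : K := if a = 0 then 1 else -1

theorem chi_add : ∀ a b : ZMod 2, chi (a + b) = chi a * chi b := by decide
theorem chi_zero : chi 0 = 1 := by decide
theorem chi_one : chi 1 = -1 := by decide
theorem chi_mul_self : ∀ a : ZMod 2, chi a * chi a = 1 := by decide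
theorem chi_ne_zero : ∀ a : ZMod 2, chi a ≠ 0 := by decide
theorem chi_eq_iff : ∀ a b : ZMod 2, chi a = chi b ↔ a = b := by decide

variable {n : ℕ}

/-- basis vector of `V n`. -/
def dl (i : Fin n) : V n := Pi.single i 1

theorem add_dl_dl (x : V n) (i : Fin n) : x + dl i + dl i = x := by
  funext j
  have h : ∀ a b : ZMod 2, a + b + b = a := by decide
  simp only [Pi.add_apply]
  exact h _ _

theorem add_right_comm' (x y z : V n) : x + y + z = x + z + y := add_right_comm x y z

/-- prefix sum functional. -/
def pre (i : Fin n) (x : V n) : ZMod 2 := ∑ j ∈ Finset.univ.filter (fun j => j ≤ i), x j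

/-- suffix sum functional. -/
def suf (i : Fin n) (x : V n) : ZMod 2 := ∑ j ∈ Finset.univ.filter (fun j => i ≤ j), x j

theorem pre_add (i : Fin n) (x y : V n) : pre i (x + y) = pre i x + pre i y := by
  simp [pre, Finset.sum_add_distrib]

theorem suf_add (i : Fin n) (x y : V n) : suf i (x + y) = suf i x + suf i y := by
  simp [suf, Finset.sum_add_distrib]

theorem pre_dl (i j : Fin n) : pre i (dl j) = if j ≤ i then 1 else 0 := by
  unfold pre dl
  rw [Finset.sum_pi_single']
  simp

theorem suf_dl (i j : Fin n) : suf i (dl j) = if i ≤ j then 1 else 0 := by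
  unfold suf dl
  rw [Finset.sum_pi_single']
  simp

/-- Left Clifford generators. -/
def E (i : Fin n) : Module.End K (W n) where
  toFun f x := chi (pre i x) * f (x + dl i)
  map_add' f g := by funext x; simp [mul_add]
  map_smul' c f := by funext x; simp [mul_left_comm]

/-- Right Clifford generators (commute with the left ones). -/
def E' (i : Fin n) : Module.End K (W n) where
  toFun f x := chi (suf i x) * f (x + dl i)
  map_add' f g := by funext x; simp [mul_add]
  map_smul' c f := by funext x; simp [mul_left_comm]

@[simp] theorem E_apply (i : Fin n) (f : W n) (x : V n) :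
    E i f x = chi (pre i x) * f (x + dl i) := rfl

@[simp] theorem E'_apply (i : Fin n) (f : W n) (x : V n) :
    E' i f x = chi (suf i x) * f (x + dl i) := rfl

theorem E_sq (i : Fin n) : E i * E i = -1 := by
  apply LinearMap.ext; intro f; funext x
  simp only [Module.End.mul_apply, E_apply, LinearMap.neg_apply, Module.End.one_apply,
    Pi.neg_apply]
  rw [add_dl_dl, pre_add, pre_dl, if_pos le_rfl, chi_add, chi_one, ← mul_assoc, ← mul_assoc,
    chi_mul_self]
  ring

theorem E_anti {i j : Fin n} (h : i ≠ j) : E i * E j = -(E j * E i) := by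
  apply LinearMap.ext; intro f; funext x
  simp only [Module.End.mul_apply, E_apply, LinearMap.neg_apply, Pi.neg_apply]
  rw [pre_add, pre_add, pre_dl, pre_dl, add_right_comm' x (dl i) (dl j), chi_add, chi_add]
  rcases lt_or_gt_of_ne h with h1 | h1
  · rw [if_pos h1.le, if_neg (not_le.mpr h1), chi_one, chi_zero]; ring
  · rw [if_neg (not_le.mpr h1), if_pos h1.le, chi_one, chi_zero]; ring

theorem E_comm_E' (i j : Fin n) : E i * E' j = E' j * E i := by
  apply LinearMap.ext; intro f; funext x
  simp only [Module.End.mul_apply, E_apply, E'_apply]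
  rw [pre_add, suf_add, pre_dl, suf_dl, add_right_comm' x (dl i) (dl j), chi_add, chi_add]
  by_cases h : j ≤ i
  · ring
  · ring

end Cfsg.Agent.Helper9.Dc
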