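import Mathlib

/-! Abstract Clifford relations in characteristic 3: the elements `e i - e j` are involutions
acting by conjugation as negated transpositions. -/

set_option autoImplicit false

namespace Cfsg.Agent.Helper9.Dc

section abstract
variable {R : Type*} [Ring R] {ι : Type*} (e : ι → R)

structure Cliff3 : Prop where
  three : (3 : R) = 0
  sq : ∀ i, e i * e i = -1
  anti : ∀ i j, i ≠ j → e i * e j = -(e j * e i)

variable {e}

theorem Cliff3.neg_add_neg (h : Cliff3 e) : (-1 : R) + -1 = 1 := by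
  have : (-1 : R) + -1 = -1 + -1 + 3 := by rw [h.three, add_zero]
  rw [this]; norm_num

theorem Cliff3.two_smul (h : Cliff3 e) (a : R) : a + a = -a := by
  have : a + a + a = 3 * a := by noncomm_ring
  rw [h.three, zero_mul] at this
  exact eq_neg_of_add_eq_zero_left this

theorem Cliff3.u_sq (h : Cliff3 e) {i j : ι} (hij : i ≠ j) :
    (e i - e j) * (e i - e j) = 1 := by
  have h1 := h.anti j i hij.symm
  calc (e i - e j) * (e i - e j)
      = e i * e i - e i * e j - e j * e i + e j * e j := by noncomm_ring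
    _ = -1 + -1 := by rw [h.sq, h.sq, h1]; noncomm_ring
    _ = 1 := h.neg_add_neg

theorem Cliff3.u_anti (h : Cliff3 e) {i j m : ι} (hi : m ≠ i) (hj : m ≠ j) :
    (e i - e j) * e m = -(e m * (e i - e j)) := by
  rw [sub_mul, mul_sub, h.anti i m hi.symm, h.anti j m hj.symm]
  noncomm_ring

theorem Cliff3.conj_other (h : Cliff3 e) {i j m : ι} (hij : i ≠ j) (hi : m ≠ i) (hj : m ≠ j) :
    (e i - e j) * e m * (e i - e j) = -e m := by
  rw [h.u_anti hi hj, neg_mul, mul_assoc, h.u_sq hij, mul_one]

theorem Cliff3.conj_left (h : Cliff3 e) {i j : ι} (hij : i ≠ j) :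
    (e i - e j) * e i * (e i - e j) = -e j := by
  have h1 := h.anti j i hij.symm
  have h2 : e j * e i * e j = e i := by
    rw [h1, neg_mul, mul_assoc, h.sq]; noncomm_ring
  calc (e i - e j) * e i * (e i - e j)
      = e i * e i * e i - e i * e i * e j - e j * e i * e i + e j * e i * e j := by noncomm_ring
    _ = -e i + e j + e j + e i := by
        rw [h2, h.sq, mul_assoc (e j), h.sq]; noncomm_ring
    _ = e j + e j := by abel
    _ = -e j := h.two_smul _

theorem Cliff3.conj_right (h : Cliff3 e) {i j : ι} (hij : i ≠ j) :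
    (e i - e j) * e j * (e i - e j) = -e i := by
  have := h.conj_left hij.symm
  calc (e i - e j) * e j * (e i - e j) = (e j - e i) * e j * (e j - e i) := by noncomm_ring
    _ = -e i := this

theorem Cliff3.conj_swap [DecidableEq ι] (h : Cliff3 e) {i j : ι} (hij : i ≠ j) (m : ι) :
    (e i - e j) * e m * (e i - e j) = -e (Equiv.swap i j m) := by
  by_cases hi : m = i
  · subst hi; rw [Equiv.swap_apply_left]; exact h.conj_left hij
  by_cases hj : m = j
  · subst hj; rw [Equiv.swap_apply_right]; exact h.conj_right hij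
  rw [Equiv.swap_apply_of_ne_of_ne hi hj]; exact h.conj_other hij hi hj

/-- disjoint reflections anticommute. -/
theorem Cliff3.uu_anti (h : Cliff3 e) {i j k l : ι} (hik : i ≠ k) (hil : i ≠ l) (hjk : j ≠ k)
    (hjl : j ≠ l) : (e i - e j) * (e k - e l) = -((e k - e l) * (e i - e j)) := by
  calc (e i - e j) * (e k - e l) = e i * e k - e i * e l - e j * e k + e j * e l := by noncomm_ring
    _ = -(e k * e i) + e l * e i + e k * e j - e l * e j := by
        rw [h.anti i k hik, h.anti i l hil, h.anti j k hjk, h.anti j l hjl]; noncomm_ring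
    _ = -((e k - e l) * (e i - e j)) := by noncomm_ring

theorem Cliff3.conj_uu [DecidableEq ι] (h : Cliff3 e) {i j k l : ι} (hij : i ≠ j) (hkl : k ≠ l)
    (m : ι) : (e i - e j) * (e k - e l) * e m * ((e k - e l) * (e i - e j))
      = e (Equiv.swap i j (Equiv.swap k l m)) := by
  have h1 := h.conj_swap hkl m
  have h2 := h.conj_swap hij (Equiv.swap k l m)
  calc (e i - e j) * (e k - e l) * e m * ((e k - e l) * (e i - e j))
      = (e i - e j) * ((e k - e l) * e m * (e k - e l)) * (e i - e j) := by noncomm_ring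
    _ = -((e i - e j) * e (Equiv.swap k l m) * (e i - e j)) := by rw [h1]; noncomm_ring
    _ = e (Equiv.swap i j (Equiv.swap k l m)) := by rw [h2, neg_neg]

/-- if `g` conjugates like a permutation `σ`, disjoint-reflection products are negated -/
theorem Cliff3.uu_sq (h : Cliff3 e) {i j k l : ι} (hij : i ≠ j) (hkl : k ≠ l) (hik : i ≠ k)
    (hil : i ≠ l) (hjk : j ≠ k) (hjl : j ≠ l) :
    ((e i - e j) * (e k - e l)) * ((e i - e j) * (e k - e l)) = -1 := by
  have h1 := h.uu_anti hik hil hjk hjl
  calc ((e i - e j) * (e k - e l)) * ((e i - e j) * (e k - e l))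
      = (e i - e j) * ((e k - e l) * (e i - e j)) * (e k - e l) := by noncomm_ring
    _ = -((e i - e j) * (e i - e j) * ((e k - e l) * (e k - e l))) := by
        have : (e k - e l) * (e i - e j) = -((e i - e j) * (e k - e l)) := by
          rw [h1, neg_neg]
        rw [this]; noncomm_ring
    _ = -1 := by rw [h.u_sq hij, h.u_sq hkl, mul_one]

/-- the lifts of `(01)(23)` and `(02)(13)` have commutator `-1`. -/
theorem Cliff3.comm_eq [DecidableEq ι] (h : Cliff3 e) {i0 i1 i2 i3 : ι} (h01 : i0 ≠ i1) (h02 : i0 ≠ i2)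
    (h03 : i0 ≠ i3) (h12 : i1 ≠ i2) (h13 : i1 ≠ i3) (h23 : i2 ≠ i3) :
    ((e i0 - e i1) * (e i2 - e i3)) * ((e i0 - e i2) * (e i1 - e i3)) *
      ((e i2 - e i3) * (e i0 - e i1)) * ((e i1 - e i3) * (e i0 - e i2)) = -1 := by
  have c0 := h.conj_uu h01 h23 i0
  have c1 := h.conj_uu h01 h23 i1
  have c2 := h.conj_uu h01 h23 i2
  have c3 := h.conj_uu h01 h23 i3
  rw [Equiv.swap_apply_of_ne_of_ne h02 h03, Equiv.swap_apply_left] at c0
  rw [Equiv.swap_apply_of_ne_of_ne h12 h13, Equiv.swap_apply_right] at c1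
  rw [Equiv.swap_apply_left, Equiv.swap_apply_of_ne_of_ne h03.symm h13.symm] at c2
  rw [Equiv.swap_apply_right, Equiv.swap_apply_of_ne_of_ne h02.symm h12.symm] at c3
  have hinv : ((e i2 - e i3) * (e i0 - e i1)) * ((e i0 - e i1) * (e i2 - e i3)) = 1 := by
    calc ((e i2 - e i3) * (e i0 - e i1)) * ((e i0 - e i1) * (e i2 - e i3))
        = (e i2 - e i3) * ((e i0 - e i1) * (e i0 - e i1)) * (e i2 - e i3) := by noncomm_ring
      _ = 1 := by rw [h.u_sq h01, mul_one, h.u_sq h23]
  set G := (e i0 - e i1) * (e i2 - e i3) with hG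
  set G' := (e i2 - e i3) * (e i0 - e i1) with hG'
  have k1 : G * (e i0 - e i2) * G' = e i1 - e i3 := by
    calc G * (e i0 - e i2) * G' = G * e i0 * G' - G * e i2 * G' := by noncomm_ring
      _ = e i1 - e i3 := by rw [c0, c2]
  have k2 : G * (e i1 - e i3) * G' = e i0 - e i2 := by
    calc G * (e i1 - e i3) * G' = G * e i1 * G' - G * e i3 * G' := by noncomm_ring
      _ = e i0 - e i2 := by rw [c1, c3]
  have k3 : G * ((e i0 - e i2) * (e i1 - e i3)) * G' = (e i1 - e i3) * (e i0 - e i2) := by
    calc G * ((e i0 - e i2) * (e i1 - e i3)) * G'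
        = G * (e i0 - e i2) * (G' * G) * (e i1 - e i3) * G' := by rw [hinv]; noncomm_ring
      _ = (G * (e i0 - e i2) * G') * (G * (e i1 - e i3) * G') := by noncomm_ring
      _ = (e i1 - e i3) * (e i0 - e i2) := by rw [k1, k2]
  rw [k3]
  exact h.uu_sq h13 h02 h01.symm h12 h03.symm h23.symm

end abstract

end Cfsg.Agent.Helper9.Dc
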