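import Mathlib
import Cfsg.Agent.Helper9.DcA
import Cfsg.Agent.Helper9.DcB

/-! The reflections `U i j`, the normalizing group `Nrm` and the homomorphism to `Perm (Fin n)`. -/

set_option autoImplicit false

namespace Cfsg.Agent.Helper9.Dc

variable {n : ℕ}

theorem three_eq_zero : (3 : Module.End K (W n)) = 0 := by
  have h : (3 : K) = 0 := by decide
  have : (3 : Module.End K (W n)) = algebraMap K _ (3 : K) :=
    (map_ofNat (algebraMap K (Module.End K (W n))) 3).symm
  rw [this, h, map_zero]

theorem cliffE : Cliff3 (E : Fin n → Module.End K (W n)) where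
  three := three_eq_zero
  sq := E_sq
  anti := fun _ _ h => E_anti h

/-- basis function of `W n`. -/
def bs (x : V n) : W n := Pi.single x 1

theorem E_bs (i : Fin n) (x : V n) : E i (bs x) = chi (pre i (x + dl i)) • bs (x + dl i) := by
  funext y
  simp only [E_apply, bs, Pi.smul_apply, smul_eq_mul]
  by_cases h : y = x + dl i
  · subst h
    rw [add_dl_dl]; simp
  · have h' : y + dl i ≠ x := by
      intro h2; apply h; rw [← h2, add_dl_dl]
    rw [Pi.single_eq_of_ne h', Pi.single_eq_of_ne h]; simp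

theorem dl_injective : Function.Injective (dl : Fin n → V n) := by
  intro i j h
  by_contra hij
  have := congrFun h i
  simp [dl, Pi.single_eq_of_ne hij] at this

theorem E_injective : Function.Injective (E : Fin n → Module.End K (W n)) := by
  intro i j h
  by_contra hij
  have h1 : E i (bs 0) (dl i) = E j (bs 0) (dl i) := by rw [h]
  rw [E_bs, E_bs] at h1
  simp only [Pi.smul_apply, smul_eq_mul, bs, zero_add] at h1
  rw [Pi.single_eq_same, Pi.single_eq_of_ne (fun h2 => hij (dl_injective h2))] at h1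
  simp [chi_ne_zero] at h1

/-- The reflection `E i - E j` as a unit. -/
def U (i j : Fin n) (hij : i ≠ j) : (Module.End K (W n))ˣ where
  val := E i - E j
  inv := E i - E j
  val_inv := cliffE.u_sq hij
  inv_val := cliffE.u_sq hij

@[simp] theorem U_val (i j : Fin n) (hij : i ≠ j) : ((U i j hij : (Module.End K (W n))ˣ) : Module.End K (W n)) = E i - E j := rfl

theorem U_inv (i j : Fin n) (hij : i ≠ j) : (U i j hij)⁻¹ = U i j hij := by
  ext1; rfl

/-- Units permuting the generators `E m` by conjugation. -/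
def Nrm (n : ℕ) : Subgroup (Module.End K (W n))ˣ where
  carrier := {g | ∃ σ : Equiv.Perm (Fin n), ∀ m, (g : Module.End K (W n)) * E m * ((g⁻¹ : (Module.End K (W n))ˣ) : Module.End K (W n)) = E (σ m)}
  one_mem' := ⟨1, fun m => by simp⟩
  mul_mem' := by
    rintro g h ⟨σ, hσ⟩ ⟨τ, hτ⟩
    refine ⟨σ * τ, fun m => ?_⟩
    have : ((g * h : (Module.End K (W n))ˣ) : Module.End K (W n)) * E m * (((g * h)⁻¹ : (Module.End K (W n))ˣ) : Module.End K (W n))
        = (g : Module.End K (W n)) * ((h : Module.End K (W n)) * E m * ((h⁻¹ : (Module.End K (W n))ˣ) : Module.End K (W n))) * ((g⁻¹ : (Module.End K (W n))ˣ) : Module.End K (W n)) := by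
      rw [mul_inv_rev, Units.val_mul, Units.val_mul]; noncomm_ring
    rw [this, hτ, hσ]; rfl
  inv_mem' := by
    rintro g ⟨σ, hσ⟩
    refine ⟨σ⁻¹, fun m => ?_⟩
    have h1 := hσ (σ⁻¹ m)
    rw [show σ (σ⁻¹ m) = m from σ.apply_symm_apply m] at h1
    rw [← h1, inv_inv]
    have : ((g⁻¹ : (Module.End K (W n))ˣ) : Module.End K (W n)) * ((g : Module.End K (W n)) * E (σ⁻¹ m) * ((g⁻¹ : (Module.End K (W n))ˣ) : Module.End K (W n))) * (g : Module.End K (W n))
        = (((g⁻¹ : (Module.End K (W n))ˣ) : Module.End K (W n)) * (g : Module.End K (W n))) * E (σ⁻¹ m) * ((((g⁻¹ : (Module.End K (W n))ˣ) : Module.End K (W n))) * (g : Module.End K (W n))) := by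
      noncomm_ring
    rw [this, Units.inv_mul]; simp

theorem mem_Nrm {g : (Module.End K (W n))ˣ} : g ∈ Nrm n ↔ ∃ σ : Equiv.Perm (Fin n), ∀ m, (g : Module.End K (W n)) * E m * ((g⁻¹ : (Module.End K (W n))ˣ) : Module.End K (W n)) = E (σ m) := Iff.rfl

/-- the permutation induced by an element of `Nrm`. -/
noncomputable def rhoFun (g : Nrm n) : Equiv.Perm (Fin n) := Classical.choose g.2

theorem rhoFun_spec (g : Nrm n) (m : Fin n) :
    ((g : (Module.End K (W n))ˣ) : Module.End K (W n)) * E m * (((g : (Module.End K (W n))ˣ)⁻¹ : (Module.End K (W n))ˣ) : Module.End K (W n)) = E (rhoFun g m) :=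
  Classical.choose_spec g.2 m

theorem rhoFun_eq (g : Nrm n) (σ : Equiv.Perm (Fin n))
    (h : ∀ m, ((g : (Module.End K (W n))ˣ) : Module.End K (W n)) * E m * (((g : (Module.End K (W n))ˣ)⁻¹ : (Module.End K (W n))ˣ) : Module.End K (W n)) = E (σ m)) :
    rhoFun g = σ := by
  ext m
  have := (rhoFun_spec g m).symm.trans (h m)
  exact congrArg _ (E_injective this)

/-- the homomorphism `Nrm n →* Perm (Fin n)`. -/
noncomputable def rho (n : ℕ) : Nrm n →* Equiv.Perm (Fin n) :=
  MonoidHom.mk' rhoFun (by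
    intro g h
    apply rhoFun_eq
    intro m
    have : (((g * h : Nrm n) : (Module.End K (W n))ˣ) : Module.End K (W n)) * E m * ((((g * h : Nrm n) : (Module.End K (W n))ˣ)⁻¹ : (Module.End K (W n))ˣ) : Module.End K (W n))
        = ((g : (Module.End K (W n))ˣ) : Module.End K (W n)) * (((h : (Module.End K (W n))ˣ) : Module.End K (W n)) * E m * (((h : (Module.End K (W n))ˣ)⁻¹ : (Module.End K (W n))ˣ) : Module.End K (W n))) * (((g : (Module.End K (W n))ˣ)⁻¹ : (Module.End K (W n))ˣ) : Module.End K (W n)) := by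
      rw [Subgroup.coe_mul, mul_inv_rev, Units.val_mul, Units.val_mul]; noncomm_ring
    rw [this, rhoFun_spec, rhoFun_spec]; rfl)

theorem rho_apply (g : Nrm n) : rho n g = rhoFun g := rfl

end Cfsg.Agent.Helper9.Dc
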