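import Mathlib
import Cfsg.Agent.Helper9.DcC

/-! The group `Gam n` generated by products of two reflections and its map onto `A_n`. -/

set_option autoImplicit false

namespace Cfsg.Agent.Helper9.Dc

variable {n : ℕ}

/-- generating set. -/
def gens (n : ℕ) : Set (Module.End K (W n))ˣ :=
  {g | ∃ (i j k l : Fin n) (hij : i ≠ j) (hkl : k ≠ l), g = U i j hij * U k l hkl}

/-- the double cover. -/
def Gam (n : ℕ) : Subgroup (Module.End K (W n))ˣ := Subgroup.closure (gens n)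

theorem UU_conj {i j k l : Fin n} (hij : i ≠ j) (hkl : k ≠ l) (m : Fin n) :
    ((U i j hij * U k l hkl : (Module.End K (W n))ˣ) : Module.End K (W n)) * E m *
      (((U i j hij * U k l hkl)⁻¹ : (Module.End K (W n))ˣ) : Module.End K (W n))
      = E ((Equiv.swap i j * Equiv.swap k l) m) := by
  rw [mul_inv_rev, U_inv, U_inv, Units.val_mul, Units.val_mul, U_val, U_val]
  exact cliffE.conj_uu hij hkl m

theorem gens_le_Nrm : gens n ⊆ Nrm n := by
  rintro g ⟨i, j, k, l, hij, hkl, rfl⟩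
  exact ⟨Equiv.swap i j * Equiv.swap k l, UU_conj hij hkl⟩

theorem Gam_le_Nrm : Gam n ≤ Nrm n := (Subgroup.closure_le _).mpr gens_le_Nrm

/-- restriction of `rho` to `Gam`. -/
noncomputable def rhoG (n : ℕ) : Gam n →* Equiv.Perm (Fin n) :=
  (rho n).comp (Subgroup.inclusion Gam_le_Nrm)

theorem rhoG_conj (g : Gam n) (m : Fin n) :
    ((g : (Module.End K (W n))ˣ) : Module.End K (W n)) * E m *
      (((g : (Module.End K (W n))ˣ)⁻¹ : (Module.End K (W n))ˣ) : Module.End K (W n)) = E (rhoG n g m) :=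
  rhoFun_spec (Subgroup.inclusion Gam_le_Nrm g) m

theorem rhoG_eq (g : Gam n) (σ : Equiv.Perm (Fin n))
    (h : ∀ m, ((g : (Module.End K (W n))ˣ) : Module.End K (W n)) * E m *
      (((g : (Module.End K (W n))ˣ)⁻¹ : (Module.End K (W n))ˣ) : Module.End K (W n)) = E (σ m)) :
    rhoG n g = σ :=
  rhoFun_eq (Subgroup.inclusion Gam_le_Nrm g) σ h

theorem UU_mem {i j k l : Fin n} (hij : i ≠ j) (hkl : k ≠ l) : U i j hij * U k l hkl ∈ Gam n :=
  Subgroup.subset_closure ⟨i, j, k, l, hij, hkl, rfl⟩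

theorem rhoG_UU {i j k l : Fin n} (hij : i ≠ j) (hkl : k ≠ l) :
    rhoG n ⟨U i j hij * U k l hkl, UU_mem hij hkl⟩ = Equiv.swap i j * Equiv.swap k l :=
  rhoG_eq _ _ (UU_conj hij hkl)

theorem range_rhoG : (rhoG n).range = alternatingGroup (Fin n) := by
  apply le_antisymm
  · rintro _ ⟨g, rfl⟩
    obtain ⟨g, hg⟩ := g
    induction hg using Subgroup.closure_induction with
    | mem x hx =>
      obtain ⟨i, j, k, l, hij, hkl, rfl⟩ := hx
      rw [rhoG_UU]
      exact Equiv.Perm.mul_mem_alternatingGroup_of_isSwap ⟨i, j, hij, rfl⟩ ⟨k, l, hkl, rfl⟩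
    | one => exact (rhoG n).map_one ▸ one_mem _
    | mul x y hx hy ihx ihy =>
      have : (⟨x * y, mul_mem hx hy⟩ : Gam n) = ⟨x, hx⟩ * ⟨y, hy⟩ := rfl
      rw [this, map_mul]; exact mul_mem ihx ihy
    | inv x hx ih =>
      have : (⟨x⁻¹, inv_mem hx⟩ : Gam n) = ⟨x, hx⟩⁻¹ := rfl
      rw [this, map_inv]; exact inv_mem ih
  · rw [← Equiv.Perm.closure_three_cycles_eq_alternating, Subgroup.closure_le]
    intro σ hσ
    have hσ3 : σ.IsThreeCycle := hσ
    obtain ⟨a, ha⟩ : ∃ a, a ∈ σ.support := by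
      have := hσ3.card_support
      exact Finset.card_pos.mp (by omega)
    have h1 := hσ3.eq_swap_mul_swap_iff_mem_support.mpr ha
    have hne1 : a ≠ σ a := fun h => (Equiv.Perm.mem_support.mp ha) h.symm
    have hne2 : σ a ≠ σ (σ a) := fun h => hne1 (σ.injective h)
    refine ⟨⟨U a (σ a) hne1 * U (σ a) (σ (σ a)) hne2, UU_mem hne1 hne2⟩, ?_⟩
    rw [rhoG_UU]; exact h1.symm

end Cfsg.Agent.Helper9.Dc
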