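import Mathlib
import Cfsg.Agent.Helper9.DcD

/-! Kernel of `rhoG`: elements of `Gam n` commuting with all `E m` are scalars. -/

set_option autoImplicit false

namespace Cfsg.Agent.Helper9.Dc

variable {n : ℕ}

/-- total parity functional. -/
def par (x : V n) : ZMod 2 := ∑ j, x j

theorem par_add (x y : V n) : par (x + y) = par x + par y := by
  simp [par, Finset.sum_add_distrib]

theorem par_dl (i : Fin n) : par (dl i) = 1 := by
  unfold par dl
  rw [Finset.sum_pi_single']
  simp

theorem pre_add_suf (m : Fin n) (y : V n) : pre m y + suf m y = par y + y m := by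
  unfold pre suf par
  rw [Finset.sum_filter, Finset.sum_filter, ← Finset.sum_add_distrib]
  have h2 : y m = ∑ j, if j = m then y j else 0 := by
    rw [Finset.sum_ite_eq' Finset.univ m (fun j => y j)]; simp
  rw [h2, ← Finset.sum_add_distrib]
  apply Finset.sum_congr rfl
  intro j _
  have hz : ∀ a : ZMod 2, a + a = 0 := by decide
  rcases lt_trichotomy j m with h | h | h
  · rw [if_pos h.le, if_neg (not_le.mpr h), if_neg h.ne]
  · subst h; simp [hz]
  · rw [if_neg (not_le.mpr h), if_pos h.le, if_neg h.ne']; simp

/-- parity operator. -/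
def Par : Module.End K (W n) where
  toFun f x := chi (par x) * f x
  map_add' f g := by funext x; simp [mul_add]
  map_smul' c f := by funext x; simp [mul_left_comm]

@[simp] theorem Par_apply (f : W n) (x : V n) : Par f x = chi (par x) * f x := rfl

theorem E_anti_Par (i : Fin n) : E i * Par = -(Par * E i) := by
  apply LinearMap.ext; intro f; funext x
  simp only [Module.End.mul_apply, E_apply, Par_apply, LinearMap.neg_apply, Pi.neg_apply]
  rw [par_add, par_dl, chi_add, chi_one]; ring

section abs
variable {R : Type*} [Ring R]

theorem anti_sub {a b p : R} (ha : a * p = -(p * a)) (hb : b * p = -(p * b)) :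
    (a - b) * p = -(p * (a - b)) := by
  rw [sub_mul, ha, hb]; noncomm_ring

theorem anti_anti_comm {u v p : R} (hu : u * p = -(p * u)) (hv : v * p = -(p * v)) :
    (u * v) * p = p * (u * v) := by
  rw [mul_assoc, hv, mul_neg, ← mul_assoc, hu, neg_mul, neg_neg, mul_assoc]

end abs

/-- units commuting with a fixed operator. -/
def cen (T : Module.End K (W n)) : Subgroup (Module.End K (W n))ˣ where
  carrier := {g | (g : Module.End K (W n)) * T = T * g}
  one_mem' := by simp
  mul_mem' := by
    intro g h hg hh
    simp only [Set.mem_ofPred_eq, Units.val_mul] at *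
    rw [mul_assoc, hh, ← mul_assoc, hg, mul_assoc]
  inv_mem' := by
    intro g hg
    simp only [Set.mem_ofPred_eq] at *
    have : ((g⁻¹ : (Module.End K (W n))ˣ) : Module.End K (W n)) * ((g : Module.End K (W n)) * T) * ((g⁻¹ : (Module.End K (W n))ˣ) : Module.End K (W n))
        = ((g⁻¹ : (Module.End K (W n))ˣ) : Module.End K (W n)) * (T * g) * ((g⁻¹ : (Module.End K (W n))ˣ) : Module.End K (W n)) := by rw [hg]
    rw [← mul_assoc, Units.inv_mul, one_mul, mul_assoc, mul_assoc, Units.mul_inv, mul_one] at this
    exact this.symm

theorem mem_cen {T : Module.End K (W n)} {g : (Module.End K (W n))ˣ} :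
    g ∈ cen T ↔ (g : Module.End K (W n)) * T = T * g := Iff.rfl

theorem Gam_le_cen_E' (j : Fin n) : Gam n ≤ cen (E' j) := by
  rw [Gam, Subgroup.closure_le]
  rintro g ⟨i, i', k, l, hij, hkl, rfl⟩
  rw [SetLike.mem_coe, mem_cen, Units.val_mul, U_val, U_val]
  have h1 : Commute (E i - E i') (E' j) :=
    Commute.sub_left (E_comm_E' i j) (E_comm_E' i' j)
  have h2 : Commute (E k - E l) (E' j) :=
    Commute.sub_left (E_comm_E' k j) (E_comm_E' l j)
  exact (h1.mul_left h2).eq

theorem Gam_le_cen_Par : Gam n ≤ cen (Par : Module.End K (W n)) := by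
  rw [Gam, Subgroup.closure_le]
  rintro g ⟨i, i', k, l, hij, hkl, rfl⟩
  rw [SetLike.mem_coe, mem_cen, Units.val_mul, U_val, U_val]
  exact anti_anti_comm (anti_sub (E_anti_Par i) (E_anti_Par i'))
    (anti_sub (E_anti_Par k) (E_anti_Par l))

theorem bs_apply_ne {x y : V n} (h : y ≠ x) : bs x y = 0 := by
  unfold bs; exact Pi.single_eq_of_ne h _

theorem bs_apply_self (x : V n) : bs x x = 1 := by
  unfold bs; exact Pi.single_eq_same _ _

theorem eq_zero_of_forall (y : V n) (hp : par y = 0) (h : ∀ m, pre m y + suf m y = 0) : y = 0 := by
  funext m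
  have := h m
  rw [pre_add_suf, hp, zero_add] at this
  exact this

/-- the key lemma: an operator commuting with all `E m`, `E' m` and `Par` is a scalar. -/
theorem scalar_of_commute (g : Module.End K (W n)) (hE : ∀ m, g * E m = E m * g)
    (hE' : ∀ m, g * E' m = E' m * g) (hP : g * Par = Par * g) :
    ∃ c : K, g = c • (1 : Module.End K (W n)) := by
  set h : W n := g (bs 0) with hh
  -- `h` is supported at `0`
  have hsupp : ∀ y, y ≠ 0 → h y = 0 := by
    intro y hy
    by_contra hne
    have hpar : par y = 0 := by
      have h1 : Par h = h := by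
        have := congrArg (fun T : Module.End K (W n) => T (bs 0)) hP
        simp only [Module.End.mul_apply] at this
        rw [← hh] at this
        rw [← this]
        congr 1
        funext x
        by_cases hx : x = 0
        · subst hx; simp [par, chi_zero]
        · simp [bs_apply_ne hx]
      have h2 := congrFun h1 y
      rw [Par_apply] at h2
      have h3 : chi (par y) = 1 := by
        have := mul_right_cancel₀ hne (h2.trans (one_mul _).symm)
        exact this
      exact (chi_eq_iff _ _).mp (h3.trans chi_zero.symm)
    apply hy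
    apply eq_zero_of_forall y hpar
    intro m
    have hD : g * (E m * E' m) = (E m * E' m) * g := by
      rw [← mul_assoc, hE, mul_assoc, hE', ← mul_assoc]
    have h1 : (E m * E' m) h = -h := by
      have := congrArg (fun T : Module.End K (W n) => T (bs 0)) hD
      simp only [Module.End.mul_apply] at this
      rw [← hh] at this
      rw [Module.End.mul_apply, ← this]
      have : E m (E' m (bs 0)) = -(bs 0) := by
        funext x
        simp only [E_apply, E'_apply, Pi.neg_apply]
        rw [add_dl_dl]
        by_cases hx : x = 0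
        · subst hx
          rw [zero_add, suf_dl, if_pos le_rfl, bs_apply_self]
          simp [pre, chi_zero, chi_one]
        · simp [bs_apply_ne hx]
      rw [this, map_neg]
    have h2 := congrFun h1 y
    simp only [Module.End.mul_apply, E_apply, E'_apply, Pi.neg_apply] at h2
    rw [add_dl_dl, suf_add, suf_dl, if_pos le_rfl, ← mul_assoc, ← chi_add, ← add_assoc] at h2
    have h3 : chi (pre m y + suf m y + 1) = -1 := by
      have h4 : chi (pre m y + suf m y + 1) * h y = (-1) * h y := by rw [h2]; ring
      exact mul_right_cancel₀ hne h4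
    have h5 := (chi_eq_iff _ _).mp (h3.trans chi_one.symm)
    have hz : ∀ a : ZMod 2, a + 1 = 1 → a = 0 := by decide
    exact hz _ h5
  refine ⟨h 0, ?_⟩
  have h0 : g (bs 0) = h 0 • bs 0 := by
    rw [← hh]
    funext y
    by_cases hy : y = 0
    · subst hy; simp [bs_apply_self]
    · simp [hsupp y hy, bs_apply_ne hy]
  -- propagate along the `E i`
  have hstep : ∀ (x : V n) (i : Fin n), g (bs x) = h 0 • bs x → g (bs (x + dl i)) = h 0 • bs (x + dl i) := by
    intro x i hx
    have h1 := E_bs i x
    have hc := chi_mul_self (pre i (x + dl i))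
    have h2 : bs (x + dl i) = chi (pre i (x + dl i)) • E i (bs x) := by
      rw [h1, smul_smul, hc, one_smul]
    rw [h2, map_smul]
    have h3 : g (E i (bs x)) = E i (g (bs x)) := by
      have := congrArg (fun T : Module.End K (W n) => T (bs x)) (hE i)
      simpa only [Module.End.mul_apply] using this
    rw [h3, hx, map_smul, smul_comm]
  have hall : ∀ s : Finset (Fin n), g (bs (∑ i ∈ s, dl i)) = h 0 • bs (∑ i ∈ s, dl i) := by
    intro s
    induction s using Finset.induction_on with
    | empty => simpa using h0
    | insert a s ha ih =>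
      rw [Finset.sum_insert ha, add_comm]
      exact hstep _ a ih
  have hx : ∀ x : V n, x = ∑ i ∈ Finset.univ.filter (fun i => x i = 1), dl i := by
    intro x
    funext j
    rw [Finset.sum_apply]
    have : ∀ i, dl i j = if i = j then (1 : ZMod 2) else 0 := by
      intro i
      unfold dl
      by_cases hij : i = j
      · subst hij; simp
      · rw [if_neg hij, Pi.single_eq_of_ne (Ne.symm hij)]
    simp only [this]
    rw [Finset.sum_ite_eq']
    have hz : ∀ a : ZMod 2, a = if a = 1 then 1 else 0 := by decide
    simpa using hz (x j)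
  apply LinearMap.pi_ext
  intro x c
  have h1 : (Pi.single x c : W n) = c • bs x := by
    funext y
    by_cases hy : y = x
    · subst hy; simp [bs]
    · simp [bs, Pi.single_eq_of_ne hy]
  rw [h1, map_smul, LinearMap.smul_apply, Module.End.one_apply]
  have := hall (Finset.univ.filter (fun i => x i = 1))
  rw [← hx x] at this
  rw [this, smul_comm]

end Cfsg.Agent.Helper9.Dc
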