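import Mathlib
import Cfsg.Agent.Helper9.DcE

/-! Assembly: `Gam n` is a double cover of `A_n` for `n ≥ 4`. -/

set_option autoImplicit false

open scoped commutatorElement

namespace Cfsg.Agent.Helper9.Dc

section abstract
variable {R M : Type*} [Ring R] [AddCommGroup M] [Module R M]

theorem aux_neg_one_smul (w : M) : (-1 : R) • w = -w := by simp

theorem aux_units_inv : ((-1 : Rˣ)⁻¹) = -1 := by
  apply inv_eq_of_mul_eq_one_right
  ext1
  simp

theorem aux_conj_neg (e : R) : (-1 : R) * e * (-1) = e := by noncomm_ring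

end abstract

variable {n : ℕ}

instance finEnd : Finite (Module.End K (W n)) :=
  Finite.of_injective (fun f : Module.End K (W n) => (f : W n → W n)) DFunLike.coe_injective

theorem neg_one_ne_one : (-1 : Module.End K (W n)) ≠ 1 := by
  intro h
  have h1 : (-1 : Module.End K (W n)) (bs 0) 0 = (1 : Module.End K (W n)) (bs 0) 0 := by rw [h]
  simp only [LinearMap.neg_apply, Module.End.one_apply, Pi.neg_apply, bs_apply_self] at h1
  exact absurd h1 (by decide : ((-1 : ZMod 3) ≠ 1))

theorem zero_ne_one' : (0 : Module.End K (W n)) ≠ 1 := by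
  intro h
  apply neg_one_ne_one (n := n)
  rw [← h, neg_zero]

/-- kernel elements are `±1`. -/
theorem ker_cases (g : Gam n) (hg : rhoG n g = 1) :
    (g : (Module.End K (W n))ˣ) = 1 ∨ (g : (Module.End K (W n))ˣ) = -1 := by
  have hE : ∀ m, ((g : (Module.End K (W n))ˣ) : Module.End K (W n)) * E m
      = E m * ((g : (Module.End K (W n))ˣ) : Module.End K (W n)) := by
    intro m
    have h1 := rhoG_conj g m
    rw [hg] at h1
    have h2 : ((g : (Module.End K (W n))ˣ) : Module.End K (W n)) * E m *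
        (((g : (Module.End K (W n))ˣ)⁻¹ : (Module.End K (W n))ˣ) : Module.End K (W n)) *
        ((g : (Module.End K (W n))ˣ) : Module.End K (W n)) = E m * ((g : (Module.End K (W n))ˣ) : Module.End K (W n)) := by
      rw [h1]; rfl
    rw [mul_assoc, Units.inv_mul, mul_one] at h2
    exact h2
  have hE' : ∀ m, ((g : (Module.End K (W n))ˣ) : Module.End K (W n)) * E' m
      = E' m * ((g : (Module.End K (W n))ˣ) : Module.End K (W n)) :=
    fun m => mem_cen.mp (Gam_le_cen_E' m g.2)
  have hP := mem_cen.mp (Gam_le_cen_Par g.2)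
  obtain ⟨c, hc⟩ := scalar_of_commute _ hE hE' hP
  have hc0 : c ≠ 0 := by
    rintro rfl
    rw [zero_smul] at hc
    have h1 := Units.mul_inv (g : (Module.End K (W n))ˣ)
    rw [hc, zero_mul] at h1
    exact zero_ne_one' h1
  have hcc : ∀ c : K, c ≠ 0 → c = 1 ∨ c = -1 := by decide
  rcases hcc c hc0 with rfl | rfl
  · left; ext1; rw [hc, one_smul]; rfl
  · right; ext1; rw [hc]
    refine LinearMap.ext fun w => ?_
    rw [Units.val_neg, Units.val_one, LinearMap.smul_apply, LinearMap.neg_apply,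
      Module.End.one_apply]
    exact aux_neg_one_smul w

section four
variable (hn : 4 ≤ n)
include hn

/-- four distinct indices. -/
def ix (k : ℕ) (hk : k < 4) : Fin n := ⟨k, by omega⟩

theorem ix_ne {a b : ℕ} (ha : a < 4) (hb : b < 4) (hab : a ≠ b) : ix hn a ha ≠ ix hn b hb := by
  intro h; apply hab; exact congrArg Fin.val h

/-- the lift of `(01)(23)`. -/
def gA : (Module.End K (W n))ˣ :=
  U (ix hn 0 (by omega)) (ix hn 1 (by omega)) (ix_ne hn _ _ (by omega)) *
    U (ix hn 2 (by omega)) (ix hn 3 (by omega)) (ix_ne hn _ _ (by omega))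

/-- the lift of `(02)(13)`. -/
def gB : (Module.End K (W n))ˣ :=
  U (ix hn 0 (by omega)) (ix hn 2 (by omega)) (ix_ne hn _ _ (by omega)) *
    U (ix hn 1 (by omega)) (ix hn 3 (by omega)) (ix_ne hn _ _ (by omega))

theorem gA_mem : gA hn ∈ Gam n := UU_mem _ _
theorem gB_mem : gB hn ∈ Gam n := UU_mem _ _

theorem gA_sq : gA hn * gA hn = -1 := by
  ext1
  rw [Units.val_mul, gA, Units.val_mul, U_val, U_val, Units.val_neg, Units.val_one]
  exact cliffE.uu_sq (ix_ne hn _ _ (by omega)) (ix_ne hn _ _ (by omega)) (ix_ne hn _ _ (by omega))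
    (ix_ne hn _ _ (by omega)) (ix_ne hn _ _ (by omega)) (ix_ne hn _ _ (by omega))

theorem neg_one_mem : (-1 : (Module.End K (W n))ˣ) ∈ Gam n := by
  rw [← gA_sq hn]; exact mul_mem (gA_mem hn) (gA_mem hn)

theorem comm_gA_gB : gA hn * gB hn * (gA hn)⁻¹ * (gB hn)⁻¹ = -1 := by
  ext1
  rw [gA, gB, mul_inv_rev, mul_inv_rev, U_inv, U_inv, U_inv, U_inv]
  simp only [Units.val_mul, U_val, Units.val_neg, Units.val_one]
  exact cliffE.comm_eq (ix_ne hn _ _ (by omega)) (ix_ne hn _ _ (by omega)) (ix_ne hn _ _ (by omega))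
    (ix_ne hn _ _ (by omega)) (ix_ne hn _ _ (by omega)) (ix_ne hn _ _ (by omega))

/-- the central involution. -/
def zG : Gam n := ⟨-1, neg_one_mem hn⟩

theorem zG_center : zG hn ∈ Subgroup.center (Gam n) := by
  rw [Subgroup.mem_center_iff]
  intro g
  ext1; ext1
  simp [zG]

theorem zG_sq : zG hn ^ 2 = 1 := by
  ext1; ext1
  simp [zG, pow_two]

theorem zG_ne_one : zG hn ≠ 1 := by
  intro h
  have h1 := congrArg (fun g : Gam n => ((g : (Module.End K (W n))ˣ) : Module.End K (W n))) h
  simp only [zG, Units.val_neg, Units.val_one, OneMemClass.coe_one] at h1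
  exact neg_one_ne_one h1

theorem orderOf_zG : orderOf (zG hn) = 2 :=
  orderOf_eq_prime (zG_sq hn) (zG_ne_one hn)

theorem zG_mem_commutator : zG hn ∈ commutator (Gam n) := by
  have h1 : ⁅(⟨gA hn, gA_mem hn⟩ : Gam n), ⟨gB hn, gB_mem hn⟩⁆ = zG hn := by
    rw [commutatorElement_def]
    ext1
    simp only [Subgroup.coe_mul, Subgroup.coe_inv, zG]
    exact comm_gA_gB hn
  rw [← h1]
  exact Subgroup.commutator_mem_commutator (Subgroup.mem_top _) (Subgroup.mem_top _)

theorem rhoG_zG : rhoG n (zG hn) = 1 := by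
  apply rhoG_eq
  intro m
  have h1 : ((-1 : (Module.End K (W n))ˣ)⁻¹) = -1 :=
    aux_units_inv
  show ((zG hn : (Module.End K (W n))ˣ) : Module.End K (W n)) * E m *
    (((zG hn : (Module.End K (W n))ˣ)⁻¹ : (Module.End K (W n))ˣ) : Module.End K (W n)) = E ((1 : Equiv.Perm (Fin n)) m)
  have h2 : (zG hn : (Module.End K (W n))ˣ) = -1 := rfl
  rw [h2, h1, Units.val_neg, Units.val_one, Equiv.Perm.one_apply]
  exact aux_conj_neg _

theorem ker_rhoG : (rhoG n).ker = Subgroup.zpowers (zG hn) := by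
  apply le_antisymm
  · intro g hg
    rcases ker_cases g (MonoidHom.mem_ker.mp hg) with h | h
    · have : g = 1 := Subtype.ext h
      rw [this]; exact one_mem _
    · have : g = zG hn := Subtype.ext h
      rw [this]; exact Subgroup.mem_zpowers _
  · rw [Subgroup.zpowers_le]
    exact MonoidHom.mem_ker.mpr (rhoG_zG hn)

end four

/-- `rhoG` corestricted to `A_n`. -/
noncomputable def phi (n : ℕ) : Gam n →* alternatingGroup (Fin n) :=
  (rhoG n).codRestrict (alternatingGroup (Fin n)) (fun g => by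
    rw [← range_rhoG]; exact ⟨g, rfl⟩)

theorem phi_surjective : Function.Surjective (phi n) := by
  rintro ⟨σ, hσ⟩
  rw [← range_rhoG] at hσ
  obtain ⟨g, rfl⟩ := hσ
  exact ⟨g, rfl⟩

theorem ker_phi : (phi n).ker = (rhoG n).ker := by
  ext g
  rw [MonoidHom.mem_ker, MonoidHom.mem_ker]
  constructor
  · intro h; exact congrArg Subtype.val h
  · intro h; exact Subtype.ext h

theorem exists_double_cover (hn : 4 ≤ n) :
    ∃ (Γ : Type) (_ : Group Γ) (_ : Finite Γ) (z : Γ) (_ : z ∈ Subgroup.center Γ),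
      orderOf z = 2 ∧ z ∈ commutator Γ ∧ ∃ _ : (Subgroup.zpowers z).Normal,
        Nonempty (Γ ⧸ Subgroup.zpowers z ≃* alternatingGroup (Fin n)) := by
  refine ⟨Gam n, inferInstance, inferInstance, zG hn, zG_center hn, orderOf_zG hn,
    zG_mem_commutator hn, ?_⟩
  have hk : (phi n).ker = Subgroup.zpowers (zG hn) := ker_phi.trans (ker_rhoG hn)
  have hN : (Subgroup.zpowers (zG hn)).Normal := hk ▸ (inferInstance : (phi n).ker.Normal)
  refine ⟨hN, ⟨?_⟩⟩
  exact (QuotientGroup.quotientMulEquivOfEq hk.symm).trans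
    (QuotientGroup.quotientKerEquivOfSurjective (phi n) phi_surjective)

end Cfsg.Agent.Helper9.Dc
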