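import Cfsg.Agent.Helper22.S1589Basic

/-! S1589 piece SMALLFIX: a permutation with `g ^ p = 1` (`p` prime) preserving a set of fewer
than `p` points fixes it pointwise. -/

set_option autoImplicit false

namespace Cfsg.Agent.S1589P

open Cfsg

/-- SMALLFIX -/
theorem fix_of_small_prime {g : Equiv.Perm GolayPt} {p : ℕ} [Fact p.Prime] (hg : g ^ p = 1) (R : Finset GolayPt)
    (hR : R.card < p) (hinv : ∀ q, g q ∈ R ↔ q ∈ R) : ∀ q ∈ R, g q = q := by
  classical
  have hp : p.Prime := Fact.out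
  set σ : Equiv.Perm {q // q ∈ R} := g.subtypePerm hinv with hσ
  have hσp : σ ^ p = 1 := by
    rw [hσ, Equiv.Perm.subtypePerm_pow]
    ext q
    simp [hg]
  have h1 : orderOf σ ∣ p := orderOf_dvd_of_pow_eq_one hσp
  have h2 : orderOf σ ∣ Fintype.card (Equiv.Perm {q // q ∈ R}) := orderOf_dvd_card
  rw [Fintype.card_perm, Fintype.card_coe] at h2
  have hcop : Nat.Coprime p (R.card).factorial := by
    rw [Nat.Prime.coprime_iff_not_dvd hp]
    intro hd
    rw [Nat.Prime.dvd_factorial hp] at hd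
    omega
  have h3 : orderOf σ ∣ 1 := by
    have := Nat.dvd_gcd h1 h2
    rwa [hcop] at this
  have hσ1 : σ = 1 := by
    rw [← orderOf_eq_one_iff]
    exact Nat.dvd_one.mp h3
  intro q hq
  have : σ ⟨q, hq⟩ = ⟨q, hq⟩ := by rw [hσ1]; rfl
  have h4 := congrArg Subtype.val this
  simpa [hσ] using h4

end Cfsg.Agent.S1589P
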