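import Mathlib
import Cfsg.Agent.Helper2.S2094.DefsR

set_option autoImplicit false
set_option linter.unusedSectionVars false
set_option linter.unusedVariables false

/-! S2094 chapter K, piece BLOCKD (helper9; driver helper2): the subgroup `MD X` generated by the long
root elements is a group with the relations of type `D_n`, and the natural representation is block
diagonal on it. -/

namespace Cfsg.Agent.S2094P

open Matrix Cfsg.Agent.S3352P Cfsg.Agent.S3351P Cfsg.Agent.S2096P Cfsg.Agent.RGD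

variable {n : ℕ} {F : Type*} [Field F] {M : Type*} [Group M] {X : J n → J n → F → M}
  {Ys : J n → F → M}

namespace BLOCKD

theorem coe_cm {H : Subgroup M} (x y : ↥H) : ((cm x y : ↥H) : M) = cm (x : M) (y : M) := by
  rw [cm_def, cm_def]
  simp only [Subgroup.coe_mul, Subgroup.coe_inv]

theorem X_mem_MD {a b : J n} (hab : IsRoot a b) (t : F) : X a b t ∈ MD X :=
  Subgroup.subset_closure ⟨a, b, t, hab, rfl⟩

theorem eq_XD_iff {a b : J n} (hab : IsRoot a b) (t : F) (g : ↥(MD X)) :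
    g = XD X a b t ↔ (g : M) = X a b t := by
  rw [← XD_coe X hab t]
  exact Subtype.ext_iff

/-- block diagonal with upper left corner `1` -/
def IsBlk (A : Matrix (I n) (I n) F) : Prop := ∃ B : Matrix (J n) (J n) F, A = blkB B

theorem blkB_one : blkB (1 : Matrix (J n) (J n) F) = 1 := by
  unfold blkB
  exact Matrix.fromBlocks_one

theorem blkB_mul (A B : Matrix (J n) (J n) F) : blkB A * blkB B = blkB (A * B) := by
  unfold blkB
  rw [Matrix.fromBlocks_multiply]
  simp

theorem toBlocks₂₂_blkB (A : Matrix (J n) (J n) F) : (blkB A).toBlocks₂₂ = A := by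
  unfold blkB
  exact Matrix.toBlocks_fromBlocks₂₂ _ _ _ _

theorem isBlk_one : IsBlk (1 : Matrix (I n) (I n) F) := ⟨1, blkB_one.symm⟩

theorem isBlk_mul {A B : Matrix (I n) (I n) F} (hA : IsBlk A) (hB : IsBlk B) : IsBlk (A * B) := by
  obtain ⟨A', rfl⟩ := hA
  obtain ⟨B', rfl⟩ := hB
  exact ⟨A' * B', blkB_mul A' B'⟩

theorem isBlk_inv {A B : Matrix (I n) (I n) F} (hA : IsBlk A) (h1 : A * B = 1) (h2 : B * A = 1) :
    IsBlk B := by
  obtain ⟨A', rfl⟩ := hA
  refine ⟨B.toBlocks₂₂, ?_⟩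
  have hB : B = Matrix.fromBlocks B.toBlocks₁₁ B.toBlocks₁₂ B.toBlocks₂₁ B.toBlocks₂₂ :=
    (Matrix.fromBlocks_toBlocks B).symm
  have e1 : Matrix.fromBlocks (1 : Matrix Unit Unit F) 0 0 A' *
      Matrix.fromBlocks B.toBlocks₁₁ B.toBlocks₁₂ B.toBlocks₂₁ B.toBlocks₂₂ = 1 := by
    rw [← hB]
    exact h1
  have e2 : Matrix.fromBlocks B.toBlocks₁₁ B.toBlocks₁₂ B.toBlocks₂₁ B.toBlocks₂₂ *
      Matrix.fromBlocks (1 : Matrix Unit Unit F) 0 0 A' = 1 := by
    rw [← hB]
    exact h2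
  rw [Matrix.fromBlocks_multiply, ← Matrix.fromBlocks_one, Matrix.fromBlocks_inj] at e1 e2
  obtain ⟨e11, e12, -, -⟩ := e1
  obtain ⟨-, -, e21, -⟩ := e2
  unfold blkB
  rw [hB, Matrix.fromBlocks_inj]
  refine ⟨?_, ?_, ?_, ?_⟩
  · simpa using e11
  · simpa using e12
  · simpa using e21
  · simp

theorem xmB_eq_blkB (a b : J n) (t : F) : xmB a b t = blkB (xm a b t) := by
  unfold xmB xm blkB
  ext (i | i) (j | j)
  · simp
  · simp
  · simp
  · simp [Matrix.one_apply, Matrix.single_apply]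

end BLOCKD

open BLOCKD

/-- BLOCKD: the subgroup generated by the long root elements is a group with the relations of type
`D_n` -/
theorem dRel_XD (hX : DRel X) : DRel (XD X) where
  flip a b hab t := by
    apply Subtype.ext
    rw [XD_coe X hab.flip, XD_coe X hab]
    exact hX.flip a b hab t
  add a b hab s t := by
    apply Subtype.ext
    rw [Subgroup.coe_mul, XD_coe X hab, XD_coe X hab, XD_coe X hab]
    exact hX.add a b hab s t
  mul a b c hab hbc hac s t := by
    apply Subtype.ext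
    rw [coe_cm, XD_coe X hab, XD_coe X hbc, XD_coe X hac]
    exact hX.mul a b c hab hbc hac s t
  comm a b c d hab hcd h1 h2 h3 h4 h5 h6 s t := by
    apply Subtype.ext
    rw [Subgroup.coe_mul, Subgroup.coe_mul, XD_coe X hab, XD_coe X hcd]
    exact hX.comm a b c d hab hcd h1 h2 h3 h4 h5 h6 s t
  orth a b hab s t := by
    apply Subtype.ext
    rw [Subgroup.coe_mul, Subgroup.coe_mul, XD_coe X hab, XD_coe X (isRoot_ng_right' hab)]
    exact hX.orth a b hab s t

theorem closure_XD :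
    Subgroup.closure {g : ↥(MD X) | ∃ a b, ∃ t : F, IsRoot a b ∧ g = XD X a b t} = ⊤ := by
  have h := Subgroup.closure_closure_coe_preimage
    (k := {g : M | ∃ a b, ∃ t : F, IsRoot a b ∧ g = X a b t})
  have hset : {g : ↥(MD X) | ∃ a b, ∃ t : F, IsRoot a b ∧ g = XD X a b t} =
      ((↑) ⁻¹' {g : M | ∃ a b, ∃ t : F, IsRoot a b ∧ g = X a b t} : Set ↥(MD X)) := by
    ext g
    simp only [Set.mem_ofPred_eq, Set.mem_preimage]
    constructor
    · rintro ⟨a, b, t, hab, rfl⟩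
      exact ⟨a, b, t, hab, XD_coe X hab t⟩
    · rintro ⟨a, b, t, hab, hg⟩
      exact ⟨a, b, t, hab, (eq_XD_iff hab t g).2 hg⟩
  rw [hset]
  exact h

theorem coe_wX_XD {a b : J n} (hab : IsRoot a b) (t : F) :
    ((wX (XD X) a b t : ↥(MD X)) : M) = wX X a b t := by
  unfold wX
  rw [Subgroup.coe_mul, Subgroup.coe_mul, XD_coe X hab, XD_coe X hab.symm]

theorem coe_tX_XD {a b : J n} (hab : IsRoot a b) (t : F) :
    ((tX (XD X) a b t : ↥(MD X)) : M) = tX X a b t := by
  unfold tX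
  rw [Subgroup.coe_mul, coe_wX_XD hab, coe_wX_XD hab]

theorem map_Uh_XD : (Uh (XD X)).map (MD X).subtype = Uh X := by
  unfold Uh
  rw [MonoidHom.map_closure]
  congr 1
  ext g
  simp only [Set.mem_image, Set.mem_ofPred_eq, Subgroup.coe_subtype]
  constructor
  · rintro ⟨_, ⟨a, b, t, hab, rfl⟩, rfl⟩
    exact ⟨a, b, t, hab, XD_coe X hab.1 t⟩
  · rintro ⟨a, b, t, hab, rfl⟩
    exact ⟨XD X a b t, ⟨a, b, t, hab, rfl⟩, XD_coe X hab.1 t⟩

theorem map_Hh_XD : (Hh (XD X)).map (MD X).subtype = Hh X := by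
  unfold Hh
  rw [MonoidHom.map_closure]
  congr 1
  ext g
  simp only [Set.mem_image, Set.mem_ofPred_eq, Subgroup.coe_subtype]
  constructor
  · rintro ⟨_, ⟨a, b, t, hab, ht, rfl⟩, rfl⟩
    exact ⟨a, b, t, hab, ht, coe_tX_XD hab t⟩
  · rintro ⟨a, b, t, hab, ht, rfl⟩
    exact ⟨tX (XD X) a b t, ⟨a, b, t, hab, ht, rfl⟩, coe_tX_XD hab t⟩

theorem map_Nh_XD : (Nh (XD X)).map (MD X).subtype = Nh X := by
  unfold Nh
  rw [MonoidHom.map_closure]
  congr 1
  ext g
  simp only [Set.mem_image, Set.mem_ofPred_eq, Subgroup.coe_subtype]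
  constructor
  · rintro ⟨_, ⟨a, b, t, hab, ht, rfl⟩, rfl⟩
    exact ⟨a, b, t, hab, ht, coe_wX_XD hab t⟩
  · rintro ⟨a, b, t, hab, ht, rfl⟩
    exact ⟨wX (XD X) a b t, ⟨a, b, t, hab, ht, rfl⟩, coe_wX_XD hab t⟩

/-- BLOCKD: the representation of type `D_n` of the subgroup generated by the long root elements -/
theorem exists_piD (π : M →* Matrix (I n) (I n) F)
    (hπX : ∀ a b, IsRoot a b → ∀ t : F, π (X a b t) = xmB a b t) :
    ∃ πD : ↥(MD X) →* Matrix (J n) (J n) F,
      (∀ a b, IsRoot a b → ∀ t : F, πD (XD X a b t) = xm a b t) ∧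
      ∀ g : ↥(MD X), π (g : M) = blkB (πD g) := by
  have hblk : ∀ g : M, g ∈ MD X → IsBlk (π g) := by
    intro g hg
    unfold MD at hg
    induction hg using Subgroup.closure_induction with
    | mem x hx =>
      obtain ⟨a, b, t, hab, rfl⟩ := hx
      exact ⟨xm a b t, by rw [hπX a b hab t, xmB_eq_blkB]⟩
    | one =>
      rw [map_one]
      exact isBlk_one
    | mul x y _ _ hx hy =>
      rw [map_mul]
      exact isBlk_mul hx hy
    | inv x _ hx =>
      apply isBlk_inv hx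
      · rw [← map_mul, mul_inv_cancel, map_one]
      · rw [← map_mul, inv_mul_cancel, map_one]
  have hval : ∀ g : ↥(MD X), π (g : M) = blkB (π (g : M)).toBlocks₂₂ := by
    intro g
    obtain ⟨B, hB⟩ := hblk g g.2
    rw [hB, toBlocks₂₂_blkB]
  refine ⟨{ toFun := fun g => (π (g : M)).toBlocks₂₂, map_one' := ?_, map_mul' := ?_ }, ?_, ?_⟩
  · show (π ((1 : ↥(MD X)) : M)).toBlocks₂₂ = 1
    rw [Subgroup.coe_one, map_one, ← blkB_one, toBlocks₂₂_blkB]
  · intro g h
    show (π ((g * h : ↥(MD X)) : M)).toBlocks₂₂ = (π (g : M)).toBlocks₂₂ * (π (h : M)).toBlocks₂₂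
    rw [Subgroup.coe_mul, map_mul]
    conv_lhs => rw [hval g, hval h, blkB_mul, toBlocks₂₂_blkB]
  · intro a b hab t
    show (π ((XD X a b t : ↥(MD X)) : M)).toBlocks₂₂ = xm a b t
    rw [XD_coe X hab, hπX a b hab, xmB_eq_blkB, toBlocks₂₂_blkB]
  · intro g
    exact hval g

end Cfsg.Agent.S2094P
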