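import Cfsg.Agent.Helper21.S2286DEFS

/-! S2286 board (driver helper21), piece WEYL: the Weyl relations for all nonzero field elements. -/

set_option autoImplicit false

namespace Cfsg.Agent.Helper21.S2286

open Polynomial Multiplicative

namespace WEYL

variable {F : Type*} [Field F] {P : Type*} [Group P]

/-- the additive map -/
def f (φ : Multiplicative F →* P) (a : F) : P := φ (ofAdd a)

theorem f_add (φ : Multiplicative F →* P) (a b : F) : f φ (a + b) = f φ a * f φ b := by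
  unfold f
  rw [ofAdd_add, map_mul]

theorem f_zero (φ : Multiplicative F →* P) : f φ 0 = 1 := by
  unfold f
  rw [ofAdd_zero, map_one]

theorem f_neg (φ : Multiplicative F →* P) (a : F) : f φ (-a) = (f φ a)⁻¹ := by
  unfold f
  rw [ofAdd_neg, map_inv]

/-- the Weyl element `n a = f a * t * f a⁻¹ * t⁻¹ * f a` -/
def n (φ : Multiplicative F →* P) (t : P) (a : F) : P := f φ a * t * f φ a⁻¹ * t⁻¹ * f φ a

theorem n_neg (φ : Multiplicative F →* P) (t : P) (a : F) : n φ t (-a) = (n φ t a)⁻¹ := by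
  unfold n
  rw [inv_neg, f_neg, f_neg]
  group

section
variable (ω : Fˣ) (φ : Multiplicative F →* P) (h t : P)
  (hconj : ∀ a : F, h * φ (ofAdd a) * h⁻¹ = φ (ofAdd ((ω : F) ^ 2 * a)))
  (hth : t * h * t⁻¹ = h⁻¹)

include hconj in
theorem conj_f (a : F) : h * f φ a * h⁻¹ = f φ (((ω ^ 2 : Fˣ) : F) * a) := by
  rw [Units.val_pow_eq_pow_val]
  exact hconj a

include hconj in
theorem conj_zpow_f (i : ℤ) (a : F) :
    h ^ i * f φ a * (h ^ i)⁻¹ = f φ (((ω ^ (2 * i) : Fˣ) : F) * a) := by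
  induction i using Int.induction_on generalizing a with
  | zero => simp
  | succ i ih =>
    have e : h ^ ((i : ℤ) + 1) * f φ a * (h ^ ((i : ℤ) + 1))⁻¹ =
        h * (h ^ (i : ℤ) * f φ a * (h ^ (i : ℤ))⁻¹) * h⁻¹ := by
      group
    rw [e, ih, conj_f ω φ h hconj]
    congr 1
    rw [← mul_assoc, ← Units.val_mul, ← zpow_natCast, ← zpow_add]
    congr 3
    ring
  | pred i ih =>
    have e : h ^ (-(i : ℤ) - 1) * f φ a * (h ^ (-(i : ℤ) - 1))⁻¹ =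
        h⁻¹ * (h ^ (-(i : ℤ)) * f φ a * (h ^ (-(i : ℤ)))⁻¹) * h := by
      group
    rw [e, ih]
    have h1 := conj_f ω φ h hconj (((ω ^ (2 * (-(i : ℤ) - 1)) : Fˣ) : F) * a)
    have h2 : ((ω ^ 2 : Fˣ) : F) * (((ω ^ (2 * (-(i : ℤ) - 1)) : Fˣ) : F) * a) =
        ((ω ^ (2 * -(i : ℤ)) : Fˣ) : F) * a := by
      rw [← mul_assoc, ← Units.val_mul, ← zpow_natCast, ← zpow_add]
      congr 3
      push_cast
      ring
    rw [h2] at h1
    rw [← h1]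
    group

include hth in
theorem t_zpow (i : ℤ) : t * h ^ i * t⁻¹ = (h ^ i)⁻¹ := by
  rw [← conj_zpow, hth, inv_zpow]

include hconj hth in
theorem conj_zpow_n (i : ℤ) (a : F) :
    h ^ i * n φ t a * (h ^ i)⁻¹ = n φ t (((ω ^ (2 * i) : Fˣ) : F) * a) := by
  have h1 := conj_zpow_f ω φ h hconj i a
  have h2 := conj_zpow_f ω φ h hconj (-i) a⁻¹
  have h3 : (((ω ^ (2 * i) : Fˣ) : F) * a)⁻¹ = ((ω ^ (2 * -i) : Fˣ) : F) * a⁻¹ := by
    rw [mul_inv, ← Units.val_inv_eq_inv_val, ← zpow_neg]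
    congr 3
    ring
  have h4 : h ^ i * t = t * (h ^ i)⁻¹ := by
    have := t_zpow h t hth (-i)
    rw [zpow_neg, inv_inv] at this
    calc h ^ i * t = (t * (h ^ i)⁻¹ * t⁻¹) * t := by rw [this]
      _ = t * (h ^ i)⁻¹ := by group
  have h5 : t⁻¹ * (h ^ i)⁻¹ = h ^ i * t⁻¹ := by
    have := congrArg (fun z => z⁻¹) h4
    simp only [mul_inv_rev, inv_inv] at this
    exact this
  unfold n
  rw [h3, ← h1, ← h2, zpow_neg, inv_inv]
  calc h ^ i * (f φ a * t * f φ a⁻¹ * t⁻¹ * f φ a) * (h ^ i)⁻¹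
      = h ^ i * f φ a * (h ^ i)⁻¹ * (h ^ i * t) * f φ a⁻¹ * (t⁻¹ * (h ^ i)⁻¹) * (h ^ i * f φ a * (h ^ i)⁻¹) := by
        group
    _ = h ^ i * f φ a * (h ^ i)⁻¹ * t * ((h ^ i)⁻¹ * f φ a⁻¹ * h ^ i) * t⁻¹ *
        (h ^ i * f φ a * (h ^ i)⁻¹) := by
        rw [h4, h5]; group

include hconj hth in
/-- from `n 1 = t`: the even powers -/
theorem n_even (h1 : n φ t 1 = t) (i : ℤ) : n φ t ((ω ^ (2 * i) : Fˣ) : F) = h ^ (2 * i) * t := by
  have := conj_zpow_n ω φ h t hconj hth i 1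
  rw [mul_one, h1] at this
  rw [← this]
  have h4 : t * (h ^ i)⁻¹ = h ^ i * t := by
    have := t_zpow h t hth (-i)
    rw [zpow_neg, inv_inv] at this
    calc t * (h ^ i)⁻¹ = (t * (h ^ i)⁻¹ * t⁻¹) * t := by group
      _ = h ^ i * t := by rw [this]
  rw [mul_assoc, h4, ← mul_assoc, ← zpow_add]
  congr 2
  ring

include hconj hth in
/-- from `n ω = h * t`: the odd powers -/
theorem n_odd (h2 : n φ t (ω : F) = h * t) (i : ℤ) :
    n φ t ((ω ^ (2 * i + 1) : Fˣ) : F) = h ^ (2 * i + 1) * t := by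
  have := conj_zpow_n ω φ h t hconj hth i (ω : F)
  rw [h2] at this
  have e : ((ω ^ (2 * i) : Fˣ) : F) * (ω : F) = ((ω ^ (2 * i + 1) : Fˣ) : F) := by
    rw [← Units.val_mul, zpow_add_one]
  rw [e] at this
  rw [← this]
  have h4 : t * (h ^ i)⁻¹ = h ^ i * t := by
    have := t_zpow h t hth (-i)
    rw [zpow_neg, inv_inv] at this
    calc t * (h ^ i)⁻¹ = (t * (h ^ i)⁻¹ * t⁻¹) * t := by group
      _ = h ^ i * t := by rw [this]
  calc h ^ i * (h * t) * (h ^ i)⁻¹ = h ^ i * h * (t * (h ^ i)⁻¹) := by group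
    _ = h ^ i * h * (h ^ i * t) := by rw [h4]
    _ = h ^ (2 * i + 1) * t := by group

include hconj hth in
theorem n_zpow (h1 : n φ t 1 = t) (h2 : n φ t (ω : F) = h * t) (j : ℤ) :
    n φ t ((ω ^ j : Fˣ) : F) = h ^ j * t := by
  rcases Int.even_or_odd' j with ⟨i, rfl | rfl⟩
  · exact n_even ω φ h t hconj hth h1 i
  · exact n_odd ω φ h t hconj hth h2 i

/-- the Weyl relation at `a` from the value of `n a⁻¹` -/
theorem weyl_of_n (a : F) (g : P) (hg : n φ t a⁻¹ = g * t) :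
    t * φ (ofAdd a) * t⁻¹ = φ (ofAdd (-a⁻¹)) * g * t * φ (ofAdd (-a⁻¹)) := by
  unfold n at hg
  rw [inv_inv] at hg
  change t * f φ a * t⁻¹ = f φ (-a⁻¹) * g * t * f φ (-a⁻¹)
  rw [f_neg]
  calc t * f φ a * t⁻¹ = (f φ a⁻¹)⁻¹ * (f φ a⁻¹ * t * f φ a * t⁻¹ * f φ a⁻¹) * (f φ a⁻¹)⁻¹ := by group
    _ = (f φ a⁻¹)⁻¹ * g * t * (f φ a⁻¹)⁻¹ := by rw [hg]; group

end

end WEYL

/-- WEYL (odd characteristic, or in general with the two seeds) -/
theorem weyl_odd {F : Type*} [Field F] (ω : Fˣ) (hω : ∀ y : Fˣ, y ∈ Subgroup.zpowers ω)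
    {P : Type*} [Group P] (φ : Multiplicative F →* P) (h t : P)
    (hconj : ∀ a : F, h * φ (ofAdd a) * h⁻¹ = φ (ofAdd ((ω : F) ^ 2 * a)))
    (hth : t * h * t⁻¹ = h⁻¹)
    (hw1 : t * φ (ofAdd 1) * t⁻¹ = φ (ofAdd (-1)) * t * φ (ofAdd (-1)))
    (hw2 : t * φ (ofAdd ((ω⁻¹ : Fˣ) : F)) * t⁻¹ =
      φ (ofAdd (-(ω : F))) * h * t * φ (ofAdd (-(ω : F))))
    (M : ℤ) (hM : ω ^ M = -1) :
    (∀ a : F, a ≠ 0 → ∃ (a' : F) (j : ℤ) (b' : F),
      t * φ (ofAdd a) * t⁻¹ = φ (ofAdd a') * h ^ j * t * φ (ofAdd b')) ∧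
    (∀ j : ℤ, ω ^ j = 1 → h ^ j = 1) ∧
    t * t = h ^ (-M) ∧ (∀ a : F, Commute (h ^ (-M)) (φ (ofAdd a))) := by
  have h1 : WEYL.n φ t 1 = t := by
    unfold WEYL.n
    rw [inv_one]
    have e : WEYL.f φ 1 * t * WEYL.f φ 1 * t⁻¹ * WEYL.f φ 1 =
        WEYL.f φ 1 * (t * φ (ofAdd 1) * t⁻¹) * WEYL.f φ 1 := by
      unfold WEYL.f; group
    rw [e, hw1]
    change WEYL.f φ 1 * (WEYL.f φ (-1) * t * WEYL.f φ (-1)) * WEYL.f φ 1 = t
    rw [WEYL.f_neg]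
    group
  have h2 : WEYL.n φ t (ω : F) = h * t := by
    unfold WEYL.n
    rw [← Units.val_inv_eq_inv_val]
    have e : WEYL.f φ ω * t * WEYL.f φ ((ω⁻¹ : Fˣ) : F) * t⁻¹ * WEYL.f φ ω =
        WEYL.f φ ω * (t * φ (ofAdd ((ω⁻¹ : Fˣ) : F)) * t⁻¹) * WEYL.f φ ω := by
      unfold WEYL.f; group
    rw [e, hw2]
    change WEYL.f φ ω * (WEYL.f φ (-(ω : F)) * h * t * WEYL.f φ (-(ω : F))) * WEYL.f φ ω = h * t
    rw [WEYL.f_neg]
    group
  have hn := WEYL.n_zpow ω φ h t hconj hth h1 h2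
  refine ⟨?_, ?_, ?_, ?_⟩
  · intro a ha
    obtain ⟨j, hj⟩ := Subgroup.mem_zpowers_iff.mp (hω (Units.mk0 a ha)⁻¹)
    have hj' : ((ω ^ j : Fˣ) : F) = a⁻¹ := by
      rw [hj, Units.val_inv_eq_inv_val, Units.val_mk0]
    have := hn j
    rw [hj'] at this
    exact ⟨-a⁻¹, j, -a⁻¹, WEYL.weyl_of_n φ t a (h ^ j) this⟩
  · intro j hj
    have := hn j
    rw [hj, Units.val_one, h1] at this
    have h3 : h ^ j * t = 1 * t := by rw [one_mul]; exact this.symm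
    exact mul_right_cancel h3
  · have := hn M
    rw [hM, Units.val_neg, Units.val_one, WEYL.n_neg, h1] at this
    calc t * t = (h ^ M)⁻¹ * (h ^ M * t) * t := by group
      _ = (h ^ M)⁻¹ * t⁻¹ * t := by rw [← this]
      _ = h ^ (-M) := by group
  · intro a
    have := WEYL.conj_zpow_f ω φ h hconj (-M) a
    have e : ((ω ^ (2 * -M) : Fˣ) : F) = 1 := by
      have : ω ^ (2 * -M) = 1 := by
        rw [mul_comm, zpow_mul, zpow_neg, hM]
        norm_num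
      rw [this, Units.val_one]
    rw [e, one_mul] at this
    change h ^ (-M) * WEYL.f φ a = WEYL.f φ a * h ^ (-M)
    calc h ^ (-M) * WEYL.f φ a = (h ^ (-M) * WEYL.f φ a * (h ^ (-M))⁻¹) * h ^ (-M) := by group
      _ = WEYL.f φ a * h ^ (-M) := by rw [this]

/-- WEYL (characteristic 2) -/
theorem weyl_even {F : Type*} [Field F] [Finite F] [CharP F 2] (ω : Fˣ)
    (hω : ∀ y : Fˣ, y ∈ Subgroup.zpowers ω)
    {P : Type*} [Group P] (φ : Multiplicative F →* P) (h t : P)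
    (hconj : ∀ a : F, h * φ (ofAdd a) * h⁻¹ = φ (ofAdd ((ω : F) ^ 2 * a)))
    (hth : t * h * t⁻¹ = h⁻¹)
    (hw1 : t * φ (ofAdd 1) * t⁻¹ = φ (ofAdd 1) * t * φ (ofAdd 1)) :
    ∀ a : F, a ≠ 0 → ∃ (a' : F) (j : ℤ) (b' : F),
      t * φ (ofAdd a) * t⁻¹ = φ (ofAdd a') * h ^ j * t * φ (ofAdd b') := by
  have hneg : ∀ a : F, -a = a := fun a => by
    rw [neg_eq_iff_add_eq_zero]
    exact CharTwo.add_self_eq_zero a
  have h1 : WEYL.n φ t 1 = t := by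
    unfold WEYL.n
    rw [inv_one]
    have e0 : WEYL.f φ 1 * t * WEYL.f φ 1 * t⁻¹ * WEYL.f φ 1 =
        WEYL.f φ 1 * (t * φ (ofAdd 1) * t⁻¹) * WEYL.f φ 1 := by
      unfold WEYL.f; group
    rw [e0, hw1]
    change WEYL.f φ 1 * (WEYL.f φ 1 * t * WEYL.f φ 1) * WEYL.f φ 1 = t
    have e : WEYL.f φ 1 * WEYL.f φ 1 = 1 := by
      rw [← WEYL.f_add, CharTwo.add_self_eq_zero, WEYL.f_zero]
    calc WEYL.f φ 1 * (WEYL.f φ 1 * t * WEYL.f φ 1) * WEYL.f φ 1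
        = (WEYL.f φ 1 * WEYL.f φ 1) * t * (WEYL.f φ 1 * WEYL.f φ 1) := by group
      _ = t := by rw [e, one_mul, mul_one]
  intro a ha
  -- `a⁻¹` is a square
  obtain ⟨z, hz⟩ := FiniteField.isSquare_of_char_two (ringChar.eq F 2) a⁻¹
  have hz0 : z ≠ 0 := by
    rintro rfl
    rw [mul_zero] at hz
    exact inv_ne_zero ha hz
  obtain ⟨i, hi⟩ := Subgroup.mem_zpowers_iff.mp (hω (Units.mk0 z hz0))
  have hj' : ((ω ^ (2 * i) : Fˣ) : F) = a⁻¹ := by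
    rw [mul_comm, zpow_mul, hi, hz]
    simp [pow_two]
  have := WEYL.n_even ω φ h t hconj hth h1 i
  rw [hj'] at this
  exact ⟨-a⁻¹, 2 * i, -a⁻¹, WEYL.weyl_of_n φ t a (h ^ (2 * i)) this⟩

end Cfsg.Agent.Helper21.S2286
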