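import Mathlib
import Cfsg.Prelude.Def_Local
import Cfsg.Agent.Lead.CoprimeSylow
import Cfsg.Agent.Helper1.Ito3

/-!
# Coprime-action preliminaries for the exponent bound on `p`-length (helper9)

* `exists_inv_sylow_not_cent`: coprime action, an element `y` not centralizing `K` fails to
  centralize some `A`-invariant Sylow subgroup of `K`.
* `exists_fpf_subgroup`: abelian `q`-group `Q` normalized by `x`, `y ∈ ⟨x⟩` of order dividing `p`
  not centralizing `Q`: there is a nontrivial `x`-invariant subgroup of `Q` on which `y` is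
  fixed-point-free.
-/

set_option autoImplicit false

namespace Cfsg.Agent.Helper9.PLenExp

open Subgroup
open scoped IsMulCommutative

theorem exists_inv_sylow_not_cent {G : Type*} [Group G] [Finite G] (A K : Subgroup G)
    (hAK : A ≤ normalizer (K : Set G)) (hcop : (Nat.card A).Coprime (Nat.card K))
    (hsolv : Group.IsSolvable A ∨ Group.IsSolvable K) (y : G)
    (hy : y ∉ centralizer (K : Set G)) :
    ∃ r : ℕ, r.Prime ∧ ∃ R : Subgroup G, R ≤ K ∧ IsPGroup r R ∧ A ≤ normalizer (R : Set G) ∧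
      y ∉ centralizer (R : Set G) := by
  by_contra hcon
  push Not at hcon
  apply hy
  have hex : ∀ r : {r : ℕ // r.Prime}, ∃ Q : Sylow r.1 K,
      A ≤ normalizer (((Q : Subgroup K).map K.subtype : Subgroup G) : Set G) := by
    intro r
    have := Fact.mk r.2
    exact Cfsg.Agent.Lead.coprime_exists_invariant_sylow A K hAK hcop hsolv r.1
  choose Q hQ using hex
  set J : Subgroup G := ⨆ r : {r : ℕ // r.Prime}, (Q r : Subgroup K).map K.subtype with hJ
  have hJK : J ≤ K := iSup_le fun r => map_subtype_le _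
  have hJc : J ≤ centralizer ({y} : Set G) := by
    rw [hJ]
    apply iSup_le
    intro r a ha
    have h1 := hcon r.1 r.2 _ (map_subtype_le _) ((Q r).isPGroup'.map _) (hQ r)
    rw [mem_centralizer_singleton_iff]
    exact (mem_centralizer_iff.1 h1 a ha)
  have hdvd : Nat.card K ∣ Nat.card J := by
    rw [← Nat.factorization_prime_le_iff_dvd Nat.card_pos.ne' Nat.card_pos.ne']
    intro r hr
    have := Fact.mk hr
    rw [← hr.pow_dvd_iff_le_factorization Nat.card_pos.ne']
    have h1 : Nat.card (Q ⟨r, hr⟩ : Subgroup K) = r ^ (Nat.card K).factorization r :=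
      (Q ⟨r, hr⟩).card_eq_multiplicity
    rw [← h1, ← card_map_of_injective K.subtype_injective]
    exact card_dvd_of_le (le_iSup (fun r : {r : ℕ // r.Prime} =>
      (Q r : Subgroup K).map K.subtype) ⟨r, hr⟩)
  have hJeq : J = K := by
    apply Subgroup.eq_of_le_of_card_ge hJK
    exact Nat.le_of_dvd Nat.card_pos hdvd
  rw [mem_centralizer_iff]
  intro a ha
  rw [← hJeq] at ha
  have := hJc ha
  rw [mem_centralizer_singleton_iff] at this
  exact this

/-- Abelian `q`-group `Q` normalized by `x`, `y ∈ ⟨x⟩` with `y ^ p = 1` (`p ≠ q`) not centralizing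
`Q`: there is a nontrivial `x`-invariant subgroup of `Q` on which `y` acts fixed-point-freely. -/
theorem exists_fpf_subgroup {H : Type*} [Group H] [Finite H] {p q : ℕ} (hp : p.Prime)
    (hq : q.Prime) (hpq : q ≠ p) (Q : Subgroup H) (hQq : IsPGroup q Q)
    (hQc : ∀ a ∈ Q, ∀ b ∈ Q, a * b = b * a)
    (x : H) (hxQ : x ∈ normalizer (Q : Set H)) (y : H) (hyx : y ∈ zpowers x)
    (hy : y ^ p = 1) (hync : ∃ b ∈ Q, y * b ≠ b * y) :
    ∃ N : Subgroup H, N ≤ Q ∧ N ≠ ⊥ ∧ (∀ a ∈ N, x * a * x⁻¹ ∈ N) ∧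
      ∀ a ∈ N, y * a = a * y → a = 1 := by
  classical
  have hAQ : zpowers x ≤ normalizer (Q : Set H) := (zpowers_le).2 hxQ
  have : IsMulCommutative Q := ⟨⟨fun a b => Subtype.ext (hQc a a.2 b b.2)⟩⟩
  set φ := Cfsg.Agent.Helper1.Ito.conjAut (zpowers x) Q hAQ with hφ
  set σ : MulAut Q := φ ⟨x, mem_zpowers x⟩ with hσ
  set τ : MulAut Q := φ ⟨y, hyx⟩ with hτ
  have hσa : ∀ a : Q, ((σ a : Q) : H) = x * a * x⁻¹ := fun a => rfl
  have hτa : ∀ a : Q, ((τ a : Q) : H) = y * a * y⁻¹ := fun a => rfl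
  have hστ : σ * τ = τ * σ := by
    rw [hσ, hτ, ← map_mul, ← map_mul]
    congr 1
    exact mul_comm' _ _
  have hτp : τ ^ p = 1 := by
    rw [hτ, ← map_pow]
    have : (⟨y, hyx⟩ : zpowers x) ^ p = 1 := Subtype.ext (by simpa using hy)
    rw [this, map_one]
  have hστi : ∀ i : ℕ, σ * τ ^ i = τ ^ i * σ := by
    intro i
    exact ((Commute.pow_right (show Commute σ τ from hστ) i)).eq
  let ψ : Q →* Q := ∏ i ∈ Finset.range p, ((τ ^ i : MulAut Q) : Q ≃* Q).toMonoidHom
  have hψ : ∀ a : Q, ψ a = ∏ i ∈ Finset.range p, (τ ^ i) a := by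
    intro a
    simp only [ψ, MonoidHom.finsetProd_apply]
    rfl
  -- ψ commutes with σ
  have hψσ : ∀ a : Q, ψ (σ a) = σ (ψ a) := by
    intro a
    rw [hψ, hψ, map_prod]
    apply Finset.prod_congr rfl
    intro i _
    have := congrArg (fun f : MulAut Q => f a) (hστi i)
    simpa [MulAut.mul_apply] using this.symm
  -- ψ ∘ τ = ψ
  have hψτ : ∀ a : Q, ψ (τ a) = ψ a := by
    intro a
    rw [hψ, hψ]
    have h1 : ∀ i : ℕ, (τ ^ i) (τ a) = (τ ^ (i + 1)) a := by
      intro i
      rw [pow_succ, MulAut.mul_apply]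
    simp_rw [h1]
    have h2 := Finset.prod_range_succ' (fun i => (τ ^ i) a) p
    have h3 := Finset.prod_range_succ (fun i => (τ ^ i) a) p
    rw [h3, hτp, pow_zero] at h2
    simp only [MulAut.one_apply] at h2
    exact (mul_right_cancel h2).symm
  obtain ⟨b, hbQ, hb⟩ := hync
  refine ⟨ψ.ker.map Q.subtype, map_subtype_le _, ?_, ?_, ?_⟩
  · intro hbot
    have hmem : (⟨b, hbQ⟩ : Q)⁻¹ * τ ⟨b, hbQ⟩ ∈ ψ.ker := by
      rw [MonoidHom.mem_ker, map_mul, map_inv, hψτ, inv_mul_cancel]
    have h1 : (((⟨b, hbQ⟩ : Q)⁻¹ * τ ⟨b, hbQ⟩ : Q) : H) ∈ ψ.ker.map Q.subtype :=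
      ⟨_, hmem, rfl⟩
    rw [hbot, mem_bot] at h1
    have h2 : b⁻¹ * (y * b * y⁻¹) = 1 := by
      simpa [hτa] using h1
    apply hb
    have h3 : y * b * y⁻¹ = b := by
      have := congrArg (fun t => b * t) h2
      simpa using this
    calc y * b = y * b * y⁻¹ * y := by group
      _ = b * y := by rw [h3]
  · rintro _ ⟨a, ha, rfl⟩
    refine ⟨σ a, ?_, ?_⟩
    · rw [SetLike.mem_coe, MonoidHom.mem_ker] at ha ⊢
      rw [hψσ, ha, map_one]
    · exact hσa a
  · rintro _ ⟨a, ha, rfl⟩ hcomm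
    rw [SetLike.mem_coe, MonoidHom.mem_ker] at ha
    have hfix : τ a = a := by
      apply Subtype.ext
      rw [hτa]
      show y * (a : H) * y⁻¹ = a
      have : y * (a : H) = (a : H) * y := hcomm
      rw [this, mul_inv_cancel_right]
    have hfixi : ∀ i : ℕ, (τ ^ i) a = a := by
      intro i
      induction i with
      | zero => simp
      | succ i ih => rw [pow_succ, MulAut.mul_apply, hfix, ih]
    have hap : a ^ p = 1 := by
      rw [← ha, hψ]
      simp_rw [hfixi]
      rw [Finset.prod_const, Finset.card_range]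
    obtain ⟨k, hk⟩ := hQq a
    have hcop : Nat.Coprime p (q ^ k) := Nat.Coprime.pow_right k ((Nat.coprime_primes hp hq).2 hpq.symm)
    have h1 : orderOf a ∣ Nat.gcd p (q ^ k) :=
      Nat.dvd_gcd (orderOf_dvd_of_pow_eq_one hap) (orderOf_dvd_of_pow_eq_one hk)
    rw [hcop.gcd_eq_one, Nat.dvd_one, orderOf_eq_one_iff] at h1
    rw [h1]
    rfl

end Cfsg.Agent.Helper9.PLenExp
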