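import Mathlib
import Cfsg.Prelude.Def_Local
import Cfsg.Agent.Helper9.PLenExpA
import Cfsg.Agent.Lead.PSolvHall
import Cfsg.Agent.Helper1.PGroup
import Cfsg.Agent.Helper10.ChiefAction
import Cfsg.Agent.Helper21.FrattiniAut
import Cfsg.Agent.Helper21.ExpSix
import Cfsg.Agent.Helper23.HallHigman
import Cfsg.Agent.Helper23.PSeries
import Cfsg.Agent.Helper7.HallHigmanDual

/-!
# The exponent bound on `p`-length for `p`-solvable groups with abelian Sylow `q`-subgroups, `q ≠ p`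
(helper9): the key step `x ^ p ^ n ∈ O_p(G)` when `O_{p'}(G) = 1`.
-/

set_option autoImplicit false

namespace Cfsg.Agent.Helper9.PLenExp

open Subgroup Cfsg
open scoped IsMulCommutative
open scoped commutatorElement

/-- all Sylow `q`-subgroups, `q ≠ p`, are abelian -/
def AbSyl (p : ℕ) (G : Type*) [Group G] : Prop :=
  ∀ (q : ℕ) [Fact q.Prime], q ≠ p → ∀ Q : Sylow q G, IsMulCommutative (Q : Subgroup G)

/-- the Sylow `p`-subgroups have exponent dividing `p ^ n` -/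
def ExpLE (p n : ℕ) (G : Type*) [Group G] : Prop :=
  ∀ P : Sylow p G, ∀ x ∈ (P : Subgroup G), x ^ p ^ n = 1

section transport

variable {G : Type*} [Group G] [Finite G] {H : Type*} [Group H] {p : ℕ}

theorem AbSyl.of_surjective (h : AbSyl p G) (f : G →* H) (hf : Function.Surjective f) :
    AbSyl p H := by
  intro q _ hq Q
  obtain ⟨Q0, rfl⟩ := Sylow.mapSurjective_surjective hf q Q
  rw [Sylow.coe_mapSurjective]
  have := h q hq Q0
  refine ⟨⟨?_⟩⟩
  rintro ⟨_, a, ha, rfl⟩ ⟨_, b, hb, rfl⟩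
  apply Subtype.ext
  show f a * f b = f b * f a
  rw [← map_mul, ← map_mul]
  congr 1
  exact congrArg Subtype.val (mul_comm' (⟨a, ha⟩ : (Q0 : Subgroup G)) ⟨b, hb⟩)

theorem ExpLE.of_surjective [Fact p.Prime] {n : ℕ} (h : ExpLE p n G) (f : G →* H)
    (hf : Function.Surjective f) : ExpLE p n H := by
  intro P
  obtain ⟨P0, rfl⟩ := Sylow.mapSurjective_surjective hf p P
  rw [Sylow.coe_mapSurjective]
  rintro _ ⟨x, hx, rfl⟩
  rw [← map_pow, h P0 x hx, map_one]

end transport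

section core

variable {G : Type*} [Group G] [Finite G] {p : ℕ} [hp : Fact p.Prime]

omit hp in
/-- `y ∈ ⟨x ^ i⟩` when `y = x ^ p ^ n`, `y ^ p = 1` and `0 < i < p ^ (n + 1)`. -/
theorem commute_pow_of_commute {H : Type*} [Group H] (hpp : p.Prime) {x a : H} {n i : ℕ}
    (hx : (x ^ p ^ n) ^ p = 1) (hi0 : 0 < i) (hi : i < p ^ (n + 1))
    (hc : x ^ i * a = a * x ^ i) : x ^ p ^ n * a = a * x ^ p ^ n := by
  obtain ⟨e, u, hu, hiu⟩ := Nat.exists_eq_pow_mul_and_not_dvd hi0.ne' p hpp.ne_one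
  have hen : e ≤ n := by
    by_contra hlt
    push Not at hlt
    have h1 : p ^ (n + 1) ≤ p ^ e := Nat.pow_le_pow_right hpp.pos hlt
    have h2 : p ^ e ≤ i := by
      rw [hiu]
      exact Nat.le_mul_of_pos_right _ (Nat.pos_of_ne_zero (fun h => hu (h ▸ dvd_zero p)))
    omega
  have hcop : Nat.Coprime u p := ((Nat.Prime.coprime_iff_not_dvd hpp).2 hu).symm
  obtain ⟨s, -, hs⟩ := Nat.exists_mul_mod_eq_one_of_coprime hcop hpp.one_lt
  -- (x^i)^(p^(n-e) * s) = y^(u*s) = y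
  have h1 : (x ^ i) ^ (p ^ (n - e) * s) = x ^ p ^ n := by
    have e1 : i * (p ^ (n - e) * s) = p ^ n * (u * s) := by
      rw [hiu]
      have : p ^ n = p ^ e * p ^ (n - e) := by rw [← pow_add]; congr 1; omega
      rw [this]; ring
    rw [← pow_mul, e1, pow_mul]
    have e2 : u * s = p * (u * s / p) + 1 := by
      have := Nat.div_add_mod (u * s) p
      omega
    rw [e2, pow_add, pow_mul, hx, one_pow, one_mul, pow_one]
  rw [← h1]
  exact ((Commute.pow_left (show Commute (x ^ i) a from hc) _)).eq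

theorem pow_mem_pCore (hsol : IsPSolvable p G) (hO : pPrimeCore p G = ⊥) (hab : AbSyl p G)
    {n : ℕ} (hexp : ExpLE p (n + 1) G) (P : Sylow p G) (x : G) (hx : x ∈ (P : Subgroup G)) :
    x ^ p ^ n ∈ pCore p G := by
  classical
  have hpp : p.Prime := hp.out
  by_contra hy
  set R := pCore p G with hR
  have hRn : R.Normal := inferInstance
  have hRp : IsPGroup p R := Cfsg.Agent.Helper14.pCore_isPGroup p
  have hC : centralizer (R : Set G) ≤ R :=
    Cfsg.Agent.Helper23.centralizer_pCore_le_of_isPSolvable hsol hO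
  have hRP : R ≤ P := Cfsg.Agent.Helper14.pCore_le_sylow p P
  set D : Subgroup G := ⁅R, R⁆ with hD
  have hDn : D.Normal := Subgroup.commutator_normal R R
  have hVc : IsMulCommutative ↥(Cfsg.Agent.Helper10.Ub R D) := by
    refine ⟨⟨?_⟩⟩
    rintro ⟨_, a, ha, rfl⟩ ⟨_, b, hb, rfl⟩
    apply Subtype.ext
    show (QuotientGroup.mk' D) a * (QuotientGroup.mk' D) b =
      (QuotientGroup.mk' D) b * (QuotientGroup.mk' D) a
    rw [← map_mul, ← map_mul, QuotientGroup.mk'_apply, QuotientGroup.mk'_apply, QuotientGroup.eq]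
    have e : (a * b)⁻¹ * (b * a) = ⁅b⁻¹, a⁻¹⁆ := by rw [commutatorElement_def]; group
    rw [e]
    exact commutator_mem_commutator (R.inv_mem hb) (R.inv_mem ha)
  set ρ := Cfsg.Agent.Helper10.rhoZ R D with hρ
  have hk : R ≤ ρ.ker := by
    intro z hz
    rw [MonoidHom.mem_ker]
    apply Cfsg.Agent.Helper10.rhoZ_eq_one_of_comm
    intro u hu
    have e : z * u * z⁻¹ * u⁻¹ = ⁅z, u⁆ := by rw [commutatorElement_def]
    rw [e]
    exact commutator_mem_commutator hz hu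
  let ρb : G ⧸ R →* MulAut ↥(Cfsg.Agent.Helper10.Ub R D) := QuotientGroup.lift R ρ hk
  have hρb : ∀ z : G, ρb (QuotientGroup.mk' R z) = ρ z := fun z => rfl
  have hsurj : Function.Surjective (QuotientGroup.mk' R) := QuotientGroup.mk'_surjective R
  set xb : G ⧸ R := QuotientGroup.mk' R x with hxb
  set yb : G ⧸ R := xb ^ p ^ n with hyb
  have hxm : x ^ p ^ (n + 1) = 1 := hexp P x hx
  have hyb1 : yb ≠ 1 := by
    intro h
    apply hy
    rw [hyb, hxb, ← map_pow, QuotientGroup.mk'_apply, QuotientGroup.eq_one_iff] at h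
    exact h
  have hybp : yb ^ p = 1 := by
    rw [hyb, ← pow_mul, ← pow_succ, hxb, ← map_pow, hxm, map_one]
  -- the quotient
  have hpc : pCore p (G ⧸ R) = ⊥ := Cfsg.Agent.Helper21.ExpSix.pCore_quotient_pCore_eq_bot p
  have hsolQ : IsPSolvable p (G ⧸ R) := Cfsg.Agent.Lead.isPSolvable_quotient hsol R
  have hdual := Cfsg.Agent.Helper7.centralizer_pPrimeCore_le_of_isPSolvable hsolQ hpc
  set L := pPrimeCore p (G ⧸ R) with hL
  have hLcop : (Nat.card L).Coprime p := Cfsg.Agent.Helper23.pPrimeCore_card_coprime p (G ⧸ R)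
  have hybL : yb ∉ L := by
    intro h
    have h1 : orderOf yb ∣ Nat.card L := by
      have := orderOf_dvd_natCard (⟨yb, h⟩ : L)
      rwa [Subgroup.orderOf_mk] at this
    have h2 : orderOf yb ∣ p := orderOf_dvd_of_pow_eq_one hybp
    have h3 : orderOf yb ∣ Nat.gcd (Nat.card L) p := Nat.dvd_gcd h1 h2
    rw [hLcop.gcd_eq_one, Nat.dvd_one, orderOf_eq_one_iff] at h3
    exact hyb1 h3
  have hybC : yb ∉ centralizer (L : Set (G ⧸ R)) := fun h => hybL (hdual h)
  set A : Subgroup (G ⧸ R) := zpowers xb with hA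
  have hAL : A ≤ normalizer (L : Set (G ⧸ R)) := by
    rw [normalizer_eq_top_iff.2 inferInstance]; exact le_top
  have hxbm : xb ^ p ^ (n + 1) = 1 := by rw [hxb, ← map_pow, hxm, map_one]
  have hcopAL : (Nat.card A).Coprime (Nat.card L) := by
    have h1 : Nat.card A ∣ p ^ (n + 1) := by
      rw [hA, Nat.card_zpowers]
      exact orderOf_dvd_of_pow_eq_one hxbm
    exact Nat.Coprime.coprime_dvd_left h1 (Nat.Coprime.pow_left _ hLcop.symm)
  have hAsol : Group.IsSolvable A := by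
    rw [hA]; infer_instance
  obtain ⟨q, hq, Q, hQL, hQq, hAQ, hyQ⟩ :=
    exists_inv_sylow_not_cent A L hAL hcopAL (Or.inl hAsol) yb hybC
  have hqF : Fact q.Prime := ⟨hq⟩
  -- `Q` is nontrivial, so `q ≠ p`
  have hync : ∃ b ∈ Q, yb * b ≠ b * yb := by
    rw [mem_centralizer_iff] at hyQ
    push Not at hyQ
    obtain ⟨b, hb, hne⟩ := hyQ
    exact ⟨b, hb, fun h => hne h.symm⟩
  have hqp : q ≠ p := by
    rintro rfl
    obtain ⟨b, hb, hne⟩ := hync
    have hb1 : b = 1 := by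
      obtain ⟨k, hk⟩ := hQq ⟨b, hb⟩
      have hk' : b ^ q ^ k = 1 := congrArg Subtype.val hk
      have h1 : orderOf b ∣ Nat.card L := by
        have := orderOf_dvd_natCard (⟨b, hQL hb⟩ : L)
        rwa [Subgroup.orderOf_mk] at this
      have h2 : orderOf b ∣ q ^ k := orderOf_dvd_of_pow_eq_one hk'
      have h3 : orderOf b ∣ Nat.gcd (Nat.card L) (q ^ k) := Nat.dvd_gcd h1 h2
      rw [(Nat.Coprime.pow_right k hLcop).gcd_eq_one, Nat.dvd_one, orderOf_eq_one_iff] at h3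
      exact h3
    apply hne
    rw [hb1, mul_one, one_mul]
  -- `Q` is abelian
  have habQ : AbSyl p (G ⧸ R) := hab.of_surjective _ hsurj
  obtain ⟨S, hQS⟩ := hQq.exists_le_sylow
  have hSc := habQ q hqp S
  have hQc : ∀ a ∈ Q, ∀ b ∈ Q, a * b = b * a := by
    intro a ha b hb
    exact congrArg Subtype.val
      (mul_comm' (⟨a, hQS ha⟩ : (S : Subgroup (G ⧸ R))) ⟨b, hQS hb⟩)
  obtain ⟨N, hNQ, hNne, hNx, hNfpf⟩ := exists_fpf_subgroup hpp hq hqp Q hQq hQc xb
    (hAQ (mem_zpowers xb)) yb (Subgroup.pow_mem _ (mem_zpowers xb) _) hybp hync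
  -- the norm vanishes
  have hnorm : ∀ v : ↥(Cfsg.Agent.Helper10.Ub R D),
      ∏ i ∈ Finset.range (p ^ (n + 1)), ρb (xb ^ i) v = 1 := by
    intro v
    obtain ⟨u, hu, huv⟩ := v.2
    have key : ∀ k : ℕ, ((∏ i ∈ Finset.range k, ρb (xb ^ i) v :
        ↥(Cfsg.Agent.Helper10.Ub R D)) : G ⧸ D) =
        (QuotientGroup.mk' D) ((u * x) ^ k * (x ^ k)⁻¹) := by
      intro k
      induction k with
      | zero => simp
      | succ k ih =>
        rw [Finset.prod_range_succ, Subgroup.coe_mul, ih]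
        have h1 : ρb (xb ^ k) = ρ (x ^ k) := by
          rw [hxb, ← map_pow, hρb]
        rw [h1, hρ, Cfsg.Agent.Helper10.rhoZ_apply, ← huv, ← map_inv, ← map_mul, ← map_mul,
          ← map_mul]
        congr 1
        rw [pow_succ, pow_succ]
        group
    apply Subtype.ext
    rw [key, hxm, inv_one, mul_one, hexp P (u * x) (P.1.mul_mem (hRP hu) hx), map_one]
    rfl
  have hcopNV : (Nat.card N).Coprime (Nat.card ↥(Cfsg.Agent.Helper10.Ub R D)) := by
    obtain ⟨a, ha⟩ := IsPGroup.iff_card.mp (hQq.to_le hNQ)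
    obtain ⟨b, hb⟩ := IsPGroup.iff_card.mp
      (show IsPGroup p ↥(Cfsg.Agent.Helper10.Ub R D) from hRp.map _)
    rw [ha, hb]
    exact Nat.Coprime.pow a b ((Nat.coprime_primes hq hpp).2 hqp)
  have hfpf : ∀ i, 0 < i → i < p ^ (n + 1) → ∀ a ∈ N, xb ^ i * a = a * xb ^ i → a = 1 := by
    intro i hi0 hi a ha hc
    exact hNfpf a ha (commute_pow_of_commute hpp hybp hi0 hi hc)
  have htriv := Cfsg.Agent.Helper10.norm_trivial_action ρb N xb (p ^ (n + 1))
    (pow_pos hpp.pos _) hNx hfpf hnorm hcopNV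
  -- contradiction
  obtain ⟨a, ha1⟩ := (Subgroup.ne_bot_iff_exists_ne_one).1 hNne
  obtain ⟨z, hz⟩ := hsurj (a : G ⧸ R)
  have hρz : ρ z = 1 := by
    ext v
    have := htriv (a : G ⧸ R) a.2 v
    rw [← hz, hρb] at this
    rw [this]
    rfl
  have hcomm := Cfsg.Agent.Helper10.comm_of_rhoZ_eq_one R D hρz
  set α : MulAut ↥R := MulAut.conjNormal z with hα
  have hαfr : ∀ r : ↥R, α r * r⁻¹ ∈ frattini ↥R := by
    intro r
    apply Cfsg.Agent.Helper1.IsPGroup.commutator_le_frattini hRp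
    have h1 := hcomm r r.2
    rw [hD, ← Subgroup.map_subtype_commutator] at h1
    obtain ⟨c, hc, hcr⟩ := h1
    have : α r * r⁻¹ = c := by
      apply Subtype.ext
      have hcr' : (c : G) = z * r * z⁻¹ * (r : G)⁻¹ := hcr
      rw [hcr', Subgroup.coe_mul, hα, MulAut.conjNormal_apply]
      rfl
    rw [this]
    exact hc
  obtain ⟨k, hk⟩ := Cfsg.Agent.Helper21.FrattiniAut.exists_pow_eq_one_of_mem_ker ↥R hRp α hαfr
  have hzk : z ^ p ^ k ∈ R := by
    apply hC
    rw [mem_centralizer_iff]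
    intro r hr
    have h1 : (α ^ p ^ k) ⟨r, hr⟩ = ⟨r, hr⟩ := by rw [hk]; rfl
    rw [hα, ← map_pow] at h1
    have h2 : z ^ p ^ k * r * (z ^ p ^ k)⁻¹ = r := by
      have := congrArg Subtype.val h1
      rwa [MulAut.conjNormal_apply] at this
    calc r * z ^ p ^ k = z ^ p ^ k * r * (z ^ p ^ k)⁻¹ * z ^ p ^ k := by rw [h2]
      _ = z ^ p ^ k * r := by group
  have hak : (a : G ⧸ R) ^ p ^ k = 1 := by
    rw [← hz, ← map_pow, QuotientGroup.mk'_apply, QuotientGroup.eq_one_iff]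
    exact hzk
  obtain ⟨j, hj⟩ := hQq ⟨(a : G ⧸ R), hNQ a.2⟩
  have hj' : (a : G ⧸ R) ^ q ^ j = 1 := congrArg Subtype.val hj
  have h3 : orderOf (a : G ⧸ R) ∣ Nat.gcd (p ^ k) (q ^ j) :=
    Nat.dvd_gcd (orderOf_dvd_of_pow_eq_one hak) (orderOf_dvd_of_pow_eq_one hj')
  rw [(Nat.Coprime.pow k j ((Nat.coprime_primes hpp hq).2 hqp.symm)).gcd_eq_one, Nat.dvd_one,
    orderOf_eq_one_iff] at h3
  exact ha1 (Subtype.ext h3)

end core

end Cfsg.Agent.Helper9.PLenExp
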