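import Mathlib
import Cfsg.Prelude.Def_Local
import Cfsg.Agent.Helper9.PLenExpB
import Cfsg.Agent.Lead.PLength
import Cfsg.Agent.Helper1.PLenSeries

/-!
# `p`-length at most the exponent of a Sylow `p`-subgroup (abelian Sylow `q`-subgroups, `q ≠ p`)
(helper9)
-/

set_option autoImplicit false

namespace Cfsg.Agent.Helper9.PLenExp

open Subgroup Cfsg

universe u

section quot

variable {G : Type*} [Group G] [Finite G] {p : ℕ} [hp : Fact p.Prime]

/-- `O_{p'}(G / O_{p'}(G)) = 1`, phrased with the first term of the upper `p`-series. -/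
theorem pPrimeCore_quotient_one :
    pPrimeCore p (G ⧸ (upperPSeries p G 1).1) = ⊥ := by
  set A := (upperPSeries p G 1).1 with hA
  set T : Subgroup G := (pPrimeCore p (G ⧸ A)).comap (QuotientGroup.mk' A) with hT
  have hTn : T.Normal := (inferInstance : (pPrimeCore p (G ⧸ A)).Normal).comap _
  have hU := Cfsg.Agent.Helper1.PLen.isPSeries_upper (G := G) (p := p)
  have hAcop : (Nat.card A).Coprime p := by
    have h1 := hU.even 0 (by decide)
    have h2 : (upperPSeries p G 0).1 = ⊥ := Cfsg.Agent.Lead.upperPSeries_zero p G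
    simp only [h2, Subgroup.relIndex_bot_left, zero_add] at h1
    exact h1
  have hTcop : (Nat.card T).Coprime p := by
    rw [hT, Cfsg.Agent.Helper23.card_comap_mk']
    exact Nat.Coprime.mul_left hAcop (Cfsg.Agent.Helper23.pPrimeCore_card_coprime p (G ⧸ A))
  let N : ℕ → Subgroup G := fun i => if i = 0 then ⊥ else T
  have hN0 : N 0 = ⊥ := by simp [N]
  have hNs : ∀ i, N (i + 1) = T := fun i => by simp [N]
  have hser : Cfsg.Agent.Helper1.PLen.IsPSeries p N := by
    refine ⟨hN0, ?_, ?_, ?_, ?_⟩
    · intro i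
      cases i with
      | zero => rw [hN0]; infer_instance
      | succ i => rw [hNs]; exact hTn
    · intro i
      cases i with
      | zero => rw [hN0]; exact bot_le
      | succ i => rw [hNs, hNs]
    · intro i _
      cases i with
      | zero => rw [hN0, hNs, Subgroup.relIndex_bot_left]; exact hTcop
      | succ i => rw [hNs, hNs, Subgroup.relIndex_self]; exact Nat.coprime_one_left p
    · intro i hi
      cases i with
      | zero => exact absurd (by decide : Even 0) hi
      | succ i => rw [hNs, hNs, Subgroup.relIndex_self]; exact ⟨0, (pow_zero p).symm⟩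
  have hle : T ≤ A := by
    have := hser.le_upper 1
    rwa [hNs] at this
  rw [eq_bot_iff]
  intro y hy
  obtain ⟨x, rfl⟩ := QuotientGroup.mk'_surjective A y
  have hx : x ∈ T := hy
  rw [mem_bot, QuotientGroup.mk'_apply, QuotientGroup.eq_one_iff]
  exact hle hx

/-- the key step in `G`: `p ^ n`-th powers of `p`-elements lie in `O_{p',p}(G)`. -/
theorem pow_mem_upper_two (hsol : IsPSolvable p G) (hab : AbSyl p G) {n : ℕ}
    (hexp : ExpLE p (n + 1) G) (P : Sylow p G) (x : G) (hx : x ∈ (P : Subgroup G)) :
    x ^ p ^ n ∈ (upperPSeries p G 2).1 := by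
  set A := (upperPSeries p G 1).1 with hA
  have hfA : Function.Surjective (QuotientGroup.mk' A) := QuotientGroup.mk'_surjective A
  have hBeq : (upperPSeries p G 2).1 = (pCore p (G ⧸ A)).comap (QuotientGroup.mk' A) :=
    Cfsg.Agent.Lead.upperPSeries_succ_of_not_even p G (n := 1) (by decide)
  rw [hBeq, mem_comap, map_pow]
  apply pow_mem_pCore (Cfsg.Agent.Lead.isPSolvable_quotient hsol A) pPrimeCore_quotient_one
    (hab.of_surjective _ hfA) (hexp.of_surjective _ hfA) (P.mapSurjective hfA)
  rw [Sylow.coe_mapSurjective]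
  exact ⟨x, hx, rfl⟩

end quot

theorem aux {p : ℕ} [hp : Fact p.Prime] : ∀ (n : ℕ) (G : Type u) [Group G] [Finite G],
    IsPSolvable p G → AbSyl p G → ExpLE p n G → PLengthLE p n G := by
  intro n
  induction n with
  | zero =>
    intro G _ _ hsol hab hexp
    apply Cfsg.Agent.Helper1.PLen.pLengthLE_zero_of_coprime
    obtain ⟨S⟩ : Nonempty (Sylow p G) := inferInstance
    have hS1 : Nat.card (S : Subgroup G) = 1 := by
      rw [Nat.card_eq_one_iff_unique]
      refine ⟨⟨fun a b => ?_⟩, ⟨1⟩⟩
      apply Subtype.ext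
      have ha := hexp S a a.2
      have hb := hexp S b b.2
      simp only [pow_zero, pow_one] at ha hb
      rw [ha, hb]
    have h2 := (S : Subgroup G).card_mul_index
    rw [hS1, one_mul] at h2
    rw [← h2]
    exact ((Nat.Prime.coprime_iff_not_dvd hp.out).mpr S.not_dvd_index).symm
  | succ n ih =>
    intro G _ _ hsol hab hexp
    set B := (upperPSeries p G 2).1 with hB
    have hf : Function.Surjective (QuotientGroup.mk' B) := QuotientGroup.mk'_surjective B
    apply Cfsg.Agent.Lead.PLengthLE.of_quotient_two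
    apply ih (G ⧸ B) (Cfsg.Agent.Lead.isPSolvable_quotient hsol B) (hab.of_surjective _ hf)
    intro P'
    obtain ⟨P, rfl⟩ := Sylow.mapSurjective_surjective hf p P'
    rw [Sylow.coe_mapSurjective]
    rintro _ ⟨x, hx, rfl⟩
    rw [← map_pow, QuotientGroup.mk'_apply, QuotientGroup.eq_one_iff]
    exact pow_mem_upper_two hsol hab hexp P x hx

end Cfsg.Agent.Helper9.PLenExp
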