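import Mathlib
import Cfsg.Agent.Helper25.QPDefs2
import Cfsg.Agent.Helper25.QPAct
import Cfsg.Agent.Helper18.SL2Ext5
import Cfsg.Agent.Helper12.QPNONU
import Cfsg.Agent.Helper5.QPDECOMP
import Cfsg.Agent.Helper10.QP74CONJ
import Cfsg.Agent.Helper19.QP74NIL
import Cfsg.Agent.Helper23.QP74TORUS
import Cfsg.Agent.Helper12.QP74NUELT
import Cfsg.Agent.Helper6.QP74SCALE

set_option autoImplicit false
set_option linter.unusedVariables false

/-! Board `qp74pieces`, piece NU: the family `1 + t ν`. -/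

noncomputable section

universe u v

namespace Cfsg.Agent.QP74

open Cfsg Cfsg.Agent.Helper25.QP Cfsg.Agent.Helper25.QuadPair Cfsg.Agent.QPP Polynomial

variable {k : Type u} [Field k] {M : Type v} [AddCommGroup M] [Module k M]

local notation "GLkM" => LinearMap.GeneralLinearGroup k M

/-- two endomorphisms agreeing on `K`, `B`, `B'` with `K ⊔ (B ⊔ B') = ⊤` are equal -/
theorem NU_aux_ext3 (K B B' : Submodule k M) (htop : K ⊔ (B ⊔ B') = ⊤) (f g : Module.End k M)
    (hK : ∀ m ∈ K, f m = g m) (hB : ∀ m ∈ B, f m = g m) (hB' : ∀ m ∈ B', f m = g m) : f = g := by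
  apply LinearMap.ext
  intro m
  have hm : m ∈ K ⊔ (B ⊔ B') := by rw [htop]; trivial
  obtain ⟨n, hn, p, hp, rfl⟩ := Submodule.mem_sup.mp hm
  obtain ⟨u, hu, u', hu', rfl⟩ := Submodule.mem_sup.mp hp
  rw [map_add, map_add, map_add, map_add, hK n hn, hB u hu, hB' u' hu']

theorem NU [FiniteDimensional k M] (hk2 : ringChar k ≠ 2) (hk3 : Nat.card k ≠ 3)
    {G : Subgroup GLkM} {d : ℕ} {a b : Module.End k M} (hmin : MinRank G d) (ha : QFam G a)
    (hb : Qd G d b) (hnil : ¬ IsNilpotent (a * b)) :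
    ∃ ν : Module.End k M, QFam G ν ∧ (∀ u ∈ LinearMap.range b, ν u = u + a u) ∧
      (∀ m ∈ LinearMap.ker (cj a b), ν m = 0) := by
  have h2 : (2 : k) ≠ 0 := Ring.two_ne_zero hk2
  have haa := ha.1
  have hbb := hb.1.1
  have hb' : Qd G d (cj a b) := CONJ ha hb
  have hb'b' := hb'.1.1
  have hnu : ¬ UnipPair b (cj a b) := fun h => hnil (NIL haa hbb h)
  have hp : QPair G d b (cj a b) := ⟨hmin, hb, hb'⟩
  obtain ⟨hopp, -, -⟩ := NONU hk2 hk3 hp hnu
  obtain ⟨hdec, -, hkb, hkb'⟩ := DECOMP hopp hbb hb'b'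
  have hc : IsCompl (LinearMap.range b) (LinearMap.ker (cj a b)) := hopp.2.symm
  -- the map `ν`
  set π := Submodule.projectionOnto (LinearMap.range b) (LinearMap.ker (cj a b)) hc with hπ
  set ν : Module.End k M := (1 + a) ∘ₗ (LinearMap.range b).subtype ∘ₗ π with hνdef
  have hν1 : ∀ u ∈ LinearMap.range b, ν u = u + a u := by
    intro u hu
    have : π u = ⟨u, hu⟩ := Submodule.projectionOnto_apply_left hc ⟨u, hu⟩
    simp only [hνdef, LinearMap.comp_apply, this, Submodule.subtype_apply, LinearMap.add_apply,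
      Module.End.one_apply]
  have hν0 : ∀ m ∈ LinearMap.ker (cj a b), ν m = 0 := by
    intro m hm
    have : π m = 0 := by
      rw [hπ, Submodule.projectionOnto_apply_of_mem_right hc hm]
    simp only [hνdef, LinearMap.comp_apply, this, map_zero]
  -- `range b' ≤ ker b'`
  have hrk' : LinearMap.range (cj a b) ≤ LinearMap.ker (cj a b) := by
    rintro _ ⟨m, rfl⟩
    rw [LinearMap.mem_ker]
    have := LinearMap.congr_fun hb'b' m
    simpa using this
  have hrk : LinearMap.range b ≤ LinearMap.ker b := by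
    rintro _ ⟨m, rfl⟩
    rw [LinearMap.mem_ker]
    have := LinearMap.congr_fun hbb m
    simpa using this
  -- `σ u ∈ range b'`
  have hσB : ∀ u ∈ LinearMap.range b, u + a u ∈ LinearMap.range (cj a b) := fun u hu =>
    (CONJ_range haa (u + a u)).2 ⟨u, hu, rfl⟩
  have hνB' : ∀ m ∈ LinearMap.range (cj a b), ν m = 0 := fun m hm => hν0 m (hrk' hm)
  have hνrange : ∀ m : M, ν m ∈ LinearMap.range (cj a b) := by
    intro m
    have : ν m = ((π m : LinearMap.range b) : M) + a ((π m : LinearMap.range b) : M) := by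
      simp only [hνdef, LinearMap.comp_apply, Submodule.subtype_apply, LinearMap.add_apply,
        Module.End.one_apply]
    rw [this]
    exact hσB _ (π m).2
  have hνν : ν * ν = 0 := by
    apply LinearMap.ext
    intro m
    rw [Module.End.mul_apply, LinearMap.zero_apply]
    exact hνB' _ (hνrange m)
  have htop : (LinearMap.ker b ⊓ LinearMap.ker (cj a b)) ⊔
      (LinearMap.range b ⊔ LinearMap.range (cj a b)) = ⊤ := hdec.sup_eq_top
  -- the additive subgroup `T`
  have hmulT : ∀ t t' : k, (1 + t • ν) * (1 + t' • ν) = 1 + (t + t') • ν := by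
    intro t t'
    rw [mul_add, add_mul, add_mul, smul_mul_smul_comm, hνν]
    simp only [mul_one, one_mul, smul_zero, add_zero, add_smul]
    abel
  let T : AddSubgroup k :=
    { carrier := {t | InG G (1 + t • ν)}
      zero_mem' := by
        show InG G (1 + (0 : k) • ν)
        rw [zero_smul, add_zero]; exact InG.one G
      add_mem' := by
        intro t t' ht ht'
        show InG G (1 + (t + t') • ν)
        rw [← hmulT]; exact ht.mul ht'
      neg_mem' := by
        intro t ht
        show InG G (1 + (-t) • ν)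
        refine ht.inv_of_mul_eq_one ?_
        rw [hmulT, add_neg_cancel, zero_smul, add_zero] }
  have hT : ∀ t : k, t ∈ T ↔ InG G (1 + t • ν) := fun t => Iff.rfl
  -- a nonzero element of `T`
  obtain ⟨s₀, hs0, hs1, hs1'⟩ := Cfsg.Agent.Helper18.SL2Ext.exists_good_of_card hk2 hk3
  have ht₀ := NUELT hk2 hk3 hmin ha hb hnil ν hν1 hν0 s₀ hs0
  have hi0 : s₀⁻¹ ≠ 0 := inv_ne_zero hs0
  have hne : 2 * s₀⁻¹ ^ 2 * (s₀⁻¹ ^ 2 - 1) ≠ 0 := by
    refine mul_ne_zero (mul_ne_zero h2 (pow_ne_zero 2 hi0)) ?_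
    intro h
    have h1 : s₀⁻¹ ^ 2 = 1 := sub_eq_zero.mp h
    have h3 : s₀ ^ 2 = 1 := by
      have : (s₀⁻¹ ^ 2) * s₀ ^ 2 = 1 := by
        rw [← mul_pow, inv_mul_cancel₀ hs0, one_pow]
      rw [h1, one_mul] at this
      exact this
    have h4 : (s₀ - 1) * (s₀ + 1) = 0 := by
      have : (s₀ - 1) * (s₀ + 1) = s₀ ^ 2 - 1 := by ring
      rw [this, h3, sub_self]
    rcases mul_eq_zero.mp h4 with h5 | h5
    · exact hs1 (sub_eq_zero.mp h5)
    · exact hs1' (eq_neg_of_add_eq_zero_left h5)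
  -- stability under nonzero squares
  have hsq : ∀ s : k, s ≠ 0 → ∀ t ∈ T, s ^ 2 * t ∈ T := by
    intro s hs t ht
    obtain ⟨h, hhG, hh0, hhB, hhB'⟩ := TORUS hk2 hk3 hp hnu s⁻¹ (inv_ne_zero hs)
    rw [inv_inv] at hhB'
    obtain ⟨x, hxG, hx⟩ := (hT t).1 ht
    rw [hT]
    refine ⟨h * x * h⁻¹, G.mul_mem (G.mul_mem hhG hxG) (G.inv_mem hhG), ?_⟩
    have key : (h : Module.End k M) * (1 + t • ν) = (1 + (s ^ 2 * t) • ν) * (h : Module.End k M) := by
      apply NU_aux_ext3 _ _ _ htop
      · intro m hm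
        have hm' : m ∈ LinearMap.ker (cj a b) := hm.2
        simp only [Module.End.mul_apply, LinearMap.add_apply, Module.End.one_apply,
          LinearMap.smul_apply, hν0 m hm', smul_zero, add_zero, hh0 m hm]
      · intro u hu
        have e1 : ((1 : Module.End k M) + t • ν) u = u + t • (u + a u) := by
          rw [LinearMap.add_apply, Module.End.one_apply, LinearMap.smul_apply, hν1 u hu]
        have e2 : ((1 : Module.End k M) + (s ^ 2 * t) • ν) (s⁻¹ • u)
            = s⁻¹ • u + (s ^ 2 * t) • (s⁻¹ • (u + a u)) := by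
          rw [LinearMap.add_apply, Module.End.one_apply, LinearMap.smul_apply, map_smul, hν1 u hu]
        rw [Module.End.mul_apply, Module.End.mul_apply, e1, hhB u hu, e2, map_add, map_smul,
          hhB u hu, hhB' _ (hσB u hu), smul_smul, smul_smul]
        congr 2
        field_simp
      · intro u' hu'
        simp only [Module.End.mul_apply, LinearMap.add_apply, Module.End.one_apply,
          LinearMap.smul_apply, hνB' u' hu', hhB' u' hu', map_smul, smul_zero, add_zero]
    rw [Units.val_mul, Units.val_mul, hx, key, mul_assoc, Units.mul_inv, mul_one]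
  have hall := SCALE hk2 T ((hT _).2 ht₀) hne hsq
  exact ⟨ν, ⟨hνν, fun c => (hT c).1 (hall c)⟩, hν1, hν0⟩

end Cfsg.Agent.QP74

end
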