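import Mathlib
import Cfsg.Agent.Helper9.LBalD

set_option autoImplicit false
set_option linter.style.haveILetI false
set_option linter.unusedSectionVars false
set_option maxHeartbeats 1600000

/-! # L-balance, part E: a nontrivial centre -/

namespace Cfsg.Agent.Helper9.LBal

open Subgroup Cfsg
open Cfsg.Agent.Helper7 (pGen coreOf pLayerPre compKernel)
open Cfsg.Agent.Helper1 (SubnIn)
open Cfsg.Agent.Helper19 (pPrimeCore_coprime)
open scoped commutatorElement

universe u

variable {X : Type u} [Group X] [Finite X]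

/-- the layer acts by inner automorphisms on each component -/
theorem layer_le_centralizer_sup {Q : Type u} [Group Q] [Finite Q] {L : Subgroup Q}
    (hL : IsComponent L) : layer Q ≤ centralizer (L : Set Q) ⊔ L := by
  rw [Cfsg.Agent.Helper7.layer_le_iff]
  intro L' hL'
  by_cases h : L' = L
  · rw [h]; exact le_sup_right
  · refine le_trans ?_ le_sup_left
    rw [← commutator_eq_bot_iff_le_centralizer]
    exact Cfsg.Agent.Helper7.components_commute hL' hL h

/-- if `Y` normalises the perfect group `J` and `[Y, J]` is central in `J` then `Y` centralises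
`J` -/
theorem le_centralizer_of_commutator_le {J Y Z₁ : Subgroup X} (hperf : ⁅J, J⁆ = J)
    (h1 : ⁅Y, J⁆ ≤ Z₁) (h2 : Z₁ ≤ centralizer (J : Set X)) : Y ≤ centralizer (J : Set X) := by
  have h3 : ⁅⁅Y, J⁆, J⁆ = ⊥ := by
    rw [eq_bot_iff]
    refine (commutator_mono h1 le_rfl).trans ?_
    rw [commutator_eq_bot_iff_le_centralizer.2 h2]
  have h4 := Cfsg.Agent.Helper7.commutator_eq_bot_of_perfect hperf h3
  rw [commutator_comm] at h4
  exact commutator_eq_bot_iff_le_centralizer.1 h4

/-- a proper normal subgroup of a component is central -/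
theorem IsComponent.inf_ker_le_centralizer {J : Subgroup X} (hJ : IsComponent J) {N : Subgroup X}
    [hN : N.Normal] (hJN : ¬ J ≤ N) : J ⊓ N ≤ centralizer (J : Set X) := by
  haveI : (N.subgroupOf J).Normal := hN.subgroupOf J
  rcases Cfsg.Agent.Helper7.IsQuasisimple.normal_eq_top_or_le_center hJ.2 (N.subgroupOf J) with h | h
  · exfalso
    apply hJN
    exact subgroupOf_eq_top.1 h
  · intro z hz
    rw [mem_centralizer_iff]
    intro x hx
    have hz' : (⟨z, hz.1⟩ : ↥J) ∈ center ↥J := h (mem_subgroupOf.2 hz.2)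
    have := mem_center_iff.1 hz' ⟨x, hx⟩
    exact congrArg Subtype.val this

theorem inner_of_center_ne_bot (hO : pPrimeCore 2 X = ⊥) (hZ : center X ≠ ⊥) (IH : IHyp X)
    {R K : Subgroup X} (hR : IsPGroup 2 ↥R)
    (hK : IsPComponentOf 2 K (normalizer (R : Set X))) {J : Subgroup X} (hJ : IsComponent J) :
    ∀ k ∈ K, ∃ j ∈ J, k * j⁻¹ ∈ centralizer (J : Set X) := by
  haveI : Fact (Nat.Prime 2) := ⟨Nat.prime_two⟩
  obtain ⟨π, hπ⟩ : ∃ π : X →* X ⧸ center X, π = QuotientGroup.mk' (center X) := ⟨_, rfl⟩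
  have hπs : Function.Surjective π := hπ ▸ QuotientGroup.mk'_surjective _
  have hπker : π.ker = center X := hπ ▸ QuotientGroup.ker_mk' _
  have hker : ∀ z : X, z ∈ π.ker ↔ z ∈ center X := fun z => by rw [hπker]
  have hlt : Nat.card (X ⧸ center X) < Nat.card X := by
    have h1 := Subgroup.card_eq_card_quotient_mul_card_subgroup (center X)
    have h2 : 1 < Nat.card (center X) := (Subgroup.one_lt_card_iff_ne_bot _).2 hZ
    have h3 : 0 < Nat.card (X ⧸ center X) := Nat.card_pos
    nlinarith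
  have hLB : LBN (X ⧸ center X) := IH _ hlt
  have hKN : K ≤ normalizer (J : Set X) :=
    (IsPComponentOf.le_compKernel hO hR hK).trans
      (Cfsg.Agent.Helper7.compKernel_le_normalizer hJ)
  -- step 1
  have hKc := IsPComponentOf.to_centralizer hR hK
  have hK2 := isPComponentOf_iff.1 hKc
  have hKperf : ⁅K, K⁆ = K := Subgroup.isPerfect_iff.1 hK2.2.1
  have hKbot : K ≠ ⊥ := by
    haveI := hK2.2.nontrivial
    exact (Subgroup.nontrivial_iff_ne_bot K).1 inferInstance
  -- the preimage of the centralizer in the quotient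
  obtain ⟨D, hDdef⟩ : ∃ D : Subgroup X,
    D = (centralizer ((R.map π : Subgroup (X ⧸ center X)) : Set (X ⧸ center X))).comap π := ⟨_, rfl⟩
  have hCD : centralizer (R : Set X) ≤ D := by
    intro c hc
    rw [hDdef, mem_comap, mem_centralizer_iff]
    rintro _ ⟨r, hr, rfl⟩
    rw [← map_mul, ← map_mul, mem_centralizer_iff.1 hc r hr]
  have hDn : D ≤ normalizer ((centralizer (R : Set X) : Subgroup X) : Set X) := by
    apply Cfsg.Agent.Helper14.le_normalizer_of_map_cj_le
    rintro d hd _ ⟨c, hc, rfl⟩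
    rw [Cfsg.Agent.Helper14.cj_apply, mem_centralizer_iff]
    intro r hr
    have hd' : π r * π d = π d * π r := by
      rw [hDdef, mem_comap] at hd
      exact mem_centralizer_iff.1 hd _ (mem_map_of_mem π hr)
    have hζ : r⁻¹ * d⁻¹ * r * d ∈ center X := by
      rw [← hπker, MonoidHom.mem_ker, map_mul, map_mul, map_mul, map_inv, map_inv]
      calc (π r)⁻¹ * (π d)⁻¹ * π r * π d = (π r)⁻¹ * (π d)⁻¹ * (π r * π d) := by group
        _ = 1 := by rw [hd']; group
    have hcr : r * c = c * r := mem_centralizer_iff.1 hc r hr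
    have hζc := mem_center_iff.1 hζ
    have e1 : d⁻¹ * r * d = r * (r⁻¹ * d⁻¹ * r * d) := by group
    calc r * (d * c * d⁻¹) = d * (d⁻¹ * r * d) * c * d⁻¹ := by group
      _ = d * (r * (r⁻¹ * d⁻¹ * r * d)) * c * d⁻¹ := by rw [← e1]
      _ = d * r * ((r⁻¹ * d⁻¹ * r * d) * c) * d⁻¹ := by group
      _ = d * r * (c * (r⁻¹ * d⁻¹ * r * d)) * d⁻¹ := by rw [hζc c]
      _ = d * (r * c) * (r⁻¹ * d⁻¹ * r * d) * d⁻¹ := by group
      _ = d * (c * r) * (r⁻¹ * d⁻¹ * r * d) * d⁻¹ := by rw [hcr]
      _ = d * c * d⁻¹ * r := by group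
  have hsn : SubnIn K D := hK2.1.trans (SubnIn.of_normal hCD hDn)
  have hsn2 : SubnIn (K.map π)
      (centralizer ((R.map π : Subgroup (X ⧸ center X)) : Set (X ⧸ center X))) := by
    have := SubnIn.map hsn π
    rwa [hDdef, map_comap_eq_self_of_surjective hπs] at this
  have hsn3 := hsn2.trans (subnIn_centralizer_normalizer (R.map π))
  have hKne : K.map π ≠ ⊥ := by
    intro h
    rw [Subgroup.map_eq_bot_iff, hπker] at h
    apply hKbot
    rw [← hKperf, commutator_eq_bot_iff_le_centralizer]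
    exact h.trans (center_le_centralizer _)
  haveI : Nontrivial ↥(K.map π) := (Subgroup.nontrivial_iff_ne_bot _).2 hKne
  have hc2 : C2T 2 ↥(K.map π) :=
    hK2.2.of_surjective (π.subgroupMap K) (π.subgroupMap_surjective K)
  have hKb : IsPComponentOf 2 (K.map π)
      (normalizer ((R.map π : Subgroup (X ⧸ center X)) : Set (X ⧸ center X))) :=
    isPComponentOf_iff.2 ⟨hsn3, hc2⟩
  have hKbL : K.map π ≤ pLayer 2 (X ⧸ center X) :=
    (IsPComponentOf.le_pLayerOf hKb).trans (hLB _ (hR.map π))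
  -- the second quotient
  obtain ⟨f, hf⟩ : ∃ f : X →* (X ⧸ center X) ⧸ pPrimeCore 2 (X ⧸ center X),
    f = (QuotientGroup.mk' (pPrimeCore 2 (X ⧸ center X))).comp π := ⟨_, rfl⟩
  have hfs : Function.Surjective f := by
    rw [hf]; exact (QuotientGroup.mk'_surjective _).comp hπs
  have hfK : K.map f ≤ layer ((X ⧸ center X) ⧸ pPrimeCore 2 (X ⧸ center X)) := by
    rw [hf, ← Subgroup.map_map, ← Cfsg.Agent.Helper7.map_pLayer]
    exact map_mono hKbL
  have hJf : ¬ J ≤ f.ker := by
    intro h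
    have hodd : Odd (Nat.card ↥(pPrimeCore 2 (X ⧸ center X))) :=
      Nat.coprime_two_right.mp (pPrimeCore_coprime 2)
    apply not_odd_exponent_mod_center hO hJ hodd
    intro x hx y _
    have h1 : π x ∈ pPrimeCore 2 (X ⧸ center X) := by
      have := h hx
      rw [MonoidHom.mem_ker, hf, MonoidHom.comp_apply, QuotientGroup.mk'_apply,
        QuotientGroup.eq_one_iff] at this
      exact this
    have h2 : (π x) ^ Nat.card ↥(pPrimeCore 2 (X ⧸ center X)) = 1 := by
      have h4 : ((⟨π x, h1⟩ : ↥(pPrimeCore 2 (X ⧸ center X))) ^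
          Nat.card ↥(pPrimeCore 2 (X ⧸ center X))) = 1 := pow_card_eq_one'
      have h5 := congrArg Subtype.val h4
      rw [Subgroup.coe_pow, Subgroup.coe_one] at h5
      exact h5
    have h3 : x ^ Nat.card ↥(pPrimeCore 2 (X ⧸ center X)) ∈ center X := by
      apply (hker _).1
      rw [MonoidHom.mem_ker, map_pow]; exact h2
    exact (mem_center_iff.1 h3 y).symm
  have hJfne : J.map f ≠ ⊥ := by
    intro h
    rw [Subgroup.map_eq_bot_iff] at h
    exact hJf h
  have hJc : IsComponent (J.map f) :=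
    (Cfsg.Agent.Helper7.IsComponent.map_eq_bot_or f hfs hJ).resolve_left hJfne
  have hlay := layer_le_centralizer_sup hJc
  -- the subgroup acting trivially on the image
  obtain ⟨Y, hYdef⟩ : ∃ Y : Subgroup X, Y = normalizer (J : Set X) ⊓
    (centralizer ((J.map f : Subgroup _) : Set _)).comap f := ⟨_, rfl⟩
  have hYJ : ⁅Y, J⁆ ≤ J ⊓ f.ker := by
    rw [commutator_le]
    intro y hy x hx
    rw [hYdef] at hy
    refine mem_inf.2 ⟨?_, ?_⟩
    · rw [commutatorElement_def]
      have := (mem_normalizer_iff.1 hy.1 x).1 hx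
      exact J.mul_mem this (J.inv_mem hx)
    · rw [MonoidHom.mem_ker, map_commutatorElement, commutatorElement_eq_one_iff_mul_comm]
      exact (mem_centralizer_iff.1 (mem_comap.1 hy.2) _ (mem_map_of_mem f hx)).symm
  have hYc : Y ≤ centralizer (J : Set X) :=
    le_centralizer_of_commutator_le (Cfsg.Agent.Helper7.IsComponent.commutator_eq hJ) hYJ
      (IsComponent.inf_ker_le_centralizer hJ hJf)
  intro k hk
  have h1 : f k ∈ centralizer ((J.map f : Subgroup _) : Set _) ⊔ J.map f :=
    hlay (hfK (mem_map_of_mem f hk))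
  have hcomm : ⁅centralizer ((J.map f : Subgroup _) : Set _), J.map f⁆ = ⊥ :=
    commutator_eq_bot_iff_le_centralizer.2 le_rfl
  obtain ⟨c, hc, l, hl, hcl⟩ := (Cfsg.Agent.Helper7.mem_sup_of_commutator_eq_bot hcomm).1 h1
  obtain ⟨j, hj, rfl⟩ := hl
  refine ⟨j, hj, hYc ?_⟩
  rw [hYdef]
  refine mem_inf.2 ⟨Subgroup.mul_mem _ (hKN hk) (Subgroup.inv_mem _ (le_normalizer hj)), ?_⟩
  rw [mem_comap, map_mul, map_inv, ← hcl, mul_inv_cancel_right]
  exact hc

end Cfsg.Agent.Helper9.LBal
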