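import Mathlib
import Cfsg.Agent.Helper9.LBalE
import Cfsg.Agent.Helper7.StrongEmbFStar

set_option autoImplicit false
set_option linter.style.haveILetI false
set_option linter.unusedSectionVars false
set_option maxHeartbeats 1600000

/-! # L-balance, part F: the extremal configuration, generation and the dichotomy -/

namespace Cfsg.Agent.Helper9.LBal

open Subgroup Cfsg
open Cfsg.Agent.Helper7 (pGen coreOf pLayerPre compKernel)
open Cfsg.Agent.Helper1 (SubnIn)
open Cfsg.Agent.Helper14 (cj)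
open Cfsg.Agent.Helper19 (pPrimeCore_coprime)
open scoped commutatorElement

universe u

variable {X : Type u} [Group X] [Finite X]

/-- the `2`-part of the order of `C_J(z)` -/
noncomputable def mu (z : X) (J : Subgroup X) : ℕ :=
  (Nat.card ↥(J ⊓ centralizer ({z} : Set X))).factorization 2

/-- A counterexample configuration. -/
structure Cfg (t : X) (I J : Subgroup X) : Prop where
  hO : pPrimeCore 2 X = ⊥
  hZ : center X = ⊥
  IH : IHyp X
  ht : orderOf t = 2
  hJ : IsComponent J
  hI : IsPComponentOf 2 I (centralizer ({t} : Set X))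
  hbad : ¬ I ≤ J ⊔ centralizer (J : Set X)
  hmax : ∀ z : X, orderOf z = 2 → mu t J < mu z J →
    ∀ I' : Subgroup X, IsPComponentOf 2 I' (centralizer ({z} : Set X)) →
      I' ≤ J ⊔ centralizer (J : Set X)

variable {t : X} {I J : Subgroup X}

theorem Cfg.hI' (c : Cfg t I J) :
    IsPComponentOf 2 I (normalizer ((zpowers t : Subgroup X) : Set X)) := by
  rw [normalizer_zpowers_eq c.ht]; exact c.hI

theorem Cfg.le_compKernel (c : Cfg t I J) : I ≤ compKernel X := by
  haveI : Fact (Nat.Prime 2) := ⟨Nat.prime_two⟩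
  exact IsPComponentOf.le_compKernel c.hO (isPGroup_zpowers_two c.ht) c.hI'

theorem Cfg.pGen_eq (c : Cfg t I J) : pGen 2 I = I := by
  haveI : Fact (Nat.Prime 2) := ⟨Nat.prime_two⟩
  exact pGen_eq_of_top (isPComponentOf_iff.1 c.hI).2.2.1

theorem Cfg.perfect (c : Cfg t I J) : ⁅I, I⁆ = I := by
  haveI : Fact (Nat.Prime 2) := ⟨Nat.prime_two⟩
  exact Subgroup.isPerfect_iff.1 (isPComponentOf_iff.1 c.hI).2.1

/-- Step A: `X = ⟨J, I, t⟩`. -/
theorem Cfg.gen (c : Cfg t I J) : J ⊔ I ⊔ zpowers t = ⊤ := by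
  haveI : Fact (Nat.Prime 2) := ⟨Nat.prime_two⟩
  by_contra hne
  obtain ⟨Y, hYdef⟩ : ∃ Y : Subgroup X, Y = J ⊔ I ⊔ zpowers t := ⟨_, rfl⟩
  rw [← hYdef] at hne
  have hJY : J ≤ Y := by rw [hYdef]; exact le_sup_left.trans le_sup_left
  have hIY : I ≤ Y := by rw [hYdef]; exact le_sup_right.trans le_sup_left
  have htY : zpowers t ≤ Y := by rw [hYdef]; exact le_sup_right
  have hlt : Nat.card ↥Y < Nat.card X := Cfsg.Agent.Helper7.card_lt_of_ne_top hne
  have hLB : LBN ↥Y := c.IH _ hlt
  have hI' : IsPComponentOf 2 I (Y ⊓ normalizer ((zpowers t : Subgroup X) : Set X)) := by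
    rw [normalizer_zpowers_eq c.ht]
    exact IsPComponentOf.mono c.hI (le_inf hIY c.hI.1) inf_le_right
  have h1 : I ≤ pLayerOf 2 Y := hLB.ambient htY (isPGroup_zpowers_two c.ht) hI'
  apply c.hbad
  refine h1.trans ?_
  rw [pLayerOf_le_iff]
  intro M hM
  have hJ' : IsComponent (J.subgroupOf Y) := Cfsg.Agent.Helper7.isComponent_subgroupOf c.hJ hJY
  rcases Cfsg.Agent.Helper7.component_le_or_commutator_eq_bot hJ' hM.2.1 with h | h
  · have heq : J.subgroupOf Y = M.subgroupOf Y := by
      apply Cfsg.Agent.Helper7.IsPComponent.eq_of_subnormal_perfect hM.2 h hJ'.1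
        (Cfsg.Agent.Helper7.IsComponent.commutator_eq hJ')
      rw [Nat.card_congr (subgroupOfEquivOfLe hJY).toEquiv]
      exact Cfsg.Agent.Helper7.IsComponent.dvd_card_of_pPrimeCore_eq_bot c.hO c.hJ
    have : M ≤ J := (Cfsg.Agent.Helper7.subgroupOf_le_subgroupOf_iff hM.1).1 (le_of_eq heq.symm)
    exact this.trans le_sup_left
  · rw [Cfsg.Agent.Helper7.commutator_subgroupOf_eq_bot_iff hJY hM.1] at h
    rw [commutator_comm, commutator_eq_bot_iff_le_centralizer] at h
    exact h.trans le_sup_right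

theorem Cfg.map_cj_cj (c : Cfg t I J) : (J.map (cj t)).map (cj t) = J := by
  rw [Cfsg.Agent.Helper14.map_cj_mul, mul_self_of_orderOf_two c.ht, Cfsg.Agent.Helper14.map_cj_one]

/-- `J J^t` is normal. -/
theorem Cfg.normal_sup (c : Cfg t I J) : (J ⊔ J.map (cj t)).Normal := by
  rw [← normalizer_eq_top_iff, eq_top_iff, ← c.gen]
  have hJt : IsComponent (J.map (cj t)) := Cfsg.Agent.Helper7.isComponent_map_conj c.hJ t
  apply sup_le (sup_le ?_ ?_) ?_
  · exact le_sup_left.trans le_normalizer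
  · intro i hi
    have h1 := Cfsg.Agent.Helper7.mem_compKernel_iff.1 (c.le_compKernel hi)
    rw [Cfsg.Agent.Helper14.mem_normalizer_iff_map_cj, Subgroup.map_sup]
    change J.map (cj i) ⊔ (J.map (cj t)).map (cj i) = _
    have e1 : J.map (cj i) = J := h1 J c.hJ
    have e2 : (J.map (cj t)).map (cj i) = J.map (cj t) := h1 _ hJt
    rw [e1, e2]
  · rw [zpowers_le, Cfsg.Agent.Helper14.mem_normalizer_iff_map_cj, Subgroup.map_sup, c.map_cj_cj,
      sup_comm]

theorem Cfg.sup_conj_le (c : Cfg t I J) : J ⊔ J.map (cj t) ≤ J ⊔ centralizer (J : Set X) := by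
  apply _root_.sup_le le_sup_left
  by_cases h : J.map (cj t) = J
  · rw [h]; exact le_sup_left
  · refine le_trans ?_ le_sup_right
    rw [← commutator_eq_bot_iff_le_centralizer]
    exact Cfsg.Agent.Helper7.components_commute
      (Cfsg.Agent.Helper7.isComponent_map_conj c.hJ t) c.hJ h

/-- the dichotomy: `I` acts trivially on `C_{JJ^t}(t)` modulo the core -/
theorem Cfg.comm_le (c : Cfg t I J) :
    ⁅I, (J ⊔ J.map (cj t)) ⊓ centralizer ({t} : Set X)⁆ ≤ coreOf 2 (centralizer ({t} : Set X)) := by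
  haveI : Fact (Nat.Prime 2) := ⟨Nat.prime_two⟩
  haveI := c.normal_sup
  have hM : SubnIn ((J ⊔ J.map (cj t)) ⊓ centralizer ({t} : Set X)) (centralizer ({t} : Set X)) := by
    apply SubnIn.of_normal inf_le_right
    intro x hx
    exact Glaub.mem_normalizer_inf (Glaub.mem_normalizer_of_normal x) (le_normalizer hx)
  rcases IsPComponentOf.le_or_commutator_le c.hI hM with h | h
  · exfalso
    exact c.hbad ((h.trans inf_le_left).trans c.sup_conj_le)
  · exact h

end Cfsg.Agent.Helper9.LBal
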