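import Mathlib
import Cfsg.Agent.Helper9.LBalF

set_option autoImplicit false
set_option linter.style.haveILetI false
set_option linter.unusedSectionVars false
set_option maxHeartbeats 1600000

/-! # L-balance, part G: the involution normalises the component -/

namespace Cfsg.Agent.Helper9.LBal

open Subgroup Cfsg
open Cfsg.Agent.Helper7 (pGen coreOf pLayerPre compKernel)
open Cfsg.Agent.Helper1 (SubnIn)
open Cfsg.Agent.Helper14 (cj)
open Cfsg.Agent.Helper19 (pPrimeCore_coprime)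
open scoped commutatorElement

universe u

variable {X : Type u} [Group X] [Finite X] {t : X} {I J : Subgroup X}

/-- Step C: `t` normalises `J`. -/
theorem Cfg.conj_eq (c : Cfg t I J) : J.map (cj t) = J := by
  haveI : Fact (Nat.Prime 2) := ⟨Nat.prime_two⟩
  by_contra hne
  have hJt : IsComponent (J.map (cj t)) := Cfsg.Agent.Helper7.isComponent_map_conj c.hJ t
  have hcomm0 : ⁅J.map (cj t), J⁆ = ⊥ := Cfsg.Agent.Helper7.components_commute hJt c.hJ hne
  have hcomm : ∀ x ∈ J, ∀ y ∈ J, (t * x * t⁻¹) * y = y * (t * x * t⁻¹) := by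
    intro x hx y hy
    have h1 : J.map (cj t) ≤ centralizer (J : Set X) := commutator_eq_bot_iff_le_centralizer.1 hcomm0
    have h2 : t * x * t⁻¹ ∈ J.map (cj t) := ⟨x, hx, rfl⟩
    exact (mem_centralizer_iff.1 (h1 h2) y hy).symm
  have htt : t * t = 1 := mul_self_of_orderOf_two c.ht
  have htinv : t⁻¹ = t := by
    calc t⁻¹ = t⁻¹ * (t * t) := by rw [htt, mul_one]
      _ = t := by group
  obtain ⟨C, hCdef⟩ : ∃ C : Subgroup X, C = centralizer ({t} : Set X) := ⟨_, rfl⟩
  obtain ⟨O, hOdef⟩ : ∃ O : Subgroup X, O = coreOf 2 C := ⟨_, rfl⟩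
  have hOn := Glaub.oddNormalIn_coreOf C
  rw [← hOdef] at hOn
  have hIC : I ≤ C := hCdef ▸ c.hI.1
  -- the diagonal homomorphism
  let δ : ↥J →* X := MonoidHom.mk' (fun x => (x : X) * (t * (x : X) * t⁻¹)) (by
    intro a b
    simp only [Subgroup.coe_mul]
    have h1 := hcomm (a : X) a.2 (b : X) b.2
    calc (a : X) * (b : X) * (t * ((a : X) * (b : X)) * t⁻¹)
        = (a : X) * ((b : X) * (t * (a : X) * t⁻¹)) * (t * (b : X) * t⁻¹) := by group
      _ = (a : X) * ((t * (a : X) * t⁻¹) * (b : X)) * (t * (b : X) * t⁻¹) := by rw [h1]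
      _ = (a : X) * (t * (a : X) * t⁻¹) * ((b : X) * (t * (b : X) * t⁻¹)) := by group)
  have hδ : ∀ x : ↥J, δ x = (x : X) * (t * (x : X) * t⁻¹) := fun x => rfl
  have hδC : ∀ x : ↥J, δ x ∈ (J ⊔ J.map (cj t)) ⊓ C := by
    intro x
    refine mem_inf.2 ⟨?_, ?_⟩
    · rw [hδ]
      exact mul_mem (mem_sup_left x.2) (mem_sup_right ⟨x, x.2, rfl⟩)
    · rw [hCdef, mem_centralizer_singleton_iff, hδ]
      have h1 := hcomm (x : X) x.2 (x : X) x.2
      calc (x : X) * (t * (x : X) * t⁻¹) * t = (x : X) * (t * (x : X)) * (t⁻¹ * t) := by group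
        _ = (x : X) * (t * (x : X)) := by rw [inv_mul_cancel, mul_one]
        _ = ((x : X) * (t * (x : X) * t⁻¹)) * t := by group
        _ = ((t * (x : X) * t⁻¹) * (x : X)) * t := by rw [h1]
        _ = t * ((x : X) * (t⁻¹ * (x : X) * t)) := by group
        _ = t * ((x : X) * (t * (x : X) * t⁻¹)) := by rw [htinv]
  -- the normal subgroup `δ⁻¹(O)` of `J`
  have hD₁n : (O.comap δ).Normal := by
    constructor
    intro n hn g
    rw [mem_comap] at hn ⊢
    rw [map_mul, map_mul, map_inv]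
    exact (mem_normalizer_iff.1 (hOn.2.1 (hδC g).2) _).1 hn
  have hI_comm : ∀ i ∈ I, ∀ x : ↥J, ∃ y : ↥J, (y : X) = ⁅i, (x : X)⁆ ∧ y ∈ O.comap δ := by
    intro i hi x
    have hiN : i ∈ normalizer (J : Set X) :=
      (Cfsg.Agent.Helper7.compKernel_le_normalizer c.hJ) (c.le_compKernel hi)
    have hix : i * (x : X) * i⁻¹ ∈ J := (mem_normalizer_iff.1 hiN _).1 x.2
    have hy : ⁅i, (x : X)⁆ ∈ J := by
      rw [commutatorElement_def]; exact J.mul_mem hix (J.inv_mem x.2)
    refine ⟨⟨_, hy⟩, rfl, ?_⟩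
    rw [mem_comap]
    have hit : i * t = t * i := by
      have := hIC hi
      rw [hCdef, mem_centralizer_singleton_iff] at this
      exact this
    have hit' : i * t⁻¹ = t⁻¹ * i := by rw [htinv]; exact hit
    have e1 : δ ⟨_, hy⟩ = ⁅i, δ x⁆ := by
      have e2 : (⟨_, hy⟩ : ↥J) = ⟨_, hix⟩ * x⁻¹ := by
        apply Subtype.ext
        simp [commutatorElement_def]
      rw [e2, map_mul, map_inv, commutatorElement_def]
      congr 1
      rw [hδ, hδ]
      simp only []
      calc i * (x : X) * i⁻¹ * (t * (i * (x : X) * i⁻¹) * t⁻¹)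
          = i * (x : X) * i⁻¹ * ((t * i) * (x : X) * (t * i)⁻¹) := by group
        _ = i * (x : X) * i⁻¹ * ((i * t) * (x : X) * (i * t)⁻¹) := by rw [hit]
        _ = i * ((x : X) * (t * (x : X) * t⁻¹)) * i⁻¹ := by group
    rw [e1, hOdef, hCdef]
    apply c.comm_le
    have := hδC x
    rw [hCdef] at this
    exact commutator_mem_commutator hi this
  rcases Cfsg.Agent.Helper7.IsQuasisimple.normal_eq_top_or_le_center c.hJ.2 (O.comap δ) with h | h
  · -- `δ(J)` has odd order: impossible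
    have hodd : Odd (Nat.card ↥O) := hOn.2.2
    apply not_odd_exponent_mod_center c.hO c.hJ hodd
    intro x hx y hy
    have h1 : δ ⟨x, hx⟩ ∈ O := by
      have : (⟨x, hx⟩ : ↥J) ∈ O.comap δ := by rw [h]; exact mem_top _
      exact this
    have h2 : (δ ⟨x, hx⟩) ^ Nat.card ↥O = 1 := by
      have h4 : ((⟨δ ⟨x, hx⟩, h1⟩ : ↥O) ^ Nat.card ↥O) = 1 := pow_card_eq_one'
      have h5 := congrArg Subtype.val h4
      rw [Subgroup.coe_pow, Subgroup.coe_one] at h5
      exact h5
    rw [← map_pow, hδ] at h2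
    have h3 : x ^ Nat.card ↥O = t * (x ^ Nat.card ↥O)⁻¹ * t⁻¹ := by
      have h6 : ((⟨x, hx⟩ ^ Nat.card ↥O : ↥J) : X) = x ^ Nat.card ↥O := by
        rw [Subgroup.coe_pow]
      rw [h6] at h2
      calc x ^ Nat.card ↥O
          = (x ^ Nat.card ↥O * (t * x ^ Nat.card ↥O * t⁻¹)) * (t * (x ^ Nat.card ↥O)⁻¹ * t⁻¹) := by
            group
        _ = t * (x ^ Nat.card ↥O)⁻¹ * t⁻¹ := by rw [h2, one_mul]
    rw [h3]
    exact hcomm _ (J.inv_mem (J.pow_mem hx _)) y hy
  · -- `[I, J]` is central in `J`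
    apply c.hbad
    refine le_trans ?_ le_sup_right
    apply le_centralizer_of_commutator_le (Cfsg.Agent.Helper7.IsComponent.commutator_eq c.hJ)
      (Z₁ := J ⊓ centralizer (J : Set X)) _ inf_le_right
    rw [commutator_le]
    intro i hi x hx
    obtain ⟨y, hy1, hy2⟩ := hI_comm i hi ⟨x, hx⟩
    have hy3 := h hy2
    rw [← hy1]
    refine mem_inf.2 ⟨y.2, ?_⟩
    rw [mem_centralizer_iff]
    intro z hz
    have := mem_center_iff.1 hy3 ⟨z, hz⟩
    exact congrArg Subtype.val this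

theorem Cfg.normal (c : Cfg t I J) : J.Normal := by
  have := c.normal_sup
  rwa [c.conj_eq, sup_idem] at this

theorem Cfg.comm_le' (c : Cfg t I J) :
    ⁅I, J ⊓ centralizer ({t} : Set X)⁆ ≤ coreOf 2 (centralizer ({t} : Set X)) := by
  have := c.comm_le
  rwa [c.conj_eq, sup_idem] at this

end Cfsg.Agent.Helper9.LBal
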