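import Mathlib
import Cfsg.Agent.Helper9.LBalG
import Cfsg.Agent.Helper10.PLayerCover

set_option autoImplicit false
set_option linter.style.haveILetI false
set_option linter.unusedSectionVars false
set_option maxHeartbeats 1600000

/-! # L-balance, part H: comparing with a `2`-central involution of the component -/

namespace Cfsg.Agent.Helper9.LBal

open Subgroup Cfsg
open Cfsg.Agent.Helper7 (pGen coreOf pLayerPre compKernel)
open Cfsg.Agent.Helper1 (SubnIn)
open Cfsg.Agent.Helper14 (cj IsSylowIn)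
open Cfsg.Agent.Helper19 (pPrimeCore_coprime)
open scoped commutatorElement

universe u

variable {X : Type u} [Group X] [Finite X] {t : X} {I J : Subgroup X}

theorem mem_pPrimeCore_of_coe_mem_coreOf {p : ℕ} {C : Subgroup X} {x : ↥C}
    (h : (x : X) ∈ coreOf p C) : x ∈ pPrimeCore p ↥C := by
  obtain ⟨w, hw, hwx⟩ := h
  have : w = x := Subtype.ext hwx
  rwa [← this]

/-- A commuting involution `z ∈ J` with all `2`-components of `C(z)` acting innerly on `J`
contradicts the configuration. -/
theorem Cfg.false_of_good (c : Cfg t I J) {z : X} (hz : orderOf z = 2) (hzJ : z ∈ J)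
    (hzt : z * t = t * z)
    (hgood : ∀ I' : Subgroup X, IsPComponentOf 2 I' (centralizer ({z} : Set X)) →
      I' ≤ J ⊔ centralizer (J : Set X)) : False := by
  haveI : Fact (Nat.Prime 2) := ⟨Nat.prime_two⟩
  haveI hJn : J.Normal := c.normal
  obtain ⟨C, hCdef⟩ : ∃ C : Subgroup X, C = centralizer ({t} : Set X) := ⟨_, rfl⟩
  obtain ⟨A, hAdef⟩ : ∃ A : Subgroup X, A = J ⊔ centralizer (J : Set X) := ⟨_, rfl⟩
  haveI hAn : A.Normal := by rw [hAdef]; infer_instance
  have hI := c.hI
  rw [← hCdef] at hI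
  have hIC : I ≤ C := hI.1
  have hzC : z ∈ C := by rw [hCdef, mem_centralizer_singleton_iff]; exact hzt
  have hcomm : ∀ k ∈ I, ∀ w ∈ J ⊓ C, ⁅k, w⁆ ∈ coreOf 2 C := by
    intro k hk w hw
    have := c.comm_le'
    rw [← hCdef] at this
    exact this (commutator_mem_commutator hk hw)
  -- inside `C`
  obtain ⟨K', hK'def⟩ : ∃ K' : Subgroup ↥C, K' = I.subgroupOf C := ⟨_, rfl⟩
  have hK' : IsPComponent 2 K' := hK'def ▸ hI.2
  obtain ⟨y, hydef⟩ : ∃ y : ↥C, y = ⟨z, hzC⟩ := ⟨_, rfl⟩
  have hyz : (y : X) = z := by rw [hydef]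
  have hy2 : orderOf y = 2 := by
    rw [← hz, ← hyz]; exact (Subgroup.orderOf_coe y).symm
  have hd : QuotientGroup.mk' (pPrimeCore 2 ↥C) y ∈
      centralizer ((K'.map (QuotientGroup.mk' (pPrimeCore 2 ↥C)) :
        Subgroup (↥C ⧸ pPrimeCore 2 ↥C)) : Set (↥C ⧸ pPrimeCore 2 ↥C)) := by
    rw [mem_centralizer_iff]
    rintro _ ⟨k, hk, rfl⟩
    rw [← map_mul, ← map_mul, QuotientGroup.mk'_apply, QuotientGroup.mk'_apply, QuotientGroup.eq]
    apply mem_pPrimeCore_of_coe_mem_coreOf
    have hkI : (k : X) ∈ I := by rw [hK'def] at hk; exact mem_subgroupOf.1 hk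
    have h1 := hcomm _ (I.inv_mem hkI) z⁻¹ (Subgroup.inv_mem _ ⟨hzJ, hzC⟩)
    have h2 := Subgroup.inv_mem _ h1
    rw [commutatorElement_inv] at h2
    have e : (((k * y)⁻¹ * (y * k) : ↥C) : X) = ⁅z⁻¹, (k : X)⁻¹⁆ := by
      simp only [Subgroup.coe_mul, Subgroup.coe_inv, hyz, commutatorElement_def]
      group
    rw [e]; exact h2
  have hyK : ∀ k ∈ K', y * k * y⁻¹ * k⁻¹ ∈ ((pPrimeCore 2 ↥K').map K'.subtype : Subgroup ↥C) := by
    intro k hk
    rw [Cfsg.Agent.Helper7.map_subtype_pPrimeCore hK'.1]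
    exact Cfsg.Agent.Helper10.pComp_comm_mem hK' hd hk
  have hcover := Cfsg.Agent.Helper10.pLayerOf_centralizer_cover hK' hy2 hyK
  -- the second piece is in the core
  have hsecond : ((pPrimeCore 2 ↥K').map K'.subtype).map C.subtype ≤ coreOf 2 C := by
    rw [Cfsg.Agent.Helper7.map_subtype_pPrimeCore hK'.1]
    unfold coreOf
    exact map_mono inf_le_left
  -- the first piece acts innerly
  have hYne : centralizer ({z} : Set X) ≠ ⊤ := by
    intro h
    have hzc : z ∈ center X := by
      rw [mem_center_iff]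
      intro g
      have : g ∈ centralizer ({z} : Set X) := by rw [h]; exact mem_top g
      exact mem_centralizer_singleton_iff.1 this
    rw [c.hZ, mem_bot] at hzc
    exact ne_one_of_orderOf_two hz hzc
  have hLB : LBN ↥(centralizer ({z} : Set X)) :=
    c.IH _ (Cfsg.Agent.Helper7.card_lt_of_ne_top hYne)
  have hfirst : (pLayerOf 2 (K' ⊓ centralizer ({y} : Set ↥C))).map C.subtype ≤ A := by
    rw [map_le_iff_le_comap, pLayerOf_le_iff]
    intro M' hM'
    rw [← map_le_iff_le_comap]
    have hM'2 := isPComponentOf_iff.1 hM'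
    have hc2 : C2T 2 ↥(M'.map C.subtype) :=
      hM'2.2.of_equiv (M'.equivMapOfInjective C.subtype C.subtype_injective)
    have hs1 := SubnIn.map hM'2.1 C.subtype
    have hmap : (K' ⊓ centralizer ({y} : Set ↥C)).map C.subtype =
        I ⊓ centralizer ({z} : Set X) := by
      ext x
      constructor
      · rintro ⟨x', hx', rfl⟩
        refine mem_inf.2 ⟨?_, ?_⟩
        · have := hx'.1
          rw [hK'def] at this
          exact mem_subgroupOf.1 this
        · rw [mem_centralizer_singleton_iff]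
          have := mem_centralizer_singleton_iff.1 hx'.2
          have h2 := congrArg Subtype.val this
          rw [Subgroup.coe_mul, Subgroup.coe_mul, hyz] at h2
          exact h2
      · rintro ⟨hx1, hx2⟩
        refine ⟨⟨x, hIC hx1⟩, mem_inf.2 ⟨?_, ?_⟩, rfl⟩
        · rw [hK'def]; exact mem_subgroupOf.2 hx1
        · rw [mem_centralizer_singleton_iff]
          apply Subtype.ext
          rw [Subgroup.coe_mul, Subgroup.coe_mul, hyz]
          exact mem_centralizer_singleton_iff.1 hx2
    rw [hmap] at hs1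
    have hs2 : SubnIn (I ⊓ centralizer ({z} : Set X)) (C ⊓ centralizer ({z} : Set X)) :=
      SubnIn.inf_right (isPComponentOf_iff.1 hI).1 _
    have hM : IsPComponentOf 2 (M'.map C.subtype) (centralizer ({z} : Set X) ⊓
        normalizer ((zpowers t : Subgroup X) : Set X)) := by
      rw [normalizer_zpowers_eq c.ht, ← hCdef, inf_comm]
      exact isPComponentOf_iff.2 ⟨hs1.trans hs2, hc2⟩
    have htY : zpowers t ≤ centralizer ({z} : Set X) := by
      rw [zpowers_le, mem_centralizer_singleton_iff]; exact hzt.symm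
    have h3 := hLB.ambient htY (isPGroup_zpowers_two c.ht) hM
    refine h3.trans ?_
    rw [pLayerOf_le_iff, hAdef]
    exact hgood
  have hIle : I ≤ A ⊔ coreOf 2 C := by
    have h1 := Subgroup.map_mono (f := C.subtype) hcover
    rw [hK'def, Glaub.map_subtype_subgroupOf_of_le hIC, Subgroup.map_sup] at h1
    rw [hK'def] at hfirst hsecond
    exact h1.trans (sup_le_sup hfirst hsecond)
  have := le_of_le_sup_coprime (p := 2) (Cfsg.Agent.Helper7.card_coreOf_coprime C) c.pGen_eq hIle
  rw [hAdef] at this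
  exact c.hbad this

end Cfsg.Agent.Helper9.LBal
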