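import Mathlib
import Cfsg.Agent.Helper9.LBalH

set_option autoImplicit false
set_option linter.style.haveILetI false
set_option linter.unusedSectionVars false
set_option maxHeartbeats 1600000

/-! # L-balance, part I: the contradiction via the Glauberman-type theorem -/

namespace Cfsg.Agent.Helper9.LBal

open Subgroup Cfsg
open Cfsg.Agent.Helper7 (pGen coreOf pLayerPre compKernel)
open Cfsg.Agent.Helper1 (SubnIn)
open Cfsg.Agent.Helper14 (cj IsSylowIn)
open Cfsg.Agent.Helper19 (pPrimeCore_coprime)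
open scoped commutatorElement

universe u

variable {X : Type u} [Group X] [Finite X] {t : X} {I J : Subgroup X}

theorem isSylowIn_card_eq {p : ℕ} [Fact p.Prime] {S G : Subgroup X} (h : IsSylowIn p S G) :
    Nat.card S = p ^ (Nat.card G).factorization p := by
  have h1 := h.toSylow_map
  rw [← h1, Cfsg.Agent.Helper14.card_map_subtype]
  exact Sylow.card_eq_multiplicity _

theorem isSylowIn_of_le {p : ℕ} {U E H : Subgroup X} (hUE : U ≤ E) (hEH : E ≤ H)
    (h : IsSylowIn p U H) : IsSylowIn p U E :=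
  ⟨hUE, h.2.1, fun Q hQE hQ hUQ => h.2.2 Q (hQE.trans hEH) hQ hUQ⟩

theorem mu_le (z : X) (J : Subgroup X) : mu z J ≤ (Nat.card J).factorization 2 := by
  unfold mu
  have hdvd : Nat.card ↥(J ⊓ centralizer ({z} : Set X)) ∣ Nat.card J := card_dvd_of_le inf_le_left
  exact (Nat.factorization_le_iff_dvd (Nat.card_pos.ne') (Nat.card_pos.ne')).2 hdvd 2

/-- Step E: `t` centralises a Sylow `2`-subgroup of `J`. -/
theorem Cfg.mu_eq (c : Cfg t I J) : mu t J = (Nat.card J).factorization 2 := by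
  haveI : Fact (Nat.Prime 2) := ⟨Nat.prime_two⟩
  apply le_antisymm (mu_le t J)
  by_contra hlt
  push Not at hlt
  haveI hJn : J.Normal := c.normal
  obtain ⟨Q, hQ⟩ := (isPGroup_zpowers_two c.ht).exists_le_sylow
  have hQs : IsSylowIn 2 (Q : Subgroup X) ⊤ := by
    rw [Glaub.isSylowIn_iff_relIndex]
    refine ⟨le_top, Q.isPGroup', ?_⟩
    rw [relIndex_top_right]
    exact Q.not_dvd_index
  have hS : IsSylowIn 2 ((Q : Subgroup X) ⊓ J) J :=
    Glaub.IsSylowIn.inf_normal hQs le_top (by rw [normalizer_eq_top])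
  have hcard := isSylowIn_card_eq hS
  have h2J : 2 ∣ Nat.card J :=
    Cfsg.Agent.Helper7.IsComponent.dvd_card_of_pPrimeCore_eq_bot c.hO c.hJ
  have hv : 1 ≤ (Nat.card J).factorization 2 :=
    (Nat.Prime.dvd_iff_one_le_factorization Nat.prime_two (Nat.card_pos.ne')).1 h2J
  have hdvd : 2 ∣ Nat.card ↥((Q : Subgroup X) ⊓ J) := by
    rw [hcard]; exact dvd_pow_self 2 (by omega)
  have hQK : (Q : Subgroup X) ≤ normalizer (((Q : Subgroup X) ⊓ J : Subgroup X) : Set X) := by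
    intro x hx
    exact Glaub.mem_normalizer_inf (le_normalizer hx) (Glaub.mem_normalizer_of_normal x)
  obtain ⟨z, hzS, hzQ, hz2⟩ :=
    Cfsg.Agent.Helper7.exists_orderOf_eq_mem_inf_centralizer Q.isPGroup' hQK hdvd
  have hzt : z * t = t * z := by
    have htQ : t ∈ (Q : Subgroup X) := hQ (mem_zpowers t)
    exact (mem_centralizer_iff.1 hzQ t htQ).symm
  have hmu : (Nat.card J).factorization 2 ≤ mu z J := by
    unfold mu
    have hle : (Q : Subgroup X) ⊓ J ≤ J ⊓ centralizer ({z} : Set X) := by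
      intro s hs
      refine mem_inf.2 ⟨hs.2, ?_⟩
      rw [mem_centralizer_singleton_iff]
      exact mem_centralizer_iff.1 hzQ s hs.1
    have hdvd2 := card_dvd_of_le hle
    rw [hcard] at hdvd2
    have := (Nat.factorization_le_iff_dvd (by positivity) (Nat.card_pos.ne')).2 hdvd2 2
    rwa [Nat.Prime.factorization_pow Nat.prime_two, Finsupp.single_eq_same] at this
  exact c.false_of_good hz2 hzS.2 hzt (c.hmax z hz2 (lt_of_lt_of_le hlt hmu))

/-- Step F: the final contradiction. -/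
theorem Cfg.false (c : Cfg t I J) : False := by
  haveI : Fact (Nat.Prime 2) := ⟨Nat.prime_two⟩
  haveI hJn : J.Normal := c.normal
  obtain ⟨C, hCdef⟩ : ∃ C : Subgroup X, C = centralizer ({t} : Set X) := ⟨_, rfl⟩
  obtain ⟨A, hAdef⟩ : ∃ A : Subgroup X, A = J ⊔ centralizer (J : Set X) := ⟨_, rfl⟩
  haveI hAn : A.Normal := by rw [hAdef]; infer_instance
  obtain ⟨O, hOdef⟩ : ∃ O : Subgroup X, O = coreOf 2 C := ⟨_, rfl⟩
  have hOn := Glaub.oddNormalIn_coreOf C
  rw [← hOdef] at hOn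
  have hIC : I ≤ C := hCdef ▸ c.hI.1
  -- a Sylow subgroup of `C_J(t)`
  obtain ⟨S, hS, -⟩ := Cfsg.Agent.Helper14.exists_isSylowIn_ge (p := 2)
    (bot_le : (⊥ : Subgroup X) ≤ J ⊓ C) IsPGroup.of_bot
  have hSJ : IsSylowIn 2 S J := by
    apply Cfsg.Agent.Helper14.isSylowIn_of_card (inf_le_left : J ⊓ C ≤ J) _ hS
    intro S' P'
    rw [Sylow.card_eq_multiplicity, Sylow.card_eq_multiplicity]
    have := c.mu_eq
    unfold mu at this
    rw [hCdef, this]
  have hSle : S ≤ J ⊓ C := hS.1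
  have hS2 : IsPGroup 2 ↥S := hS.2.1
  obtain ⟨W, hWdef⟩ : ∃ W : Subgroup X, W = O ⊓ J := ⟨_, rfl⟩
  have hWJ : W ≤ J := by rw [hWdef]; exact inf_le_right
  have hWS : ∀ i ∈ I, ∀ s ∈ S, ⁅i, s⁆ ∈ W := by
    intro i hi s hs
    rw [hWdef]
    refine mem_inf.2 ⟨?_, ?_⟩
    · rw [hOdef, hCdef]
      apply c.comm_le'
      have := hSle hs
      rw [hCdef] at this
      exact commutator_mem_commutator hi this
    · rw [commutatorElement_def]
      exact J.mul_mem (hJn.conj_mem s (hSle hs).1 i) (J.inv_mem (hSle hs).1)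
  have hCW : C ≤ normalizer (W : Set X) := by
    intro x hx
    rw [hWdef]
    exact Glaub.mem_normalizer_inf (hOn.2.1 hx) (Glaub.mem_normalizer_of_normal x)
  have hSW : S ≤ normalizer (W : Set X) := (hSle.trans inf_le_right).trans hCW
  have hWSbot : ∀ x ∈ W, x ∈ S → x = 1 := by
    intro x hxW hxS
    obtain ⟨k, hk⟩ := hS2 ⟨x, hxS⟩
    have hk' : x ^ 2 ^ k = 1 := by
      have := congrArg Subtype.val hk
      simpa using this
    have hxO : x ∈ O := by rw [hWdef] at hxW; exact hxW.1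
    have h4 : ((⟨x, hxO⟩ : ↥O) ^ Nat.card ↥O) = 1 := pow_card_eq_one'
    have h5 := congrArg Subtype.val h4
    rw [Subgroup.coe_pow, Subgroup.coe_one] at h5
    have hodd : Odd (Nat.card ↥O) := hOn.2.2
    exact Cfsg.Agent.Helper7.eq_one_of_pow_eq_one_of_coprime hk' h5
      (Nat.Coprime.pow_left k (Nat.coprime_two_left.2 hodd))
  obtain ⟨B, hBdef⟩ : ∃ B : Subgroup X, B = W ⊔ S := ⟨_, rfl⟩
  have hSB : S ≤ B := by rw [hBdef]; exact le_sup_right
  have hBJ : B ≤ J := by rw [hBdef]; exact sup_le hWJ (hSle.trans inf_le_left)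
  have hSB' : IsSylowIn 2 S B := isSylowIn_of_le hSB hBJ hSJ
  -- every element of `I` is in `W C(S)`
  have hkey : ∀ i ∈ I, ∃ w ∈ W, w⁻¹ * i ∈ centralizer (S : Set X) := by
    intro i hi
    have h1 : S.map (cj i) ≤ B := by
      rintro _ ⟨s, hs, rfl⟩
      rw [Cfsg.Agent.Helper14.cj_apply, hBdef]
      have e : i * s * i⁻¹ = ⁅i, s⁆ * s := by rw [commutatorElement_def]; group
      rw [e]
      exact mul_mem (mem_sup_left (hWS i hi s hs)) (mem_sup_right hs)
    have h2 : IsSylowIn 2 (S.map (cj i)) B := by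
      have h3 := hSJ.map_cj i
      rw [Cfsg.Agent.Helper14.mem_normalizer_iff_map_cj.1 (Glaub.mem_normalizer_of_normal (A := J) i)] at h3
      exact isSylowIn_of_le h1 hBJ h3
    obtain ⟨b, hb, hbS⟩ := hSB'.exists_conj h2
    rw [hBdef] at hb
    obtain ⟨w, hw, s₁, hs₁, rfl⟩ := (Cfsg.Agent.Helper7.mem_sup_of_le_normalizer hSW).1 hb
    refine ⟨w, hw, ?_⟩
    rw [mem_centralizer_iff]
    intro y hy
    have h4 : i * y * i⁻¹ ∈ S.map (cj (w * s₁)) := by
      rw [← hbS]; exact ⟨y, hy, rfl⟩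
    obtain ⟨y', hy', hy'e⟩ := h4
    rw [Cfsg.Agent.Helper14.cj_apply] at hy'e
    -- `y'' = s₁ y' s₁⁻¹`
    have hy'' : s₁ * y' * s₁⁻¹ ∈ S := S.mul_mem (S.mul_mem hs₁ hy') (S.inv_mem hs₁)
    have e1 : w⁻¹ * (i * y * i⁻¹) * w = s₁ * y' * s₁⁻¹ := by rw [← hy'e]; group
    -- modulo `W`
    have hyW : y * w * y⁻¹ ∈ W := (mem_normalizer_iff.1 (hSW hy) w).1 hw
    have h5 : (s₁ * y' * s₁⁻¹) * y⁻¹ ∈ W := by
      have e2 : (s₁ * y' * s₁⁻¹) * y⁻¹ = w⁻¹ * ⁅i, y⁆ * (y * w * y⁻¹) := by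
        rw [← e1, commutatorElement_def]; group
      rw [e2]
      exact W.mul_mem (W.mul_mem (W.inv_mem hw) (hWS i hi y hy)) hyW
    have h6 := hWSbot _ h5 (S.mul_mem hy'' (S.inv_mem hy))
    have h7 : s₁ * y' * s₁⁻¹ = y := by
      calc s₁ * y' * s₁⁻¹ = ((s₁ * y' * s₁⁻¹) * y⁻¹) * y := by group
        _ = y := by rw [h6, one_mul]
    rw [h7] at e1
    calc y * (w⁻¹ * i) = (w⁻¹ * (i * y * i⁻¹) * w) * (w⁻¹ * i) := by rw [e1]
      _ = w⁻¹ * i * y := by group
  have hIle : I ≤ centralizer (S : Set X) ⊔ A := by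
    intro i hi
    obtain ⟨w, hw, hwc⟩ := hkey i hi
    have : i = w * (w⁻¹ * i) := by group
    rw [this, sup_comm]
    refine mul_mem (mem_sup_left ?_) (mem_sup_right hwc)
    rw [hAdef]; exact mem_sup_left (hWJ hw)
  -- a minimal supplement
  obtain ⟨P, hP⟩ := Set.Finite.exists_minimal
    (Set.toFinite {P : Subgroup X | P ≤ centralizer (S : Set X) ∧ I ≤ P ⊔ A})
    ⟨centralizer (S : Set X), le_rfl, hIle⟩
  obtain ⟨⟨hPS, hIP⟩, hPmin⟩ := hP
  have hPperf : ⁅P, P⁆ = P := by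
    apply le_antisymm (commutator_le_self P)
    apply hPmin ⟨(commutator_le_self P).trans hPS, ?_⟩ (commutator_le_self P)
    rw [← c.perfect]
    exact (commutator_mono hIP hIP).trans commutator_sup_normal_le
  have hPgen : pGen 2 P = P := by
    apply le_antisymm (Cfsg.Agent.Helper7.pGen_le P)
    apply hPmin ⟨(Cfsg.Agent.Helper7.pGen_le P).trans hPS, ?_⟩ (Cfsg.Agent.Helper7.pGen_le P)
    rw [← c.pGen_eq]
    exact (Cfsg.Agent.Helper7.pGen_mono hIP).trans pGen_sup_normal_le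
  have hyp : Glaub.Hyp J P S :=
    ⟨fun x _ => Glaub.mem_normalizer_of_normal x, hPperf, hPgen, hSJ, hPS⟩
  obtain ⟨N₀, hN₀, hJP⟩ := Glaub.glauberman hyp
  have hN₀bot : N₀ = ⊥ := by
    have h1 : SubnIn N₀ J := SubnIn.of_normal hN₀.1 hN₀.2.1
    have h2 : SubnIn J ⊤ := (Cfsg.Agent.Helper1.subnIn_top_iff J).2 c.hJ.1
    have h3 : N₀.IsSubnormal := (Cfsg.Agent.Helper1.subnIn_top_iff N₀).1 (h1.trans h2)
    have h4 := Cfsg.Agent.Helper7.subnormal_coprime_le_pPrimeCore (p := 2) h3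
      (Nat.coprime_two_right.2 hN₀.2.2)
    rw [c.hO] at h4
    exact le_bot_iff.1 h4
  rw [hN₀bot, le_bot_iff, commutator_comm, commutator_eq_bot_iff_le_centralizer] at hJP
  apply c.hbad
  rw [← hAdef]
  refine hIP.trans (sup_le ?_ le_rfl)
  rw [hAdef]
  exact hJP.trans le_sup_right

end Cfsg.Agent.Helper9.LBal
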