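import Mathlib
import Cfsg.Agent.Helper9.LBalI

set_option autoImplicit false
set_option linter.style.haveILetI false
set_option linter.unusedSectionVars false
set_option maxHeartbeats 1600000

/-! # L-balance, part J: assembling the induction -/

namespace Cfsg.Agent.Helper9.LBal

open Subgroup Cfsg
open Cfsg.Agent.Helper7 (pGen coreOf pLayerPre compKernel)
open Cfsg.Agent.Helper1 (SubnIn)
open Cfsg.Agent.Helper14 (cj IsSylowIn)
open Cfsg.Agent.Helper19 (pPrimeCore_coprime)
open scoped commutatorElement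

universe u

variable {X : Type u} [Group X] [Finite X]

/-- Lemma A': every `2`-component of an involution centralizer acts innerly on every component. -/
theorem good_of_involution (hO : pPrimeCore 2 X = ⊥) (hZ : center X = ⊥) (IH : IHyp X) :
    ∀ t : X, orderOf t = 2 → ∀ J : Subgroup X, IsComponent J → ∀ I : Subgroup X,
      IsPComponentOf 2 I (centralizer ({t} : Set X)) → I ≤ J ⊔ centralizer (J : Set X) := by
  by_contra hcon
  push Not at hcon
  obtain ⟨t₀, ht₀, J₀, hJ₀, I₀, hI₀, hbad₀⟩ := hcon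
  obtain ⟨s, hsdef⟩ : ∃ s : Set (X × Subgroup X), s = {q | orderOf q.1 = 2 ∧ IsComponent q.2 ∧
    ∃ I : Subgroup X, IsPComponentOf 2 I (centralizer ({q.1} : Set X)) ∧
      ¬ I ≤ q.2 ⊔ centralizer (q.2 : Set X)} := ⟨_, rfl⟩
  have hs : s.Nonempty := ⟨(t₀, J₀), by rw [hsdef]; exact ⟨ht₀, hJ₀, I₀, hI₀, hbad₀⟩⟩
  obtain ⟨⟨t, J⟩, hmem, hmax⟩ :=
    Set.exists_max_image s (fun q => mu q.1 q.2) (Set.toFinite s) hs
  rw [hsdef] at hmem
  obtain ⟨ht, hJ, I, hI, hbad⟩ := hmem
  apply Cfg.false (t := t) (I := I) (J := J)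
  refine ⟨hO, hZ, IH, ht, hJ, hI, hbad, ?_⟩
  intro z hz hlt I' hI'
  by_contra hb
  have := hmax (z, J) (by rw [hsdef]; exact ⟨hz, hJ, I', hI', hb⟩)
  simp only at this
  omega

theorem mem_sup_centralizer_decomp {J : Subgroup X} {k : X}
    (hk : k ∈ J ⊔ centralizer (J : Set X)) : ∃ j ∈ J, k * j⁻¹ ∈ centralizer (J : Set X) := by
  rw [sup_comm] at hk
  have hcomm : ⁅centralizer (J : Set X), J⁆ = ⊥ := commutator_eq_bot_iff_le_centralizer.2 le_rfl
  obtain ⟨c, hc, j, hj, rfl⟩ := (Cfsg.Agent.Helper7.mem_sup_of_commutator_eq_bot hcomm).1 hk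
  refine ⟨j, hj, ?_⟩
  rw [mul_inv_cancel_right]
  exact hc

/-- inner action in the centre-free case -/
theorem inner_of_center_eq_bot (hO : pPrimeCore 2 X = ⊥) (hZ : center X = ⊥) (IH : IHyp X)
    {R K : Subgroup X} (hR : IsPGroup 2 ↥R)
    (hK : IsPComponentOf 2 K (normalizer (R : Set X))) {J : Subgroup X} (hJ : IsComponent J) :
    ∀ k ∈ K, ∃ j ∈ J, k * j⁻¹ ∈ centralizer (J : Set X) := by
  haveI : Fact (Nat.Prime 2) := ⟨Nat.prime_two⟩
  suffices h : K ≤ J ⊔ centralizer (J : Set X) from fun k hk => mem_sup_centralizer_decomp (h hk)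
  by_cases hRbot : R = ⊥
  · have hN : normalizer ((R : Subgroup X) : Set X) = ⊤ := by
      rw [hRbot]; exact normalizer_eq_top_iff.2 inferInstance
    rw [hN, isPComponentOf_top] at hK
    refine (Cfsg.Agent.Helper7.IsPComponent.le_pLayer hK).trans ?_
    refine (pLayer_le_layer hO).trans ?_
    rw [sup_comm]
    exact layer_le_centralizer_sup hJ
  · have hdvd : 2 ∣ Nat.card ↥R := by
      obtain ⟨n, hn⟩ := IsPGroup.iff_card.1 hR
      rw [hn]
      have hn0 : n ≠ 0 := by
        intro h0
        rw [h0, pow_zero] at hn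
        exact hRbot (Subgroup.card_eq_one.1 hn)
      exact dvd_pow_self 2 hn0
    obtain ⟨t, htR, htc, ht2⟩ :=
      Cfsg.Agent.Helper7.exists_orderOf_eq_mem_inf_centralizer hR (le_normalizer (H := R)) hdvd
    have hCne : centralizer ({t} : Set X) ≠ ⊤ := by
      intro h
      have htz : t ∈ center X := by
        rw [mem_center_iff]
        intro g
        have : g ∈ centralizer ({t} : Set X) := by rw [h]; exact mem_top g
        exact mem_centralizer_singleton_iff.1 this
      rw [hZ, mem_bot] at htz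
      exact ne_one_of_orderOf_two ht2 htz
    have hLB : LBN ↥(centralizer ({t} : Set X)) :=
      IH _ (Cfsg.Agent.Helper7.card_lt_of_ne_top hCne)
    have hKc := IsPComponentOf.to_centralizer hR hK
    have hCR : centralizer (R : Set X) ≤ centralizer ({t} : Set X) :=
      centralizer_le (by
        intro x hx
        rw [Set.mem_singleton_iff] at hx
        rw [hx]; exact htR)
    have hRC : R ≤ centralizer ({t} : Set X) := by
      intro r hr
      rw [mem_centralizer_singleton_iff]
      exact mem_centralizer_iff.1 htc r hr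
    have hs : SubnIn (centralizer (R : Set X))
        (centralizer ({t} : Set X) ⊓ normalizer (R : Set X)) :=
      (subnIn_centralizer_normalizer R).mono (le_inf hCR (centralizer_le_normalizer _)) inf_le_right
    have hK' := IsPComponentOf.of_subnIn hKc hs
    have h1 := hLB.ambient hRC hR hK'
    refine h1.trans ?_
    rw [pLayerOf_le_iff]
    exact good_of_involution hO hZ IH t ht2 J hJ

/-- The case of a trivial core. -/
theorem lbn_of_core_eq_bot (hO : pPrimeCore 2 X = ⊥) (IH : IHyp X) : LBN X := by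
  haveI : Fact (Nat.Prime 2) := ⟨Nat.prime_two⟩
  intro R hR
  rw [pLayerOf_le_iff]
  intro K hK
  have hK2 := isPComponentOf_iff.1 hK
  have hKperf : ⁅K, K⁆ = K := Subgroup.isPerfect_iff.1 hK2.2.1
  have hKgen : pGen 2 K = K := pGen_eq_of_top hK2.2.2.1
  have hKc := IsPComponentOf.le_centralizer_pCore hR hK
  have hA : ∀ J : Subgroup X, IsComponent J → ∀ k ∈ K, ∃ j ∈ J,
      k * j⁻¹ ∈ centralizer (J : Set X) := by
    intro J hJ
    by_cases hZ : center X = ⊥
    · exact inner_of_center_eq_bot hO hZ IH hR hK hJ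
    · exact inner_of_center_ne_bot hO hZ IH hR hK hJ
  have h1 := le_layer_of_perfect_of_inner hO hKperf hKc hA
  exact le_pLayer_of_le_pLayerPre (h1.trans layer_le_pLayerPre) hKgen

theorem lbn_step (IH : IHyp X) : LBN X := by
  haveI : Fact (Nat.Prime 2) := ⟨Nat.prime_two⟩
  by_cases hO : pPrimeCore 2 X = ⊥
  · exact lbn_of_core_eq_bot hO IH
  · have hlt : Nat.card (X ⧸ pPrimeCore 2 X) < Nat.card X := by
      have h1 := Subgroup.card_eq_card_quotient_mul_card_subgroup (pPrimeCore 2 X)
      have h2 : 1 < Nat.card (pPrimeCore 2 X) := (Subgroup.one_lt_card_iff_ne_bot _).2 hO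
      have h3 : 0 < Nat.card (X ⧸ pPrimeCore 2 X) := Nat.card_pos
      nlinarith
    intro R hR
    exact pLayerOf_normalizer_le_of_quotient (IH _ hlt) R hR

theorem lbn_aux : ∀ (n : ℕ) (X : Type u) [Group X] [Finite X], Nat.card X = n → LBN X := by
  intro n
  induction n using Nat.strong_induction_on with
  | _ n ih =>
    intro X _ _ hn
    apply lbn_step
    intro Y _ _ hlt
    exact ih (Nat.card Y) (hn ▸ hlt) Y rfl

/-- **`L_{2'}`-balance**, normalizer form. -/
theorem lbn (X : Type u) [Group X] [Finite X] : LBN X := lbn_aux _ X rfl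

/-- **`L_{2'}`-balance**, centralizer form. -/
theorem l_balance (T : Subgroup X) (hT : IsPGroup 2 ↥T) :
    pLayerOf 2 (centralizer (T : Set X)) ≤ pLayer 2 X := by
  haveI : Fact (Nat.Prime 2) := ⟨Nat.prime_two⟩
  rw [← pLayerOf_normalizer_eq_centralizer hT]
  exact lbn X T hT

end Cfsg.Agent.Helper9.LBal
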