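import Cfsg.Agent.Helper12.S5702Defs2
import Cfsg.Agent.Helper20.S5702RATSIEG

set_option autoImplicit false
set_option linter.unusedSectionVars false
set_option linter.unusedVariables false

/-! S5702 piece FULLK (driver helper12; port of helper22's S5683 piece by helper9): if all rational long root
groups are full, `M` contains `S(Q)`. -/

namespace Cfsg.Agent.S5702P

open Matrix Cfsg.Agent.Helper28.Sg Cfsg.Agent.Helper28.Spin Cfsg.Agent.Helper12.OrthGen
  Cfsg.Agent.S5683P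

variable {F : Type*} [Field F] {m : ℕ} {a b : F}

namespace FULLK

theorem ee_app (i : Fin m) (k : Idx m) :
    ee F i k = if k = Sum.inl (Sum.inl i) then 1 else 0 := by
  unfold ee
  exact Pi.single_apply _ _ _

theorem ff_app (i : Fin m) (k : Idx m) :
    ff F i k = if k = Sum.inl (Sum.inr i) then 1 else 0 := by
  unfold ff
  exact Pi.single_apply _ _ _

theorem d1_app (k : Idx m) :
    d1 F m k = if k = Sum.inr 0 then 1 else 0 := by
  unfold d1
  exact Pi.single_apply _ _ _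

theorem d2_app (k : Idx m) :
    d2 F m k = if k = Sum.inr 1 then 1 else 0 := by
  unfold d2
  exact Pi.single_apply _ _ _

/-- two different coordinate vectors are independent -/
theorem indep_of_coord {u w : Idx m → F} (p q : Idx m) (hua : u p = 1) (hub : u q = 0)
    (hwa : w p = 0) (hwb : w q = 1) : Indep u w := by
  intro x y h
  have h1 := congrFun h p
  have h2 := congrFun h q
  simp only [Pi.add_apply, Pi.smul_apply, smul_eq_mul, Pi.zero_apply, hua, hub, hwa, hwb, mul_one,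
    mul_zero, add_zero, zero_add] at h1 h2
  exact ⟨h1, h2⟩

/-- a vector all of whose coordinate directions lie in the radical group -/
theorem mem_rad_of_coord (M : Subgroup (OG m F a b)) (i0 : Fin m) (u : Idx m → F)
    (hQu : QfMinus m F a b u = 0)
    (hE : ∀ i, i ≠ i0 → ∀ c : F, c • ee F i ∈ Rad M u hQu)
    (hFf : ∀ i, i ≠ i0 → ∀ c : F, c • ff F i ∈ Rad M u hQu)
    (hD1 : ∀ c : F, c • d1 F m ∈ Rad M u hQu) (hD2 : ∀ c : F, c • d2 F m ∈ Rad M u hQu)
    (w : Idx m → F)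
    (h1 : w (Sum.inl (Sum.inl i0)) = 0) (h2 : w (Sum.inl (Sum.inr i0)) = 0) :
    w ∈ Rad M u hQu := by
  have h := eq_sum_coord w
  rw [h]
  refine add_mem ?_ (add_mem (hD1 _) (hD2 _))
  apply sum_mem
  intro i _
  by_cases hi : i = i0
  · subst hi
    rw [h1, h2, zero_smul, zero_smul, add_zero]
    exact zero_mem _
  · exact add_mem (hE i hi _) (hFf i hi _)

/-- the `d`-directions, from the `f_1`-direction and the `e_1`-direction, by conjugation with the
rational element `E(e_1, d)`, `d` a rational vector orthogonal to `e_1, f_1` and to `u` -/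
theorem dk_mem_rad (F₀ : Subfield F) (ha : a ∈ F₀) (hb : b ∈ F₀) (M : Subgroup (OG m F a b))
    (hM : HasRatO F₀ M) (i1 : Fin m)
    (u : Idx m → F) (hQu : QfMinus m F a b u = 0) (d : Idx m → F) (hd : Rat F₀ d)
    (hed : B (QfMinus m F a b) (ee F i1) d = 0) (hfd : B (QfMinus m F a b) d (ff F i1) = 0)
    (hu1 : u (Sum.inl (Sum.inr i1)) = 0) (hud : B (QfMinus m F a b) d u = 0)
    (hE : ∀ c : F, c • ee F i1 ∈ Rad M u hQu) (hFf : ∀ c : F, c • ff F i1 ∈ Rad M u hQu) (c : F) :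
    c • d ∈ Rad M u hQu := by
  obtain ⟨hed', hg⟩ := RATSIEG.mem_rad F₀ ha hb M hM (ee F i1) d (rat_ee i1) hd (Q_ee i1) hed
  have hgu : mt (QfMinus m F a b) (siegO (QfMinus m F a b) (ee F i1) d (Q_ee i1) hed) *ᵥ u = u := by
    rw [siegO_mulVec, B_ee, hud, hu1]
    simp
  have hgv : mt (QfMinus m F a b) (siegO (QfMinus m F a b) (ee F i1) d (Q_ee i1) hed) *ᵥ
      (c • ff F i1) = c • ff F i1 + c • d - (QfMinus m F a b d * c) • ee F i1 := by
    rw [siegO_mulVec, B_ee]
    have h1 : B (QfMinus m F a b) d (c • ff F i1) = 0 := B_smul_right_zero _ c hfd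
    rw [h1]
    simp only [Pi.smul_apply, smul_eq_mul, ff_app]
    simp
  have key := Rad_conj' hg (hFf c) hQu hgu hgv
  have e : c • d = (c • ff F i1 + c • d - (QfMinus m F a b d * c) • ee F i1) - c • ff F i1 +
      (QfMinus m F a b d * c) • ee F i1 := by
    abel
  rw [e]
  exact add_mem (sub_mem key (hFf c)) (hE _)

end FULLK

open FULLK

/-- FULLK: if all rational long root groups are full, `M` contains `S(Q)`. -/
theorem FULLK.S_le (hm : 3 ≤ m) (F₀ : Subfield F) (ha : a ∈ F₀) (hb : b ∈ F₀)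
    (hab : 4 * b - a ^ 2 ≠ 0) (M : Subgroup (OG m F a b))
    (hM : HasRatO F₀ M) (hfull : RootFull F₀ M) : S (QfMinus m F a b) ≤ M := by
  set i0 : Fin m := ⟨0, by omega⟩ with hi0
  set i1 : Fin m := ⟨1, by omega⟩ with hi1
  have h10 : i1 ≠ i0 := by
    intro h
    have := congrArg Fin.val h
    simp [hi0, hi1] at this
  -- orthogonality of `d₁, d₂` to the hyperbolic vectors
  have hed1 : ∀ i : Fin m, B (QfMinus m F a b) (ee F i) (d1 F m) = 0 := by
    intro i; rw [B_ee, d1_app, if_neg (by simp)]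
  have hed2 : ∀ i : Fin m, B (QfMinus m F a b) (ee F i) (d2 F m) = 0 := by
    intro i; rw [B_ee, d2_app, if_neg (by simp)]
  have hd1f : ∀ i : Fin m, B (QfMinus m F a b) (d1 F m) (ff F i) = 0 := by
    intro i; rw [B_d1, ff_app, ff_app, if_neg (by simp), if_neg (by simp)]; ring
  have hd2f : ∀ i : Fin m, B (QfMinus m F a b) (d2 F m) (ff F i) = 0 := by
    intro i; rw [B_d2, ff_app, ff_app, if_neg (by simp), if_neg (by simp)]; ring
  have hd1e : ∀ i : Fin m, B (QfMinus m F a b) (d1 F m) (ee F i) = 0 := by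
    intro i; rw [B_d1, ee_app, ee_app, if_neg (by simp), if_neg (by simp)]; ring
  have hd2e : ∀ i : Fin m, B (QfMinus m F a b) (d2 F m) (ee F i) = 0 := by
    intro i; rw [B_d2, ee_app, ee_app, if_neg (by simp), if_neg (by simp)]; ring
  -- the radical group of `e_0`
  have hEe : ∀ i, i ≠ i0 → ∀ c : F, c • ee F i ∈ Rad M (ee F i0) (Q_ee i0) := by
    intro i hi c
    apply hfull (ee F i0) (ee F i) c (Q_ee i0) (rat_ee i0) (rat_ee i) (Q_ee i)
    · rw [B_ee, ee_app, if_neg (by simp)]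
    · apply indep_of_coord (Sum.inl (Sum.inl i0)) (Sum.inl (Sum.inl i))
      · rw [ee_app, if_pos rfl]
      · rw [ee_app, if_neg (by simpa using hi)]
      · rw [ee_app, if_neg (by simpa using Ne.symm hi)]
      · rw [ee_app, if_pos rfl]
  have hEf : ∀ i, i ≠ i0 → ∀ c : F, c • ff F i ∈ Rad M (ee F i0) (Q_ee i0) := by
    intro i hi c
    apply hfull (ee F i0) (ff F i) c (Q_ee i0) (rat_ee i0) (rat_ff i) (Q_ff i)
    · rw [B_ee, ff_app, if_neg (by simpa using Ne.symm hi)]
    · apply indep_of_coord (Sum.inl (Sum.inl i0)) (Sum.inl (Sum.inr i))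
      · rw [ee_app, if_pos rfl]
      · rw [ee_app, if_neg (by simp)]
      · rw [ff_app, if_neg (by simp)]
      · rw [ff_app, if_pos rfl]
  have hEd1 : ∀ c : F, c • d1 F m ∈ Rad M (ee F i0) (Q_ee i0) := by
    intro c
    apply dk_mem_rad F₀ ha hb M hM i1 (ee F i0) (Q_ee i0) (d1 F m) rat_d1 (hed1 i1) (hd1f i1) _
      (hd1e i0) (hEe i1 h10) (hEf i1 h10) c
    rw [ee_app, if_neg (by simp)]
  have hEd2 : ∀ c : F, c • d2 F m ∈ Rad M (ee F i0) (Q_ee i0) := by
    intro c
    apply dk_mem_rad F₀ ha hb M hM i1 (ee F i0) (Q_ee i0) (d2 F m) rat_d2 (hed2 i1) (hd2f i1) _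
      (hd2e i0) (hEe i1 h10) (hEf i1 h10) c
    rw [ee_app, if_neg (by simp)]
  -- the radical group of `f_0`
  have hFe : ∀ i, i ≠ i0 → ∀ c : F, c • ee F i ∈ Rad M (ff F i0) (Q_ff i0) := by
    intro i hi c
    apply hfull (ff F i0) (ee F i) c (Q_ff i0) (rat_ff i0) (rat_ee i) (Q_ee i)
    · rw [B_ff, ee_app, if_neg (by simpa using Ne.symm hi)]
    · apply indep_of_coord (Sum.inl (Sum.inr i0)) (Sum.inl (Sum.inl i))
      · rw [ff_app, if_pos rfl]
      · rw [ff_app, if_neg (by simp)]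
      · rw [ee_app, if_neg (by simp)]
      · rw [ee_app, if_pos rfl]
  have hFf : ∀ i, i ≠ i0 → ∀ c : F, c • ff F i ∈ Rad M (ff F i0) (Q_ff i0) := by
    intro i hi c
    apply hfull (ff F i0) (ff F i) c (Q_ff i0) (rat_ff i0) (rat_ff i) (Q_ff i)
    · rw [B_ff, ff_app, if_neg (by simp)]
    · apply indep_of_coord (Sum.inl (Sum.inr i0)) (Sum.inl (Sum.inr i))
      · rw [ff_app, if_pos rfl]
      · rw [ff_app, if_neg (by simpa using hi)]
      · rw [ff_app, if_neg (by simpa using Ne.symm hi)]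
      · rw [ff_app, if_pos rfl]
  have hFd1 : ∀ c : F, c • d1 F m ∈ Rad M (ff F i0) (Q_ff i0) := by
    intro c
    apply dk_mem_rad F₀ ha hb M hM i1 (ff F i0) (Q_ff i0) (d1 F m) rat_d1 (hed1 i1) (hd1f i1) _
      (hd1f i0) (hFe i1 h10) (hFf i1 h10) c
    rw [ff_app, if_neg (by simpa using h10)]
  have hFd2 : ∀ c : F, c • d2 F m ∈ Rad M (ff F i0) (Q_ff i0) := by
    intro c
    apply dk_mem_rad F₀ ha hb M hM i1 (ff F i0) (Q_ff i0) (d2 F m) rat_d2 (hed2 i1) (hd2f i1) _
      (hd2f i0) (hFe i1 h10) (hFf i1 h10) c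
    rw [ff_app, if_neg (by simpa using h10)]
  have hp : HypPair (QfMinus m F a b) (ee F i0) (ff F i0) := (sfr m F a b).hypPair i0
  refine S_le_of_rad (nondeg_even hab m) hp ?_ ?_ (w₀ := d1 F m) ?_ ?_ ?_
  · intro w hw1 hw2
    rw [B_ee] at hw1
    rw [B_ff] at hw2
    exact mem_rad_of_coord M i0 (ee F i0) (Q_ee i0) hEe hEf hEd1 hEd2 w hw2 hw1
  · intro w hw1 hw2
    rw [B_ee] at hw1
    rw [B_ff] at hw2
    exact mem_rad_of_coord M i0 (ff F i0) (Q_ff i0) hFe hFf hFd1 hFd2 w hw2 hw1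
  · exact hed1 i0
  · rw [B_comm]; exact hd1f i0
  · rw [Q_d1]
    exact one_ne_zero

end Cfsg.Agent.S5702P
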