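import Mathlib
import Cfsg.Prelude.Def_FusionSystem
import Cfsg.Agent.Helper25.FusionChain
import Cfsg.Agent.Helper25.OliverB
import Cfsg.Agent.S0065

set_option autoImplicit false

/-! Piece FB of S5238 (driver helper10): a nonabelian pearl of order `p^3` in a saturated fusion
system on `S` gives an element `s` of `S` with `|C_S(s)| = p^2`. -/

namespace Cfsg.Agent.Helper9.Pearl

open Cfsg Cfsg.FusionSystem Cfsg.Agent.Helper25

/-! ### Nonabelian groups of order `p^3` -/

section Cube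

variable {P : Type*} [Group P] [Finite P] {p : ℕ} [Fact p.Prime]

theorem cube_card_center (hcard : Nat.card P = p ^ 3) (hna : ¬ IsMulCommutative P) :
    Nat.card (Subgroup.center P) = p := by
  have hpp : p.Prime := Fact.out
  have hP : IsPGroup p P := IsPGroup.of_card hcard
  have hnt : Nontrivial P := by
    rw [← Finite.one_lt_card_iff_nontrivial, hcard]
    exact Nat.one_lt_pow (by norm_num) hpp.one_lt
  have hZnt : Nontrivial (Subgroup.center P) := hP.center_nontrivial
  have hdvd : Nat.card (Subgroup.center P) ∣ p ^ 3 := hcard ▸ Subgroup.card_subgroup_dvd_card _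
  obtain ⟨k, hk3, hk⟩ := (Nat.dvd_prime_pow hpp).mp hdvd
  have h1 : 1 < Nat.card (Subgroup.center P) := Finite.one_lt_card
  have hk0 : k ≠ 0 := by
    rintro rfl
    rw [hk, pow_zero] at h1
    exact lt_irrefl _ h1
  have hk3' : k ≠ 3 := by
    rintro rfl
    apply hna
    have htop : Subgroup.center P = ⊤ := by
      apply Subgroup.eq_top_of_card_eq
      rw [hk, hcard]
    refine ⟨⟨fun a b => ?_⟩⟩
    have ha : a ∈ Subgroup.center P := htop ▸ Subgroup.mem_top a
    exact ((Subgroup.mem_center_iff.mp ha) b).symm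
  have hk2 : k ≠ 2 := by
    rintro rfl
    apply hna
    have hidx : (Subgroup.center P).index = p := by
      have h2 := Subgroup.card_mul_index (Subgroup.center P)
      rw [hk, hcard] at h2
      have h3 : p ^ 2 * (Subgroup.center P).index = p ^ 2 * p := by rw [h2]; ring
      exact Nat.eq_of_mul_eq_mul_left (pow_pos hpp.pos 2) h3
    have hq : Nat.card (P ⧸ Subgroup.center P) = p := by
      rw [← Subgroup.index_eq_card]; exact hidx
    have hcyc : IsCyclic (P ⧸ Subgroup.center P) := isCyclic_of_prime_card hq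
    exact (QuotientGroup.mk' (Subgroup.center P)).isMulCommutative_of_isCyclic_of_ker_le_center
      (by rw [QuotientGroup.ker_mk'])
  have : k = 1 := by omega
  rw [hk, this, pow_one]

theorem cube_comm_mem_center (hcard : Nat.card P = p ^ 3) (hna : ¬ IsMulCommutative P)
    (a b : P) : a * b * a⁻¹ * b⁻¹ ∈ Subgroup.center P := by
  have hpp : p.Prime := Fact.out
  have hZ := cube_card_center hcard hna
  have hq : Nat.card (P ⧸ Subgroup.center P) = p ^ 2 := by
    have h2 := Subgroup.card_mul_index (Subgroup.center P)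
    rw [hZ, hcard, Subgroup.index_eq_card] at h2
    have h3 : p * Nat.card (P ⧸ Subgroup.center P) = p * p ^ 2 := by rw [h2]; ring
    exact Nat.eq_of_mul_eq_mul_left hpp.pos h3
  have hcomm : IsMulCommutative (P ⧸ Subgroup.center P) :=
    IsPGroup.isMulCommutative_of_card_eq_prime_sq hq
  apply (QuotientGroup.eq_one_iff _).mp
  have h1 : ((a * b * a⁻¹ * b⁻¹ : P) : P ⧸ Subgroup.center P) =
      (a : P ⧸ Subgroup.center P) * b * (a : P ⧸ Subgroup.center P)⁻¹ * (b : P ⧸ Subgroup.center P)⁻¹ := rfl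
  rw [h1, mul_comm' (a : P ⧸ Subgroup.center P) b]
  group

theorem cube_card_centralizer (hcard : Nat.card P = p ^ 3) (hna : ¬ IsMulCommutative P)
    (a : P) (ha : a ∉ Subgroup.center P) :
    Nat.card (Subgroup.centralizer ({a} : Set P)) = p ^ 2 := by
  have hpp : p.Prime := Fact.out
  have hZ := cube_card_center hcard hna
  set C := Subgroup.centralizer ({a} : Set P) with hC
  have hdvd : Nat.card C ∣ p ^ 3 := hcard ▸ Subgroup.card_subgroup_dvd_card _
  obtain ⟨k, hk3, hk⟩ := (Nat.dvd_prime_pow hpp).mp hdvd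
  have hZC : Subgroup.center P ≤ C := Subgroup.center_le_centralizer _
  have haC : a ∈ C := by
    rw [hC, Subgroup.mem_centralizer_iff]
    intro y hy
    rw [Set.mem_singleton_iff] at hy
    rw [hy]
  have hlt : Nat.card (Subgroup.center P) < Nat.card C := by
    apply lt_of_le_of_ne (Subgroup.card_le_of_le hZC)
    intro heq
    have := Subgroup.eq_of_le_of_card_ge hZC heq.ge
    exact ha (this ▸ haC)
  have hne : C ≠ ⊤ := by
    intro htop
    apply ha
    rw [Subgroup.mem_center_iff]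
    intro g
    have hg : g ∈ C := htop ▸ Subgroup.mem_top g
    rw [hC, Subgroup.mem_centralizer_iff] at hg
    exact (hg a rfl).symm
  have hk3' : k ≠ 3 := by
    rintro rfl
    apply hne
    apply Subgroup.eq_top_of_card_eq
    rw [hk, hcard]
  have hk1 : 2 ≤ k := by
    rw [hZ, hk] at hlt
    by_contra hcon
    push Not at hcon
    have : p ^ k ≤ p ^ 1 := Nat.pow_le_pow_right hpp.pos (by omega)
    rw [pow_one] at this
    omega
  have : k = 2 := by omega
  rw [hk, this]

end Cube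

/-! ### The abstract group-theoretic argument inside an ambient group -/

section Abstract

variable {Ω : Type*} [Group Ω] {p : ℕ} [Fact p.Prime]

/-- `Z(E)` as a subgroup of the ambient group. -/
def zE (E : Subgroup Ω) : Subgroup Ω := E ⊓ Subgroup.centralizer (E : Set Ω)

theorem mem_center_iff_mem_zE (E : Subgroup Ω) (x : E) :
    x ∈ Subgroup.center E ↔ (x : Ω) ∈ zE E := by
  rw [Subgroup.mem_center_iff]
  constructor
  · intro h
    refine Subgroup.mem_inf.mpr ⟨x.2, ?_⟩
    rw [Subgroup.mem_centralizer_iff]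
    intro y hy
    exact congrArg Subtype.val (h ⟨y, hy⟩)
  · intro h g
    apply Subtype.ext
    exact (Subgroup.mem_centralizer_iff.mp (Subgroup.mem_inf.mp h).2) g g.2

theorem zE_eq_map (E : Subgroup Ω) : zE E = (Subgroup.center E).map E.subtype := by
  ext y
  constructor
  · intro hy
    have hyE : y ∈ E := (Subgroup.mem_inf.mp hy).1
    exact ⟨⟨y, hyE⟩, (mem_center_iff_mem_zE E ⟨y, hyE⟩).mpr hy, rfl⟩
  · rintro ⟨x, hx, rfl⟩
    exact (mem_center_iff_mem_zE E x).mp hx

theorem zE_card {E : Subgroup Ω} [Finite E] (hcard : Nat.card E = p ^ 3)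
    (hna : ¬ IsMulCommutative ↥E) : Nat.card (zE E) = p := by
  rw [zE_eq_map, Subgroup.card_map_of_injective E.subtype_injective]
  exact cube_card_center hcard hna

theorem zE_comm {E : Subgroup Ω} [Finite E] (hcard : Nat.card E = p ^ 3)
    (hna : ¬ IsMulCommutative ↥E) (e : Ω) (he : e ∈ E) (e' : Ω) (he' : e' ∈ E) :
    e * e' * e⁻¹ * e'⁻¹ ∈ zE E := by
  have h := cube_comm_mem_center hcard hna (⟨e, he⟩ : E) ⟨e', he'⟩
  exact (mem_center_iff_mem_zE E _).mp h

theorem zE_centralizer {E : Subgroup Ω} [Finite E] (hcard : Nat.card E = p ^ 3)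
    (hna : ¬ IsMulCommutative ↥E) (a : Ω) (ha : a ∈ E) (haZ : a ∉ zE E) :
    Nat.card (E ⊓ Subgroup.centralizer ({a} : Set Ω) : Subgroup Ω) = p ^ 2 := by
  have h1 : (E ⊓ Subgroup.centralizer ({a} : Set Ω) : Subgroup Ω) =
      (Subgroup.centralizer ({(⟨a, ha⟩ : E)} : Set E)).map E.subtype := by
    ext y
    constructor
    · intro hy
      obtain ⟨hyE, hyC⟩ := Subgroup.mem_inf.mp hy
      refine ⟨⟨y, hyE⟩, ?_, rfl⟩
      show (⟨y, hyE⟩ : E) ∈ Subgroup.centralizer ({(⟨a, ha⟩ : E)} : Set E)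
      rw [Subgroup.mem_centralizer_iff]
      intro h hh
      rw [Set.mem_singleton_iff] at hh
      subst hh
      apply Subtype.ext
      exact (Subgroup.mem_centralizer_iff.mp hyC) a rfl
    · rintro ⟨x, hx, rfl⟩
      refine Subgroup.mem_inf.mpr ⟨x.2, ?_⟩
      rw [Subgroup.mem_centralizer_iff]
      intro h hh
      rw [Set.mem_singleton_iff] at hh
      subst hh
      exact congrArg Subtype.val ((Subgroup.mem_centralizer_iff.mp hx) ⟨h, ha⟩ rfl)
  rw [h1, Subgroup.card_map_of_injective E.subtype_injective]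
  apply cube_card_centralizer hcard hna
  intro hc
  exact haZ ((mem_center_iff_mem_zE E _).mp hc)

/-- The elements of `E` whose commutators with all of `T` lie in `Z(E)`. -/
def commSub (E : Subgroup Ω) (T : Set Ω) : Subgroup Ω where
  carrier := {e | e ∈ E ∧ ∀ x ∈ T, x * e * x⁻¹ * e⁻¹ ∈ zE E}
  one_mem' := ⟨E.one_mem, fun x _ => by simp⟩
  mul_mem' := by
    rintro e e' ⟨he, h⟩ ⟨he', h'⟩
    refine ⟨E.mul_mem he he', fun x hx => ?_⟩
    have hz' := h' x hx
    have hcz : e * (x * e' * x⁻¹ * e'⁻¹) = (x * e' * x⁻¹ * e'⁻¹) * e :=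
      (Subgroup.mem_centralizer_iff.mp hz'.2) e he
    have e1 : x * (e * e') * x⁻¹ * (e * e')⁻¹ =
        (x * e * x⁻¹ * e⁻¹) * (e * (x * e' * x⁻¹ * e'⁻¹) * e⁻¹) := by group
    rw [e1, hcz, mul_inv_cancel_right]
    exact (zE E).mul_mem (h x hx) hz'
  inv_mem' := by
    rintro e ⟨he, h⟩
    refine ⟨E.inv_mem he, fun x hx => ?_⟩
    have hz := (zE E).inv_mem (h x hx)
    have hcz : e * (x * e * x⁻¹ * e⁻¹)⁻¹ = (x * e * x⁻¹ * e⁻¹)⁻¹ * e :=
      (Subgroup.mem_centralizer_iff.mp hz.2) e he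
    have e1 : x * e⁻¹ * x⁻¹ * e⁻¹⁻¹ = e⁻¹ * ((x * e * x⁻¹ * e⁻¹)⁻¹ * e) := by group
    rw [e1, ← hcz, inv_mul_cancel_left]
    exact hz

theorem mem_commSub {E : Subgroup Ω} {T : Set Ω} {e : Ω} :
    e ∈ commSub E T ↔ e ∈ E ∧ ∀ x ∈ T, x * e * x⁻¹ * e⁻¹ ∈ zE E := Iff.rfl

theorem card_eq_sq_of_between {A B C : Subgroup Ω} [Finite C] (hAB : A ≤ B) (hBC : B ≤ C)
    (hA : Nat.card A = p) (hC : Nat.card C = p ^ 3) (h1 : A ≠ B) (h2 : B ≠ C) :
    Nat.card B = p ^ 2 := by
  have hpp : p.Prime := Fact.out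
  have hfB : Finite B := Finite.of_injective (Subgroup.inclusion hBC) (Subgroup.inclusion_injective _)
  have hdvd : Nat.card B ∣ p ^ 3 := hC ▸ Subgroup.card_dvd_of_le hBC
  obtain ⟨k, hk3, hk⟩ := (Nat.dvd_prime_pow hpp).mp hdvd
  have hk3' : k ≠ 3 := by
    rintro rfl
    exact h2 (Subgroup.eq_of_le_of_card_ge hBC (by rw [hk, hC]))
  have hlt : p < p ^ k := by
    have hlt' : Nat.card A < Nat.card B := by
      apply lt_of_le_of_ne (Subgroup.card_le_of_le hAB)
      intro heq
      exact h1 (Subgroup.eq_of_le_of_card_ge hAB heq.ge)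
    rwa [hA, hk] at hlt'
  have hk1 : 2 ≤ k := by
    by_contra hcon
    push Not at hcon
    have : p ^ k ≤ p ^ 1 := Nat.pow_le_pow_right hpp.pos (by omega)
    rw [pow_one] at this
    omega
  have : k = 2 := by omega
  rw [hk, this]

theorem eq_of_sq_le {B B' C : Subgroup Ω} [Finite C] (hBB' : B ≤ B') (hB'C : B' ≤ C)
    (hB : Nat.card B = p ^ 2) (hC : Nat.card C = p ^ 3) (h2 : B' ≠ C) : B = B' := by
  have hpp : p.Prime := Fact.out
  have hfB' : Finite B' :=
    Finite.of_injective (Subgroup.inclusion hB'C) (Subgroup.inclusion_injective _)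
  have hdvd : Nat.card B' ∣ p ^ 3 := hC ▸ Subgroup.card_dvd_of_le hB'C
  obtain ⟨k, hk3, hk⟩ := (Nat.dvd_prime_pow hpp).mp hdvd
  have hk3' : k ≠ 3 := by
    rintro rfl
    exact h2 (Subgroup.eq_of_le_of_card_ge hB'C (by rw [hk, hC]))
  have hle : p ^ 2 ≤ p ^ k := by
    rw [← hB, ← hk]
    exact Subgroup.card_le_of_le hBB'
  have hk2 : 2 ≤ k := (Nat.pow_le_pow_iff_right hpp.one_lt).mp hle
  have : k = 2 := by omega
  apply Subgroup.eq_of_le_of_card_ge hBB'
  rw [hk, this, hB]

/-- the center of `S` is nontrivial and lies in `Z(E)` when `C_S(E) ≤ E`; with `|Z(E)| = p` this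
makes `Z(E)` central in `S`. -/
theorem zE_central {S E : Subgroup Ω} [Finite S] (hS : IsPGroup p S) (hES : E ≤ S)
    (hcard : Nat.card E = p ^ 3) (hna : ¬ IsMulCommutative ↥E)
    (hC : S ⊓ Subgroup.centralizer (E : Set Ω) ≤ E) :
    ∀ z ∈ zE E, ∀ x ∈ S, x * z * x⁻¹ = z := by
  have hpp : p.Prime := Fact.out
  have hfinE : Finite E := Finite.of_injective (Subgroup.inclusion hES) (Subgroup.inclusion_injective _)
  have hZcard : Nat.card (zE E) = p := zE_card hcard hna
  set ZS : Subgroup Ω := S ⊓ Subgroup.centralizer (S : Set Ω) with hZS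
  have hZSZ : ZS ≤ zE E := by
    intro y hy
    obtain ⟨hyS, hyC⟩ := Subgroup.mem_inf.mp hy
    have hyCE : y ∈ Subgroup.centralizer (E : Set Ω) := Subgroup.centralizer_le hES hyC
    exact Subgroup.mem_inf.mpr ⟨hC (Subgroup.mem_inf.mpr ⟨hyS, hyCE⟩), hyCE⟩
  have hntS : Nontrivial S := by
    have h1 : 1 < Nat.card E := by
      rw [hcard]; exact Nat.one_lt_pow (by norm_num) hpp.one_lt
    have hntE : Nontrivial E := Finite.one_lt_card_iff_nontrivial.mp h1
    obtain ⟨e, he⟩ := exists_ne (1 : E)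
    refine ⟨⟨⟨e, hES e.2⟩, 1, fun h => he ?_⟩⟩
    apply Subtype.ext
    exact congrArg (fun t : S => (t : Ω)) h
  have hZnt : Nontrivial (Subgroup.center S) := hS.center_nontrivial
  have hZSne : ZS ≠ ⊥ := by
    obtain ⟨c, hc⟩ := exists_ne (1 : Subgroup.center S)
    intro hbot
    apply hc
    have hcm : ((c : S) : Ω) ∈ ZS := by
      refine Subgroup.mem_inf.mpr ⟨(c : S).2, ?_⟩
      rw [Subgroup.mem_centralizer_iff]
      intro y hy
      have := (Subgroup.mem_center_iff.mp c.2) ⟨y, hy⟩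
      exact congrArg (fun t : S => (t : Ω)) this
    rw [hbot, Subgroup.mem_bot] at hcm
    apply Subtype.ext
    apply Subtype.ext
    exact hcm
  have hfZ : Finite (zE E) :=
    Finite.of_injective (Subgroup.inclusion (inf_le_left : zE E ≤ E)) (Subgroup.inclusion_injective _)
  have hZScard : Nat.card ZS = p := by
    have hdvd : Nat.card ZS ∣ p := hZcard ▸ Subgroup.card_dvd_of_le hZSZ
    rcases (Nat.dvd_prime hpp).mp hdvd with h1 | h1
    · exact absurd (Subgroup.card_eq_one.mp h1) hZSne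
    · exact h1
  have heq : ZS = zE E := Subgroup.eq_of_le_of_card_ge hZSZ (by rw [hZcard, hZScard])
  intro z hz x hx
  have hz' : z ∈ ZS := heq ▸ hz
  have h1 := (Subgroup.mem_centralizer_iff.mp (Subgroup.mem_inf.mp hz').2) x hx
  rw [h1, mul_inv_cancel_right]

theorem exists_uniform_abstract {S E : Subgroup Ω} [Finite S] (hS : IsPGroup p S) (hES : E ≤ S)
    (hne : E ≠ S) (hcard : Nat.card E = p ^ 3) (hna : ¬ IsMulCommutative ↥E)
    (hC : S ⊓ Subgroup.centralizer (E : Set Ω) ≤ E)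
    (H : ∀ x ∈ S, x ∈ Subgroup.normalizer (E : Set Ω) → (∀ z ∈ zE E, x * z * x⁻¹ = z) →
      (∀ e ∈ E, x * e * x⁻¹ * e⁻¹ ∈ zE E) → x ∈ E) :
    ∃ a ∈ E, Nat.card (S ⊓ Subgroup.centralizer ({a} : Set Ω) : Subgroup Ω) = p ^ 2 := by
  have hpp : p.Prime := Fact.out
  have hfinE : Finite E := Finite.of_injective (Subgroup.inclusion hES) (Subgroup.inclusion_injective _)
  have hZE : zE E ≤ E := inf_le_left
  have hZcard : Nat.card (zE E) = p := zE_card hcard hna
  have hcomm := zE_comm (p := p) hcard hna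
  have hZS := zE_central hS hES hcard hna hC
  set N : Subgroup Ω := S ⊓ Subgroup.normalizer (E : Set Ω) with hN
  have hNS : N ≤ S := inf_le_left
  have hEN : E ≤ N := le_inf hES Subgroup.le_normalizer
  -- an element of `N` outside `E`
  obtain ⟨g, hgN, hgE⟩ := exists_mem_normalizerIn_not_mem p hS hES hne
  have hgS : g ∈ S := hgN.1
  have hgNE : g ∈ Subgroup.normalizer (E : Set Ω) := hgN.2
  -- the subgroup `L0`
  set L0 := commSub E (N : Set Ω) with hL0
  have hZL0 : zE E ≤ L0 := by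
    intro z hz
    refine mem_commSub.mpr ⟨hZE hz, fun x hx => ?_⟩
    rw [hZS z hz x (hNS hx), mul_inv_cancel]
    exact Subgroup.one_mem _
  have hL0E : L0 ≤ E := fun e he => (mem_commSub.mp he).1
  have hL0ne : L0 ≠ E := by
    intro h
    apply hgE
    apply H g hgS hgNE (fun z hz => hZS z hz g hgS)
    intro e he
    have he' : e ∈ L0 := h ▸ he
    exact (mem_commSub.mp he').2 g (Subgroup.mem_inf.mpr ⟨hgS, hgNE⟩)
  -- a nontrivial fixed point on `E / Z`
  have hex : ∃ e ∈ L0, e ∉ zE E := by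
    have hfinN : Finite N := Finite.of_injective (Subgroup.inclusion hNS) (Subgroup.inclusion_injective _)
    have hNp : IsPGroup p N := hS.of_injective (Subgroup.inclusion hNS) (Subgroup.inclusion_injective _)
    set ZN : Subgroup N := (zE E).subgroupOf N with hZN
    have hZNn : ZN.Normal := by
      constructor
      intro z hz n
      show ((n * z * n⁻¹ : N) : Ω) ∈ zE E
      have : ((n * z * n⁻¹ : N) : Ω) = (n : Ω) * (z : Ω) * (n : Ω)⁻¹ := rfl
      have hz' : (z : Ω) ∈ zE E := hz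
      rw [this, hZS _ hz' _ (hNS n.2)]
      exact hz'
    set EN : Subgroup N := E.subgroupOf N with hENdef
    have hENn : EN.Normal := by
      constructor
      intro e he n
      show ((n * e * n⁻¹ : N) : Ω) ∈ E
      have : ((n * e * n⁻¹ : N) : Ω) = (n : Ω) * (e : Ω) * (n : Ω)⁻¹ := rfl
      rw [this]
      exact (Subgroup.mem_normalizer_iff.mp (Subgroup.mem_inf.mp n.2).2 _).mp he
    have hQp : IsPGroup p (N ⧸ ZN) := hNp.to_quotient ZN
    have hQnil : Group.IsNilpotent (N ⧸ ZN) := hQp.isNilpotent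
    set Ebar : Subgroup (N ⧸ ZN) := EN.map (QuotientGroup.mk' ZN) with hEbar
    have hEbarn : Ebar.Normal := hENn.map _ (QuotientGroup.mk'_surjective _)
    -- `E ≠ Z`
    have hexE : ∃ e0 ∈ E, e0 ∉ zE E := by
      by_contra hcon
      push Not at hcon
      have : E ≤ zE E := hcon
      have hfZ : Finite (zE E) :=
        Finite.of_injective (Subgroup.inclusion hZE) (Subgroup.inclusion_injective _)
      have h1 := Subgroup.card_le_of_le this
      rw [hcard, hZcard] at h1
      have : p ^ 1 < p ^ 3 := Nat.pow_lt_pow_right hpp.one_lt (by norm_num)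
      rw [pow_one] at this
      omega
    obtain ⟨e0, he0E, he0Z⟩ := hexE
    have hEbarne : Ebar ≠ ⊥ := by
      intro hbot
      have h1 : QuotientGroup.mk' ZN ⟨e0, hEN he0E⟩ ∈ Ebar := ⟨⟨e0, hEN he0E⟩, he0E, rfl⟩
      rw [hbot, Subgroup.mem_bot] at h1
      have h2 : (⟨e0, hEN he0E⟩ : N) ∈ ZN := (QuotientGroup.eq_one_iff _).mp h1
      exact he0Z h2
    have hmeet := Cfsg.Agent.S0065.inf_center_ne_bot Ebar hEbarne
    obtain ⟨q, hq1⟩ := (Subgroup.ne_bot_iff_exists_ne_one.mp hmeet)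
    obtain ⟨hqE, hqC⟩ := Subgroup.mem_inf.mp q.2
    obtain ⟨e1, he1, he1q⟩ := hqE
    refine ⟨(e1 : Ω), mem_commSub.mpr ⟨he1, fun x hx => ?_⟩, fun hZ => ?_⟩
    · have hcomm1 := (Subgroup.mem_center_iff.mp hqC) (QuotientGroup.mk' ZN ⟨x, hx⟩)
      rw [← he1q] at hcomm1
      have h2 : QuotientGroup.mk' ZN (⟨x, hx⟩ * e1 * ⟨x, hx⟩⁻¹ * e1⁻¹) = 1 := by
        rw [map_mul, map_mul, map_mul, map_inv, map_inv, hcomm1]
        group
      have h3 : (⟨x, hx⟩ * e1 * ⟨x, hx⟩⁻¹ * e1⁻¹ : N) ∈ ZN := (QuotientGroup.eq_one_iff _).mp h2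
      exact h3
    · apply hq1
      apply Subtype.ext
      rw [← he1q]
      exact (QuotientGroup.eq_one_iff _).mpr hZ
  obtain ⟨e2, he2L, he2Z⟩ := hex
  have hL0card : Nat.card L0 = p ^ 2 :=
    card_eq_sq_of_between hZL0 hL0E hZcard hcard (fun h => he2Z (h ▸ he2L)) hL0ne
  -- the element `a`
  obtain ⟨a, haE, haL⟩ := SetLike.exists_of_lt (lt_of_le_of_ne hL0E hL0ne)
  have haZ : a ∉ zE E := fun h => haL (hZL0 h)
  have hAcard := zE_centralizer (p := p) hcard hna a haE haZ
  -- step (3)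
  have hCN : ∀ x ∈ N, x * a = a * x → x ∈ E := by
    intro x hx hxa
    by_contra hxE
    set Ex := commSub E ({x} : Set Ω) with hEx
    have hL0Ex : L0 ≤ Ex := by
      intro e he
      obtain ⟨heE, he'⟩ := mem_commSub.mp he
      refine mem_commSub.mpr ⟨heE, fun y hy => ?_⟩
      rw [Set.mem_singleton_iff] at hy
      subst hy
      exact he' y hx
    have hExE : Ex ≤ E := fun e he => (mem_commSub.mp he).1
    have haEx : a ∈ Ex := by
      refine mem_commSub.mpr ⟨haE, fun y hy => ?_⟩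
      rw [Set.mem_singleton_iff] at hy
      subst hy
      rw [hxa, mul_inv_cancel_right, mul_inv_cancel]
      exact Subgroup.one_mem _
    have hExne : Ex ≠ E := by
      intro h
      apply hxE
      apply H x (hNS hx) (Subgroup.mem_inf.mp hx).2 (fun z hz => hZS z hz x (hNS hx))
      intro e he
      have he' : e ∈ Ex := h ▸ he
      exact (mem_commSub.mp he').2 x rfl
    have := eq_of_sq_le hL0Ex hExE hL0card hcard hExne
    exact haL (this ▸ haEx)
  -- step (4)
  set C : Subgroup Ω := S ⊓ Subgroup.centralizer ({a} : Set Ω) with hCdef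
  have hCS : C ≤ S := inf_le_left
  have hCa : ∀ c ∈ C, c * a = a * c := by
    intro c hc
    exact ((Subgroup.mem_centralizer_iff.mp (Subgroup.mem_inf.mp hc).2) a rfl).symm
  have hCE : C ≤ E := by
    by_contra hcon
    have hconj : ∀ e ∈ E, ∀ c ∈ C, e * c * e⁻¹ ∈ C := by
      intro e he c hc
      have hcS : c ∈ S := hCS hc
      refine Subgroup.mem_inf.mpr ⟨S.mul_mem (S.mul_mem (hES he) hcS) (S.inv_mem (hES he)), ?_⟩
      rw [Subgroup.mem_centralizer_iff]
      intro y hy
      rw [Set.mem_singleton_iff] at hy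
      subst hy
      -- z := e⁻¹ y e y⁻¹ ∈ Z
      have hz0 : e⁻¹ * y * e⁻¹⁻¹ * y⁻¹ ∈ zE E := hcomm e⁻¹ (E.inv_mem he) y haE
      obtain ⟨z, hzdef⟩ : ∃ z, z = e⁻¹ * y * e⁻¹⁻¹ * y⁻¹ := ⟨_, rfl⟩
      have hz : z ∈ zE E := hzdef ▸ hz0
      have h1 : e⁻¹ * y * e = z * y := by rw [hzdef]; group
      have h2 : c * z = z * c := by
        have := hZS z hz c hcS
        calc c * z = c * z * c⁻¹ * c := by group
          _ = z * c := by rw [this]
      have h3 : c * y = y * c := hCa c hc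
      have h4 : c * (z * y) = (z * y) * c := by
        rw [← mul_assoc, h2, mul_assoc, h3, mul_assoc]
      calc y * (e * c * e⁻¹) = e * ((e⁻¹ * y * e) * c) * e⁻¹ := by group
        _ = e * (c * (e⁻¹ * y * e)) * e⁻¹ := by rw [h1, h4]
        _ = e * c * e⁻¹ * y := by group
    have hEnormC : E ≤ Subgroup.normalizer (C : Set Ω) := by
      intro e he
      rw [Subgroup.mem_normalizer_iff]
      intro c
      constructor
      · exact hconj e he c
      · intro h
        have := hconj e⁻¹ (E.inv_mem he) _ h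
        have e1 : e⁻¹ * (e * c * e⁻¹) * e⁻¹⁻¹ = c := by group
        rwa [e1] at this
    set T : Subgroup Ω := E ⊔ C with hT
    have hTS : T ≤ S := sup_le hES hCS
    have hfinT : Finite T := Finite.of_injective (Subgroup.inclusion hTS) (Subgroup.inclusion_injective _)
    have hTp : IsPGroup p T := hS.of_injective (Subgroup.inclusion hTS) (Subgroup.inclusion_injective _)
    have hneT : E ≠ T := fun h => hcon (h ▸ (le_sup_right : C ≤ E ⊔ C))
    obtain ⟨y, hyN, hyE⟩ := exists_mem_normalizerIn_not_mem (S := T) p hTp le_sup_left hneT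
    have hy' : y ∈ ((E ⊔ C : Subgroup Ω) : Set Ω) := hyN.1
    rw [Subgroup.coe_mul_of_left_le_normalizer_right E C hEnormC] at hy'
    obtain ⟨e, he, c, hc, rfl⟩ := hy'
    have heN : e ∈ Subgroup.normalizer (E : Set Ω) := Subgroup.le_normalizer he
    have hcN : c ∈ Subgroup.normalizer (E : Set Ω) := by
      have := Subgroup.mul_mem _ (Subgroup.inv_mem _ heN) hyN.2
      rwa [inv_mul_cancel_left] at this
    have hcE : c ∈ E := hCN c (Subgroup.mem_inf.mpr ⟨hCS hc, hcN⟩) (hCa c hc)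
    exact hyE (E.mul_mem he hcE)
  refine ⟨a, haE, ?_⟩
  have hCeq : C = (E ⊓ Subgroup.centralizer ({a} : Set Ω) : Subgroup Ω) := by
    apply le_antisymm
    · intro c hc
      exact Subgroup.mem_inf.mpr ⟨hCE hc, (Subgroup.mem_inf.mp hc).2⟩
    · intro c hc
      exact Subgroup.mem_inf.mpr ⟨hES (Subgroup.mem_inf.mp hc).1, (Subgroup.mem_inf.mp hc).2⟩
  have hfin : Nat.card C = p ^ 2 := by
    rw [hCeq]
    exact hAcard
  exact hfin

end Abstract

/-! ### The fusion-theoretic input -/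

section Fusion

variable {Ω : Type*} [Group Ω] {S : Subgroup Ω} [Finite S]

/-- the chain `1 ≤ Z(E) ≤ E` -/
def chainZ (P : Type*) [Group P] : ℕ → Subgroup P
  | 0 => ⊥
  | 1 => Subgroup.center P
  | _ => ⊤

theorem chainZ_mono (P : Type*) [Group P] : Monotone (chainZ P) := by
  apply monotone_nat_of_le_succ
  intro n
  match n with
  | 0 => exact bot_le
  | 1 => exact le_top
  | (k + 2) => exact le_top

theorem center_map_mem {P : Type*} [Group P] (α : MulAut P) (x : P)
    (hx : x ∈ Subgroup.center P) : α x ∈ Subgroup.center P := by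
  rw [Subgroup.mem_center_iff] at hx ⊢
  intro g
  have h1 := hx (α⁻¹ g)
  have h2 := congrArg α h1
  rw [map_mul, map_mul, MulAut.apply_inv_self] at h2
  exact h2

/-- An element of `N_S(E)` centralizing `Z(E)` and `E/Z(E)` lies in `E`, for `E` essential. -/
theorem mem_of_stabilizes (p : ℕ) [Fact p.Prime] (hS : IsPGroup p S) (F : FusionSystem S)
    {E : Subgroup Ω} (hE : F.IsEssential p E) {x : Ω} (hxS : x ∈ S)
    (hxN : x ∈ Subgroup.normalizer (E : Set Ω))
    (hxZ : ∀ z ∈ zE E, x * z * x⁻¹ = z)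
    (hxE : ∀ e ∈ E, x * e * x⁻¹ * e⁻¹ ∈ zE E) : x ∈ E := by
  have hES : E ≤ S := hE.1.1
  have hfinE : Finite E := finite_of_le hES
  have hEp : IsPGroup p E := isPGroup_of_le hS hES
  have hC : centralizerIn S E ≤ E := hE.1.2 E (isConj_refl F hES)
  have h0 : chainZ E 0 = ⊥ := rfl
  have h2 : chainZ E 2 = ⊤ := rfl
  have hmono := chainZ_mono E
  have hinv : ∀ β : MulAut E, ∀ i, ∀ y ∈ chainZ E i, β y ∈ chainZ E i := by
    intro β i y hy
    match i with
    | 0 =>
      have hy' : y ∈ (⊥ : Subgroup E) := hy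
      rw [Subgroup.mem_bot] at hy'
      show β y ∈ (⊥ : Subgroup E)
      rw [hy', map_one]
      exact Subgroup.one_mem _
    | 1 => exact center_map_mem β y hy
    | (k + 2) => exact Subgroup.mem_top _
  set K : Subgroup (MulAut E) := chainStabilizer hEp (chainZ E) h0 hmono h2 ⊓ F.autGroup E with hK
  have hKI : K ≤ Inn E := by
    apply opAutLeInn_of_isEssential F p hE K inf_le_right
    · intro α hα k hk
      refine ⟨?_, (F.autGroup E).mul_mem ((F.autGroup E).mul_mem hα hk.2)
        ((F.autGroup E).inv_mem hα)⟩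
      have hks : StabilizesChain (chainZ E) k := hk.1
      show StabilizesChain (chainZ E) (α * k * α⁻¹)
      intro i y hy
      have hy' : α⁻¹ y ∈ chainZ E (i + 1) := hinv α⁻¹ _ y hy
      have h1 := hks i _ hy'
      have h2 := hinv α i _ h1
      have e : α (k (α⁻¹ y) * (α⁻¹ y)⁻¹) = (α * k * α⁻¹) y * y⁻¹ := by
        simp [MulAut.mul_apply]
      rwa [e] at h2
    · exact (chainStabilizer_isPGroup hEp (chainZ E) h0 hmono h2).to_le inf_le_left
  let c : MulAut E := E.normalizerMonoidHom ⟨x, hxN⟩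
  have hcS : c ∈ autInducedBy S E := by
    rw [autInducedBy_eq_map]
    exact ⟨⟨x, hxN⟩, hxS, rfl⟩
  have hcA : c ∈ F.autGroup E := autInducedBy_le_autGroup F hES hcS
  have hcval : ∀ y : E, ((c y : E) : Ω) = x * (y : Ω) * x⁻¹ := fun y => rfl
  have hcK : c ∈ K := by
    refine ⟨?_, hcA⟩
    show StabilizesChain (chainZ E) c
    intro i y hy
    match i with
    | 0 =>
      have hy' : y ∈ Subgroup.center E := hy
      have hyZ : (y : Ω) ∈ zE E := (mem_center_iff_mem_zE E y).mp hy'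
      show c y * y⁻¹ ∈ (⊥ : Subgroup E)
      rw [Subgroup.mem_bot]
      apply Subtype.ext
      show ((c y : E) : Ω) * ((y : Ω))⁻¹ = 1
      rw [hcval, hxZ _ hyZ, mul_inv_cancel]
    | 1 =>
      show c y * y⁻¹ ∈ Subgroup.center E
      rw [mem_center_iff_mem_zE]
      show ((c y : E) : Ω) * ((y : Ω))⁻¹ ∈ zE E
      rw [hcval]
      exact hxE y y.2
    | (k + 2) => exact Subgroup.mem_top _
  exact mem_of_normalizerMonoidHom_mem_inn hES hC ⟨x, hxN⟩ hxS (hKI hcK)

theorem exists_uniform_of_pearl_nonabelian (p : ℕ) [Fact p.Prime] (hS : IsPGroup p S)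
    (F : Cfsg.FusionSystem S) (hF : F.IsSaturated p) (E : Subgroup Ω) (hE : F.IsEssential p E)
    (hcard : Nat.card E = p ^ 3) (hna : ¬ IsMulCommutative ↥E) :
    ∃ s : ↥S, Nat.card (Subgroup.centralizer ({s} : Set ↥S)) = p ^ 2 := by
  have hES : E ≤ S := hE.1.1
  have hC : centralizerIn S E ≤ E := hE.1.2 E (isConj_refl F hES)
  have hne : E ≠ S := Cfsg.Agent.Helper25.Oliver.ne_of_isEssential p hS F hF hE
  obtain ⟨a, haE, hacard⟩ := exists_uniform_abstract hS hES hne hcard hna hC
    (fun x hxS hxN hxZ hxE => mem_of_stabilizes p hS F hE hxS hxN hxZ hxE)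
  refine ⟨⟨a, hES haE⟩, ?_⟩
  have h1 : Subgroup.centralizer ({(⟨a, hES haE⟩ : S)} : Set S) =
      (S ⊓ Subgroup.centralizer ({a} : Set Ω) : Subgroup Ω).subgroupOf S := by
    ext y
    rw [Subgroup.mem_subgroupOf, Subgroup.mem_inf, Subgroup.mem_centralizer_iff,
      Subgroup.mem_centralizer_iff]
    constructor
    · intro h
      refine ⟨y.2, fun t ht => ?_⟩
      rw [Set.mem_singleton_iff] at ht
      subst ht
      exact congrArg Subtype.val (h ⟨t, hES haE⟩ rfl)
    · rintro ⟨-, h⟩ t ht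
      rw [Set.mem_singleton_iff] at ht
      subst ht
      apply Subtype.ext
      exact h a rfl
  rw [h1, Nat.card_congr (Subgroup.subgroupOfEquivOfLe (inf_le_left : S ⊓ Subgroup.centralizer ({a} : Set Ω) ≤ S)).toEquiv]
  exact hacard

end Fusion

end Cfsg.Agent.Helper9.Pearl
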