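import Mathlib
import Cfsg.Agent.Helper13.S2276Defs

set_option autoImplicit false
set_option linter.unusedSectionVars false
set_option linter.unusedVariables false

/-! S2276 piece GREEDY (helper9): a multiset of `p`-powers `≤ p ^ a` of total `≥ p ^ a` has a sub-multiset of total
exactly `p ^ a`. -/

namespace Cfsg.Agent.S2276P

open Equiv Equiv.Perm

namespace GREEDY

/-- from one extraction to `j` extractions -/
theorem many {p : ℕ} (a : ℕ)
    (hP : ∀ μ : Multiset ℕ, (∀ y ∈ μ, ∃ k, k ≤ a ∧ y = p ^ k) → p ^ a ≤ μ.sum →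
      ∃ m, m ≤ μ ∧ m.sum = p ^ a) :
    ∀ (j : ℕ) (μ : Multiset ℕ), (∀ y ∈ μ, ∃ k, k ≤ a ∧ y = p ^ k) → j * p ^ a ≤ μ.sum →
      ∃ m, m ≤ μ ∧ m.sum = j * p ^ a := by
  intro j
  induction j with
  | zero =>
    intro μ _ _
    exact ⟨0, Multiset.zero_le _, by simp⟩
  | succ j ih =>
    intro μ hμ hsum
    have h1 : p ^ a ≤ μ.sum := by
      refine le_trans ?_ hsum
      rw [Nat.succ_mul]
      exact Nat.le_add_left _ _
    obtain ⟨m₁, hm₁, hs₁⟩ := hP μ hμ h1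
    have hcancel : μ - m₁ + m₁ = μ := tsub_add_cancel_of_le hm₁
    have hsum' : (μ - m₁).sum + p ^ a = μ.sum := by
      rw [← hs₁, ← Multiset.sum_add, hcancel]
    have hμ' : ∀ y ∈ μ - m₁, ∃ k, k ≤ a ∧ y = p ^ k := by
      intro y hy
      exact hμ y (Multiset.mem_of_le (Multiset.sub_le_self _ _) hy)
    have h2 : j * p ^ a ≤ (μ - m₁).sum := by
      rw [Nat.succ_mul] at hsum
      omega
    obtain ⟨m', hm', hs'⟩ := ih (μ - m₁) hμ' h2
    refine ⟨m' + m₁, ?_, ?_⟩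
    · rw [← hcancel]
      exact add_le_add_left hm' m₁
    · rw [Multiset.sum_add, hs', hs₁, Nat.succ_mul]

/-- the generalised statement (parts `p ^ k`, `k ≤ a`) -/
theorem gen {p : ℕ} (hp : p.Prime) : ∀ (a : ℕ) (μ : Multiset ℕ),
    (∀ y ∈ μ, ∃ k, k ≤ a ∧ y = p ^ k) → p ^ a ≤ μ.sum → ∃ m, m ≤ μ ∧ m.sum = p ^ a := by
  intro a
  induction a with
  | zero =>
    intro μ hμ hsum
    have hne : μ ≠ 0 := by
      rintro rfl
      simp at hsum
    obtain ⟨y, hy⟩ := Multiset.exists_mem_of_ne_zero hne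
    obtain ⟨k, hk, rfl⟩ := hμ y hy
    have hk0 : k = 0 := Nat.le_zero.mp hk
    subst hk0
    exact ⟨{p ^ 0}, Multiset.singleton_le.mpr hy, by simp⟩
  | succ a ih =>
    intro μ hμ hsum
    by_cases hmem : p ^ (a + 1) ∈ μ
    · exact ⟨{p ^ (a + 1)}, Multiset.singleton_le.mpr hmem, by simp⟩
    · have hμ' : ∀ y ∈ μ, ∃ k, k ≤ a ∧ y = p ^ k := by
        intro y hy
        obtain ⟨k, hk, rfl⟩ := hμ y hy
        refine ⟨k, ?_, rfl⟩
        rcases Nat.lt_or_ge k (a + 1) with h1 | h1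
        · omega
        · have : k = a + 1 := le_antisymm hk h1
          subst this
          exact absurd hy hmem
      have h2 : p * p ^ a ≤ μ.sum := by
        rw [← pow_succ']
        exact hsum
      obtain ⟨m, hm, hs⟩ := many a ih p μ hμ' h2
      exact ⟨m, hm, by rw [hs, ← pow_succ']⟩

end GREEDY

/-- GREEDY [M] -/
theorem GREEDY.main {p : ℕ} (hp : p.Prime) (a : ℕ) (μ : Multiset ℕ)
    (hμ : ∀ y ∈ μ, ∃ k, 1 ≤ k ∧ k ≤ a ∧ y = p ^ k) (hsum : p ^ a ≤ μ.sum) :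
    ∃ m, m ≤ μ ∧ m.sum = p ^ a := by
  apply GREEDY.gen hp a μ _ hsum
  intro y hy
  obtain ⟨k, _, hk, rfl⟩ := hμ y hy
  exact ⟨k, hk, rfl⟩

end Cfsg.Agent.S2276P
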