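import Mathlib
import Cfsg.Agent.Helper13.S2276Defs

set_option autoImplicit false
set_option linter.unusedSectionVars false
set_option linter.unusedVariables false

/-! S2276 piece CTYPE (helper9): the cycle type of a non-trivial `p`-element. -/

namespace Cfsg.Agent.S2276P

open Equiv Equiv.Perm

/-- CTYPE [S-M] -/
theorem CTYPE.main {n : ℕ} {p : ℕ} (hp : p.Prime) (U : Perm (Fin n)) (hU : U ≠ 1)
    (hU' : ∃ k : ℕ, orderOf U = p ^ k) :
    (∀ y ∈ U.cycleType, ∃ k, 1 ≤ k ∧ y = p ^ k) ∧ U.cycleType ≠ 0 ∧ U.cycleType.sum ≤ n := by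
  obtain ⟨k, hk⟩ := hU'
  refine ⟨?_, ?_, ?_⟩
  · intro y hy
    have h1 : y ∣ p ^ k := by
      rw [← hk]
      exact Equiv.Perm.dvd_of_mem_cycleType hy
    obtain ⟨j, hj, rfl⟩ := (Nat.dvd_prime_pow hp).1 h1
    have h2 := Equiv.Perm.two_le_of_mem_cycleType hy
    refine ⟨j, ?_, rfl⟩
    rcases Nat.eq_zero_or_pos j with h0 | h0
    · subst h0
      simp at h2
    · exact h0
  · intro h0
    exact hU (Equiv.Perm.cycleType_eq_zero.mp h0)
  · rw [Equiv.Perm.sum_cycleType]
    have := Finset.card_le_univ U.support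
    simpa using this

end Cfsg.Agent.S2276P
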