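import Mathlib
import Cfsg.Prelude.Def_Classical
import Cfsg.Agent.Helper13.S2496Defs
import Cfsg.Agent.S2495

/-! S2496 piece SCALAR: `c ^ (q + 1) = 1` in `K` iff `c` is a unitary scalar of `F`. -/

set_option autoImplicit false

namespace Cfsg.Agent.S2496P

section frob

variable {F K : Type*} [Field F] [Fintype F] [Field K] [Algebra F K] [Finite K] {p : ℕ}
  [Fact p.Prime] [CharP F p] [CharP K p] {f q : ℕ}

/-- SCALAR: `c ^ (q + 1) = 1` in `K` iff `c` is a unitary scalar of `F` -/
theorem pow_succ_eq_one_iff (hq : q = p ^ f) (hF : Fintype.card F = q ^ 2) (c : K) :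
    c ^ (q + 1) = 1 ↔ ∃ c' : F, c = algebraMap F K c' ∧ frob F p f c' * c' = 1 := by
  have hq1 : 1 ≤ q := by
    rw [hq]; exact Nat.one_le_pow _ _ (Fact.out : p.Prime).pos
  constructor
  · intro hc
    have h1 : c ^ (Fintype.card F - 1) = 1 := by
      have : Fintype.card F - 1 = (q + 1) * (q - 1) := by
        rw [hF]
        obtain ⟨k, rfl⟩ : ∃ k, q = k + 1 := ⟨q - 1, by omega⟩
        simp only [Nat.add_sub_cancel]
        have : (k + 1) ^ 2 = (k + 1 + 1) * k + 1 := by ring
        rw [this, Nat.add_sub_cancel]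
      rw [this, pow_mul, hc, one_pow]
    obtain ⟨c', hc'⟩ := Cfsg.Agent.S2495.mem_range_of_pow (F := F) c h1
    refine ⟨c', hc'.symm, ?_⟩
    apply (algebraMap F K).injective
    rw [frob_apply, ← hq, ← pow_succ, map_pow, hc', hc, map_one]
  · rintro ⟨c', rfl, h⟩
    rw [frob_apply, ← hq, ← pow_succ] at h
    rw [← map_pow, h, map_one]

end frob

end Cfsg.Agent.S2496P
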