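import Mathlib

/-! S2262 piece SUBF: a power of `X` is a scalar modulo `μ₀`, with the `PGL` bound. -/

set_option autoImplicit false

namespace Cfsg.Agent.S2262P

open Polynomial

/-- SUBF (no deps): a power of `X` is a scalar modulo `μ₀`, with the `PGL` bound. -/
theorem exists_scalar_exponent {K : Type*} [Field K] [Fintype K] {μ₀ : K[X]} (hm : μ₀.Monic)
    (h0 : μ₀.coeff 0 ≠ 0) (h1 : 1 ≤ μ₀.natDegree) :
    ∃ (M : ℕ) (c : K), 1 ≤ M ∧ c ≠ 0 ∧ μ₀ ∣ X ^ M - C c ∧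
      (Fintype.card K - 1) * M ≤ Fintype.card K ^ μ₀.natDegree - 1 := by
  classical
  have hne : μ₀ ≠ 0 := hm.ne_zero
  have hdeg : μ₀.degree ≠ 0 := by
    intro h
    have h2 : μ₀.natDegree = 0 := Polynomial.natDegree_eq_zero_iff_degree_le_zero.mpr h.le
    omega
  have hnt : Nontrivial (AdjoinRoot μ₀) := AdjoinRoot.nontrivial μ₀ hdeg
  have hmf : Module.Finite K (AdjoinRoot μ₀) := (AdjoinRoot.powerBasis' hm).finite
  have hfin : Finite (AdjoinRoot μ₀) := Module.finite_of_finite K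
  letI : Fintype (AdjoinRoot μ₀) := Fintype.ofFinite _
  have hcard : Fintype.card (AdjoinRoot μ₀) = Fintype.card K ^ μ₀.natDegree := by
    rw [Module.card_eq_pow_finrank (K := K) (V := AdjoinRoot μ₀),
      (AdjoinRoot.powerBasis' hm).finrank, AdjoinRoot.powerBasis'_dim]
  -- the root is a unit
  have hroot : AdjoinRoot.root μ₀ *
      (-(algebraMap K (AdjoinRoot μ₀) (μ₀.coeff 0)⁻¹) * AdjoinRoot.mk μ₀ (divX μ₀)) = 1 := by
    have h := congrArg (AdjoinRoot.mk μ₀) (Polynomial.divX_mul_X_add μ₀)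
    rw [AdjoinRoot.mk_self, map_add, map_mul, AdjoinRoot.mk_X, AdjoinRoot.mk_C] at h
    have hinv : algebraMap K (AdjoinRoot μ₀) (μ₀.coeff 0)⁻¹ *
        algebraMap K (AdjoinRoot μ₀) (μ₀.coeff 0) = 1 := by
      rw [← map_mul, inv_mul_cancel₀ h0, map_one]
    have h2 : AdjoinRoot.mk μ₀ (divX μ₀) * AdjoinRoot.root μ₀ =
        - AdjoinRoot.of μ₀ (μ₀.coeff 0) := eq_neg_of_add_eq_zero_left h
    have h3 : AdjoinRoot.of μ₀ (μ₀.coeff 0) = algebraMap K (AdjoinRoot μ₀) (μ₀.coeff 0) := rfl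
    calc AdjoinRoot.root μ₀ *
        (-(algebraMap K (AdjoinRoot μ₀) (μ₀.coeff 0)⁻¹) * AdjoinRoot.mk μ₀ (divX μ₀))
        = -(algebraMap K (AdjoinRoot μ₀) (μ₀.coeff 0)⁻¹) *
          (AdjoinRoot.mk μ₀ (divX μ₀) * AdjoinRoot.root μ₀) := by ring
      _ = 1 := by rw [h2, h3, neg_mul_neg, hinv]
  let xu : (AdjoinRoot μ₀)ˣ := Units.mkOfMulEqOne _ _ hroot
  have hxu : (xu : AdjoinRoot μ₀) = AdjoinRoot.root μ₀ := rfl
  -- the scalar subgroup
  let φ : Kˣ →* (AdjoinRoot μ₀)ˣ := Units.map (algebraMap K (AdjoinRoot μ₀)).toMonoidHom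
  have hφ : Function.Injective φ :=
    Units.map_injective (f := (algebraMap K (AdjoinRoot μ₀)).toMonoidHom)
      (algebraMap K (AdjoinRoot μ₀)).injective
  let S : Subgroup (AdjoinRoot μ₀)ˣ := φ.range
  have hS : Nat.card S = Fintype.card K - 1 := by
    rw [Nat.card_congr (MonoidHom.ofInjective hφ).toEquiv.symm, Nat.card_eq_fintype_card,
      Fintype.card_units]
  let y : (AdjoinRoot μ₀)ˣ ⧸ S := QuotientGroup.mk xu
  refine ⟨orderOf y, ?_⟩
  have hpow : xu ^ orderOf y ∈ S := by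
    rw [← QuotientGroup.eq_one_iff]
    change y ^ orderOf y = 1
    exact pow_orderOf_eq_one y
  obtain ⟨c, hc⟩ := hpow
  refine ⟨(c : K), orderOf_pos y, c.ne_zero, ?_, ?_⟩
  · rw [← AdjoinRoot.mk_eq_zero, map_sub, map_pow, AdjoinRoot.mk_X, AdjoinRoot.mk_C]
    have := congrArg Units.val hc
    rw [Units.val_pow_eq_pow_val, hxu] at this
    rw [← this]
    exact sub_self _
  · have h1 : orderOf y ≤ Nat.card ((AdjoinRoot μ₀)ˣ ⧸ S) := orderOf_le_card
    have h2 : Nat.card S * S.index = Nat.card (AdjoinRoot μ₀)ˣ := S.card_mul_index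
    have h3 : Nat.card (AdjoinRoot μ₀)ˣ < Fintype.card (AdjoinRoot μ₀) := by
      rw [Nat.card_eq_fintype_card]
      apply Fintype.card_lt_of_injective_of_notMem (b := 0) _ Units.val_injective
      rintro ⟨u, hu⟩
      exact u.ne_zero hu
    rw [hcard] at h3
    have h4 : S.index = Nat.card ((AdjoinRoot μ₀)ˣ ⧸ S) := rfl
    calc (Fintype.card K - 1) * orderOf y ≤ Nat.card S * S.index := by
          rw [hS, h4]; exact Nat.mul_le_mul_left _ h1
      _ = Nat.card (AdjoinRoot μ₀)ˣ := h2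
      _ ≤ Fintype.card K ^ μ₀.natDegree - 1 := by omega

end Cfsg.Agent.S2262P
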