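import Mathlib

/-! Arithmetic lemmas for S2262 pieces ARI1, ARI2 (geometric sums `G(x) = 1 + x + ⋯ + x^(d-1)`). -/

set_option autoImplicit false

namespace Cfsg.Agent.S2262P.ARI

open Finset

/-- `(x - 1) * G(x) = x^d - 1` -/
theorem pred_mul_geom (x d : ℕ) (hx : 1 ≤ x) :
    (x - 1) * ∑ i ∈ range d, x ^ i = x ^ d - 1 := by
  rw [mul_comm]
  exact geom_sum_mul_of_one_le hx d

/-- `e ≤ 2^(e-1)` -/
theorem le_two_pow_pred (e : ℕ) (he : 1 ≤ e) : e ≤ 2 ^ (e - 1) := by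
  have := Nat.lt_two_pow_self (n := e - 1)
  omega

/-- termwise bound: `e * a^i ≤ (a^e)^i` for `i ≥ 1` -/
theorem term_le (a e i : ℕ) (ha : 2 ≤ a) (he : 1 ≤ e) (hi : 1 ≤ i) :
    e * a ^ i ≤ (a ^ e) ^ i := by
  have h1 : (a ^ e) ^ i = a ^ i * a ^ ((e - 1) * i) := by
    rw [← pow_mul, ← pow_add]
    congr 1
    have : e * i = i + (e - 1) * i := by
      obtain ⟨k, rfl⟩ : ∃ k, e = k + 1 := ⟨e - 1, by omega⟩
      simp; ring
    exact this
  rw [h1, mul_comm]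
  apply Nat.mul_le_mul_left
  calc e ≤ 2 ^ (e - 1) := le_two_pow_pred e he
    _ ≤ a ^ (e - 1) := Nat.pow_le_pow_left ha _
    _ ≤ a ^ ((e - 1) * i) := by
        apply Nat.pow_le_pow_right (by omega)
        exact Nat.le_mul_of_pos_right _ (by omega)

/-- `e (a + 1) ≤ a^e + 1` for `a ≥ 3`, `e ≥ 2` -/
theorem ineq_three (a : ℕ) (ha : 3 ≤ a) : ∀ e, 2 ≤ e → e * (a + 1) ≤ a ^ e + 1 := by
  intro e he
  induction e, he using Nat.le_induction with
  | base => nlinarith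
  | succ e he ih =>
    have h2 : a ^ 2 ≤ a ^ e := Nat.pow_le_pow_right (by omega) he
    have : a ^ (e + 1) = a * a ^ e := by ring
    nlinarith

/-- `3 e ≤ 2^e + 1` for `e ≥ 3` -/
theorem ineq_two : ∀ e, 3 ≤ e → e * (2 + 1) ≤ 2 ^ e + 1 := by
  intro e he
  induction e, he using Nat.le_induction with
  | base => norm_num
  | succ e he ih =>
    have h2 : 2 ^ 3 ≤ 2 ^ e := Nat.pow_le_pow_right (by omega) he
    have : 2 ^ (e + 1) = 2 * 2 ^ e := by ring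
    omega

/-- `e (a + 1) ≤ a^e + 1` unless `(a,e) = (2,2)` -/
theorem ineq (a e : ℕ) (ha : 2 ≤ a) (he : 1 ≤ e) (hexc : ¬ (a = 2 ∧ e = 2)) :
    e * (a + 1) ≤ a ^ e + 1 := by
  rcases Nat.lt_or_ge e 2 with h | h
  · have : e = 1 := by omega
    subst this; simp
  · rcases Nat.lt_or_ge a 3 with h3 | h3
    · have h2 : a = 2 := by omega
      subst h2
      exact ineq_two e (by omega)
    · exact ineq_three a h3 e h

/-- the geometric sum inequality for `d ≥ 3` -/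
theorem geom_le_three (a e : ℕ) (ha : 2 ≤ a) (he : 1 ≤ e) :
    ∀ d, 3 ≤ d → e * ∑ i ∈ range d, a ^ i ≤ ∑ i ∈ range d, (a ^ e) ^ i := by
  intro d hd
  induction d, hd using Nat.le_induction with
  | base =>
    simp only [sum_range_succ, sum_range_zero, pow_zero, pow_one, zero_add]
    have h1 : e * a ≤ a ^ e := by simpa using term_le a e 1 ha he le_rfl
    have h2 : e * (a ^ 2 + 1) ≤ (a ^ 2) ^ e + 1 :=
      ineq (a ^ 2) e (by nlinarith) he (by
        rintro ⟨h, -⟩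
        nlinarith)
    have h3 : (a ^ e) ^ 2 = (a ^ 2) ^ e := by rw [← pow_mul, ← pow_mul, mul_comm]
    rw [h3]
    nlinarith
  | succ d hd ih =>
    rw [sum_range_succ, sum_range_succ, mul_add]
    exact add_le_add ih (term_le a e d ha he (by omega))

/-- the geometric sum inequality, general form -/
theorem geom_le (a e d : ℕ) (ha : 2 ≤ a) (he : 1 ≤ e) (hd : 2 ≤ d)
    (hexc : ¬ (d = 2 ∧ a ^ e = 4)) :
    e * ∑ i ∈ range d, a ^ i ≤ ∑ i ∈ range d, (a ^ e) ^ i := by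
  rcases Nat.lt_or_ge d 3 with h | h
  · have h2 : d = 2 := by omega
    subst h2
    simp only [sum_range_succ, sum_range_zero, pow_zero, pow_one, zero_add]
    have := ineq a e ha he (by
      rintro ⟨rfl, rfl⟩
      exact hexc ⟨rfl, by norm_num⟩)
    linarith
  · exact geom_le_three a e ha he d h

/-- `2e * a^i ≤ (a^e)^i` for `i ≥ 2`, `e ≥ 2` -/
theorem term_le_two (a e i : ℕ) (ha : 2 ≤ a) (he : 2 ≤ e) (hi : 2 ≤ i) :
    2 * e * a ^ i ≤ (a ^ e) ^ i := by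
  have h1 : (a ^ e) ^ i = a ^ i * a ^ ((e - 1) * i) := by
    rw [← pow_mul, ← pow_add]
    congr 1
    obtain ⟨k, rfl⟩ : ∃ k, e = k + 1 := ⟨e - 1, by omega⟩
    simp; ring
  rw [h1, mul_comm]
  apply Nat.mul_le_mul_left
  have h4 : 2 * e ≤ 4 ^ (e - 1) := by
    obtain ⟨k, rfl⟩ : ∃ k, e = k + 2 := ⟨e - 2, by omega⟩
    have : k + 2 - 1 = k + 1 := by omega
    rw [this]
    have hk : k + 1 < 2 ^ (k + 1) := Nat.lt_two_pow_self
    have : (4 : ℕ) ^ (k + 1) = 2 ^ (k + 1) * 2 ^ (k + 1) := by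
      rw [← mul_pow]; norm_num
    have h2 : 2 ≤ 2 ^ (k + 1) := by
      calc 2 = 2 ^ 1 := by norm_num
        _ ≤ 2 ^ (k + 1) := Nat.pow_le_pow_right (by omega) (by omega)
    nlinarith
  calc 2 * e ≤ 4 ^ (e - 1) := h4
    _ = 2 ^ ((e - 1) * 2) := by rw [pow_mul']; norm_num
    _ ≤ a ^ ((e - 1) * 2) := Nat.pow_le_pow_left ha _
    _ ≤ a ^ ((e - 1) * i) := by
        apply Nat.pow_le_pow_right (by omega)
        exact Nat.mul_le_mul_left _ hi

/-- `4 e ≤ (a^2)^(e-1)` when `e ≥ 3` or `a ≥ 4` -/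
theorem four_mul_le (a e : ℕ) (ha : 2 ≤ a) (he : 2 ≤ e) (hcond : 3 ≤ e ∨ 4 ≤ a) :
    4 * e ≤ (a ^ 2) ^ (e - 1) := by
  obtain ⟨k, rfl⟩ : ∃ k, e = k + 2 := ⟨e - 2, by omega⟩
  have hk1 : k + 2 - 1 = k + 1 := by omega
  rw [hk1]
  rcases hcond with h | h
  · -- e ≥ 3, a ≥ 2 : 4^(k+1) ≥ 4(k+2), k ≥ 1
    have h4 : (4 : ℕ) ^ (k + 1) ≤ (a ^ 2) ^ (k + 1) :=
      Nat.pow_le_pow_left (by nlinarith) _
    have : ∀ k, 1 ≤ k → 4 * (k + 2) ≤ 4 ^ (k + 1) := by
      intro k hk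
      induction k, hk using Nat.le_induction with
      | base => norm_num
      | succ k hk ih =>
        have : (4 : ℕ) ^ (k + 1 + 1) = 4 * 4 ^ (k + 1) := by ring
        omega
    exact (this k (by omega)).trans h4
  · -- a ≥ 4 : 16^(k+1) ≥ 4(k+2)
    have h16 : (16 : ℕ) ^ (k + 1) ≤ (a ^ 2) ^ (k + 1) :=
      Nat.pow_le_pow_left (by nlinarith) _
    have : ∀ k, 4 * (k + 2) ≤ 16 ^ (k + 1) := by
      intro k
      induction k with
      | zero => norm_num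
      | succ k ih =>
        have : (16 : ℕ) ^ (k + 1 + 1) = 16 * 16 ^ (k + 1) := by ring
        omega
    exact (this k).trans h16

/-- the doubled geometric sum inequality, `d ≥ 3` -/
theorem geom_le_two (a e : ℕ) (ha : 2 ≤ a) (he : 2 ≤ e) (hcond : 3 ≤ e ∨ 4 ≤ a) :
    ∀ d, 3 ≤ d → 2 * e * ∑ i ∈ range d, a ^ i ≤ ∑ i ∈ range d, (a ^ e) ^ i := by
  intro d hd
  induction d, hd using Nat.le_induction with
  | base =>
    simp only [sum_range_succ, sum_range_zero, pow_zero, pow_one, zero_add]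
    have h1 := four_mul_le a e ha he hcond
    have h3 : (a ^ e) ^ 2 = a ^ 2 * (a ^ 2) ^ (e - 1) := by
      rw [← pow_mul, ← pow_mul, ← pow_add]
      congr 1
      omega
    have h5 : a + 1 ≤ a ^ 2 - 1 + 0 ∨ True := Or.inr trivial
    have h6 : 1 + a + a ^ 2 ≤ 2 * a ^ 2 := by nlinarith
    calc 2 * e * (1 + a + a ^ 2) ≤ 2 * e * (2 * a ^ 2) := Nat.mul_le_mul_left _ h6
      _ = a ^ 2 * (4 * e) := by ring
      _ ≤ a ^ 2 * (a ^ 2) ^ (e - 1) := Nat.mul_le_mul_left _ h1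
      _ = (a ^ e) ^ 2 := h3.symm
      _ ≤ 1 + a ^ e + (a ^ e) ^ 2 := by omega
  | succ d hd ih =>
    rw [sum_range_succ, sum_range_succ, mul_add]
    exact add_le_add ih (term_le_two a e d ha he (by omega))

end Cfsg.Agent.S2262P.ARI
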