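import Mathlib
import Cfsg.Agent.Helper9.S2262ARI

/-! S2262 piece ARI1. -/

set_option autoImplicit false

namespace Cfsg.Agent.S2262P

open Finset

/-- ARI1 (pure arithmetic): `e G(q₀) ≤ G(q₀^e)`. -/
theorem arith_one (p f e d M : ℕ) (hp : p.Prime) (hf : 1 ≤ f) (he : 1 ≤ e) (hef : e ∣ f)
    (hd : 2 ≤ d) (hexc : ¬ (d = 2 ∧ p ^ f = 4))
    (hM : (p ^ (f / e) - 1) * M ≤ (p ^ (f / e)) ^ d - 1) :
    (p ^ f - 1) * (e * M) ≤ (p ^ f) ^ d - 1 := by
  have hk : 1 ≤ f / e := by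
    obtain ⟨k, rfl⟩ := hef
    rw [Nat.mul_div_cancel_left _ (by omega : 0 < e)]
    rcases Nat.eq_zero_or_pos k with h | h
    · subst h; simp at hf
    · exact h
  set a := p ^ (f / e) with ha_def
  have ha : 2 ≤ a := by
    calc 2 ≤ p := hp.two_le
      _ = p ^ 1 := (pow_one p).symm
      _ ≤ p ^ (f / e) := Nat.pow_le_pow_right hp.pos hk
  have hq : p ^ f = a ^ e := by
    rw [ha_def, ← pow_mul, Nat.div_mul_cancel hef]
  rw [hq] at hexc ⊢
  have hM' : M ≤ ∑ i ∈ range d, a ^ i := by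
    rw [← ARI.pred_mul_geom a d (by omega)] at hM
    exact Nat.le_of_mul_le_mul_left hM (by omega)
  have hq1 : 1 ≤ a ^ e := Nat.one_le_pow _ _ (by omega)
  rw [← ARI.pred_mul_geom (a ^ e) d hq1]
  apply Nat.mul_le_mul_left
  calc e * M ≤ e * ∑ i ∈ range d, a ^ i := Nat.mul_le_mul_left _ hM'
    _ ≤ ∑ i ∈ range d, (a ^ e) ^ i := ARI.geom_le a e d ha he hd hexc

end Cfsg.Agent.S2262P
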