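import Mathlib
import Cfsg.Agent.Helper3.S4411Defs
import Cfsg.Agent.Lead.PSolvHall
import Cfsg.Agent.Helper21.PSolv

set_option autoImplicit false

/-! # S4411 board, piece HALLPQ

A `p`-solvable finite group has a Hall `{p,q}`-subgroup containing a given Sylow `p`-subgroup and some Sylow
`q`-subgroup.  Induction on the order (Frattini argument and Schur–Zassenhaus). -/

namespace Cfsg.Agent.S4411P

open Cfsg
open scoped Pointwise

universe u

/-- `IsPQ` from the elements of prime order. -/
theorem HALLPQ_aux_isPQ_of_elts {p q : ℕ} {Y : Type*} [Group Y] [Finite Y]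
    (h : ∀ r : ℕ, r.Prime → ∀ y : Y, orderOf y = r → r = p ∨ r = q) : IsPQ p q Y := by
  intro r hr hdvd
  have : Fact r.Prime := ⟨hr⟩
  obtain ⟨y, hy⟩ := exists_prime_orderOf_dvd_card' r hdvd
  exact h r hr y hy

/-- a group of prime power order `r ^ m`, `r ∈ {p, q}`, is a `{p,q}`-group. -/
theorem HALLPQ_aux_isPQ_of_card_pow {p q r : ℕ} (hr : r.Prime) (hrpq : r = p ∨ r = q) {Y : Type*} [Group Y] {m : ℕ}
    (h : Nat.card Y = r ^ m) : IsPQ p q Y := by
  intro s hs hdvd
  rw [h] at hdvd
  have := (Nat.prime_dvd_prime_iff_eq hs hr).1 (hs.dvd_of_dvd_pow hdvd)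
  rw [this]
  exact hrpq

/-- the full preimage of a `{p,q}`-subgroup of `X ⧸ M` is a `{p,q}`-group when `M` is one. -/
theorem HALLPQ_aux_comap {X : Type*} [Group X] [Finite X] {p q : ℕ} (M : Subgroup X) [M.Normal]
    (hM : IsPQ p q M) (Yb : Subgroup (X ⧸ M)) (hYb : IsPQ p q Yb) :
    IsPQ p q (Yb.comap (QuotientGroup.mk' M)) := by
  apply HALLPQ_aux_isPQ_of_elts
  intro r hr y hy
  have : Fact r.Prime := ⟨hr⟩
  by_cases h1 : (y : X) ∈ M
  · have h2 := Subgroup.orderOf_dvd_natCard M h1
    rw [Subgroup.orderOf_coe, hy] at h2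
    exact hM r hr h2
  · have hymem : QuotientGroup.mk' M (y : X) ∈ Yb := y.2
    let yb : Yb := ⟨QuotientGroup.mk' M (y : X), hymem⟩
    have hyb : yb ^ r = 1 := by
      apply Subtype.ext
      show (QuotientGroup.mk' M (y : X)) ^ r = 1
      rw [← map_pow]
      have : (y : X) ^ r = 1 := by
        have := pow_orderOf_eq_one y
        rw [hy] at this
        have h3 := congrArg (fun z : Yb.comap (QuotientGroup.mk' M) => (z : X)) this
        simpa using h3
      rw [this, map_one]
    have hyb1 : yb ≠ 1 := by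
      intro h
      have h3 : QuotientGroup.mk' M (y : X) = 1 := congrArg Subtype.val h
      exact h1 ((QuotientGroup.eq_one_iff _).1 h3)
    have h4 : orderOf yb = r := orderOf_eq_prime hyb hyb1
    exact hYb r hr (h4 ▸ orderOf_dvd_natCard yb)

/-- a Hall subgroup of a subgroup of index prime to `p` and `q` is one of the whole group. -/
theorem HALLPQ_aux_sub {X : Type*} [Group X] [Finite X] {p q : ℕ} (hp : p.Prime) (hq : q.Prime) (Y₀ : Subgroup X)
    (h0p : ¬ p ∣ Y₀.index) (h0q : ¬ q ∣ Y₀.index)
    (h : ∃ Y₁ : Subgroup Y₀, IsPQ p q Y₁ ∧ ¬ p ∣ Y₁.index ∧ ¬ q ∣ Y₁.index) :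
    ∃ Y : Subgroup X, IsPQ p q Y ∧ ¬ p ∣ Y.index ∧ ¬ q ∣ Y.index := by
  obtain ⟨Y₁, h1, h1p, h1q⟩ := h
  refine ⟨Y₁.map Y₀.subtype, ?_, ?_, ?_⟩
  · intro r hr hdvd
    rw [Subgroup.card_map_of_injective Y₀.subtype_injective] at hdvd
    exact h1 r hr hdvd
  · rw [Subgroup.index_map_subtype]
    intro hd
    rcases (Nat.Prime.dvd_mul hp).1 hd with hd | hd
    · exact h1p hd
    · exact h0p hd
  · rw [Subgroup.index_map_subtype]
    intro hd
    rcases (Nat.Prime.dvd_mul hq).1 hd with hd | hd
    · exact h1q hd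
    · exact h0q hd

theorem HALLPQ_aux_card_lt {X : Type*} [Group X] [Finite X] (Y₀ : Subgroup X) (h : Y₀ ≠ ⊤) :
    Nat.card Y₀ < Nat.card X := by
  rw [← Y₀.index_mul_card]
  exact lt_mul_of_one_lt_left Nat.card_pos (Subgroup.one_lt_index_of_ne_top h)

theorem HALLPQ_aux_card_quot_lt {X : Type*} [Group X] [Finite X] (M : Subgroup X) [M.Normal] (h : M ≠ ⊥) :
    Nat.card (X ⧸ M) < Nat.card X := by
  rw [← Subgroup.index_eq_card, ← M.index_mul_card]
  exact lt_mul_of_one_lt_right (Nat.pos_of_ne_zero Subgroup.index_ne_zero_of_finite)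
    (M.one_lt_card_iff_ne_bot.mpr h)

/-- the Frattini step: the index of `N_X(Q₀)` divides the index of the Sylow `q`-subgroup `Q₀` of `M` in `M`. -/
theorem HALLPQ_aux_frattini_index {X : Type*} [Group X] [Finite X] {q : ℕ} [Fact q.Prime] (M : Subgroup X) [M.Normal]
    (Q₀ : Sylow q M) :
    (Subgroup.normalizer (((Q₀ : Subgroup M).map M.subtype : Subgroup X) : Set X)).index ∣ (Q₀ : Subgroup M).index := by
  set NN := Subgroup.normalizer (((Q₀ : Subgroup M).map M.subtype : Subgroup X) : Set X) with hNN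
  have hsup : NN ⊔ M = ⊤ := Sylow.normalizer_sup_eq_top Q₀
  -- `|NN : NN ∩ M| = |X : M|`
  have h4 : (M.subgroupOf NN).index = M.index := by
    rw [← M.relIndex_top_right, ← hsup]
    exact (Subgroup.relIndex_sup_right NN M).symm
  -- `Q₀' ≤ NN ∩ M`
  have hQle : (Q₀ : Subgroup M).map M.subtype ≤ M ⊓ NN := by
    refine le_inf ?_ Subgroup.le_normalizer
    rintro _ ⟨a, -, rfl⟩
    exact a.2
  have hcardQ : Nat.card ((Q₀ : Subgroup M).map M.subtype) = Nat.card (Q₀ : Subgroup M) :=
    Subgroup.card_map_of_injective M.subtype_injective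
  have hcardI : Nat.card (M.subgroupOf NN) = Nat.card (M ⊓ NN : Subgroup X) := by
    rw [← Subgroup.subgroupOf_map_subtype M NN]
    exact (Subgroup.card_map_of_injective NN.subtype_injective).symm
  obtain ⟨c, hc⟩ : Nat.card (Q₀ : Subgroup M) ∣ Nat.card (M.subgroupOf NN) := by
    rw [hcardI, ← hcardQ]
    exact Subgroup.card_dvd_of_le hQle
  -- count
  have e1 : NN.index * Nat.card NN = Nat.card X := NN.index_mul_card
  have e2 : (M.subgroupOf NN).index * Nat.card (M.subgroupOf NN) = Nat.card NN := (M.subgroupOf NN).index_mul_card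
  have e3 : M.index * Nat.card M = Nat.card X := M.index_mul_card
  have e4 : (Q₀ : Subgroup M).index * Nat.card (Q₀ : Subgroup M) = Nat.card M := (Q₀ : Subgroup M).index_mul_card
  have hMpos : 0 < M.index := Nat.pos_of_ne_zero Subgroup.index_ne_zero_of_finite
  have hQpos : 0 < Nat.card (Q₀ : Subgroup M) := Nat.card_pos
  rw [h4] at e2
  have e5 : NN.index * c = (Q₀ : Subgroup M).index := by
    have : M.index * Nat.card (Q₀ : Subgroup M) * (NN.index * c) =
        M.index * Nat.card (Q₀ : Subgroup M) * (Q₀ : Subgroup M).index := by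
      calc M.index * Nat.card (Q₀ : Subgroup M) * (NN.index * c)
          = NN.index * (M.index * (Nat.card (Q₀ : Subgroup M) * c)) := by ring
        _ = NN.index * (M.index * Nat.card (M.subgroupOf NN)) := by rw [hc]
        _ = Nat.card X := by rw [e2, e1]
        _ = M.index * ((Q₀ : Subgroup M).index * Nat.card (Q₀ : Subgroup M)) := by rw [e4, e3]
        _ = M.index * Nat.card (Q₀ : Subgroup M) * (Q₀ : Subgroup M).index := by ring
    exact Nat.eq_of_mul_eq_mul_left (Nat.mul_pos hMpos hQpos) this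
  exact ⟨c, e5.symm⟩

/-- existence of a Hall `{p,q}`-subgroup of a `p`-solvable group. -/
theorem HALLPQ_aux_exists (p q : ℕ) [Fact p.Prime] [Fact q.Prime] (hpq : p ≠ q) :
    ∀ n : ℕ, ∀ (X : Type u) [Group X] [Finite X], Nat.card X = n → Cfsg.IsPSolvable p X →
      ∃ Y : Subgroup X, IsPQ p q Y ∧ ¬ p ∣ Y.index ∧ ¬ q ∣ Y.index := by
  have hp : p.Prime := Fact.out
  have hq : q.Prime := Fact.out
  intro n
  induction n using Nat.strong_induction_on with
  | _ n ih =>
  intro X _ _ hn hX
  by_cases htriv : Subsingleton X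
  · refine ⟨⊤, ?_, ?_, ?_⟩
    · intro r hr hdvd
      rw [Subgroup.card_top, Nat.card_of_subsingleton (1 : X)] at hdvd
      exact absurd (Nat.dvd_one.1 hdvd) hr.ne_one
    · rw [Subgroup.index_top]
      exact fun h => hp.ne_one (Nat.dvd_one.1 h)
    · rw [Subgroup.index_top]
      exact fun h => hq.ne_one (Nat.dvd_one.1 h)
  · have hnt : Nontrivial X := not_subsingleton_iff_nontrivial.1 htriv
    obtain ⟨M, hMn, hMne, hM⟩ := Cfsg.Agent.Lead.exists_normal_of_isPSolvable hX
    have hquot_lt : Nat.card (X ⧸ M) < n := hn ▸ HALLPQ_aux_card_quot_lt M hMne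
    obtain ⟨Yb, hYb, hYbp, hYbq⟩ :=
      ih _ hquot_lt (X ⧸ M) rfl (Cfsg.Agent.Lead.isPSolvable_quotient hX M)
    have hsurj : Function.Surjective (QuotientGroup.mk' M) := QuotientGroup.mk'_surjective M
    rcases hM with ⟨m, hm⟩ | hcop
    · -- `M` is a `p`-group: full preimage
      refine ⟨Yb.comap (QuotientGroup.mk' M),
        HALLPQ_aux_comap M (HALLPQ_aux_isPQ_of_card_pow hp (Or.inl rfl) hm) Yb hYb, ?_, ?_⟩
      · rw [Subgroup.index_comap_of_surjective _ hsurj]
        exact hYbp
      · rw [Subgroup.index_comap_of_surjective _ hsurj]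
        exact hYbq
    · -- `M` is a `p'`-group
      set Y₀ := Yb.comap (QuotientGroup.mk' M) with hY₀
      have hY₀p : ¬ p ∣ Y₀.index := by
        rw [hY₀, Subgroup.index_comap_of_surjective _ hsurj]
        exact hYbp
      have hY₀q : ¬ q ∣ Y₀.index := by
        rw [hY₀, Subgroup.index_comap_of_surjective _ hsurj]
        exact hYbq
      by_cases hY₀top : Y₀ = ⊤
      · -- `X ⧸ M` is a `{p,q}`-group
        have hYbtop : Yb = ⊤ := by
          rw [eq_top_iff]
          intro xb _
          obtain ⟨x, rfl⟩ := hsurj xb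
          have : x ∈ Y₀ := by rw [hY₀top]; exact Subgroup.mem_top x
          exact this
        have hXM : IsPQ p q (X ⧸ M) := by
          intro r hr hdvd
          apply hYb r hr
          rw [hYbtop, Subgroup.card_top]
          exact hdvd
        have Q₀ : Sylow q M := default
        set NN := Subgroup.normalizer (((Q₀ : Subgroup M).map M.subtype : Subgroup X) : Set X) with hNN
        have hNNdvd : NN.index ∣ (Q₀ : Subgroup M).index := HALLPQ_aux_frattini_index M Q₀
        have hNNq : ¬ q ∣ NN.index := fun h => Q₀.not_dvd_index (h.trans hNNdvd)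
        have hNNp : ¬ p ∣ NN.index := by
          intro h
          have h1 : p ∣ Nat.card M := (h.trans hNNdvd).trans (Q₀ : Subgroup M).index_dvd_card
          have h2 : p ∣ Nat.gcd (Nat.card M) p := Nat.dvd_gcd h1 dvd_rfl
          rw [hcop] at h2
          exact hp.ne_one (Nat.dvd_one.1 h2)
        by_cases hNNtop : NN = ⊤
        · -- `Q₀` is normal in `X`
          have hQn : ((Q₀ : Subgroup M).map M.subtype : Subgroup X).Normal :=
            Subgroup.normalizer_eq_top_iff.1 hNNtop
          by_cases hQbot : ((Q₀ : Subgroup M).map M.subtype : Subgroup X) = ⊥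
          · -- `M` is a `{p,q}'`-group: Schur–Zassenhaus
            have hqM : ¬ q ∣ Nat.card M := by
              intro h
              apply Q₀.ne_bot_of_dvd_card h
              rw [eq_bot_iff]
              intro a ha
              have : (a : X) ∈ ((Q₀ : Subgroup M).map M.subtype : Subgroup X) := ⟨a, ha, rfl⟩
              rw [hQbot, Subgroup.mem_bot] at this
              rw [Subgroup.mem_bot]
              exact Subtype.ext this
            have hcopr : (Nat.card M).Coprime M.index := by
              apply Nat.Coprime.symm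
              apply Nat.coprime_of_dvd
              intro r hr hr1 hr2
              rw [Subgroup.index_eq_card] at hr1
              rcases hXM r hr hr1 with rfl | rfl
              · have h2 : r ∣ Nat.gcd (Nat.card M) r := Nat.dvd_gcd hr2 dvd_rfl
                rw [hcop] at h2
                exact hr.ne_one (Nat.dvd_one.1 h2)
              · exact hqM hr2
            obtain ⟨Y, hY⟩ := Subgroup.exists_right_complement'_of_coprime hcopr
            have hYcard : Nat.card Y = M.index := (hY.symm.index_eq_card).symm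
            have hYindex : Y.index = Nat.card M := hY.index_eq_card
            refine ⟨Y, ?_, ?_, ?_⟩
            · intro r hr hdvd
              rw [hYcard, Subgroup.index_eq_card] at hdvd
              exact hXM r hr hdvd
            · rw [hYindex]
              intro h
              have h2 : p ∣ Nat.gcd (Nat.card M) p := Nat.dvd_gcd h dvd_rfl
              rw [hcop] at h2
              exact hp.ne_one (Nat.dvd_one.1 h2)
            · rw [hYindex]
              exact hqM
          · -- induction in `X ⧸ Q₀`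
            set Q' := ((Q₀ : Subgroup M).map M.subtype : Subgroup X) with hQ'
            have hQ'card : ∃ m : ℕ, Nat.card Q' = q ^ m := by
              have hQpg : IsPGroup q Q' := Q₀.isPGroup'.map M.subtype
              exact (IsPGroup.iff_card).1 hQpg
            obtain ⟨m, hm⟩ := hQ'card
            have hlt : Nat.card (X ⧸ Q') < n := hn ▸ HALLPQ_aux_card_quot_lt Q' hQbot
            obtain ⟨Zb, hZb, hZbp, hZbq⟩ :=
              ih _ hlt (X ⧸ Q') rfl (Cfsg.Agent.Lead.isPSolvable_quotient hX Q')
            have hsurj' : Function.Surjective (QuotientGroup.mk' Q') := QuotientGroup.mk'_surjective Q'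
            refine ⟨Zb.comap (QuotientGroup.mk' Q'),
              HALLPQ_aux_comap Q' (HALLPQ_aux_isPQ_of_card_pow hq (Or.inr rfl) hm) Zb hZb, ?_, ?_⟩
            · rw [Subgroup.index_comap_of_surjective _ hsurj']
              exact hZbp
            · rw [Subgroup.index_comap_of_surjective _ hsurj']
              exact hZbq
        · -- induction inside `NN`
          apply HALLPQ_aux_sub hp hq NN hNNp hNNq
          exact ih _ (hn ▸ HALLPQ_aux_card_lt NN hNNtop) NN rfl
            (Cfsg.Agent.Helper21.PSolv.isPSolvable_subgroup hp hX NN)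
      · -- induction inside `Y₀`
        apply HALLPQ_aux_sub hp hq Y₀ hY₀p hY₀q
        exact ih _ (hn ▸ HALLPQ_aux_card_lt Y₀ hY₀top) Y₀ rfl
          (Cfsg.Agent.Helper21.PSolv.isPSolvable_subgroup hp hX Y₀)

/-- a subgroup of index prime to `r` contains a Sylow `r`-subgroup. -/
theorem HALLPQ_aux_sylow {X : Type*} [Group X] [Finite X] {r : ℕ} [Fact r.Prime] (Y : Subgroup X)
    (h : ¬ r ∣ Y.index) : ∃ S : Sylow r X, (S : Subgroup X) ≤ Y := by
  have hr : r.Prime := Fact.out
  have P₁ : Sylow r Y := default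
  have hpg : IsPGroup r ((P₁ : Subgroup Y).map Y.subtype) := P₁.isPGroup'.map Y.subtype
  have hidx : ¬ r ∣ ((P₁ : Subgroup Y).map Y.subtype).index := by
    rw [Subgroup.index_map_subtype]
    intro hd
    rcases (Nat.Prime.dvd_mul hr).1 hd with hd | hd
    · exact P₁.not_dvd_index hd
    · exact h hd
  refine ⟨hpg.toSylow hidx, ?_⟩
  show (P₁ : Subgroup Y).map Y.subtype ≤ Y
  rintro _ ⟨a, -, rfl⟩
  exact a.2

/-- a `p`-solvable group has a Hall `{p,q}`-subgroup containing a given Sylow `p`-subgroup and some Sylow `q`-subgroup. -/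
theorem HALLPQ {X : Type u} [Group X] [Finite X] (p q : ℕ) [Fact p.Prime] [Fact q.Prime] (hpq : p ≠ q)
    (hX : Cfsg.IsPSolvable p X) (R : Sylow p X) :
    ∃ Y : Subgroup X, (R : Subgroup X) ≤ Y ∧ IsPQ p q ↥Y ∧ ∃ Q : Sylow q X, (Q : Subgroup X) ≤ Y := by
  obtain ⟨Y, hY, hYp, hYq⟩ := HALLPQ_aux_exists p q hpq _ X rfl hX
  obtain ⟨S, hS⟩ := HALLPQ_aux_sylow Y hYp
  obtain ⟨g, hg⟩ := MulAction.exists_smul_eq X S R
  have hidx : (MulAut.conj g • Y).index = Y.index := by
    rw [Subgroup.pointwise_smul_def]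
    exact Subgroup.index_map_equiv Y (MulAut.conj g)
  have hcard : Nat.card (MulAut.conj g • Y : Subgroup X) = Nat.card Y := by
    rw [Subgroup.pointwise_smul_def]
    exact Subgroup.card_map_of_injective (MulAut.conj g).injective
  refine ⟨MulAut.conj g • Y, ?_, ?_, ?_⟩
  · rw [← hg, Sylow.coe_subgroup_smul]
    exact Subgroup.pointwise_smul_le_pointwise_smul_iff.2 hS
  · intro r hr hdvd
    rw [hcard] at hdvd
    exact hY r hr hdvd
  · exact HALLPQ_aux_sylow _ (hidx ▸ hYq)

end Cfsg.Agent.S4411P
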