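import Mathlib
import Cfsg.Agent.Helper4.S5033Defs
open Cfsg Cfsg.Agent.S5033P
open scoped Pointwise commutatorElement

set_option autoImplicit false

/-! S5033 board, piece GEN: general group theory (no root subgroups). -/

namespace Cfsg.Agent.S5033P

variable {G : Type*} [Group G] {S : Set (Subgroup G)}

/-- GEN: elementwise form of `M ⊔ A` when `A` normalises `M`. -/
theorem GEN.mem_sup {A M : Subgroup G} (hn : A ≤ Subgroup.normalizer (M : Set G)) {x : G}
    (hx : x ∈ M ⊔ A) : ∃ m ∈ M, ∃ a ∈ A, x = m * a := by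
  have h : ((M ⊔ A : Subgroup G) : Set G) = (M : Set G) * (A : Set G) :=
    Subgroup.coe_mul_of_right_le_normalizer_left M A hn
  have hx' : x ∈ ((M ⊔ A : Subgroup G) : Set G) := hx
  rw [h] at hx'
  obtain ⟨m, hm, a, ha, rfl⟩ := Set.mem_mul.1 hx'
  exact ⟨m, hm, a, ha, rfl⟩

/-- auxiliary: the commutator of `m a` and `m' b` for commuting `a`, `b`. -/
theorem GEN_aux_comm_formula (m a m' b : G) (hab : a * b = b * a) :
    ⁅m * a, m' * b⁆ = m * (a * m' * a⁻¹) * (b * m⁻¹ * b⁻¹) * m'⁻¹ := by
  have hba : b * a⁻¹ = a⁻¹ * b := by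
    have h1 : a⁻¹ * (a * b) * a⁻¹ = a⁻¹ * (b * a) * a⁻¹ := by rw [hab]
    simpa [mul_assoc] using h1
  rw [commutatorElement_def]
  simp only [mul_inv_rev, mul_assoc]
  rw [← mul_assoc b a⁻¹, hba, mul_assoc]

/-- GEN: an abelian subgroup `A` normalising `M`: `(M ⊔ A)' ≤ M`. -/
theorem GEN.comm_sup_le {A M : Subgroup G} (hA : IsMulCommutative A)
    (hn : A ≤ Subgroup.normalizer (M : Set G)) : ⁅M ⊔ A, M ⊔ A⁆ ≤ M := by
  have hnorm : ∀ g ∈ A, ∀ m ∈ M, g * m * g⁻¹ ∈ M := by
    intro g hg m hm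
    exact (Subgroup.mem_normalizer_iff.1 (hn hg) m).1 hm
  rw [Subgroup.commutator_le]
  intro x hx y hy
  obtain ⟨m, hm, a, ha, rfl⟩ := GEN.mem_sup hn hx
  obtain ⟨m', hm', b, hb, rfl⟩ := GEN.mem_sup hn hy
  have hab : a * b = b * a := by
    have := hA.is_comm.comm (⟨a, ha⟩ : A) ⟨b, hb⟩
    exact congrArg Subtype.val this
  rw [GEN_aux_comm_formula m a m' b hab]
  exact mul_mem (mul_mem (mul_mem hm (hnorm a ha m' hm')) (hnorm b hb m⁻¹ (inv_mem hm)))
    (inv_mem hm')

/-- GEN: two abelian subgroups whose mutual commutator lies in the normal subgroup `N`. -/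
theorem GEN.comm_le_normal {N A D : Subgroup G} (hN : N.Normal) (hA : IsMulCommutative A)
    (hD : IsMulCommutative D) (h : ⁅A, D⁆ ≤ N) : ⁅A ⊔ D, A ⊔ D⁆ ≤ N := by
  -- pass to the quotient `G ⧸ N`: the images of `A` and `D` are abelian and commute
  have _inst : N.Normal := hN
  rw [← QuotientGroup.ker_mk' N, ← MonoidHom.comap_bot, ← Subgroup.map_le_iff_le_comap,
    Subgroup.map_commutator, Subgroup.map_sup]
  set π := QuotientGroup.mk' N with hπ
  -- the closure of a commuting set is abelian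
  have hcomm : ∀ x ∈ ((A.map π : Subgroup (G ⧸ N)) : Set (G ⧸ N)) ∪ (D.map π : Subgroup (G ⧸ N)),
      ∀ y ∈ ((A.map π : Subgroup (G ⧸ N)) : Set (G ⧸ N)) ∪ (D.map π : Subgroup (G ⧸ N)),
      x * y = y * x := by
    have hAD : ∀ a ∈ A, ∀ d ∈ D, π a * π d = π d * π a := by
      intro a ha d hd
      have hc : ⁅a, d⁆ ∈ N := h (Subgroup.commutator_mem_commutator ha hd)
      have h1 : π ⁅a, d⁆ = 1 := by
        rw [hπ, QuotientGroup.mk'_apply, QuotientGroup.eq_one_iff]; exact hc
      rw [map_commutatorElement, commutatorElement_eq_one_iff_mul_comm] at h1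
      exact h1
    rintro x (hx | hx) y (hy | hy)
    · obtain ⟨a, ha, rfl⟩ := hx
      obtain ⟨b, hb, rfl⟩ := hy
      have := hA.is_comm.comm (⟨a, ha⟩ : A) ⟨b, hb⟩
      have h2 : a * b = b * a := congrArg Subtype.val this
      rw [← map_mul, ← map_mul, h2]
    · obtain ⟨a, ha, rfl⟩ := hx
      obtain ⟨d, hd, rfl⟩ := hy
      exact hAD a ha d hd
    · obtain ⟨d, hd, rfl⟩ := hx
      obtain ⟨a, ha, rfl⟩ := hy
      exact (hAD a ha d hd).symm
    · obtain ⟨a, ha, rfl⟩ := hx
      obtain ⟨b, hb, rfl⟩ := hy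
      have := hD.is_comm.comm (⟨a, ha⟩ : D) ⟨b, hb⟩
      have h2 : a * b = b * a := congrArg Subtype.val this
      rw [← map_mul, ← map_mul, h2]
  rw [Subgroup.commutator_le]
  intro x hx y hy
  rw [Subgroup.mem_bot, commutatorElement_eq_one_iff_mul_comm]
  have hcl : A.map π ⊔ D.map π = Subgroup.closure
      (((A.map π : Subgroup (G ⧸ N)) : Set (G ⧸ N)) ∪ (D.map π : Subgroup (G ⧸ N))) := by
    rw [Subgroup.closure_union, Subgroup.closure_eq, Subgroup.closure_eq]
  rw [hcl] at hx hy
  -- commutativity of a closure of a commuting set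
  have key : ∀ z ∈ Subgroup.closure
      (((A.map π : Subgroup (G ⧸ N)) : Set (G ⧸ N)) ∪ (D.map π : Subgroup (G ⧸ N))),
      ∀ w ∈ Subgroup.closure
      (((A.map π : Subgroup (G ⧸ N)) : Set (G ⧸ N)) ∪ (D.map π : Subgroup (G ⧸ N))),
      z * w = w * z := by
    intro z hz w hw
    have hcent : Subgroup.closure
        (((A.map π : Subgroup (G ⧸ N)) : Set (G ⧸ N)) ∪ (D.map π : Subgroup (G ⧸ N))) ≤
        Subgroup.centralizer (((A.map π : Subgroup (G ⧸ N)) : Set (G ⧸ N)) ∪
          (D.map π : Subgroup (G ⧸ N))) := by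
      rw [Subgroup.closure_le]
      intro u hu
      rw [SetLike.mem_coe, Subgroup.mem_centralizer_iff]
      intro v hv
      exact hcomm v hv u hu
    have hcent2 : Subgroup.closure
        (((A.map π : Subgroup (G ⧸ N)) : Set (G ⧸ N)) ∪ (D.map π : Subgroup (G ⧸ N))) ≤
        Subgroup.centralizer ((Subgroup.closure (((A.map π : Subgroup (G ⧸ N)) : Set (G ⧸ N)) ∪
          (D.map π : Subgroup (G ⧸ N))) : Subgroup (G ⧸ N)) : Set (G ⧸ N)) := by
      rw [Subgroup.closure_le]
      intro u hu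
      rw [SetLike.mem_coe, Subgroup.mem_centralizer_iff]
      intro v hv
      have := hcent hv
      rw [Subgroup.mem_centralizer_iff] at this
      exact (this u hu).symm
    have := hcent2 hw
    rw [Subgroup.mem_centralizer_iff] at this
    exact this z hz
  exact key x hx y hy

/-- GEN: an element centralising every member of a generating family is central. -/
theorem GEN.mem_center {n : G} (hgen : (⨆ A ∈ S, A) = ⊤)
    (h : ∀ A ∈ S, ∀ a ∈ A, n * a = a * n) : n ∈ Subgroup.center G := by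
  have hle : (⨆ A ∈ S, A) ≤ Subgroup.centralizer ({n} : Set G) := by
    refine iSup₂_le ?_
    intro A hA a ha
    rw [Subgroup.mem_centralizer_iff]
    intro m hm
    rw [Set.mem_singleton_iff] at hm
    subst hm
    exact h A hA a ha
  rw [hgen] at hle
  rw [Subgroup.mem_center_iff]
  intro g
  have := hle (Subgroup.mem_top g)
  rw [Subgroup.mem_centralizer_iff] at this
  exact (this n rfl).symm

/-- GEN: `G` generated by subgroups whose pairwise commutators lie in `N ⊴ G`: `G' ≤ N`. -/
theorem GEN.commutator_le {N : Subgroup G} (hN : N.Normal) (hgen : (⨆ A ∈ S, A) = ⊤)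
    (h : ∀ A ∈ S, ∀ B ∈ S, ⁅A, B⁆ ≤ N) : commutator G ≤ N := by
  have _inst : N.Normal := hN
  -- in `G ⧸ N` every image of an element of a member is central
  set π := QuotientGroup.mk' N with hπ
  have hcomm : ∀ A ∈ S, ∀ a ∈ A, ∀ B ∈ S, ∀ b ∈ B, π a * π b = π b * π a := by
    intro A hA a ha B hB b hb
    have hc : ⁅a, b⁆ ∈ N := h A hA B hB (Subgroup.commutator_mem_commutator ha hb)
    have h1 : π ⁅a, b⁆ = 1 := by
      rw [hπ, QuotientGroup.mk'_apply, QuotientGroup.eq_one_iff]; exact hc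
    rw [map_commutatorElement, commutatorElement_eq_one_iff_mul_comm] at h1
    exact h1
  -- every element of `G` maps into the centre of `G ⧸ N`
  have hcent1 : ∀ A ∈ S, ∀ a ∈ A, ∀ g : G, π a * π g = π g * π a := by
    intro A hA a ha g
    have hle : (⨆ B ∈ S, B) ≤ (Subgroup.centralizer ({π a} : Set (G ⧸ N))).comap π := by
      refine iSup₂_le ?_
      intro B hB b hb
      rw [Subgroup.mem_comap, Subgroup.mem_centralizer_iff]
      intro m hm
      rw [Set.mem_singleton_iff] at hm
      subst hm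
      exact hcomm A hA a ha B hB b hb
    rw [hgen] at hle
    have := hle (Subgroup.mem_top g)
    rw [Subgroup.mem_comap, Subgroup.mem_centralizer_iff] at this
    exact this (π a) rfl
  have hcent2 : ∀ x g : G, π x * π g = π g * π x := by
    intro x g
    have hle : (⨆ B ∈ S, B) ≤ (Subgroup.centralizer ({π g} : Set (G ⧸ N))).comap π := by
      refine iSup₂_le ?_
      intro B hB b hb
      rw [Subgroup.mem_comap, Subgroup.mem_centralizer_iff]
      intro m hm
      rw [Set.mem_singleton_iff] at hm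
      subst hm
      exact (hcent1 B hB b hb g).symm
    rw [hgen] at hle
    have := hle (Subgroup.mem_top x)
    rw [Subgroup.mem_comap, Subgroup.mem_centralizer_iff] at this
    exact (this (π g) rfl).symm
  rw [commutator_def, Subgroup.commutator_le]
  intro x _ y _
  have h1 : π ⁅x, y⁆ = 1 := by
    rw [map_commutatorElement, commutatorElement_eq_one_iff_mul_comm]
    exact hcent2 x y
  rw [hπ, QuotientGroup.mk'_apply, QuotientGroup.eq_one_iff] at h1
  exact h1

end Cfsg.Agent.S5033P
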