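import Cfsg.Agent.Helper29.OC2K.Main
import Cfsg.Agent.Helper17.OC2KC2Defs
import Cfsg.Agent.Helper17.OC2KC2PM

set_option autoImplicit false
set_option linter.unusedSectionVars false
set_option linter.unusedVariables false

/-! # OC2K chapter CHAR2, piece WITT (driver helper17; hedge by helper9): blocks of rank 4 which are
not of plus type contain no totally singular 2-space. -/

namespace Cfsg.Agent.OC2K

open Matrix Cfsg.Agent.Helper28.Sg Cfsg.Agent.Helper28.Spin Cfsg.Agent.Helper12.OrthGen
  Cfsg.Agent.S2614 Cfsg.Agent.S5683P Cfsg.Agent.Helper28.NDM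

variable {F : Type*} [Field F] [Fintype F] {t k : ℕ} {ι : Type} [Fintype ι] [DecidableEq ι] {Q : QuadraticForm F (ι → F)} [QHyp Q] {D : Fin t → Submodule F (ι → F)}
  {M : Subgroup (OGq Q)}

/-- WITT (S-M). -/
theorem C2.WITT.of_minus (hD : HD Q k D) (hk4 : k = 4)
    (hminus : ∀ i, ¬ Cfsg.Geo.IsPlusTypeOn (⇑Q) (D i)) : C2.Witt1 Q D := by
  classical
  intro c x hx x' hx' hQx hQx' hxx' hx0
  by_contra hcon
  push Not at hcon
  apply hminus c
  have hli : LinearIndependent F ![x, x'] := by
    rw [LinearIndependent.pair_iff' hx0]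
    intro s hs
    exact hcon s hs.symm
  refine ⟨Submodule.span F (Set.range ![x, x']), ?_, ?_, ?_⟩
  · rw [Submodule.span_le]
    rintro z ⟨i, rfl⟩
    fin_cases i
    · exact hx
    · exact hx'
  · intro w hw
    have hr : Set.range ![x, x'] = {x, x'} := by
      rw [Matrix.range_cons, Matrix.range_cons, Matrix.range_empty, Set.union_empty]
      rfl
    rw [hr, Submodule.mem_span_pair] at hw
    obtain ⟨a, b, rfl⟩ := hw
    rw [Q_add, Q_smul, Q_smul, hQx, hQx']
    show a * a * 0 + b * b * 0 + QuadraticMap.polar (⇑Q) (a • x) (b • x') = 0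
    rw [QuadraticMap.polar_smul_left, QuadraticMap.polar_smul_right]
    have : QuadraticMap.polar (⇑Q) x x' = 0 := hxx'
    rw [this]
    simp
  · rw [finrank_span_eq_card hli, hD.rank c, hk4]
    simp

end Cfsg.Agent.OC2K
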