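import Cfsg.Agent.Helper27.S0745Defs

/-!
# S0745 board row CARDSS (helper9): orbit-stabiliser for the action on `j`-sets
-/

set_option autoImplicit false

namespace Cfsg.Agent.S0745P

open Equiv

section aux

variable {α : Type*} [DecidableEq α]

/-- the image of `Δ` under `g`, as a `j`-set -/
theorem card_SS_aux_image_card (Δ : Finset α) (g : Perm α) : (Δ.image g).card = Δ.card :=
  Finset.card_image_of_injective _ g.injective

/-- `g` maps `Δ` onto `s` iff `g x ∈ s ↔ x ∈ Δ`. -/
theorem card_SS_aux_image_eq_iff (Δ s : Finset α) (g : Perm α) :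
    Δ.image g = s ↔ ∀ x, g x ∈ s ↔ x ∈ Δ := by
  constructor
  · rintro rfl x
    rw [Finset.mem_image]
    constructor
    · rintro ⟨y, hy, hyx⟩
      rwa [← g.injective hyx]
    · intro hx
      exact ⟨x, hx, rfl⟩
  · intro h
    ext y
    rw [Finset.mem_image]
    constructor
    · rintro ⟨x, hx, rfl⟩
      exact (h x).mpr hx
    · intro hy
      refine ⟨g⁻¹ y, ?_, by simp⟩
      rw [← h]
      simpa using hy

/-- a finset listing the elements of a subgroup of `Perm α` -/
theorem card_SS_aux_finset [Fintype α] (K : Subgroup (Perm α)) :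
    ∃ KF : Finset (Perm α), (∀ g, g ∈ KF ↔ g ∈ K) ∧ Nat.card K = KF.card := by
  classical
  refine ⟨Finset.univ.filter fun g => g ∈ K, fun g => by simp, ?_⟩
  rw [Nat.card_eq_fintype_card, Fintype.card_subtype]

end aux

variable {α : Type*} [Fintype α] [DecidableEq α]

/-- CARDSS -/
theorem card_SS_mul (G : Subgroup (Perm α)) (j : ℕ)
    (hom : ∀ s s' : Finset α, s.card = j → s'.card = j → ∃ g ∈ G, ∀ x, g x ∈ s' ↔ x ∈ s)
    (Δ : Finset α) (hΔ : Δ.card = j) :
    (Fintype.card α).choose j * Nat.card (SS G Δ) = Nat.card G := by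
  classical
  obtain ⟨GF, hGF, hcardG⟩ := card_SS_aux_finset G
  obtain ⟨LF, hLF, hcardL⟩ := card_SS_aux_finset (SS G Δ)
  -- fibres of `g ↦ g Δ` over the `j`-sets
  have hmaps : ∀ g ∈ GF, Δ.image g ∈ Finset.powersetCard j (Finset.univ : Finset α) := by
    intro g _
    rw [Finset.mem_powersetCard]
    exact ⟨Finset.subset_univ _, by rw [card_SS_aux_image_card, hΔ]⟩
  have hfib := Finset.card_eq_sum_card_fiberwise hmaps
  rw [hcardG, hfib, hcardL]
  have hconst : ∀ s ∈ Finset.powersetCard j (Finset.univ : Finset α),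
      (GF.filter fun g : Perm α => Δ.image (g : α → α) = s).card = LF.card := by
    intro s hs
    rw [Finset.mem_powersetCard] at hs
    obtain ⟨g₀, hg₀, hg₀s⟩ := hom Δ s hΔ hs.2
    -- bijection `k ↦ g₀ * k` from `SS G Δ` onto the fibre
    symm
    refine Finset.card_bij (fun k _ => g₀ * k) ?_ ?_ ?_
    · intro k hk
      rw [hLF] at hk
      obtain ⟨hkG, hk'⟩ := hk
      rw [Finset.mem_filter, hGF]
      refine ⟨G.mul_mem hg₀ hkG, ?_⟩
      rw [card_SS_aux_image_eq_iff]
      intro x
      rw [Perm.mul_apply, hg₀s, hk']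
    · intro k _ k' _ hkk
      exact mul_left_cancel hkk
    · intro g hg
      rw [Finset.mem_filter, hGF] at hg
      obtain ⟨hgG, hgs⟩ := hg
      rw [card_SS_aux_image_eq_iff] at hgs
      refine ⟨g₀⁻¹ * g, ?_, by simp⟩
      rw [hLF]
      refine ⟨G.mul_mem (G.inv_mem hg₀) hgG, fun x => ?_⟩
      rw [← hgs x, Perm.mul_apply, ← hg₀s (g₀⁻¹ (g x))]
      simp
  rw [Finset.sum_congr rfl hconst, Finset.sum_const, Finset.card_powersetCard, Finset.card_univ,
    smul_eq_mul]

end Cfsg.Agent.S0745P
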