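import Mathlib

set_option autoImplicit false

/-! # S5559 piece MLEM (helper9): the key computation. -/

namespace Cfsg.Agent.S5559P

/-- an element of a `2`-subgroup with trivial cube is trivial -/
theorem MLEM.aux_eq_one {K : Type*} [Group K] (V : Subgroup K) (hV : IsPGroup 2 V) (g : K)
    (hg : g ∈ V) (h3 : g ^ 3 = 1) : g = 1 := by
  obtain ⟨k, hk⟩ := hV ⟨g, hg⟩
  have hk' : g ^ (2 ^ k) = 1 := by
    have := congrArg Subtype.val hk
    simpa using this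
  have h1 : orderOf g ∣ 3 := orderOf_dvd_of_pow_eq_one h3
  have h2 : orderOf g ∣ 2 ^ k := orderOf_dvd_of_pow_eq_one hk'
  have hcop : Nat.Coprime 3 (2 ^ k) := Nat.Coprime.pow_right k (by decide)
  have h : orderOf g ∣ 1 := by
    have := Nat.dvd_gcd h1 h2
    rwa [hcop.gcd_eq_one] at this
  exact orderOf_eq_one_iff.mp (Nat.dvd_one.mp h)

/-- MLEM -/
theorem MLEM {K : Type*} [Group K] (V : Subgroup K) [V.Normal] (hV : IsPGroup 2 V) (a b : K)
    (ha : a * a = 1) (hb : b * b = 1) (h3 : (a * b) ^ 3 = 1) (hne : a * b ≠ 1)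
    (htt : ∀ v ∈ V, ((v⁻¹ * a * v) * b) ^ 2 = 1 ∨ ((v⁻¹ * a * v) * b) ^ 3 = 1)
    (v : K) (hv : v ∈ V) (hvx : v * (a * b) = (a * b) * v) : v * a = a * v := by
  have hainv : a⁻¹ = a := inv_eq_of_mul_eq_one_right ha
  have hbinv : b⁻¹ = b := inv_eq_of_mul_eq_one_right hb
  set x := a * b with hx
  set w := a * v⁻¹ * a * v with hw
  have hwV : w ∈ V := by
    have h1 : a * v⁻¹ * a⁻¹ ∈ V := Subgroup.Normal.conj_mem inferInstance v⁻¹ (V.inv_mem hv) a
    rw [hainv] at h1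
    exact V.mul_mem h1 hv
  -- `v⁻¹ a v = a w`
  have h1 : v⁻¹ * a * v = a * w := by
    rw [hw]
    calc v⁻¹ * a * v = (a * a) * (v⁻¹ * a * v) := by rw [ha, one_mul]
      _ = a * (a * v⁻¹ * a * v) := by group
  -- `a w = w⁻¹ a`
  have h2 : a * w = w⁻¹ * a := by
    rw [hw]
    have : (a * v⁻¹ * a * v)⁻¹ = v⁻¹ * a * v * a := by
      rw [mul_inv_rev, mul_inv_rev, mul_inv_rev, inv_inv, hainv]; group
    rw [this]
    calc a * (a * v⁻¹ * a * v) = (a * a) * (v⁻¹ * a * v) := by group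
      _ = v⁻¹ * a * v := by rw [ha, one_mul]
      _ = v⁻¹ * a * v * (a * a) := by rw [ha, mul_one]
      _ = v⁻¹ * a * v * a * a := by group
  -- `x a = a x⁻¹`
  have hxinv : x⁻¹ = b * a := by
    rw [hx, mul_inv_rev, hainv, hbinv]
  have hxa : x * a = a * x⁻¹ := by
    rw [hxinv, hx, mul_assoc]
  have hvx' : v⁻¹ * x = x * v⁻¹ := by
    calc v⁻¹ * x = v⁻¹ * (x * v) * v⁻¹ := by group
      _ = v⁻¹ * (v * x) * v⁻¹ := by rw [hvx]
      _ = x * v⁻¹ := by group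
  have hvxi : v * x⁻¹ = x⁻¹ * v := by
    calc v * x⁻¹ = x⁻¹ * (x * v) * x⁻¹ := by group
      _ = x⁻¹ * (v * x) * x⁻¹ := by rw [hvx]
      _ = x⁻¹ * v := by group
  have hvxi' : v⁻¹ * x⁻¹ = x⁻¹ * v⁻¹ := by
    calc v⁻¹ * x⁻¹ = x⁻¹ * (x * v⁻¹) * x⁻¹ := by group
      _ = x⁻¹ * (v⁻¹ * x) * x⁻¹ := by rw [hvx']
      _ = x⁻¹ * v⁻¹ := by group
  have h4 : x⁻¹ * a = a * x := by
    calc x⁻¹ * a = x⁻¹ * (a * x⁻¹) * x := by group
      _ = x⁻¹ * (x * a) * x := by rw [hxa]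
      _ = a * x := by group
  -- `x w = w x`
  have h5 : x * w = w * x := by
    rw [hw]
    calc x * (a * v⁻¹ * a * v) = (x * a) * v⁻¹ * a * v := by group
      _ = (a * x⁻¹) * v⁻¹ * a * v := by rw [hxa]
      _ = a * (x⁻¹ * v⁻¹) * a * v := by group
      _ = a * (v⁻¹ * x⁻¹) * a * v := by rw [hvxi']
      _ = a * v⁻¹ * (x⁻¹ * a) * v := by group
      _ = a * v⁻¹ * (a * x) * v := by rw [h4]
      _ = a * v⁻¹ * a * (x * v) := by group
      _ = a * v⁻¹ * a * (v * x) := by rw [hvx]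
      _ = a * v⁻¹ * a * v * x := by group
  have h5' : x * w⁻¹ = w⁻¹ * x := by
    calc x * w⁻¹ = w⁻¹ * (w * x) * w⁻¹ := by group
      _ = w⁻¹ * (x * w) * w⁻¹ := by rw [h5]
      _ = w⁻¹ * x := by group
  -- `a^v b = w⁻¹ x`
  have h6 : v⁻¹ * a * v * b = w⁻¹ * x := by
    rw [h1, h2, hx]; group
  have hcomm : Commute w⁻¹ x := h5'.symm
  rcases htt v hv with hsq | hcu
  · -- square case: `x² = w²`, impossible
    exfalso
    rw [h6, hcomm.mul_pow] at hsq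
    have hx2 : x ^ 2 = w ^ 2 := by
      have : w ^ 2 * (w⁻¹ ^ 2 * x ^ 2) = w ^ 2 * 1 := by rw [hsq]
      rw [← mul_assoc, inv_pow, mul_inv_cancel, one_mul, mul_one] at this
      exact this
    have hx2V : x ^ 2 ∈ V := by rw [hx2]; exact V.pow_mem hwV 2
    have hx23 : (x ^ 2) ^ 3 = 1 := by
      rw [← pow_mul, mul_comm, pow_mul, h3, one_pow]
    have hx21 : x ^ 2 = 1 := MLEM.aux_eq_one V hV _ hx2V hx23
    have : x = 1 := by
      calc x = x ^ 3 * (x ^ 2)⁻¹ := by group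
        _ = 1 := by rw [h3, hx21]; simp
    exact hne this
  · -- cube case: `w³ = 1`, so `w = 1`
    rw [h6, hcomm.mul_pow, h3, mul_one] at hcu
    have hw3 : w ^ 3 = 1 := by
      have : (w⁻¹ ^ 3)⁻¹ = 1 := by rw [hcu, inv_one]
      rwa [inv_pow, inv_inv] at this
    have hw1 : w = 1 := MLEM.aux_eq_one V hV _ hwV hw3
    rw [hw] at hw1
    -- `a v⁻¹ a v = 1` gives `v a = a v`
    calc v * a = v * a * (a * v⁻¹ * a * v)⁻¹⁻¹ := by rw [hw1]; simp
      _ = v * a * (a * v⁻¹ * a * v) := by rw [inv_inv]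
      _ = v * (a * a) * v⁻¹ * a * v := by group
      _ = a * v := by rw [ha]; group

end Cfsg.Agent.S5559P
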