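import Mathlib

set_option autoImplicit false

/-! # S5559 piece CYC (helper9): a finite `p`-group generated by one conjugacy class is cyclic,
generated by any member of the class. -/

namespace Cfsg.Agent.S5559P

/-- CYC -/
theorem CYC {G : Type*} [Group G] [Finite G] {p : ℕ} [Fact p.Prime]
    (hG : IsPGroup p G) (d : G) (hgen : Subgroup.closure (conjugatesOf d) = ⊤) :
    Subgroup.zpowers d = ⊤ := by
  by_contra hne
  obtain ⟨M, hM, hdM⟩ := (eq_top_or_exists_le_coatom (Subgroup.zpowers d)).resolve_left hne
  have hnil : Group.IsNilpotent G := hG.isNilpotent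
  have hnorm : M.Normal :=
    Subgroup.NormalizerCondition.normal_of_coatom M Group.normalizerCondition_of_isNilpotent hM
  have hd : d ∈ M := hdM (Subgroup.mem_zpowers d)
  have hsub : conjugatesOf d ⊆ (M : Set G) := by
    intro y hy
    have hy' : IsConj d y := hy
    rw [isConj_iff] at hy'
    obtain ⟨c, rfl⟩ := hy'
    exact hnorm.conj_mem d hd c
  have hle : Subgroup.closure (conjugatesOf d) ≤ M := (Subgroup.closure_le M).mpr hsub
  rw [hgen] at hle
  exact hM.1 (top_le_iff.mp hle)

end Cfsg.Agent.S5559P
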