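import Mathlib
import Cfsg.Agent.Helper28.S5704SDefs
import Cfsg.Agent.Helper28.CD2

/-! # S5704, chapter TVO, piece SYMPBASIS (helper9 hedge): a symplectic basis with its expansion formula. -/

set_option autoImplicit false
set_option linter.unusedSectionVars false
set_option linter.unusedVariables false
set_option linter.style.haveILetI false
set_option linter.unusedSimpArgs false

namespace Cfsg.Agent.S5704S

open Matrix Cfsg.Agent.Helper28.Sg

variable {F : Type*} [Field F] {n a b m : ℕ}

theorem SYMPBASIS.exists {G : Matrix (Fin m) (Fin m) F} (hG : IsSymp G) :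
    ∃ (k : ℕ) (e f : Fin k → Fin m → F), m = 2 * k ∧ (∀ i j, bf G (e i) (e j) = 0) ∧
      (∀ i j, bf G (f i) (f j) = 0) ∧ (∀ i j, bf G (e i) (f j) = if i = j then 1 else 0) ∧
      ∀ w : Fin m → F, w = ∑ i, (bf G (e i) w • f i - bf G (f i) w • e i) := by
  classical
  set Bl : LinearMap.BilinForm F (Fin m → F) := Matrix.toBilin' G with hBl
  have hB : ∀ x y, Bl x y = bf G x y := fun x y => by
    rw [hBl, Matrix.toBilin'_apply']; rfl
  have hA : Bl.IsAlt := fun x => by rw [hB]; exact hG.alt x
  obtain ⟨k, e, f, hk, -, -, hee, hff, hef⟩ :=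
    Cfsg.Agent.Helper28.CD2.exists_alt_frame' Bl hA m ⊤
      (by rw [finrank_top, Module.finrank_fin_fun])
      (fun u _ hu => hG.nondeg u (fun y => by rw [← hB]; exact hu y trivial))
  have hfe : ∀ i j, Bl (f i) (e j) = if i = j then -1 else 0 := by
    intro i j
    rw [← hA.neg_eq, hef]
    by_cases h : i = j
    · subst h; simp
    · have h' : ¬ j = i := fun h' => h h'.symm
      simp [h, h']
  -- the coordinate map
  let Φ : (Fin m → F) →ₗ[F] (Fin k → F) × (Fin k → F) :=
    LinearMap.prod (LinearMap.pi fun i => Bl (e i)) (LinearMap.pi fun i => Bl (f i))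
  have hΦ : ∀ w, Φ w = (fun i => Bl (e i) w, fun i => Bl (f i) w) := fun w => rfl
  have hcomb : ∀ (x y : Fin k → F),
      Φ (∑ i, (x i • f i - y i • e i)) = (x, y) := by
    intro x y
    rw [hΦ]
    refine Prod.ext ?_ ?_
    · funext l
      simp only [map_sum, map_sub, map_smul, smul_eq_mul, hee, hef]
      simp
    · funext l
      simp only [map_sum, map_sub, map_smul, smul_eq_mul, hff, hfe]
      simp
  have hsurj : Function.Surjective Φ := fun p => ⟨_, hcomb p.1 p.2⟩
  have hdim : Module.finrank F (Fin m → F) = Module.finrank F ((Fin k → F) × (Fin k → F)) := by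
    rw [Module.finrank_prod, Module.finrank_fin_fun, Module.finrank_fin_fun]
    omega
  have hinj : Function.Injective Φ :=
    (LinearMap.injective_iff_surjective_of_finrank_eq_finrank hdim).mpr hsurj
  refine ⟨k, e, f, hk, fun i j => by rw [← hB]; exact hee i j, fun i j => by rw [← hB]; exact hff i j,
    fun i j => by rw [← hB]; exact hef i j, fun w => ?_⟩
  apply hinj
  simp only [← hB]
  rw [hcomb, hΦ]

end Cfsg.Agent.S5704S
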