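import Mathlib
import Cfsg.Agent.Helper28.S5704SDefs
import Cfsg.Agent.Helper9.S5704SSYMPBASIS

/-! # S5704, chapter TVO, piece TVOL (helper9 hedge): `t_z(c) ⊗ 1` is a product of Siegel transformations. -/

set_option autoImplicit false
set_option linter.unusedSectionVars false
set_option linter.unusedVariables false
set_option linter.style.haveILetI false
set_option linter.unusedSimpArgs false

namespace Cfsg.Agent.S5704S

open Matrix Cfsg.Agent.Helper28.Sg

variable {F : Type*} [Field F] {n a b m : ℕ}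

section tvo

variable {Q : QuadraticForm F (Fin n → F)}
  {e : Fin n ≃ Fin a × Fin b} {P : Matrix (Fin n) (Fin n) F}
  {GU : Matrix (Fin a) (Fin a) F} {GW : Matrix (Fin b) (Fin b) F}

/-- the polar form on a pure tensor and a scaled pure tensor -/
theorem TVOL.pol_smul_left (hT : TData Q e P GU GW) (c : F) (u u' : Fin a → F) (w w' : Fin b → F) :
    B Q (c • pt e P u w) (pt e P u' w') = c * (bf GU u u' * bf GW w w') := by
  show QuadraticMap.polar ⇑Q (c • pt e P u w) (pt e P u' w') = _
  rw [QuadraticMap.polar_smul_left, hT.pol, smul_eq_mul]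

theorem TVOL.pol_smul_right (hT : TData Q e P GU GW) (c : F) (u u' : Fin a → F) (w w' : Fin b → F) :
    B Q (pt e P u w) (c • pt e P u' w') = c * (bf GU u u' * bf GW w w') := by
  show QuadraticMap.polar ⇑Q (pt e P u w) (c • pt e P u' w') = _
  rw [QuadraticMap.polar_smul_right, hT.pol, smul_eq_mul]

theorem TVOL.sing_smul (hT : TData Q e P GU GW) (c : F) (u : Fin a → F) (w : Fin b → F) :
    Q (c • pt e P u w) = 0 := by
  rw [Q_smul, hT.sing, mul_zero]

/-- the `i`-th Siegel factor: orthogonality -/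
theorem TVOL.orth (hT : TData Q e P GU GW) (z : Fin a → F) (c : F) (x y : Fin b → F) :
    B Q (pt e P z x) (c • pt e P z y) = 0 := by
  rw [TVOL.pol_smul_right hT, hT.sympU.alt, zero_mul, mul_zero]

/-- the action of one Siegel factor on a pure tensor -/
theorem TVOL.factor_apply (hT : TData Q e P GU GW) (z : Fin a → F) (c : F) (x y : Fin b → F)
    (u : Fin a → F) (w : Fin b → F) :
    mt Q (siegO Q (pt e P z x) (c • pt e P z y) (hT.sing z x) (TVOL.orth hT z c x y)) *ᵥ pt e P u w
      = pt e P u w + (c * bf GU z u) • pt e P z (bf GW x w • y - bf GW y w • x) := by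
  rw [siegO_mulVec, TVOL.sing_smul hT, zero_mul, zero_smul, sub_zero, TVOL.pol_smul_left hT,
    show B Q (pt e P z x) (pt e P u w) = bf GU z u * bf GW x w from hT.pol z x u w,
    pt_sub_right, pt_smul_right, pt_smul_right]
  module

/-- one Siegel factor fixes `z ⊗ W` pointwise -/
theorem TVOL.factor_fix (hT : TData Q e P GU GW) (z : Fin a → F) (c : F) (x y : Fin b → F)
    (w : Fin b → F) :
    mt Q (siegO Q (pt e P z x) (c • pt e P z y) (hT.sing z x) (TVOL.orth hT z c x y)) *ᵥ pt e P z w
      = pt e P z w := by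
  rw [TVOL.factor_apply hT, hT.sympU.alt, mul_zero, zero_smul, add_zero]

/-- partial products over a finite set of index pairs -/
theorem TVOL.partial (hT : TData Q e P GU GW) (z : Fin a → F) (c : F) {k : ℕ}
    (e' f' : Fin k → Fin b → F) (s : Finset (Fin k)) :
    ∃ g ∈ S Q, ∀ u w, mt Q g *ᵥ pt e P u w
      = pt e P u w + (c * bf GU z u) •
          pt e P z (∑ i ∈ s, (bf GW (e' i) w • f' i - bf GW (f' i) w • e' i)) := by
  classical
  induction s using Finset.induction_on with
  | empty =>
    refine ⟨1, (S Q).one_mem, fun u w => ?_⟩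
    rw [mt_one_mulVec, Finset.sum_empty, pt_zero_right, smul_zero, add_zero]
  | insert i s hi ih =>
    obtain ⟨g, hg, hgs⟩ := ih
    refine ⟨siegO Q (pt e P z (e' i)) (c • pt e P z (f' i)) (hT.sing z (e' i))
      (TVOL.orth hT z c (e' i) (f' i)) * g, (S Q).mul_mem (siegO_mem_S Q _ _ _ _) hg, fun u w => ?_⟩
    rw [mt_mul_mulVec, hgs, mulVec_add, mulVec_smul, TVOL.factor_apply hT, TVOL.factor_fix hT,
      Finset.sum_insert hi, pt_add_right]
    module

/-- TVOL from a symplectic basis with expansion formula -/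
theorem TVOL.of_basis (hT : TData Q e P GU GW) (z : Fin a → F) (c : F) {k : ℕ}
    (e' f' : Fin k → Fin b → F)
    (hexp : ∀ w : Fin b → F, w = ∑ i, (bf GW (e' i) w • f' i - bf GW (f' i) w • e' i)) :
    ∃ g ∈ S Q, ∀ u w, mt Q g *ᵥ pt e P u w = pt e P (u + (c * bf GU z u) • z) w := by
  obtain ⟨g, hg, hgs⟩ := TVOL.partial hT z c e' f' Finset.univ
  refine ⟨g, hg, fun u w => ?_⟩
  rw [hgs, ← hexp w, pt_add_left, pt_smul_left]

theorem TVOL.exists (hT : TData Q e P GU GW) (z : Fin a → F) (c : F) :
    ∃ g ∈ S Q, ∀ u w, mt Q g *ᵥ pt e P u w = pt e P (u + (c * bf GU z u) • z) w := by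
  obtain ⟨k, e', f', -, -, -, -, hexp⟩ := SYMPBASIS.exists hT.sympW
  exact TVOL.of_basis hT z c e' f' hexp

end tvo

end Cfsg.Agent.S5704S
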