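import Mathlib
import Cfsg.Agent.Helper28.S5704SDefs

/-! S5704, chapter SPREAD (helper28), piece COMM (helper9, hedge): the commutator of two Siegel elements. -/

set_option autoImplicit false
set_option linter.unusedSectionVars false
set_option linter.unusedVariables false
set_option linter.unusedSimpArgs false

namespace Cfsg.Agent.S5704S

open Matrix Cfsg.Agent.Helper28.Sg

variable {F : Type*} [Field F] {n a b m : ℕ}

/-- COMM (M) -/
theorem COMM.main {Q : QuadraticForm F (Fin n → F)} {M : Subgroup ↥(Cfsg.isometryGroup F ⇑Q)}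
    {p y p' y' : Fin n → F} (hy : Q y = 0) (hy' : Q y' = 0) (hpp' : B Q p p' = 0)
    (hpy' : B Q p y' = 0) (hp'y : B Q p' y = 0) (h1 : InM Q M p y) (h2 : InM Q M p' y') :
    InM Q M p (B Q y y' • p') := by
  obtain ⟨hp, hpy, hA⟩ := h1
  obtain ⟨hp', hp'y', hB⟩ := h2
  have hpc : B Q p (B Q y y' • p') = 0 := B_smul_right_zero Q _ hpp'
  refine ⟨hp, hpc, ?_⟩
  have key : siegO Q p (B Q y y' • p') hp hpc * (siegO Q p' y' hp' hp'y' * siegO Q p y hp hpy) =
      siegO Q p y hp hpy * siegO Q p' y' hp' hp'y' := by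
    apply O_ext
    intro x
    rw [mt_mul_mulVec, mt_mul_mulVec, mt_mul_mulVec, siegO_mulVec Q p y hp hpy x,
      siegO_mulVec Q p' y' hp' hp'y' x, siegO_mulVec Q p y, siegO_mulVec Q p' y', siegO_mulVec Q p _]
    have hppz : B Q p p = 0 := B_self_of_singular Q hp
    have hp'p'z : B Q p' p' = 0 := B_self_of_singular Q hp'
    have hp'p : B Q p' p = 0 := by rw [B_comm]; exact hpp'
    have hyp : B Q y p = 0 := by rw [B_comm]; exact hpy
    have hyp' : B Q y p' = 0 := by rw [B_comm]; exact hp'y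
    have hy'p : B Q y' p = 0 := by rw [B_comm]; exact hpy'
    have hy'p' : B Q y' p' = 0 := by rw [B_comm]; exact hp'y'
    have hy'y : B Q y' y = B Q y y' := B_comm Q _ _
    have hQc : Q (B Q y y' • p') = 0 := by rw [Q_smul, hp', mul_zero]
    rw [hQc, hy, hy']
    simp only [B] at hppz hp'p'z hp'p hyp hyp' hy'p hy'p' hy'y hpp' hpy' hp'y hpy hp'y'
    simp only [B, QuadraticMap.polar_add_right, QuadraticMap.polar_sub_right,
      QuadraticMap.polar_smul_right, QuadraticMap.polar_smul_left, smul_eq_mul,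
      hppz, hp'p'z, hp'p, hyp, hyp', hy'p, hy'p', hy'y, hpp', hpy', hp'y, hpy, hp'y',
      mul_zero, zero_mul, sub_zero, add_zero, zero_smul]
    module
  have h3 : siegO Q p (B Q y y' • p') hp hpc =
      siegO Q p y hp hpy * siegO Q p' y' hp' hp'y' *
        (siegO Q p' y' hp' hp'y' * siegO Q p y hp hpy)⁻¹ := by
    rw [← key, mul_assoc, mul_inv_cancel, mul_one]
  rw [h3]
  exact M.mul_mem (M.mul_mem hA hB) (M.inv_mem (M.mul_mem hB hA))

end Cfsg.Agent.S5704S
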