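import Mathlib
import Cfsg.Agent.Helper18.K2P.Defs
import Cfsg.Agent.Helper18.K2P.Defs2
import Cfsg.Agent.Helper18.K2P.QB
import Cfsg.Agent.Helper18.K2P.RACT
import Cfsg.Agent.Helper18.K2P.STAB
import Cfsg.Agent.Helper18.K2P.OMEGA
import Cfsg.Agent.Helper18.K2P.PERM
import Cfsg.Agent.Helper10.K2PATRICK
import Cfsg.Agent.Helper11.K2PAPROPP

set_option autoImplicit false
set_option linter.unusedSectionVars false
set_option linter.unusedVariables false

/-! # K2P (S5692, `k = 2`, hyperbolic blocks), chapter A, piece NOFRAME (driver helper18): an element of `M`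
mapping a nonzero block vector (singular or not) to a block vector permutes the blocks. -/

namespace Cfsg.Agent.K2P

open Matrix Cfsg.Agent.OC2P Cfsg.Agent.Helper28.Sg Cfsg.Agent.Helper28.Spin
  Cfsg.Agent.Helper12.OrthGen Cfsg.Agent.K2M

variable {F : Type*} [Field F] [Fintype F] {t : ℕ} {Q : QuadraticForm F (Fin t × Fin 2 → F)}
  {q : QuadraticForm F (Fin 2 → F)} {e f : Fin 2 → F} {M : Subgroup (OG Q)}

/-- `q (e + f) = 1` -/
theorem A.NOFRAME.aux_q (bp : BP Q q e f) : q (e + f) = 1 := by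
  have h1 : q (e + f) = q e + q f + QuadraticMap.polar (⇑q) e f := by
    unfold QuadraticMap.polar
    ring
  rw [h1, bp.qe, bp.qf, bp.ef]
  ring

/-- A-NOFRAME. -/
theorem A.NOFRAME (bp : BP Q q e f) (ht : 3 ≤ t) (hq : 7 ≤ Fintype.card F) (hM : HasMO M)
    (hS : ¬ SiegF Q q e f M) (hI : ∀ a, InA M a → IsBlk a) {m : OG Q} (hm : m ∈ M) {i : Fin t}
    {y : Fin 2 → F} (hy0 : y ≠ 0) (h : IsBlk (mt Q m *ᵥ binj i y)) : StabD Q m := by
  by_cases hqy : q y = 0
  · obtain ⟨j, hj⟩ := h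
    rw [QB.mem_Dblk_iff'] at hj
    obtain ⟨y', hy'⟩ := A.TRICK bp ht hq hM hS hm hy0 hqy hj (e + f)
    have h1 : q (e + f) ≠ 0 := by
      rw [A.NOFRAME.aux_q bp]; exact one_ne_zero
    refine A.PROPP bp ht hq hM hI hm (i := i) h1 ?_
    rw [hy']
    exact ⟨j, binj_mem j y'⟩
  · exact A.PROPP bp ht hq hM hI hm hqy h

end Cfsg.Agent.K2P
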