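import Mathlib
import Cfsg.Agent.Helper15.S2933Defs
import Cfsg.Agent.Helper26.S64A
import Cfsg.Agent.Helper26.S64C
import Cfsg.Agent.Helper8.S64B1
import Cfsg.Agent.Helper8.S64B2
import Cfsg.Agent.Helper16.S64DU

set_option autoImplicit false

/-! S2933 board, piece NORM (blueprint Theorem B, case B): if all involutions of `T` (order 64,
non-abelian, `ρ` fixed-point-free of order 3) are central, `T` has the normal form data. -/

namespace Cfsg.Agent.S2933P

open scoped commutatorElement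
open Cfsg.Agent.Helper16.S64

universe u

/-- the centre is `{1, s, ρ s, ρ² s}`. -/
theorem NORM_aux_enum {T : Type u} [Group T] [Finite T] {ρ : MulAut T} (hf : Fpf3 ρ)
    (hZ : Nat.card (Subgroup.center T) = 4) {s : T} (hs : s ∈ Subgroup.center T) (hs1 : s ≠ 1)
    {z : T} (hz : z ∈ Subgroup.center T) : z = 1 ∨ z = s ∨ z = ρ s ∨ z = ρ (ρ s) := by
  classical
  have _instF : Fintype (Subgroup.center T) := Fintype.ofFinite _
  have hρs : ρ s ∈ Subgroup.center T := map_mem_center ρ hs
  have hρρs : ρ (ρ s) ∈ Subgroup.center T := map_mem_center ρ hρs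
  have h1 : ρ s ≠ s := fun h => hs1 (hf.fpf s h)
  have h2 : ρ s ≠ 1 := fun h => hs1 (by simpa using h)
  have h3 : ρ (ρ s) ≠ 1 := fun h => h2 (by simpa using h)
  have h4 : ρ (ρ s) ≠ ρ s := fun h => h1 (ρ.injective h)
  have h5 : ρ (ρ s) ≠ s := by
    intro h
    apply h1
    have := congrArg ρ h
    rw [hf.cube] at this
    exact this.symm
  let F : Finset (Subgroup.center T) :=
    {(1 : Subgroup.center T), ⟨s, hs⟩, ⟨ρ s, hρs⟩, ⟨ρ (ρ s), hρρs⟩}
  have hcard : F.card = 4 := by
    have e1 : (⟨ρ s, hρs⟩ : Subgroup.center T) ∉ ({⟨ρ (ρ s), hρρs⟩} : Finset (Subgroup.center T)) := by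
      simp only [Finset.mem_singleton, Subtype.mk.injEq]
      exact fun h => h4 h.symm
    have e2 : (⟨s, hs⟩ : Subgroup.center T) ∉
        ({⟨ρ s, hρs⟩, ⟨ρ (ρ s), hρρs⟩} : Finset (Subgroup.center T)) := by
      simp only [Finset.mem_insert, Finset.mem_singleton, Subtype.mk.injEq, not_or]
      exact ⟨fun h => h1 h.symm, fun h => h5 h.symm⟩
    have e3 : (1 : Subgroup.center T) ∉
        ({⟨s, hs⟩, ⟨ρ s, hρs⟩, ⟨ρ (ρ s), hρρs⟩} : Finset (Subgroup.center T)) := by
      intro hmem
      simp only [Finset.mem_insert, Finset.mem_singleton] at hmem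
      rcases hmem with h | h | h
      · exact hs1 (congrArg Subtype.val h).symm
      · exact h2 (congrArg Subtype.val h).symm
      · exact h3 (congrArg Subtype.val h).symm
    show (insert (1 : Subgroup.center T) (insert (⟨s, hs⟩ : Subgroup.center T)
      (insert (⟨ρ s, hρs⟩ : Subgroup.center T)
        ({(⟨ρ (ρ s), hρρs⟩ : Subgroup.center T)} : Finset (Subgroup.center T))))).card = 4
    rw [Finset.card_insert_of_notMem e3, Finset.card_insert_of_notMem e2,
      Finset.card_insert_of_notMem e1, Finset.card_singleton]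
  have huniv : F = Finset.univ := by
    apply Finset.eq_univ_of_card
    rw [hcard, ← Nat.card_eq_fintype_card, hZ]
  have hzF : (⟨z, hz⟩ : Subgroup.center T) ∈ F := by rw [huniv]; exact Finset.mem_univ _
  simp only [F, Finset.mem_insert, Finset.mem_singleton] at hzF
  rcases hzF with h | h | h | h
  · left; exact congrArg Subtype.val h
  · right; left; exact congrArg Subtype.val h
  · right; right; left; exact congrArg Subtype.val h
  · right; right; right; exact congrArg Subtype.val h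

/-- NORM: if all involutions are central, `T` has the normal form data. -/
theorem NORM {T : Type u} [Group T] [Finite T] (hT : Nat.card T = 64) (hna : ¬ IsMulCommutative T)
    {ρ : MulAut T} (hf : Fpf3 ρ) (hall : ∀ u : T, u * u = 1 → u ∈ Subgroup.center T) :
    ∃ s x w : T, UData ρ s x w := by
  classical
  have h : Fpf3Facts ρ := Cfsg.Agent.Helper26.S64.fpf3Facts_of_fpf3 hf
  obtain ⟨hZ, hcen⟩ := Cfsg.Agent.Helper8.S64.center_and_class hT hna h
    (fun N M hNn hN hM => Cfsg.Agent.Helper8.S64.index_ne_four h N M hNn hN hM)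
  have hc : Cl2Facts ρ := Cfsg.Agent.Helper26.S64.cl2Facts h hZ hcen
  -- a non-trivial central element `s`
  have hnt : Nontrivial (Subgroup.center T) := by
    rw [← Finite.one_lt_card_iff_nontrivial, hZ]; norm_num
  obtain ⟨⟨s, hs⟩, hsne⟩ := exists_ne (1 : Subgroup.center T)
  have hs1 : s ≠ 1 := fun h => hsne (Subtype.ext h)
  have hcm : ∀ a b : T, ⁅a, b⁆ ∈ Subgroup.center T := fun a b =>
    Subgroup.mem_center_iff.mpr (fun g => (hc.central a b g).symm)
  have hsq : ∀ t : T, t * t ∈ Subgroup.center T := fun t =>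
    Subgroup.mem_center_iff.mpr (fun g => (hc.sq_central t g).symm)
  -- for a non-central `g`, one of `g, ρ g, ρ² g` has square `s`
  have hpick : ∀ g : T, g ∉ Subgroup.center T →
      ∃ y : T, y * y = s ∧ (y = g ∨ y = ρ g ∨ y = ρ (ρ g)) := by
    intro g hg
    have hg1 : g * g ≠ 1 := fun h1 => hg (hall g h1)
    rcases NORM_aux_enum hf hZ (hsq g) hg1 hs with h1 | h1 | h1 | h1
    · exact absurd h1 hs1
    · exact ⟨g, h1.symm, Or.inl rfl⟩
    · -- s = ρ (g g): then (ρ² g)² = ρ² (g g) = ρ s ... we need square s: take ρ g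
      refine ⟨ρ g, ?_, Or.inr (Or.inl rfl)⟩
      rw [h1, map_mul]
    · refine ⟨ρ (ρ g), ?_, Or.inr (Or.inr rfl)⟩
      rw [h1, map_mul, map_mul]
  -- `T` is not abelian: a non-central element
  obtain ⟨g₀, hg₀⟩ : ∃ g₀ : T, g₀ ∉ Subgroup.center T := by
    by_contra hcon
    push Not at hcon
    apply hna
    refine ⟨⟨fun a b => ?_⟩⟩
    have := Subgroup.mem_center_iff.mp (hcon b) a
    exact this
  obtain ⟨x, hx2, hxg⟩ := hpick g₀ hg₀
  have hxnc : x ∉ Subgroup.center T := by
    intro hxc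
    apply hg₀
    rcases hxg with rfl | rfl | rfl
    · exact hxc
    · have := map_mem_center ρ (map_mem_center ρ hxc)
      rwa [hf.cube] at this
    · have := map_mem_center ρ hxc
      rwa [hf.cube] at this
  -- `g'` not commuting with `x`
  obtain ⟨g', hg'⟩ : ∃ g' : T, ⁅x, g'⁆ ≠ 1 := by
    by_contra hcon
    push Not at hcon
    apply hxnc
    rw [Subgroup.mem_center_iff]
    intro g
    have := hcon g
    rw [commutatorElement_eq_one_iff_mul_comm] at this
    exact this.symm
  have hg'nc : g' ∉ Subgroup.center T := by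
    intro hc'
    apply hg'
    rw [commutatorElement_eq_one_iff_mul_comm]
    exact Subgroup.mem_center_iff.mp hc' x
  obtain ⟨w, hw2, hwg⟩ := hpick g' hg'nc
  have hxw : ⁅x, w⁆ ≠ 1 := by
    rcases hwg with rfl | rfl | rfl
    · exact hg'
    · rw [hc.rho_right]
      intro h1
      apply hg'
      have : ρ (ρ ⁅x, g'⁆) = ρ (ρ 1) := by rw [h1]; simp
      exact ρ.injective (ρ.injective this)
    · rw [hc.rho_right, hc.rho_right]
      intro h1
      apply hg'
      have : ρ (ρ (ρ (ρ ⁅x, g'⁆))) = ρ (ρ (ρ (ρ 1))) := by rw [h1]; simp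
      exact ρ.injective (ρ.injective (ρ.injective (ρ.injective this)))
  -- `κ = ⁅x, w⁆`
  have hκc : ⁅x, w⁆ ∈ Subgroup.center T := hcm x w
  have hκ2 : ⁅x, w⁆ * ⁅x, w⁆ = 1 := hc.comm_sq x w
  have hκinv : ⁅w, x⁆ = ⁅x, w⁆ := by
    rw [← hc.inv_swap x w]
    exact inv_eq_of_mul_eq_one_left hκ2
  have hss : s * s = 1 := hc.center_sq s hs
  have hxx1 : ⁅x, x⁆ = 1 := by rw [commutatorElement_eq_one_iff_mul_comm]
  -- `κ ≠ s`
  have hκs : ⁅x, w⁆ ≠ s := by
    intro hks
    have hy2 : (x * ρ w) * (x * ρ w) = 1 := by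
      rw [hc.sq_mul, hx2, ← map_mul, hw2, hc.rho_left, hκinv, hks]
      exact h.prod s
    have hyc := hall _ hy2
    have h1 : ⁅x, x * ρ w⁆ = 1 := by
      rw [commutatorElement_eq_one_iff_mul_comm]
      exact Subgroup.mem_center_iff.mp hyc x
    rw [hc.mul_right, hxx1, one_mul, hc.rho_right] at h1
    apply hxw
    have : ρ (ρ ⁅x, w⁆) = ρ (ρ 1) := by rw [h1]; simp
    exact ρ.injective (ρ.injective this)
  rcases NORM_aux_enum hf hZ hs hs1 hκc with h1 | h1 | h1 | h1
  · exact absurd h1 hxw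
  · exact absurd h1 hκs
  · exact ⟨s, x, w, ⟨hT, hf, hs, hs1, hx2, hw2, h1⟩⟩
  · -- replace `w` by `ρ (x * w)`
    refine ⟨s, x, ρ (x * w), ⟨hT, hf, hs, hs1, hx2, ?_, ?_⟩⟩
    · rw [← map_mul, hc.sq_mul, hx2, hw2, hss, one_mul, hκinv, h1, hf.cube]
    · rw [hc.rho_right, hc.mul_right, hxx1, one_mul, h1, hf.cube]

end Cfsg.Agent.S2933P
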