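import Mathlib
import Cfsg.Agent.Helper26.S3050Defs
import Cfsg.Agent.Helper19.S3050A12

set_option autoImplicit false

namespace Cfsg.Agent.S3050P

open Cfsg.Agent.Helper18.NatMod Cfsg.Agent.S3050P

variable {F : Type*} [Field F] [CharP F 2]
variable {M : Type*} [AddCommGroup M] [DistribMulAction (Matrix.SpecialLinearGroup (Fin 2) F) M]

local notation "SF" => Matrix.SpecialLinearGroup (Fin 2) F

/-- `u(c)` maps `W = C_M(u)` into itself. -/
theorem A3_aux_al_mem (c : F) {b : M} (hb : b ∈ fixu F M) : al F c b ∈ fixu F M := by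
  rw [mem_fixu] at hb ⊢
  unfold al
  rw [← mul_smul, uu_comm, mul_smul, hb]

/-- A3 -/
theorem block_uu (h2 : Exp2 M) (h3 : Fpf F M) (c : F) {b : M} (hb : b ∈ fixu F M) :
    al F c b ∈ fixu F M ∧ be F c b ∈ fixu F M ∧
      (uu c : SF) • (ww : SF) • b = be F c b + (ww : SF) • al F c b := by
  refine ⟨A3_aux_al_mem c hb, ?_, ?_⟩
  · exact (dec_of_fpf h2 h3 ((uu c : SF) • (ww : SF) • b)).1
  · have hdec := (dec_of_fpf h2 h3 ((uu c : SF) • (ww : SF) • b)).2.2
    have hp2 : pr2 F ((uu c : SF) • (ww : SF) • b) = al F c b := by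
      unfold pr2 al
      have h1 : (uu (1 : F) : SF) • (uu c : SF) • (ww : SF) • b
          = (uu c : SF) • (uu (1 : F) : SF) • (ww : SF) • b := by
        rw [← mul_smul, uu_comm, mul_smul]
      rw [h1, uu_ww_fix h2 h3 hb, ← smul_add]
      congr 1
      have := h2 ((ww : SF) • b)
      calc (ww : SF) • b + (b + (ww : SF) • b) = b + ((ww : SF) • b + (ww : SF) • b) := by abel
        _ = b := by rw [this, add_zero]
    rw [hp2] at hdec
    exact hdec

end Cfsg.Agent.S3050P
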