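import Mathlib
import Cfsg.Agent.Helper26.S3050Defs
import Cfsg.Agent.Helper19.S3050A12
import Cfsg.Agent.Helper9.S3050A3

set_option autoImplicit false

namespace Cfsg.Agent.S3050P

open Cfsg.Agent.Helper18.NatMod Cfsg.Agent.S3050P

variable {F : Type*} [Field F] [CharP F 2]
variable {M : Type*} [AddCommGroup M] [DistribMulAction (Matrix.SpecialLinearGroup (Fin 2) F) M]

local notation "SF" => Matrix.SpecialLinearGroup (Fin 2) F

/-- A4 -/
theorem al_add (c d : F) (b : M) : al F (c + d) b = al F c (al F d b) := by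
  unfold al
  rw [← mul_smul, uu_mul]

theorem al_al (c : F) (b : M) : al F c (al F c b) = b := by
  unfold al
  rw [← mul_smul, uu_sq, one_smul]

theorem al_comm (c d : F) (b : M) : al F c (al F d b) = al F d (al F c b) := by
  unfold al
  rw [← mul_smul, ← mul_smul, uu_comm]

theorem al_map_add (c : F) (b b' : M) : al F c (b + b') = al F c b + al F c b' := by
  unfold al
  rw [smul_add]

theorem A4_aux_pr1_add (x y : M) : pr1 F (x + y) = pr1 F x + pr1 F y := by
  unfold pr1
  rw [smul_add, smul_add]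
  abel

theorem be_map_add (c : F) (b b' : M) : be F c (b + b') = be F c b + be F c b' := by
  unfold be
  rw [smul_add, smul_add, A4_aux_pr1_add]

theorem al_one {b : M} (hb : b ∈ fixu F M) : al F 1 b = b := by
  unfold al
  exact hb

theorem be_one (h2 : Exp2 M) (h3 : Fpf F M) {b : M} (hb : b ∈ fixu F M) : be F 1 b = b := by
  unfold be
  rw [uu_ww_fix h2 h3 hb]
  exact (pr_of_fix h2 h3 hb hb).1

theorem be_add (h2 : Exp2 M) (h3 : Fpf F M) (c d : F) {b : M} (hb : b ∈ fixu F M) :
    be F (c + d) b = al F c (be F d b) + be F c (al F d b) := by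
  obtain ⟨hal, hbe, hd⟩ := block_uu h2 h3 d hb
  obtain ⟨hal2, hbe2, hd2⟩ := block_uu h2 h3 c hal
  have hal3 : al F c (be F d b) ∈ fixu F M := A3_aux_al_mem c hbe
  have key : (uu (c + d) : SF) • (ww : SF) • b
      = (al F c (be F d b) + be F c (al F d b)) + (ww : SF) • al F c (al F d b) := by
    rw [← uu_mul, mul_smul, hd, smul_add, hd2]
    unfold al
    abel
  unfold be
  rw [key]
  exact (pr_of_fix h2 h3 ((fixu F M).add_mem hal3 hbe2) hal2).1

end Cfsg.Agent.S3050P
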