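import Mathlib
import Cfsg.Prelude.Def_GeometricClasses
import Cfsg.Agent.Helper24.S5704.Defs
import Cfsg.Agent.Helper15.S5704SEEDDefs
import Cfsg.Agent.Helper21.S5637LIB1
import Cfsg.Agent.Helper19.S5704STPOL
import Cfsg.Agent.Helper25.S5704STPSI
import Cfsg.Agent.Helper4.S5704STISOPOL
import Cfsg.Agent.Helper18.S5704SEXONE

/-! # S5704, chapter SEED, sub-chapter CASE1 (helper9), part A: an isometry fixing `K_z = U ⊗ z^⊥` pointwise is
`x ↦ x + (A (c_{ψ_z} x)) ⊗ z` with `A` linear, `bf GU u (A u) = 0`. -/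

set_option autoImplicit false
set_option linter.unusedSectionVars false
set_option linter.unusedVariables false
set_option linter.style.haveILetI false
set_option linter.unusedSimpArgs false

namespace Cfsg.Agent.S5704P

open Matrix Cfsg.Agent.S5637P Cfsg.Agent.S5704S Cfsg.Agent.Helper28.Sg Cfsg.Agent.S5634P

variable {F : Type*} [Field F] {n a b : ℕ} (e : Fin n ≃ Fin a × Fin b)

/-- `Q` vanishes on pure tensors (`P = 1`) -/
theorem CASE1.sing {Q : QuadraticForm F (Fin n → F)} {GU : Matrix (Fin a) (Fin a) F}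
    {GW : Matrix (Fin b) (Fin b) F} (hT : TData Q e 1 GU GW) (u : Fin a → F) (w : Fin b → F) :
    Q (tn e u w) = 0 := by
  have h := hT.sing u w
  rw [pt_one] at h
  exact h

/-- the polar form on pure tensors (`P = 1`) -/
theorem CASE1.pol {Q : QuadraticForm F (Fin n → F)} {GU : Matrix (Fin a) (Fin a) F}
    {GW : Matrix (Fin b) (Fin b) F} (hT : TData Q e 1 GU GW) (u u' : Fin a → F) (w w' : Fin b → F) :
    QuadraticMap.polar ⇑Q (tn e u w) (tn e u' w') = bf GU u u' * bf GW w w' := by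
  have h := hT.pol u w u' w'
  rw [pt_one, pt_one] at h
  exact h

/-- `K_z^⊥ ⊆ V_z` -/
theorem CASE1.mem_Vw_of_perp {Q : QuadraticForm F (Fin n → F)} {GU : Matrix (Fin a) (Fin a) F}
    {GW : Matrix (Fin b) (Fin b) F} (hT : TData Q e 1 GU GW) {z : Fin b → F} (hz : z ≠ 0)
    {d : Fin n → F}
    (hd : ∀ (u' : Fin a → F) (w' : Fin b → F), bf GW w' z = 0 →
      QuadraticMap.polar ⇑Q d (tn e u' w') = 0) : d ∈ Vw e z := by
  rw [LIB1 e hz]
  intro ψ hψ
  obtain ⟨w', rfl⟩ := STPSI hT.sympW ψ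
  have hw' : bf GW w' z = 0 := by
    rw [psi_dot] at hψ
    exact hT.sympW.eq_zero_symm hψ
  apply hT.sympU.nondeg
  intro u'
  rw [← STPOL e hT]
  exact hd u' w' hw'

/-- the structure of an isometry fixing `K_z` pointwise -/
theorem CASE1.fixK {Q : QuadraticForm F (Fin n → F)} {GU : Matrix (Fin a) (Fin a) F}
    {GW : Matrix (Fin b) (Fin b) F} (hT : TData Q e 1 GU GW) {z : Fin b → F} (hz : z ≠ 0)
    {g : GL (Fin n) F} (hg : g ∈ Cfsg.isometryGroup F ⇑Q)
    (hfix : ∀ x : Fin n → F, cps e (psi GW z) x = 0 →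
      (g : Matrix (Fin n) (Fin n) F) *ᵥ x = x) :
    ∃ A : (Fin a → F) →ₗ[F] (Fin a → F),
      (∀ x : Fin n → F, (g : Matrix (Fin n) (Fin n) F) *ᵥ x =
        x + tn e (A (cps e (psi GW z) x)) z) ∧ ∀ u : Fin a → F, bf GU u (A u) = 0 := by
  classical
  obtain ⟨y, hy⟩ := EX.one hT.sympW hz
  have hyz : bf GW y z = -1 := by rw [hT.sympW.skew, hy]
  -- `D u = tn u y - g (tn u y)`
  have hK : ∀ (u' : Fin a → F) (w' : Fin b → F), bf GW w' z = 0 →
      cps e (psi GW z) (tn e u' w') = 0 := by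
    intro u' w' hw'
    rw [cps_tn, psi_dot, hw', zero_smul]
  have hD : ∀ u : Fin a → F,
      tn e u y - (g : Matrix (Fin n) (Fin n) F) *ᵥ tn e u y ∈ Vw e z := by
    intro u
    apply CASE1.mem_Vw_of_perp e hT hz
    intro u' w' hw'
    have h1 := STISOPOL hg (tn e u y) (tn e u' w')
    rw [hfix _ (hK u' w' hw')] at h1
    rw [QuadraticMap.polar_sub_left, h1, sub_self]
  -- the linear map `A`
  let A : (Fin a → F) →ₗ[F] (Fin a → F) :=
    (cps e (psi GW y)).comp (jw e y - (Matrix.toLin' (g : Matrix (Fin n) (Fin n) F)).comp (jw e y))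
  have hA : ∀ u : Fin a → F, A u =
      cps e (psi GW y) (tn e u y - (g : Matrix (Fin n) (Fin n) F) *ᵥ tn e u y) := by
    intro u
    simp only [A, LinearMap.comp_apply, LinearMap.sub_apply, jw_apply, Matrix.toLin'_apply]
  have hAD : ∀ u : Fin a → F,
      tn e u y - (g : Matrix (Fin n) (Fin n) F) *ᵥ tn e u y = tn e (A u) z := by
    intro u
    obtain ⟨u₁, hu₁⟩ := (mem_Vw e).mp (hD u)
    rw [hA, hu₁, cps_tn, psi_dot, hy, one_smul]
  have hmain : ∀ x : Fin n → F, (g : Matrix (Fin n) (Fin n) F) *ᵥ x =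
      x + tn e (A (cps e (psi GW z) x)) z := by
    intro x
    set c := cps e (psi GW z) x with hc
    have hxK : cps e (psi GW z) (x + tn e c y) = 0 := by
      rw [map_add, cps_tn, psi_dot, hyz, ← hc]
      simp
    have h1 := hfix _ hxK
    rw [mulVec_add] at h1
    have h2 := hAD c
    -- g x = x + tn c y - g (tn c y) = x + tn (A c) z
    rw [← h2]
    have : (g : Matrix (Fin n) (Fin n) F) *ᵥ x =
        x + tn e c y - (g : Matrix (Fin n) (Fin n) F) *ᵥ tn e c y := by
      rw [← h1]; abel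
    rw [this]; abel
  refine ⟨A, hmain, fun u => ?_⟩
  -- `Q (g x) = Q x` at `x = tn u y`
  have hiso := (Cfsg.Agent.Helper28.IsoTransport.mem_isometryGroup_iff (⇑Q) g).mp hg (tn e u y)
  rw [hmain, cps_tn, psi_dot, hyz, QuadraticMap.map_add (⇑Q), CASE1.sing e hT, CASE1.sing e hT,
    STPOL e hT, cps_tn, psi_dot, hyz, zero_add, zero_add] at hiso
  have h3 : bf GU ((-1 : F) • u) (A ((-1 : F) • u)) = 0 := hiso
  rw [map_smul, bf_smul_left, bf_smul_right] at h3
  simpa using h3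

end Cfsg.Agent.S5704P
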