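import Mathlib
import Cfsg.Prelude.Def_GeometricClasses
import Cfsg.Agent.Helper24.S5704.Defs
import Cfsg.Agent.Helper17.S5704.STDefs
import Cfsg.Agent.Helper15.S5704SEEDDefs
import Cfsg.Agent.Helper11.S5704STHEIS
import Cfsg.Agent.Helper9.S5704CASE1A

/-! # S5704, chapter SEED, sub-chapter CASE1 (helper9), part B: scalar slices are given by a vector `z₀ ⊥ z`; after
multiplying by the Heisenberg element `Hz z₀ z` the element fixes `K_z` pointwise. -/

set_option autoImplicit false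
set_option linter.unusedSectionVars false
set_option linter.unusedVariables false
set_option linter.style.haveILetI false
set_option linter.unusedSimpArgs false

namespace Cfsg.Agent.S5704P

open Matrix Cfsg.Agent.S5637P Cfsg.Agent.S5704S Cfsg.Agent.Helper28.Sg Cfsg.Agent.S5634P

variable {F : Type*} [Field F] {n a b : ℕ} (e : Fin n ≃ Fin a × Fin b)

/-- the scalar slices `λ_w` are `bf GW w z₀` for some `z₀ ⊥ z` -/
theorem CASE1.exists_z0 {GW : Matrix (Fin b) (Fin b) F} (hW : IsSymp GW) (ha : 1 ≤ a)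
    {z : Fin b → F} (hz : z ≠ 0) {g : GL (Fin n) F}
    (hfixV : ∀ u : Fin a → F, (g : Matrix (Fin n) (Fin n) F) *ᵥ tn e u z = tn e u z)
    (hsc : ∀ w : Fin b → F, bf GW w z = 0 → ∃ lam : F, ∀ u : Fin a → F,
      (g : Matrix (Fin n) (Fin n) F) *ᵥ tn e u w = tn e u w + lam • tn e u z) :
    ∃ z₀ : Fin b → F, bf GW z₀ z = 0 ∧ ∀ w : Fin b → F, bf GW w z = 0 → ∀ u : Fin a → F,
      (g : Matrix (Fin n) (Fin n) F) *ᵥ tn e u w = tn e u w + bf GW w z₀ • tn e u z := by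
  classical
  set u₁ : Fin a → F := Pi.single (⟨0, by omega⟩ : Fin a) (1 : F) with hu₁
  have hu₁u₁ : u₁ ⬝ᵥ u₁ = 1 := by
    rw [hu₁, dotProduct_single, mul_one, Pi.single_eq_same]
  have hu₁0 : u₁ ≠ 0 := by
    intro h0
    rw [h0, dotProduct_zero] at hu₁u₁
    exact zero_ne_one hu₁u₁
  obtain ⟨y, hy⟩ := EX.one hW hz
  set ξ : Fin n → F := (tn e u₁ (psi GW y)) ᵥ* ((g : Matrix (Fin n) (Fin n) F) - 1) with hξ
  have hξx : ∀ x : Fin n → F, ξ ⬝ᵥ x =
      tn e u₁ (psi GW y) ⬝ᵥ ((g : Matrix (Fin n) (Fin n) F) *ᵥ x - x) := by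
    intro x
    rw [hξ, ← dotProduct_mulVec, sub_mulVec, one_mulVec]
  set ψΛ : Fin b → F := fun j => u₁ ⬝ᵥ col e ξ j with hψΛ
  have hΛ : ∀ w : Fin b → F, ψΛ ⬝ᵥ w = ξ ⬝ᵥ tn e u₁ w := by
    intro w
    rw [dotProduct_comm ξ, ← dot_cps, cps_eq_sum_col, dotProduct_sum]
    unfold dotProduct
    apply Finset.sum_congr rfl
    intro j _
    rw [hψΛ]
    simp only [dotProduct, Pi.smul_apply, smul_eq_mul, Finset.sum_mul]
    apply Finset.sum_congr rfl
    intro i _
    ring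
  obtain ⟨z₀, hz₀⟩ := STPSI hW ψΛ
  have hlam : ∀ w : Fin b → F, bf GW w z = 0 → ∀ lam : F,
      (∀ u : Fin a → F, (g : Matrix (Fin n) (Fin n) F) *ᵥ tn e u w = tn e u w + lam • tn e u z) →
        lam = bf GW w z₀ := by
    intro w hw lam hl
    rw [← psi_dot, hz₀, hΛ, hξx, hl u₁, add_sub_cancel_left, dotProduct_smul, tn_dot, hu₁u₁,
      psi_dot, hy, mul_one, smul_eq_mul, mul_one]
  have hmain : ∀ w : Fin b → F, bf GW w z = 0 → ∀ u : Fin a → F,
      (g : Matrix (Fin n) (Fin n) F) *ᵥ tn e u w = tn e u w + bf GW w z₀ • tn e u z := by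
    intro w hw u
    obtain ⟨lam, hl⟩ := hsc w hw
    rw [← hlam w hw lam hl]
    exact hl u
  refine ⟨z₀, ?_, hmain⟩
  have h1 := hmain z (hW.alt z) u₁
  rw [hfixV u₁] at h1
  have h2 : bf GW z z₀ • tn e u₁ z = 0 := by
    have := h1
    rw [left_eq_add] at this
    exact this
  rcases smul_eq_zero.mp h2 with h3 | h3
  · exact hW.eq_zero_symm h3
  · rcases (tn_eq_zero_iff e u₁ z).mp h3 with h4 | h4
    · exact absurd h4 hu₁0
    · exact absurd h4 hz

/-- `K_z` is spanned by `U ⊗ z^⊥` -/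
theorem CASE1.decomp {GW : Matrix (Fin b) (Fin b) F} (hW : IsSymp GW) {z : Fin b → F} (hz : z ≠ 0)
    {x : Fin n → F} (hx : cps e (psi GW z) x = 0) :
    ∃ (c : Fin b → Fin a → F) (w : Fin b → Fin b → F), (∀ j, bf GW (w j) z = 0) ∧
      x = ∑ j, tn e (c j) (w j) := by
  classical
  obtain ⟨y, hy⟩ := EX.one hW hz
  have hyz : bf GW y z = -1 := by rw [hW.skew, hy]
  refine ⟨fun j => col e x j, fun j => Pi.single j 1 + psi GW z j • y, fun j => ?_, ?_⟩
  · rw [bf_add_left, bf_smul_left, hyz, ← psi_dot, dotProduct_single, mul_one]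
    ring
  · have h1 : ∑ j, tn e (col e x j) (Pi.single j 1 + psi GW z j • y) =
        ∑ j, tn e (col e x j) (Pi.single j 1) + tn e (∑ j, psi GW z j • col e x j) y := by
      rw [tn_sum_left, ← Finset.sum_add_distrib]
      apply Finset.sum_congr rfl
      intro j _
      rw [tn_add_right, tn_smul_right, tn_smul_left]
    rw [h1, ← cps_eq_sum_col, hx, tn_zero_left, add_zero]
    exact eq_sum_tn_col e x

/-- on `K_z` the element `g` acts like the Heisenberg element -/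
theorem CASE1.on_Kz {GW : Matrix (Fin b) (Fin b) F} (hW : IsSymp GW) {z z₀ : Fin b → F} (hz : z ≠ 0)
    {g : GL (Fin n) F}
    (hg : ∀ w : Fin b → F, bf GW w z = 0 → ∀ u : Fin a → F,
      (g : Matrix (Fin n) (Fin n) F) *ᵥ tn e u w = tn e u w + bf GW w z₀ • tn e u z)
    {x : Fin n → F} (hx : cps e (psi GW z) x = 0) :
    (g : Matrix (Fin n) (Fin n) F) *ᵥ x = x + tn e (cps e (psi GW z₀) x) z := by
  obtain ⟨c, w, hw, rfl⟩ := CASE1.decomp e hW hz hx
  rw [mulVec_sum, map_sum, tn_sum_left, ← Finset.sum_add_distrib]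
  apply Finset.sum_congr rfl
  intro j _
  rw [hg (w j) (hw j), cps_tn, psi_dot, tn_smul_left]

/-- after multiplying by the Heisenberg element, `g` fixes `K_z` pointwise -/
theorem CASE1.fix_Kz {GW : Matrix (Fin b) (Fin b) F} (hW : IsSymp GW) {z z₀ : Fin b → F} (hz : z ≠ 0)
    (h0 : bf GW z₀ z = 0) {g : GL (Fin n) F}
    (hg : ∀ w : Fin b → F, bf GW w z = 0 → ∀ u : Fin a → F,
      (g : Matrix (Fin n) (Fin n) F) *ᵥ tn e u w = tn e u w + bf GW w z₀ • tn e u z)
    {x : Fin n → F} (hx : cps e (psi GW z) x = 0) :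
    (((Hz e GW z₀ z)⁻¹ * g : GL (Fin n) F) : Matrix (Fin n) (Fin n) F) *ᵥ x = x := by
  rw [Units.val_mul, ← mulVec_mulVec, CASE1.on_Kz e hW hz hg hx, ← (STHEIS e hW h0).2 x hx,
    mulVec_mulVec, ← Units.val_mul, inv_mul_cancel, Units.val_one, one_mulVec]

end Cfsg.Agent.S5704P
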