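import Mathlib
import Cfsg.Prelude.Def_GeometricClasses
import Cfsg.Agent.Helper24.S5704.Defs
import Cfsg.Agent.Helper17.S5704.STDefs
import Cfsg.Agent.Helper15.S5704SEEDDefs
import Cfsg.Agent.Helper9.S5704CASE1A
import Cfsg.Agent.Helper9.S5704CASE1B

/-! # S5704, chapter SEED, sub-chapter CASE1 (helper9), part C: the commutator of `XU u (-1)` with
`g' = 1 + A ⊗ z ψ_zᵀ` is the Siegel transformation `ρ(u ⊗ z, A u ⊗ z)`. -/

set_option autoImplicit false
set_option linter.unusedSectionVars false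
set_option linter.unusedVariables false
set_option linter.style.haveILetI false
set_option linter.unusedSimpArgs false

namespace Cfsg.Agent.S5704P

open Matrix Cfsg.Agent.S5637P Cfsg.Agent.S5704S Cfsg.Agent.Helper28.Sg Cfsg.Agent.S5634P

variable {F : Type*} [Field F] {n a b : ℕ} (e : Fin n ≃ Fin a × Fin b)

/-- an alternating `A` is self-adjoint for the symplectic form -/
theorem CASE1.selfadj {GU : Matrix (Fin a) (Fin a) F} (hU : IsSymp GU)
    (A : (Fin a → F) →ₗ[F] (Fin a → F)) (hA : ∀ u, bf GU u (A u) = 0) (v u : Fin a → F) :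
    bf GU (A v) u = bf GU v (A u) := by
  have h := hA (v + u)
  rw [map_add, bf_add_left, bf_add_right, bf_add_right, hA v, hA u] at h
  rw [hU.skew (A v) u]
  linear_combination (-1 : F) * h

/-- the Siegel transformation `ρ(u ⊗ z, u' ⊗ z)` in terms of the contraction `c_{ψ_z}` -/
theorem CASE1.siegO_apply {Q : QuadraticForm F (Fin n → F)} {GU : Matrix (Fin a) (Fin a) F}
    {GW : Matrix (Fin b) (Fin b) F} (hT : TData Q e 1 GU GW) (u u' : Fin a → F) (z : Fin b → F)
    (hx : Q (tn e u z) = 0) (hxv : B Q (tn e u z) (tn e u' z) = 0) (x : Fin n → F) :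
    mt Q (siegO Q (tn e u z) (tn e u' z) hx hxv) *ᵥ x =
      x + bf GU (cps e (psi GW z) x) u • tn e u' z - bf GU (cps e (psi GW z) x) u' • tn e u z := by
  rw [siegO_mulVec, CASE1.sing e hT, zero_mul, zero_smul, sub_zero]
  have h1 : B Q (tn e u z) x = bf GU (cps e (psi GW z) x) u := by
    show QuadraticMap.polar ⇑Q (tn e u z) x = _
    rw [QuadraticMap.polar_comm, STPOL e hT]
  have h2 : B Q (tn e u' z) x = bf GU (cps e (psi GW z) x) u' := by
    show QuadraticMap.polar ⇑Q (tn e u' z) x = _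
    rw [QuadraticMap.polar_comm, STPOL e hT]
  rw [h1, h2]

/-- the commutator identity `τ g' = ρ g' τ` -/
theorem CASE1.comm {Q : QuadraticForm F (Fin n → F)} {GU : Matrix (Fin a) (Fin a) F}
    {GW : Matrix (Fin b) (Fin b) F} (hT : TData Q e 1 GU GW) {z : Fin b → F}
    (A : (Fin a → F) →ₗ[F] (Fin a → F)) (hAalt : ∀ u, bf GU u (A u) = 0) {g' : GL (Fin n) F}
    (hg' : ∀ x : Fin n → F, (g' : Matrix (Fin n) (Fin n) F) *ᵥ x =
      x + tn e (A (cps e (psi GW z) x)) z)
    (u : Fin a → F) (hx : Q (tn e u z) = 0) (hxv : B Q (tn e u z) (tn e (A u) z) = 0) :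
    XU e GU u (-1) * g' =
      ((siegO Q (tn e u z) (tn e (A u) z) hx hxv : ↥(Cfsg.isometryGroup F ⇑Q)) : GL (Fin n) F) *
        g' * XU e GU u (-1) := by
  have hU := hT.sympU
  have hW := hT.sympW
  apply gl_ext_tn e
  intro u' w
  rw [Units.val_mul, Units.val_mul, Units.val_mul, ← mulVec_mulVec, ← mulVec_mulVec,
    ← mulVec_mulVec]
  have hL : ((XU e GU u (-1) : GL (Fin n) F) : Matrix (Fin n) (Fin n) F) *ᵥ
      ((g' : Matrix (Fin n) (Fin n) F) *ᵥ tn e u' w) =
      tn e (u' + (-1 * bf GU u' u) • u) w +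
        bf GW w z • tn e (A u' + (-1 * bf GU (A u') u) • u) z := by
    rw [hg', cps_tn, psi_dot, map_smul, tn_smul_left, mulVec_add, mulVec_smul,
      XU_mulVec_tn e hU, XU_mulVec_tn e hU]
  have hR1 : (g' : Matrix (Fin n) (Fin n) F) *ᵥ
      (((XU e GU u (-1) : GL (Fin n) F) : Matrix (Fin n) (Fin n) F) *ᵥ tn e u' w) =
      tn e (u' + (-1 * bf GU u' u) • u) w +
        bf GW w z • tn e (A (u' + (-1 * bf GU u' u) • u)) z := by
    rw [XU_mulVec_tn e hU, hg', cps_tn, psi_dot, map_smul, tn_smul_left]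
  have hκ : cps e (psi GW z) (tn e (u' + (-1 * bf GU u' u) • u) w +
        bf GW w z • tn e (A (u' + (-1 * bf GU u' u) • u)) z) =
      bf GW w z • (u' + (-1 * bf GU u' u) • u) := by
    rw [map_add, map_smul, cps_tn, cps_tn, psi_dot, psi_dot, hW.alt, zero_smul, smul_zero,
      add_zero]
  rw [hL, hR1]
  show _ = mt Q (siegO Q (tn e u z) (tn e (A u) z) hx hxv) *ᵥ _
  rw [CASE1.siegO_apply e hT, hκ]
  have hsa := CASE1.selfadj hU A hAalt u' u
  simp only [bf_add_left, bf_smul_left, map_add, map_smul, tn_add_left, tn_smul_left, hU.alt,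
    hAalt, hsa, mul_zero, add_zero]
  module

end Cfsg.Agent.S5704P
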