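import Mathlib
import Cfsg.Prelude.Def_GeometricClasses
import Cfsg.Agent.Helper24.S5704.Defs
import Cfsg.Agent.Helper17.S5704.STDefs
import Cfsg.Agent.Helper15.S5704SEEDDefs
import Cfsg.Agent.Helper26.S5704ROOTS
import Cfsg.Agent.Helper9.S5704CASE1A
import Cfsg.Agent.Helper9.S5704CASE1B
import Cfsg.Agent.Helper9.S5704CASE1C

/-! # S5704, chapter SEED, sub-chapter CASE1 (helper9): a bad radical element all of whose slices are scalar
gives a seed of type (A). -/

set_option autoImplicit false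
set_option linter.unusedSectionVars false
set_option linter.unusedVariables false
set_option linter.style.haveILetI false
set_option linter.unusedSimpArgs false

namespace Cfsg.Agent.S5704P

open Matrix Cfsg.Agent.S5637P Cfsg.Agent.S5704S Cfsg.Agent.Helper28.Sg Cfsg.Agent.S5634P

variable {F : Type*} [Field F] {n a b : ℕ} (e : Fin n ≃ Fin a × Fin b)

/-- a linear map all of whose vectors are eigenvectors is a scalar -/
theorem CASE1.exists_notMul (A : (Fin a → F) →ₗ[F] (Fin a → F))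
    (hA : ¬ ∃ lam : F, ∀ u, A u = lam • u) : ∃ u : Fin a → F, NotMul u (A u) := by
  by_contra hcon
  push Not at hcon
  apply hA
  have h : ∀ v : Fin a → F, ¬ LinearIndependent F ![v, A v] := by
    intro v hli
    have hv := hcon v
    unfold NotMul at hv
    push Not at hv
    obtain ⟨c, hc⟩ := hv
    rw [LinearIndependent.pair_iff] at hli
    have := hli c (-1) (by rw [hc]; module)
    exact absurd this.2 (by norm_num)
  obtain ⟨lam, hlam⟩ := LinearMap.exists_eq_smul_id_of_forall_notLinearIndependent h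
  refine ⟨lam, fun u => ?_⟩
  rw [hlam]
  rfl

/-- CASE1, with the membership of the root elements and the isometry property as hypotheses -/
theorem CASE1.core {Q : QuadraticForm F (Fin n → F)} {GU : Matrix (Fin a) (Fin a) F}
    {GW : Matrix (Fin b) (Fin b) F} (hT : TData Q e 1 GU GW) (ha : 1 ≤ a)
    {M : Subgroup (GL (Fin n) F)}
    (hiso : ∀ g : GL (Fin n) F, g ∈ M → g ∈ Cfsg.isometryGroup F ⇑Q)
    (hXU : ∀ (u : Fin a → F) (c : F), XU e GU u c ∈ M)
    (hXW : ∀ (v : Fin b → F) (c : F), XW e GW v c ∈ M)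
    {z : Fin b → F} (hz : z ≠ 0) {g : GL (Fin n) F} (hg : g ∈ M) (hrad : RadAt e GW z g)
    (hnk : g ∉ Kr e)
    (hsc : ∀ w : Fin b → F, bf GW w z = 0 → ∃ lam : F, ∀ u : Fin a → F,
      (g : Matrix (Fin n) (Fin n) F) *ᵥ tn e u w = tn e u w + lam • tn e u z) :
    SeedA e Q GU M := by
  have hW := hT.sympW
  obtain ⟨z₀, h0, hgz⟩ := CASE1.exists_z0 e hW ha hz hrad.1 hsc
  have hhM : Hz e GW z₀ z ∈ M := by
    unfold Hz
    exact M.mul_mem (M.mul_mem (hXW _ _) (hXW _ _)) (hXW _ _)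
  have hhK : Hz e GW z₀ z ∈ Kr e := by
    unfold Hz
    exact (Kr e).mul_mem ((Kr e).mul_mem (XW_mem_Kr e hW _ _) (XW_mem_Kr e hW _ _))
      (XW_mem_Kr e hW _ _)
  set g' : GL (Fin n) F := (Hz e GW z₀ z)⁻¹ * g with hg'def
  have hg'M : g' ∈ M := M.mul_mem (M.inv_mem hhM) hg
  have hg'K : g' ∉ Kr e := by
    intro hk
    apply hnk
    have : g = Hz e GW z₀ z * g' := by rw [hg'def, mul_inv_cancel_left]
    rw [this]
    exact (Kr e).mul_mem hhK hk
  have hfix : ∀ x : Fin n → F, cps e (psi GW z) x = 0 →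
      (g' : Matrix (Fin n) (Fin n) F) *ᵥ x = x := fun x hx => CASE1.fix_Kz e hW hz h0 hgz hx
  obtain ⟨A, hA, hAalt⟩ := CASE1.fixK e hT hz (hiso g' hg'M) hfix
  -- `A` is not a scalar
  have hns : ¬ ∃ lam : F, ∀ u, A u = lam • u := by
    rintro ⟨lam, hlam⟩
    apply hg'K
    have : g' = XW e GW z lam := by
      apply Units.ext
      apply Cfsg.Agent.Helper28.Spin.matrix_ext_mulVec
      intro x
      rw [hA, XW_mulVec e hW, hlam, tn_smul_left]
    rw [this]
    exact XW_mem_Kr e hW z lam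
  obtain ⟨u, hu⟩ := CASE1.exists_notMul A hns
  have hu0 : u ≠ 0 := by
    rintro rfl
    exact hu 0 (by rw [map_zero, smul_zero])
  have hx : Q (tn e u z) = 0 := CASE1.sing e hT u z
  have hxv : B Q (tn e u z) (tn e (A u) z) = 0 := by
    show QuadraticMap.polar ⇑Q (tn e u z) (tn e (A u) z) = 0
    rw [CASE1.pol e hT, hAalt, zero_mul]
  refine ⟨u, A u, z, hu0, hz, hAalt u, hu, hx, hxv, ?_⟩
  show ((siegO Q (tn e u z) (tn e (A u) z) hx hxv : ↥(Cfsg.isometryGroup F ⇑Q)) : GL (Fin n) F) ∈ M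
  have hcomm := CASE1.comm e hT A hAalt hA u hx hxv
  have hτ : XU e GU u (-1) ∈ M := hXU u (-1)
  have : ((siegO Q (tn e u z) (tn e (A u) z) hx hxv : ↥(Cfsg.isometryGroup F ⇑Q)) : GL (Fin n) F) =
      XU e GU u (-1) * g' * (XU e GU u (-1))⁻¹ * g'⁻¹ := by
    rw [hcomm]; group
  rw [this]
  exact M.mul_mem (M.mul_mem (M.mul_mem hτ hg'M) (M.inv_mem hτ)) (M.inv_mem hg'M)

/-- CASE1 (= S3 / SEED-C of helper24's design) in helper15's exact shape -/
theorem CASE1.main [Fintype F] {Q : QuadraticForm F (Fin n → F)} {GU : Matrix (Fin a) (Fin a) F}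
    {GW : Matrix (Fin b) (Fin b) F} {M : Subgroup (GL (Fin n) F)} (hC : Ctx e Q GU GW M)
    {z : Fin b → F} (hz : z ≠ 0) {g : GL (Fin n) F} (hg : g ∈ M) (hrad : RadAt e GW z g)
    (hnk : g ∉ Kr e)
    (hsc : ∀ w : Fin b → F, bf GW w z = 0 → ∃ lam : F, ∀ u : Fin a → F,
      (g : Matrix (Fin n) (Fin n) F) *ᵥ tn e u w = tn e u w + lam • tn e u z) :
    SeedA e Q GU M := by
  have ha : 1 ≤ a := by
    rcases hC.ha with h | h <;> omega
  have hiso : ∀ g : GL (Fin n) F, g ∈ M → g ∈ Cfsg.isometryGroup F ⇑Q := by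
    intro g hg
    obtain ⟨h, -, hh⟩ := (GLUE.mem_omegaGL_iff hC.nondeg hC.hn g).mp (hC.hMO hg)
    rw [← hh]
    exact h.2
  exact CASE1.core e hC.tdata ha hiso
    (fun u c => hC.hHM (ROOTS.XU_mem_H e hC.nondeg hC.hn hC.tdata u c))
    (fun v c => hC.hHM (ROOTS.XW_mem_H e hC.nondeg hC.hn hC.tdata v c)) hz hg hrad hnk hsc

end Cfsg.Agent.S5704P
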