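import Mathlib
import Cfsg.Agent.Helper15.S5704SEEDDefs2
import Cfsg.Agent.Helper25.S5704STPSI

/-! # S5704, chapter SEED, pieces ADJ and ADJRK (helper9 hedge): adjoints w.r.t. `bf GU`. -/

set_option autoImplicit false
set_option linter.unusedSectionVars false
set_option linter.unusedVariables false
set_option linter.style.haveILetI false
set_option linter.unusedSimpArgs false

namespace Cfsg.Agent.S5704P

open Matrix Cfsg.Agent.S5637P Cfsg.Agent.S5704S Cfsg.Agent.Helper28.Sg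

variable {F : Type*} [Field F] {n a b : ℕ} (e : Fin n ≃ Fin a × Fin b)
variable {Q : QuadraticForm F (Fin n → F)} {GU : Matrix (Fin a) (Fin a) F}
  {GW : Matrix (Fin b) (Fin b) F} {M : Subgroup (GL (Fin n) F)}

theorem ADJ.main (hU : IsSymp GU) (Θ : Matrix (Fin a) (Fin a) F) : ∃ Θ' : Matrix (Fin a) (Fin a) F, IsAdj GU Θ Θ' := by
  have hu : IsUnit GU := STPSI.isUnit hU
  have hdet : IsUnit GU.det := (Matrix.isUnit_iff_isUnit_det GU).mp hu
  refine ⟨(GU * Θ * GU⁻¹)ᵀ, fun x y => ?_⟩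
  unfold bf
  rw [mulVec_transpose, ← dotProduct_mulVec, mulVec_mulVec, Matrix.mul_assoc,
    Matrix.nonsing_inv_mul GU hdet, Matrix.mul_one, ← mulVec_mulVec]

theorem ADJRK.rk (hU : IsSymp GU) (u u' : Fin a → F) : IsAdj GU (RK GU u u') (-(RK GU u' u)) := by
  intro x y
  rw [neg_mulVec, RK_mulVec, RK_mulVec, bf_neg_left, bf_smul_left, bf_smul_right, hU.skew u' y]
  ring

theorem ADJRK.add {Θ Θ' Ψ Ψ' : Matrix (Fin a) (Fin a) F} (h : IsAdj GU Θ Θ') (h' : IsAdj GU Ψ Ψ') :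
    IsAdj GU (Θ + Ψ) (Θ' + Ψ') := by
  intro x y
  rw [add_mulVec, add_mulVec, bf_add_left, bf_add_right, h x y, h' x y]

theorem ADJRK.smul {Θ Θ' : Matrix (Fin a) (Fin a) F} (c : F) (h : IsAdj GU Θ Θ') : IsAdj GU (c • Θ) (c • Θ') := by
  intro x y
  rw [smul_mulVec, smul_mulVec, bf_smul_left, bf_smul_right, h x y]

theorem ADJRK.neg {Θ Θ' : Matrix (Fin a) (Fin a) F} (h : IsAdj GU Θ Θ') : IsAdj GU (-Θ) (-Θ') := by
  intro x y
  rw [neg_mulVec, neg_mulVec, bf_neg_left, bf_neg_right, h x y]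

theorem ADJRK.mul (u y u' y' : Fin a → F) : RK GU u y * RK GU u' y' = bf GU u' y • RK GU u y' := by
  unfold RK
  rw [vecMulVec_mul_vecMulVec', psi_dot]

end Cfsg.Agent.S5704P
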