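import Mathlib
import Cfsg.Agent.Helper15.S5704SEEDDefs2
import Cfsg.Agent.Helper26.S5704ROOTS
import Cfsg.Agent.Helper15.S5704SEEDLIB
import Cfsg.Agent.Helper9.S5704SEEDADJ
import Cfsg.Agent.Helper14.S5704SEEDF2
import Cfsg.Agent.Helper20.S5704SEEDEGFS

/-! # S5704, chapter SEED, piece CLEAN (helper9 hedge): `F2` applied to an `EGp` element kills the `C`-part when `ΘΘ† = 0`. -/

set_option autoImplicit false
set_option linter.unusedSectionVars false
set_option linter.unusedVariables false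
set_option linter.style.haveILetI false
set_option linter.unusedSimpArgs false

namespace Cfsg.Agent.S5704P

open Matrix Cfsg.Agent.S5637P Cfsg.Agent.S5704S Cfsg.Agent.Helper28.Sg

variable {F : Type*} [Field F] {n a b : ℕ} (e : Fin n ≃ Fin a × Fin b)
variable {Q : QuadraticForm F (Fin n → F)} {GU : Matrix (Fin a) (Fin a) F}
  {GW : Matrix (Fin b) (Fin b) F} {M : Subgroup (GL (Fin n) F)}

theorem CLEAN.main [Fintype F] (hC : Ctx e Q GU GW M) {z z1 : Fin b → F} (hzz1 : bf GW z1 z = 0)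
    {Θ Θ' C : Matrix (Fin a) (Fin a) F} {E : GL (Fin n) F} (hE : E ∈ M)
    (hEG : EGp e GW z z1 Θ Θ' C E) (hadj : IsAdj GU Θ Θ') (h0 : Θ * Θ' = 0)
    {z5 : Fin b → F} (hz5 : bf GW z5 z = 0) (c : F) :
    ∃ k : GL (Fin n) F, k ∈ M ∧
      EGp e GW z z5 ((c * bf GW z5 z1) • Θ) ((c * bf GW z5 z1) • Θ') 0 k := by
  have hT := hC.tdata
  have hW := hT.sympW
  have hX : XW e GW z5 c ∈ M := LIB.XW_mem e hC z5 c
  refine ⟨E * XW e GW z5 c * E⁻¹ * (XW e GW z5 c)⁻¹,
    M.mul_mem (M.mul_mem (M.mul_mem hE hX) (M.inv_mem hE)) (M.inv_mem hX), ?_⟩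
  have h := F2.main e hT (fun x => LIB.iso e hC hE x) hz5 (EGFS.fix e hW hzz1 hEG)
    (EGFS.slice e hEG hz5) (ADJRK.smul (bf GW z5 z1) hadj) c
  rw [smul_smul, smul_smul, smul_mul_assoc, mul_smul_comm, h0, smul_zero, smul_zero, smul_zero] at h
  exact h

end Cfsg.Agent.S5704P
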