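import Mathlib
import Cfsg.Agent.Helper15.S5704SEEDDefs2
import Cfsg.Agent.Helper26.S5704ROOTS
import Cfsg.Agent.Helper14.S5704FILLW
import Cfsg.Agent.Helper15.S5704SEEDLIB
import Cfsg.Agent.Helper9.S5704SEEDADJ
import Cfsg.Agent.Helper14.S5704SEEDF2
import Cfsg.Agent.Helper15.S5704SEEDEGCOMM
import Cfsg.Agent.Helper9.S5704SEEDCLEAN
import Cfsg.Agent.Helper14.S5704SEEDALT2
import Cfsg.Agent.Helper20.S5704SEEDEGINV
import Cfsg.Agent.Helper11.S5704SEEDEGMUL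
import Cfsg.Agent.Helper23.S5704SEEDDMAT2
import Cfsg.Agent.Helper21.S5704SEEDDICTB

/-! # S5704, chapter SEED, piece C2A (helper9): CASE 2, `a = 2`, `q ≥ 3` gives a seed of type (B). -/

set_option autoImplicit false
set_option linter.unusedSectionVars false
set_option linter.unusedVariables false
set_option linter.style.haveILetI false
set_option linter.unusedSimpArgs false

namespace Cfsg.Agent.S5704P

open Matrix Cfsg.Agent.S5637P Cfsg.Agent.S5704S Cfsg.Agent.Helper28.Sg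

variable {F : Type*} [Field F] {n a b : ℕ} (e : Fin n ≃ Fin a × Fin b)
variable {Q : QuadraticForm F (Fin n → F)} {GU : Matrix (Fin a) (Fin a) F}
  {GW : Matrix (Fin b) (Fin b) F} {M : Subgroup (GL (Fin n) F)}

/-- a field with at least three elements has an element different from `0` and `1` -/
theorem C2A.exists_ne [Fintype F] (hq : 3 ≤ Fintype.card F) : ∃ c : F, c ≠ 0 ∧ c ≠ 1 := by
  classical
  by_contra h
  push Not at h
  have hsub : (Finset.univ : Finset F) ⊆ {0, 1} := by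
    intro x _
    by_cases hx : x = 0
    · simp [hx]
    · simp [h x hx]
  have h1 : Fintype.card F ≤ ({0, 1} : Finset F).card := Finset.card_le_card hsub
  have h2 : ({0, 1} : Finset F).card ≤ 2 := Finset.card_le_two
  omega

/-- pulling a scalar out of the conjugation defect -/
theorem C2A.defect_smul (u : Fin a → F) (s c : F) (X : Matrix (Fin a) (Fin a) F) :
    TU GU u s * (c • X) * TU GU u (-s) - c • X = c • (TU GU u s * X * TU GU u (-s) - X) := by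
  rw [mul_smul_comm, smul_mul_assoc, smul_sub]

theorem C2A.main [Fintype F] (hC : Ctx e Q GU GW M) (ha : a = 2) (hq : 3 ≤ Fintype.card F)
    {z : Fin b → F} (hz : z ≠ 0) {g : GL (Fin n) F} (hg : g ∈ M) (hfix : FixV e z g)
    {z1 : Fin b → F} (hzz1 : bf GW z1 z = 0) (hz1 : NotMul z z1) {Θ : Matrix (Fin a) (Fin a) F}
    (hΘ : Slice e z z1 Θ g) (hns : ¬ IsScal Θ) : SeedB e Q GW M := by
  have hT := hC.tdata
  have hU := hT.sympU
  have hW := hT.sympW
  -- a vector with `(u, Θu) ≠ 0`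
  obtain ⟨u, hν⟩ : ∃ u : Fin a → F, bf GU u (Θ *ᵥ u) ≠ 0 := by
    by_contra h
    push Not at h
    exact hns (ALT2.main hU ha Θ h)
  set ν : F := bf GU u (Θ *ᵥ u) with hνdef
  have hu0 : u ≠ 0 := by
    rintro rfl
    exact hν (bf_zero_left GU _)
  obtain ⟨Θ', hadj⟩ := ADJ.main hU Θ
  -- the elements `E c = [g, XW z1 c]`
  have hEM : ∀ c : F, g * XW e GW z1 c * g⁻¹ * (XW e GW z1 c)⁻¹ ∈ M := fun c =>
    M.mul_mem (M.mul_mem (M.mul_mem hg (LIB.XW_mem e hC z1 c)) (M.inv_mem hg))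
      (M.inv_mem (LIB.XW_mem e hC z1 c))
  have hEG : ∀ c : F, EGp e GW z z1 (c • Θ) (c • Θ') (c • (Θ * Θ'))
      (g * XW e GW z1 c * g⁻¹ * (XW e GW z1 c)⁻¹) := fun c =>
    F2.main e hT (fun x => LIB.iso e hC hg x) hzz1 hfix hΘ hadj c
  -- two distinct non-zero scalars
  obtain ⟨c2, hc20, hc21⟩ := C2A.exists_ne hq
  set c1 : F := 1 with hc1
  have hc10 : c1 ≠ 0 := one_ne_zero
  -- the two commutators
  have hAM : XU e GU u c1 * (g * XW e GW z1 c2 * g⁻¹ * (XW e GW z1 c2)⁻¹) * (XU e GU u c1)⁻¹ *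
      (g * XW e GW z1 c2 * g⁻¹ * (XW e GW z1 c2)⁻¹)⁻¹ ∈ M :=
    M.mul_mem (M.mul_mem (M.mul_mem (LIB.XU_mem e hC u c1) (hEM c2))
      (M.inv_mem (LIB.XU_mem e hC u c1))) (M.inv_mem (hEM c2))
  have hBM : XU e GU u c2 * (g * XW e GW z1 c1 * g⁻¹ * (XW e GW z1 c1)⁻¹) * (XU e GU u c2)⁻¹ *
      (g * XW e GW z1 c1 * g⁻¹ * (XW e GW z1 c1)⁻¹)⁻¹ ∈ M :=
    M.mul_mem (M.mul_mem (M.mul_mem (LIB.XU_mem e hC u c2) (hEM c1))
      (M.inv_mem (LIB.XU_mem e hC u c2))) (M.inv_mem (hEM c1))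
  have hA := EGCOMM.main e hU hW hzz1 (hEG c2) u c1
  have hB := EGCOMM.main e hU hW hzz1 (hEG c1) u c2
  have hBinv := EGINV.main e hW hzz1 hB
  have hm := EGMUL.main e hW hzz1 hA hBinv
  have hmM := M.mul_mem hAM (M.inv_mem hBM)
  -- the parameters of `m`
  set κ : F := c1 * c2 * (c2 - c1) * ν with hκ
  have hκ0 : κ ≠ 0 := by
    rw [hκ]
    refine mul_ne_zero (mul_ne_zero (mul_ne_zero hc10 hc20) ?_) hν
    exact sub_ne_zero.mpr hc21
  have hp1 : TU GU u c1 * (c2 • Θ) * TU GU u (-c1) - c2 • Θ +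
      -(TU GU u c2 * (c1 • Θ) * TU GU u (-c2) - c1 • Θ) = -(κ • RK GU u u) := by
    rw [C2A.defect_smul, C2A.defect_smul, ← sub_eq_add_neg, DMAT2.main hU u c1 c2 Θ,
      hU.skew (Θ *ᵥ u) u, ← hνdef, hκ, ← neg_smul]
    congr 1
    ring
  have hp2 : TU GU u c1 * (c2 • Θ') * TU GU u (-c1) - c2 • Θ' +
      -(TU GU u c2 * (c1 • Θ') * TU GU u (-c2) - c1 • Θ') = κ • RK GU u u := by
    rw [C2A.defect_smul, C2A.defect_smul, ← sub_eq_add_neg, DMAT2.main hU u c1 c2 Θ',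
      hadj u u, ← hνdef, hκ]
  rw [hp1, hp2] at hm
  -- a partner `z5`
  obtain ⟨z5, hzz5, hs⟩ := FILL.exists_perp_not hW hz hz1
  have hz5 : bf GW z5 z = 0 := hW.eq_zero_symm hzz5
  set s : F := bf GW z5 z1 with hsdef
  have hadjK : IsAdj GU (-(κ • RK GU u u)) (κ • RK GU u u) := by
    have h1 := ADJRK.neg (ADJRK.smul κ (ADJRK.rk hU u u))
    rw [smul_neg, neg_neg] at h1
    exact h1
  have h0K : -(κ • RK GU u u) * (κ • RK GU u u) = 0 := by
    rw [neg_mul, smul_mul_assoc, mul_smul_comm, ADJRK.mul, hU.alt, zero_smul, smul_zero,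
      smul_zero, neg_zero]
  obtain ⟨k, hkM, hk⟩ := CLEAN.main e hC hzz1 hmM hm hadjK h0K hz5 (1 : F)
  rw [one_mul, smul_neg, smul_smul] at hk
  have hIn := DICTB.main e hT hz5 u (s * κ) hkM hk
  have hsκ : s * κ ≠ 0 := mul_ne_zero hs hκ0
  refine ⟨u, z, (s * κ) • z5, hu0, hz, ?_, ?_, ?_⟩
  · rw [bf_smul_right, hzz5, mul_zero]
  · intro d hd
    have h1 : bf GW ((s * κ) • z5) z1 = bf GW (d • z) z1 := by rw [hd]
    rw [bf_smul_left, bf_smul_left, hW.eq_zero_symm hzz1, mul_zero] at h1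
    exact mul_ne_zero hsκ hs h1
  · rw [tn_smul_right]
    exact hIn

end Cfsg.Agent.S5704P
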