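import Mathlib
import Cfsg.Agent.Helper15.S5704SEEDDefs2
import Cfsg.Agent.Helper26.S5704ROOTS
import Cfsg.Agent.Helper14.S5704FILLW
import Cfsg.Agent.Helper15.S5704SEEDLIB
import Cfsg.Agent.Helper9.S5704SEEDADJ
import Cfsg.Agent.Helper14.S5704SEEDF2
import Cfsg.Agent.Helper15.S5704SEEDEGCOMM
import Cfsg.Agent.Helper9.S5704SEEDCLEAN
import Cfsg.Agent.Helper23.S5704SEEDDD
import Cfsg.Agent.Helper3.S5704SEEDEGADDP

/-! # S5704, chapter SEED, piece C2BF (helper9): CASE 2, `a ≥ 4`, first half: the `G`-family for all `p ⊥ z`. -/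

set_option autoImplicit false
set_option linter.unusedSectionVars false
set_option linter.unusedVariables false
set_option linter.style.haveILetI false
set_option linter.unusedSimpArgs false

namespace Cfsg.Agent.S5704P

open Matrix Cfsg.Agent.S5637P Cfsg.Agent.S5704S Cfsg.Agent.Helper28.Sg

variable {F : Type*} [Field F] {n a b : ℕ} (e : Fin n ≃ Fin a × Fin b)
variable {Q : QuadraticForm F (Fin n → F)} {GU : Matrix (Fin a) (Fin a) F}
  {GW : Matrix (Fin b) (Fin b) F} {M : Subgroup (GL (Fin n) F)}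

/-- the adjoint of `l (·,u')u + l' (·,u)u'` -/
theorem C2BF.adj (hU : IsSymp GU) (u u' : Fin a → F) (l l' : F) :
    IsAdj GU (l • RK GU u u' + l' • RK GU u' u) (-(l' • RK GU u u' + l • RK GU u' u)) := by
  have h1 := ADJRK.smul l (ADJRK.rk hU u u')
  have h2 := ADJRK.smul l' (ADJRK.rk hU u' u)
  have h3 := ADJRK.add h1 h2
  have : -(l' • RK GU u u' + l • RK GU u' u) = l • -RK GU u' u + l' • -RK GU u u' := by
    rw [smul_neg, smul_neg]; abel
  rw [this]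
  exact h3

/-- products of the rank one matrices attached to a perpendicular pair vanish -/
theorem C2BF.prod_zero (hU : IsSymp GU) {u u' : Fin a → F} (huu' : bf GU u u' = 0)
    (l l' m m' : F) :
    (l • RK GU u u' + l' • RK GU u' u) * (m • RK GU u u' + m' • RK GU u' u) = 0 := by
  have h' : bf GU u' u = 0 := hU.eq_zero_symm huu'
  simp only [add_mul, mul_add, smul_mul_assoc, mul_smul_comm, ADJRK.mul, huu', h', hU.alt,
    zero_smul, smul_zero, add_zero]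

theorem C2BF.main [Fintype F] (hC : Ctx e Q GU GW M) {z : Fin b → F} (hz : z ≠ 0)
    {g : GL (Fin n) F} (hg : g ∈ M) (hfix : FixV e z g) {z1 : Fin b → F} (hzz1 : bf GW z1 z = 0)
    (hz1 : NotMul z z1) {Θ : Matrix (Fin a) (Fin a) F} (hΘ : Slice e z z1 Θ g) {u u' : Fin a → F}
    (huu' : bf GU u u' = 0) (c : F) (p : Fin b → F) (hp : bf GW p z = 0) :
    ∃ k : GL (Fin n) F, k ∈ M ∧
      EGp e GW z p
        (c • (bf GU u (Θ *ᵥ u') • RK GU u u' + bf GU u' (Θ *ᵥ u) • RK GU u' u))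
        (-(c • (bf GU u' (Θ *ᵥ u) • RK GU u u' + bf GU u (Θ *ᵥ u') • RK GU u' u))) 0 k := by
  have hT := hC.tdata
  have hU := hT.sympU
  have hW := hT.sympW
  obtain ⟨Θ', hadj⟩ := ADJ.main hU Θ
  -- the element `E = [g, XW z1 1]`
  have hXW1 : XW e GW z1 1 ∈ M := LIB.XW_mem e hC z1 1
  have hEM : g * XW e GW z1 1 * g⁻¹ * (XW e GW z1 1)⁻¹ ∈ M :=
    M.mul_mem (M.mul_mem (M.mul_mem hg hXW1) (M.inv_mem hg)) (M.inv_mem hXW1)
  have hEG := F2.main e hT (fun x => LIB.iso e hC hg x) hzz1 hfix hΘ hadj 1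
  rw [one_smul, one_smul, one_smul] at hEG
  set E : GL (Fin n) F := g * XW e GW z1 1 * g⁻¹ * (XW e GW z1 1)⁻¹ with hE
  -- first commutator
  have hXU : XU e GU u 1 ∈ M := LIB.XU_mem e hC u 1
  have hm1M : XU e GU u 1 * E * (XU e GU u 1)⁻¹ * E⁻¹ ∈ M :=
    M.mul_mem (M.mul_mem (M.mul_mem hXU hEM) (M.inv_mem hXU)) (M.inv_mem hEM)
  have hm1 := EGCOMM.main e hU hW hzz1 hEG u 1
  set m1 : GL (Fin n) F := XU e GU u 1 * E * (XU e GU u 1)⁻¹ * E⁻¹ with hm1def
  -- second commutator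
  have hXU' : XU e GU u' 1 ∈ M := LIB.XU_mem e hC u' 1
  have hm2M : XU e GU u' 1 * m1 * (XU e GU u' 1)⁻¹ * m1⁻¹ ∈ M :=
    M.mul_mem (M.mul_mem (M.mul_mem hXU' hm1M) (M.inv_mem hXU')) (M.inv_mem hm1M)
  have hm2 := EGCOMM.main e hU hW hzz1 hm1 u' 1
  rw [DD.main hU huu' Θ, DD.main hU huu' Θ', DD.main hU huu' (Θ * Θ')] at hm2
  set m2 : GL (Fin n) F := XU e GU u' 1 * m1 * (XU e GU u' 1)⁻¹ * m1⁻¹ with hm2def
  -- the coefficients of the adjoint
  have ha1 : bf GU u (Θ' *ᵥ u') = -bf GU u' (Θ *ᵥ u) := by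
    rw [hU.skew, hadj u' u]
  have ha2 : bf GU u' (Θ' *ᵥ u) = -bf GU u (Θ *ᵥ u') := by
    rw [hU.skew, hadj u u']
  set l : F := bf GU u (Θ *ᵥ u') with hl
  set l' : F := bf GU u' (Θ *ᵥ u) with hl'
  have hX' : -l' • RK GU u u' + -l • RK GU u' u = -(l' • RK GU u u' + l • RK GU u' u) := by
    rw [neg_smul, neg_smul]; abel
  rw [ha1, ha2, hX'] at hm2
  have hadjX := C2BF.adj hU u u' l l'
  have h0 : (l • RK GU u u' + l' • RK GU u' u) * -(l' • RK GU u u' + l • RK GU u' u) = 0 := by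
    rw [mul_neg, C2BF.prod_zero hU huu', neg_zero]
  -- one step: partners `z5 ⊥ z` with `(z5, z1) ≠ 0`
  have step : ∀ z5 : Fin b → F, bf GW z5 z = 0 → bf GW z5 z1 ≠ 0 →
      ∃ k : GL (Fin n) F, k ∈ M ∧ EGp e GW z z5 (c • (l • RK GU u u' + l' • RK GU u' u))
        (c • -(l' • RK GU u u' + l • RK GU u' u)) 0 k := by
    intro z5 hz5 hs
    obtain ⟨k, hkM, hk⟩ := CLEAN.main e hC hzz1 hm2M hm2 hadjX h0 hz5 (c / bf GW z5 z1)
    rw [div_mul_cancel₀ c hs] at hk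
    exact ⟨k, hkM, hk⟩
  have hfin : ∃ k : GL (Fin n) F, k ∈ M ∧ EGp e GW z p (c • (l • RK GU u u' + l' • RK GU u' u))
      (c • -(l' • RK GU u u' + l • RK GU u' u)) 0 k := by
    by_cases hs : bf GW p z1 = 0
    · obtain ⟨p0, hp0z, hp0⟩ := FILL.exists_perp_not hW hz hz1
      have hp0z' : bf GW p0 z = 0 := hW.eq_zero_symm hp0z
      have h1 : bf GW (p + p0) z = 0 := by rw [bf_add_left, hp, hp0z', add_zero]
      have h1' : bf GW (p + p0) z1 ≠ 0 := by rw [bf_add_left, hs, zero_add]; exact hp0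
      have h2 : bf GW (-p0) z = 0 := by rw [bf_neg_left, hp0z', neg_zero]
      have h2' : bf GW (-p0) z1 ≠ 0 := by rw [bf_neg_left]; exact neg_ne_zero.mpr hp0
      obtain ⟨k1, hk1M, hk1⟩ := step (p + p0) h1 h1'
      obtain ⟨k2, hk2M, hk2⟩ := step (-p0) h2 h2'
      have h00 : (c • (l • RK GU u u' + l' • RK GU u' u)) *
          (c • -(l' • RK GU u u' + l • RK GU u' u)) = 0 := by
        rw [smul_mul_assoc, mul_smul_comm, h0, smul_zero, smul_zero]
      have := EGADDP.main e hW h1 h2 h00 hk1 hk2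
      rw [add_neg_cancel_right] at this
      exact ⟨k1 * k2, M.mul_mem hk1M hk2M, this⟩
    · exact step p hp hs
  obtain ⟨k, hkM, hk⟩ := hfin
  rw [smul_neg] at hk
  exact ⟨k, hkM, hk⟩

end Cfsg.Agent.S5704P
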