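import Mathlib
import Cfsg.Agent.S0841

set_option autoImplicit false

namespace Cfsg.Agent.Helper9

open Subgroup
open scoped commutatorElement

variable {G : Type*} [Group G]

/-- class at most two in the form `[G', G] = 1` gives `G' ≤ Z(G)`. -/
theorem commutator_le_center_of_class_two (h : ⁅commutator G, (⊤ : Subgroup G)⁆ = ⊥) :
    commutator G ≤ center G := by
  rw [Subgroup.commutator_eq_bot_iff_le_centralizer] at h
  intro x hx
  have := h hx
  rw [Subgroup.mem_center_iff]
  intro g
  exact (Subgroup.mem_centralizer_iff.mp this) g (Subgroup.mem_top g)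

theorem commutatorElement_mem_center (hG : commutator G ≤ center G) (a b : G) :
    ⁅a, b⁆ ∈ center G := by
  apply hG
  rw [commutator_def]
  exact Subgroup.commutator_mem_commutator (Subgroup.mem_top _) (Subgroup.mem_top _)

/-- In a group of class at most two, `[a^n, b] = [a,b]^n`. -/
theorem commutatorElement_pow_left (hG : commutator G ≤ center G) (a b : G) (n : ℕ) :
    ⁅a ^ n, b⁆ = ⁅a, b⁆ ^ n := by
  induction n with
  | zero => simp
  | succ n ih =>
    rw [pow_succ', commutatorElement_mul_left_eq_conj_mul, ih]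
    have hc : ⁅a, b⁆ ^ n ∈ center G := Subgroup.pow_mem _ (commutatorElement_mem_center hG a b) n
    have h1 : a * ⁅a, b⁆ ^ n = ⁅a, b⁆ ^ n * a := Subgroup.mem_center_iff.mp hc a
    rw [h1, mul_assoc (⁅a, b⁆ ^ n), mul_inv_cancel, mul_one, ← pow_succ]

/-- In a group of class at most two, `[a, b^n] = [a,b]^n`. -/
theorem commutatorElement_pow_right (hG : commutator G ≤ center G) (a b : G) (n : ℕ) :
    ⁅a, b ^ n⁆ = ⁅a, b⁆ ^ n := by
  have h1 : ⁅a, b ^ n⁆ = (⁅b ^ n, a⁆)⁻¹ := (commutatorElement_inv (b ^ n) a).symm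
  rw [h1, commutatorElement_pow_left hG, ← inv_pow, commutatorElement_inv]

/-- For `p` odd, in a group of class at most two, a product of two elements of order dividing `p`
has order dividing `p`. -/
theorem mul_pow_prime_eq_one_of_class_two {p : ℕ} (hp : p.Prime) (hp2 : p ≠ 2)
    (hG : commutator G ≤ center G) (x y : G) (hx : x ^ p = 1) (hy : y ^ p = 1) :
    (x * y) ^ p = 1 := by
  rw [Cfsg.Agent.S0841.result hG x y p, hx, hy, one_mul, one_mul]
  have hc : y⁻¹ * x⁻¹ * y * x = ⁅y⁻¹, x⁻¹⁆ := by
    simp [commutatorElement_def]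
  have hcp : (y⁻¹ * x⁻¹ * y * x) ^ p = 1 := by
    rw [hc, ← commutatorElement_pow_left hG, inv_pow, hy, inv_one, commutatorElement_one_left]
  have hodd : Odd p := hp.odd_of_ne_two hp2
  obtain ⟨k, hk⟩ := hodd
  have h2 : p * (p - 1) / 2 = p * k := by
    have : p - 1 = 2 * k := by omega
    rw [this, ← mul_assoc, mul_comm p 2, mul_assoc, Nat.mul_div_cancel_left _ (by norm_num : 0 < 2)]
  rw [h2, pow_mul, hcp, one_pow]

/-- For `p` odd, in a group of class at most two, `Ω₁` has exponent dividing `p`. -/
theorem pow_prime_eq_one_of_mem_closure_of_class_two {p : ℕ} (hp : p.Prime) (hp2 : p ≠ 2)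
    (hG : commutator G ≤ center G) (g : G) (hg : g ∈ Subgroup.closure {x : G | x ^ p = 1}) :
    g ^ p = 1 := by
  induction hg using Subgroup.closure_induction with
  | mem x hx => exact hx
  | one => exact one_pow p
  | mul x y _ _ hx hy => exact mul_pow_prime_eq_one_of_class_two hp hp2 hG x y hx hy
  | inv x _ hx => rw [inv_pow, hx, inv_one]

end Cfsg.Agent.Helper9
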