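import Mathlib
import Cfsg.Agent.Helper27.Suz2Inj

set_option autoImplicit false

/-! # S3161 board, piece NF

The normal form of an equivariant biadditive map on a finite field of characteristic `2`:
if `B (w u) (w v) = w B u v` for all `w ≠ 0`, then `B u v ^ 2 = B 1 1 ^ 2 * (u v)`. -/

namespace Cfsg.Agent.S3161P

open Cfsg.Agent.Helper27.Suz2Inj

/-- NF: the normal form of an equivariant biadditive map on a finite field of characteristic 2. -/
theorem NF {F : Type*} [Field F] [Fintype F] [CharP F 2] (hF : 2 < Fintype.card F) (B : F → F → F)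
    (hB1 : ∀ u u' v, B (u + u') v = B u v + B u' v) (hB2 : ∀ u v v', B u (v + v') = B u v + B u v')
    (hBw : ∀ w u v : F, w ≠ 0 → B (w * u) (w * v) = w * B u v) :
    ∀ u v, B u v ^ 2 = B 1 1 ^ 2 * (u * v) := by
  classical
  have hB0l : ∀ z, B 0 z = 0 := by
    intro z
    have := hB1 0 0 z
    rw [add_zero] at this
    exact left_eq_add.mp this
  have hB0r : ∀ a, B a 0 = 0 := by
    intro a
    have := hB2 a 0 0
    rw [add_zero] at this
    exact left_eq_add.mp this
  have hBform : ∀ u z : F, u ≠ 0 → B u z = id u * B 1 ((id u)⁻¹ * z) := by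
    intro u z hu
    show B u z = u * B 1 (u⁻¹ * z)
    rw [← hBw u 1 (u⁻¹ * z) hu, mul_one, ← mul_assoc, mul_inv_cancel₀ hu, one_mul]
  by_cases hA0 : ∃ z, B 1 z ≠ 0
  · obtain ⟨c, σ, hc, -, hform⟩ := inj_field hF id rfl (fun _ _ => rfl) Function.bijective_id
      (B 1) (hB2 1) hA0 B hBform hB0l hB1
    have hform' : ∀ u z : F, B u z = c * (u / σ u) * σ z := by
      intro u z
      by_cases hu : u = 0
      · subst hu
        rw [hB0l, zero_div, mul_zero, zero_mul]
      · exact hform u z hu
    -- `ψ u = u / σ u` is a ring homomorphism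
    have hψc : ∀ u : F, u / σ u = c⁻¹ * B u 1 := by
      intro u
      rw [hform' u 1, map_one, mul_one, ← mul_assoc, inv_mul_cancel₀ hc, one_mul]
    have hψadd : ∀ u u' : F, (u + u') / σ (u + u') = u / σ u + u' / σ u' := by
      intro u u'
      rw [hψc, hψc, hψc, hB1, mul_add]
    have hψmul : ∀ u u' : F, (u * u') / σ (u * u') = u / σ u * (u' / σ u') := by
      intro u u'
      rw [map_mul, div_mul_div_comm]
    let Ψ : F →+* F :=
      { toFun := fun u => u / σ u
        map_one' := by
          show (1 : F) / σ 1 = 1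
          rw [map_one, div_one]
        map_mul' := hψmul
        map_zero' := by
          show (0 : F) / σ 0 = 0
          rw [zero_div]
        map_add' := hψadd }
    have hΨ : ∀ u, Ψ u = u / σ u := fun _ => rfl
    have hb : Function.Bijective Ψ :=
      ⟨Ψ.injective, Finite.injective_iff_surjective.mp Ψ.injective⟩
    let ρ : F ≃+* F := RingEquiv.ofBijective Ψ hb
    have hρ : ∀ u, ρ u = u / σ u := fun _ => rfl
    have : PerfectRing F 2 := PerfectRing.ofFiniteOfIsReduced 2 F
    let γ : F ≃+* F := (frobeniusEquiv F 2).symm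
    have hγ : ∀ w : F, γ w * γ w = w := by
      intro w
      have := frobeniusEquiv_symm_pow_p F 2 w
      rw [pow_two] at this
      exact this
    have hrel : ∀ w : F, ρ w * σ w = γ w * γ w := by
      intro w
      rw [hγ, hρ]
      by_cases hw : w = 0
      · subst hw
        rw [map_zero, mul_zero]
      · have hσw : σ w ≠ 0 := by simpa using hw
        rw [div_mul_cancel₀ _ hσw]
    have hσγ : σ = γ := by
      rcases pair_lemma ρ σ γ γ hrel with ⟨_, h⟩ | ⟨_, h⟩ <;> exact h
    have hc11 : B 1 1 = c := by
      rw [hform' 1 1, map_one, div_one, mul_one, mul_one]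
    intro u v
    rw [hc11, hform' u v, hσγ]
    by_cases hu : u = 0
    · subst hu
      rw [zero_div, mul_zero, zero_mul, zero_mul, mul_zero]
      exact zero_pow two_ne_zero
    · have hγu : γ u ≠ 0 := by simpa using hu
      have h1 : (u / γ u) = γ u := by
        rw [div_eq_iff hγu]
        exact (hγ u).symm
      rw [h1, mul_pow, mul_pow, pow_two (γ u), pow_two (γ v), hγ, hγ, mul_assoc]
  · push Not at hA0
    intro u v
    have h11 : B 1 1 = 0 := hA0 1
    rw [h11]
    by_cases hu : u = 0
    · subst hu
      rw [hB0l, zero_mul, mul_zero]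
      exact zero_pow two_ne_zero
    · have := hBform u v hu
      rw [hA0, mul_zero] at this
      rw [this]
      simp
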