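import Mathlib

set_option autoImplicit false

/-! # S3161 board, piece FIX2

An automorphism of order at most two of a finite `2`-group has a non-trivial fixed point on every
non-trivial invariant subgroup. -/

namespace Cfsg.Agent.S3161P

/-- FIX2: an automorphism of order ≤ 2 of a finite 2-group has a non-trivial fixed point on every
non-trivial invariant subgroup. -/
theorem FIX2 {T : Type*} [Group T] [Finite T] (hT : IsPGroup 2 T) (α : MulAut T)
    (hα : ∀ x, α (α x) = x) (H : Subgroup T) (hH : H ≠ ⊥) (hinv : ∀ x ∈ H, α x ∈ H) :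
    ∃ x ∈ H, x ≠ 1 ∧ α x = x := by
  classical
  have hZ : IsPGroup 2 H := hT.to_subgroup H
  have : Fintype H := Fintype.ofFinite H
  have : Fact (Nat.Prime 2) := ⟨Nat.prime_two⟩
  let f : Function.End H := fun z => ⟨α z, hinv z z.2⟩
  have hf : f ^ 2 ^ 1 = 1 := by
    funext z
    apply Subtype.ext
    show α (α z) = z
    exact hα z
  have h1 := Equiv.Perm.card_fixedPoints_modEq (p := 2) (n := 1) hf
  -- `card H` is even
  obtain ⟨k, hk⟩ := hZ.exists_card_eq
  have hk0 : k ≠ 0 := by
    intro h0
    rw [h0, pow_zero] at hk
    apply hH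
    exact Subgroup.eq_bot_of_card_eq H hk
  have heven : Fintype.card H % 2 = 0 := by
    rw [← Nat.card_eq_fintype_card, hk]
    obtain ⟨j, rfl⟩ := Nat.exists_eq_succ_of_ne_zero hk0
    rw [pow_succ]; simp
  by_contra hcon
  push Not at hcon
  -- then the only fixed point is `1`
  have hfix : Function.fixedPoints f = {1} := by
    ext z
    simp only [Set.mem_singleton_iff]
    constructor
    · intro hz
      by_contra hz1
      have h2 : α (z : T) = z := congrArg Subtype.val hz
      exact hcon z z.2 (fun h => hz1 (Subtype.ext h)) h2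
    · rintro rfl
      apply Subtype.ext
      show α 1 = 1
      exact map_one α
  have hcard : Fintype.card (Function.fixedPoints f) = 1 := by
    rw [Fintype.card_eq_one_iff]
    refine ⟨⟨1, by rw [hfix]; rfl⟩, ?_⟩
    rintro ⟨y, hy⟩
    apply Subtype.ext
    rw [hfix] at hy
    exact hy
  rw [hcard] at h1
  have := h1
  unfold Nat.ModEq at this
  omega

end Cfsg.Agent.S3161P
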