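import Mathlib

/-! Coordinate subspaces of `ι → F`: functions vanishing on a decidable set of coordinates. -/

set_option autoImplicit false

namespace Cfsg.Agent.Helper9.CoordKer

variable {F : Type*} [Field F] {ι : Type*}

/-- functions vanishing at all coordinates satisfying `P` -/
def vanish (F : Type*) [Field F] {ι : Type*} (P : ι → Prop) : Submodule F (ι → F) where
  carrier := {f | ∀ i, P i → f i = 0}
  add_mem' := by
    intro f g hf hg i hi
    simp [hf i hi, hg i hi]
  zero_mem' := by intro i _; rfl
  smul_mem' := by
    intro c f hf i hi
    simp [hf i hi]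

theorem mem_vanish {P : ι → Prop} {f : ι → F} : f ∈ vanish F P ↔ ∀ i, P i → f i = 0 := Iff.rfl

/-- restriction to the complement is a linear equivalence -/
noncomputable def vanishEquiv (P : ι → Prop) [DecidablePred P] :
    ↥(vanish F P) ≃ₗ[F] ({i // ¬ P i} → F) where
  toFun f := fun i => (f : ι → F) i.1
  map_add' := by intro f g; rfl
  map_smul' := by intro c f; rfl
  invFun g := ⟨fun i => if h : P i then 0 else g ⟨i, h⟩, by
    intro i hi
    simp [hi]⟩
  left_inv := by
    intro f
    apply Subtype.ext
    funext i
    by_cases h : P i
    · simp [h, f.2 i h]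
    · simp [h]
  right_inv := by
    intro g
    funext i
    simp [i.2]

theorem finrank_vanish [Fintype ι] (P : ι → Prop) [DecidablePred P] :
    Module.finrank F ↥(vanish F P) = Fintype.card {i // ¬ P i} := by
  rw [LinearEquiv.finrank_eq (vanishEquiv (F := F) P), Module.finrank_fintype_fun_eq_card]

end Cfsg.Agent.Helper9.CoordKer
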