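import Mathlib
import Cfsg.Agent.Helper9.CoordKer

/-! A nilpotent shift operator with prescribed Jordan type `1^{n₁} 2^{n₂} 3^{n₃}` and the
unipotent matrix `1 + N` built from it. -/

set_option autoImplicit false

namespace Cfsg.Agent.Helper9.UniMat

open Cfsg.Agent.Helper9.CoordKer

section shift

variable (F : Type*) [Field F] (n₁ n₂ n₃ : ℕ)

/-- index set: level-0, level-1 and level-2 basis vectors of the Jordan blocks -/
abbrev Idx := (Fin n₁ ⊕ Fin n₂ ⊕ Fin n₃) ⊕ (Fin n₂ ⊕ Fin n₃) ⊕ Fin n₃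

variable {F n₁ n₂ n₃}

/-- the shift, as a function -/
def shiftFun (f : Idx n₁ n₂ n₃ → F) : Idx n₁ n₂ n₃ → F
  | Sum.inl (Sum.inl _) => 0
  | Sum.inl (Sum.inr b) => f (Sum.inr (Sum.inl b))
  | Sum.inr (Sum.inl (Sum.inl _)) => 0
  | Sum.inr (Sum.inl (Sum.inr c)) => f (Sum.inr (Sum.inr c))
  | Sum.inr (Sum.inr _) => 0

variable (F n₁ n₂ n₃)

/-- the shift, as a linear map -/
def shift : (Idx n₁ n₂ n₃ → F) →ₗ[F] (Idx n₁ n₂ n₃ → F) where
  toFun := shiftFun
  map_add' := by
    intro f g
    funext i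
    rcases i with (a | b) | ((b | c) | c) <;> simp [shiftFun]
  map_smul' := by
    intro c f
    funext i
    rcases i with (a | b) | ((b | c) | c) <;> simp [shiftFun]

variable {F n₁ n₂ n₃}

theorem shift_apply (f : Idx n₁ n₂ n₃ → F) : shift F n₁ n₂ n₃ f = shiftFun f := rfl

/-- top level indicator -/
def isTop : Idx n₁ n₂ n₃ → Bool
  | Sum.inr (Sum.inr _) => true
  | _ => false

theorem ker_shift : LinearMap.ker (shift F n₁ n₂ n₃) =
    vanish F (fun i : Idx n₁ n₂ n₃ => i.isRight = true) := by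
  ext f
  rw [LinearMap.mem_ker, mem_vanish, shift_apply]
  constructor
  · intro h i hi
    rcases i with a | b | c
    · exact absurd hi (by simp)
    · have := congrFun h (Sum.inl (Sum.inr b))
      simpa [shiftFun] using this
    · have := congrFun h (Sum.inr (Sum.inl (Sum.inr c)))
      simpa [shiftFun] using this
  · intro h
    funext i
    rcases i with (a | b) | ((b | c) | c) <;> simp [shiftFun]
    · exact h _ rfl
    · exact h _ rfl

theorem ker_shift_sq : LinearMap.ker ((shift F n₁ n₂ n₃) ^ 2) =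
    vanish F (fun i : Idx n₁ n₂ n₃ => isTop i = true) := by
  ext f
  rw [LinearMap.mem_ker, mem_vanish, pow_two, Module.End.mul_apply, shift_apply, shift_apply]
  constructor
  · intro h i hi
    rcases i with (a | b) | ((b | c) | c)
    · exact absurd hi (by simp [isTop])
    · exact absurd hi (by simp [isTop])
    · exact absurd hi (by simp [isTop])
    · exact absurd hi (by simp [isTop])
    · have := congrFun h (Sum.inl (Sum.inr (Sum.inr c)))
      simpa [shiftFun] using this
  · intro h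
    funext i
    rcases i with (a | (b | c)) | ((b | c) | c) <;> simp [shiftFun]
    exact h _ rfl

theorem shift_cube : (shift F n₁ n₂ n₃) ^ 3 = 0 := by
  apply LinearMap.ext
  intro f
  funext i
  rw [pow_succ, pow_two, Module.End.mul_apply, Module.End.mul_apply, shift_apply, shift_apply,
    shift_apply]
  rcases i with (a | (b | c)) | ((b | c) | c) <;> simp [shiftFun]

theorem card_not_isRight (A B : Type*) [Fintype A] [Fintype B] :
    Fintype.card {i : A ⊕ B // ¬ i.isRight = true} = Fintype.card A := by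
  apply Fintype.card_congr
  refine ⟨fun i => match i with
    | ⟨Sum.inl a, _⟩ => a
    | ⟨Sum.inr b, h⟩ => absurd rfl h, fun a => ⟨Sum.inl a, by simp⟩, ?_, ?_⟩
  · rintro ⟨a | b, h⟩
    · rfl
    · exact absurd rfl h
  · intro a; rfl

theorem card_not_isTop :
    Fintype.card {i : Idx n₁ n₂ n₃ // ¬ isTop i = true} = n₁ + 2 * n₂ + 2 * n₃ := by
  have : Fintype.card {i : Idx n₁ n₂ n₃ // ¬ isTop i = true} =
      Fintype.card ((Fin n₁ ⊕ Fin n₂ ⊕ Fin n₃) ⊕ (Fin n₂ ⊕ Fin n₃)) := by
    apply Fintype.card_congr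
    refine ⟨fun i => match i with
      | ⟨Sum.inl a, _⟩ => Sum.inl a
      | ⟨Sum.inr (Sum.inl b), _⟩ => Sum.inr b
      | ⟨Sum.inr (Sum.inr c), h⟩ => absurd rfl h,
      fun a => match a with
      | Sum.inl a => ⟨Sum.inl a, by simp [isTop]⟩
      | Sum.inr b => ⟨Sum.inr (Sum.inl b), by simp [isTop]⟩, ?_, ?_⟩
    · rintro ⟨a | b | c, h⟩
      · rfl
      · rfl
      · exact absurd rfl h
    · rintro (a | b) <;> rfl
  rw [this]
  simp only [Fintype.card_sum, Fintype.card_fin]
  ring

theorem finrank_ker_shift :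
    Module.finrank F (LinearMap.ker (shift F n₁ n₂ n₃)) = n₁ + n₂ + n₃ := by
  classical
  rw [ker_shift, finrank_vanish, card_not_isRight]
  simp only [Fintype.card_sum, Fintype.card_fin]
  ring

theorem finrank_ker_shift_sq :
    Module.finrank F (LinearMap.ker ((shift F n₁ n₂ n₃) ^ 2)) = n₁ + 2 * n₂ + 2 * n₃ := by
  classical
  rw [ker_shift_sq, finrank_vanish, card_not_isTop]

theorem card_Idx : Fintype.card (Idx n₁ n₂ n₃) = n₁ + 2 * n₂ + 3 * n₃ := by
  simp only [Fintype.card_sum, Fintype.card_fin]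
  ring

end shift

section transport

variable {F : Type*} [Field F] {V W : Type*} [AddCommGroup V] [Module F V]
  [AddCommGroup W] [Module F W]

theorem ker_conj (φ : V ≃ₗ[F] W) (N : Module.End F V) :
    LinearMap.ker (φ.conjAlgEquiv F N) = (LinearMap.ker N).map (φ : V →ₗ[F] W) := by
  ext x
  rw [LinearMap.mem_ker, LinearEquiv.conjAlgEquiv_apply, Submodule.mem_map_equiv,
    LinearMap.mem_ker]
  simp

theorem finrank_ker_conj (φ : V ≃ₗ[F] W) (N : Module.End F V) :
    Module.finrank F (LinearMap.ker (φ.conjAlgEquiv F N)) = Module.finrank F (LinearMap.ker N) := by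
  rw [ker_conj]
  exact LinearEquiv.finrank_map_eq φ _

end transport

section matrix

variable {F : Type*} [Field F] {p : ℕ} [Fact p.Prime] [CharP F p]

theorem one_add_pow_char {d : ℕ} (hp2 : p ≠ 2) (M : Matrix (Fin d) (Fin d) F) (hM : M ^ 3 = 0) :
    (1 + M) ^ p = 1 := by
  rcases isEmpty_or_nonempty (Fin d) with h | h
  · exact Subsingleton.elim _ _
  · have hp3 : 3 ≤ p := by
      have := (Fact.out : p.Prime).two_le
      omega
    rw [add_pow_char_of_commute p (Commute.one_left M), one_pow,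
      pow_eq_zero_of_le hp3 hM, add_zero]

theorem exists_unip_of_nilp (hp2 : p ≠ 2) {d : ℕ} (N : Module.End F (Fin d → F))
    (hN : N ^ 3 = 0) :
    ∃ A : GL (Fin d) F, A ^ p = 1 ∧
      Matrix.toLin' (A : Matrix (Fin d) (Fin d) F) - 1 = N := by
  have hM : (LinearMap.toMatrix' N) ^ 3 = 0 := by
    have : (LinearMap.toMatrixAlgEquiv' N) ^ 3 = 0 := by
      rw [← map_pow, hN, map_zero]
    exact this
  have h1 := one_add_pow_char (p := p) hp2 _ hM
  have hp0 : p ≠ 0 := (Fact.out : p.Prime).ne_zero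
  refine ⟨Units.ofPowEqOne _ p h1 hp0, ?_, ?_⟩
  · apply Units.ext
    rw [Units.val_pow_eq_pow_val, Units.val_ofPowEqOne, h1, Units.val_one]
  · rw [Units.val_ofPowEqOne, map_add, Matrix.toLin'_one, Matrix.toLin'_toMatrix']
    exact add_sub_cancel_left (1 : Module.End F (Fin d → F)) N

end matrix

end Cfsg.Agent.Helper9.UniMat
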