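import Mathlib
import Cfsg.Agent.Helper27.S5989Defs
import Cfsg.Agent.Helper28.Spin6
import Cfsg.Agent.Helper9.UniMat

/-! S5989 piece UNIMAT: a unipotent matrix of order dividing `p` with Jordan type
`1^{n₁} 2^{n₂} 3^{n₃}`. -/

set_option autoImplicit false

namespace Cfsg.Agent.S5989P

open Cfsg.Agent.Helper2.SympInvol Cfsg.Agent.Helper2.SympUnits Cfsg.Agent.S5961P
  Cfsg.Agent.S5992P Cfsg.Agent.Helper28.Spin

/-- UNIMAT -/
theorem exists_unip_matrix {F : Type*} [Field F] {p : ℕ} [Fact p.Prime] [CharP F p]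
    (hp2 : p ≠ 2) (n₁ n₂ n₃ d : ℕ) (hd : d = n₁ + 2 * n₂ + 3 * n₃) :
    ∃ A : GL (Fin d) F, A ^ p = 1 ∧
      Module.finrank F (LinearMap.ker (Matrix.toLin' (A : Matrix (Fin d) (Fin d) F) - 1)) =
        n₁ + n₂ + n₃ ∧
      Module.finrank F (LinearMap.ker ((Matrix.toLin' (A : Matrix (Fin d) (Fin d) F) - 1) ^ 2)) =
        n₁ + 2 * n₂ + 2 * n₃ ∧
      (Matrix.toLin' (A : Matrix (Fin d) (Fin d) F) - 1) ^ 3 = 0 := by
  classical
  have e : Cfsg.Agent.Helper9.UniMat.Idx n₁ n₂ n₃ ≃ Fin d :=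
    Fintype.equivFinOfCardEq (by rw [Cfsg.Agent.Helper9.UniMat.card_Idx, hd])
  let φ : (Cfsg.Agent.Helper9.UniMat.Idx n₁ n₂ n₃ → F) ≃ₗ[F] (Fin d → F) :=
    LinearEquiv.funCongrLeft F F e.symm
  let S := Cfsg.Agent.Helper9.UniMat.shift F n₁ n₂ n₃
  have hN3 : (φ.conjAlgEquiv F S) ^ 3 = 0 := by
    rw [← map_pow, Cfsg.Agent.Helper9.UniMat.shift_cube, map_zero]
  obtain ⟨A, hA, hAN⟩ := Cfsg.Agent.Helper9.UniMat.exists_unip_of_nilp (p := p) hp2 _ hN3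
  refine ⟨A, hA, ?_, ?_, ?_⟩
  · rw [hAN, Cfsg.Agent.Helper9.UniMat.finrank_ker_conj,
      Cfsg.Agent.Helper9.UniMat.finrank_ker_shift]
  · rw [hAN, ← map_pow, Cfsg.Agent.Helper9.UniMat.finrank_ker_conj,
      Cfsg.Agent.Helper9.UniMat.finrank_ker_shift_sq]
  · rw [hAN, hN3]

end Cfsg.Agent.S5989P
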