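import Mathlib
import Cfsg.Agent.Helper27.S5989Defs
import Cfsg.Agent.Helper28.Spin6
import Cfsg.Agent.Helper9.CoordKer

/-! S5989 piece PLUSTOP: the standard plus-type form has a totally singular `d`-space. -/

set_option autoImplicit false

namespace Cfsg.Agent.S5989P

open Cfsg.Agent.Helper2.SympInvol Cfsg.Agent.Helper2.SympUnits Cfsg.Agent.S5961P
  Cfsg.Agent.S5992P Cfsg.Agent.Helper28.Spin

/-- PLUSTOP -/
theorem plus_top_QfPlus {F : Type*} [Field F] (d : ℕ) : Plus (QfPlus d F) ⊤ := by
  classical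
  refine ⟨Cfsg.Agent.Helper9.CoordKer.vanish F (fun i : Fin d ⊕ Fin d => i.isRight = true),
    le_top, ?_, ?_⟩
  · intro u hu
    change Cfsg.quadFormPlus d F u = 0
    unfold Cfsg.quadFormPlus
    apply Finset.sum_eq_zero
    intro i _
    rw [hu (Sum.inr i) rfl, mul_zero]
  · rw [Cfsg.Agent.Helper9.CoordKer.finrank_vanish, finrank_top,
      Module.finrank_fintype_fun_eq_card, Fintype.card_sum, Fintype.card_fin]
    have : Fintype.card {i : Fin d ⊕ Fin d // ¬ i.isRight = true} = d := by
      refine (Fintype.card_congr (β := Fin d) ?_).trans (Fintype.card_fin d)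
      refine ⟨fun i => match i with
        | ⟨Sum.inl a, _⟩ => a
        | ⟨Sum.inr b, h⟩ => absurd rfl h, fun a => ⟨Sum.inl a, by simp⟩, ?_, ?_⟩
      · rintro ⟨a | b, h⟩
        · rfl
        · exact absurd rfl h
      · intro a; rfl
    rw [this]; ring

end Cfsg.Agent.S5989P
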