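import Mathlib
import Cfsg.Agent.Helper29.S2560CDefs
import Cfsg.Agent.Helper25.S2482SRCARD
import Cfsg.Agent.Helper19.S2482DIVSHIFT
import Cfsg.Agent.Helper24.S2558N1CARD

/-! S2560 chapter (C) COUNT (driver helper29), piece WNSCARD (helper9): the three entry counts
`= Wns q b = SR b - SR (b - 2)`. -/

set_option autoImplicit false

namespace Cfsg.Agent.S2560P

open Polynomial Cfsg.Agent.S2478P Cfsg.Agent.S2481P Cfsg.Agent.S2482P Cfsg.Agent.S2558P

universe u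

namespace WNSCARD

/-- the set-theoretic core: pairs `(h, s)`, `h ∈ S` not divisible by `d1`, `s = true` only if `d2 ∣ h` -/
theorem core {R : Type u} [CommRing R] (S : Set R) (hfin : S.Finite) (d1 d2 : R) (nS n1 n2 : ℕ)
    (hS : S.ncard = nS) (hA : {h | h ∈ S ∧ d1 ∣ h}.ncard = n1)
    (hB : {h | h ∈ S ∧ d2 ∣ h}.ncard = n1)
    (hAB : {h | h ∈ S ∧ d1 ∣ h ∧ d2 ∣ h}.ncard = n2) :
    Nat.card {x : R × Bool // x.1 ∈ S ∧ ¬ d1 ∣ x.1 ∧ (x.2 = true → d2 ∣ x.1)} = nS - n2 := by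
  classical
  set A : Set R := {h | h ∈ S ∧ d1 ∣ h} with hAdef
  set B : Set R := {h | h ∈ S ∧ d2 ∣ h} with hBdef
  set AB : Set R := {h | h ∈ S ∧ d1 ∣ h ∧ d2 ∣ h} with hABdef
  set P1 : Set R := {h | h ∈ S ∧ ¬ d1 ∣ h} with hP1
  set P2 : Set R := {h | h ∈ S ∧ ¬ d1 ∣ h ∧ d2 ∣ h} with hP2
  have hAS : A ⊆ S := fun h hh => hh.1
  have hBS : B ⊆ S := fun h hh => hh.1
  have hABB : AB ⊆ B := fun h hh => ⟨hh.1, hh.2.2⟩
  have e1 : P1.ncard + A.ncard = S.ncard := by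
    have : P1 = S \ A := by
      ext h
      simp only [hP1, hAdef, Set.mem_ofPred_eq, Set.mem_sdiff]
      tauto
    rw [this]
    exact Set.ncard_sdiff_add_ncard_of_subset hAS hfin
  have e2 : P2.ncard + AB.ncard = B.ncard := by
    have : P2 = B \ AB := by
      ext h
      simp only [hP2, hBdef, hABdef, Set.mem_ofPred_eq, Set.mem_sdiff]
      tauto
    rw [this]
    exact Set.ncard_sdiff_add_ncard_of_subset hABB (hfin.subset hBS)
  -- the equivalence with a sum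
  have e3 : Nat.card {x : R × Bool // x.1 ∈ S ∧ ¬ d1 ∣ x.1 ∧ (x.2 = true → d2 ∣ x.1)} =
      P1.ncard + P2.ncard := by
    have hf1 : Finite P1 := (hfin.subset (fun h hh => hh.1)).to_subtype
    have hf2 : Finite P2 := (hfin.subset (fun h hh => hh.1)).to_subtype
    rw [← Nat.card_coe_set_eq P1, ← Nat.card_coe_set_eq P2, ← Nat.card_sum]
    refine Nat.card_congr ⟨fun x => ?_, fun y => ?_, ?_, ?_⟩
    · exact if hx : x.1.2 = true then Sum.inr ⟨x.1.1, x.2.1, x.2.2.1, x.2.2.2 hx⟩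
        else Sum.inl ⟨x.1.1, x.2.1, x.2.2.1⟩
    · exact Sum.elim (fun h => ⟨(h.1, false), h.2.1, h.2.2, fun hh => by simp at hh⟩)
        (fun h => ⟨(h.1, true), h.2.1, h.2.2.1, fun _ => h.2.2.2⟩) y
    · rintro ⟨⟨h, s⟩, hx⟩
      cases s <;> simp
    · rintro (y | y) <;> simp
  rw [e3]
  omega

section count

variable {F : Type u} [Field F] [Fintype F]

open N1CARD

theorem card_dvd_sub (hodd : Odd (Fintype.card F)) (b : ℕ) :
    {h | h ∈ SS F b ∧ (X - 1 : F[X]) ∣ h}.ncard =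
      if 1 ≤ b then SR (Fintype.card F) (b - 1) else 0 := by
  split_ifs with hb
  · obtain ⟨b', rfl⟩ : ∃ b', b = b' + 1 := ⟨b - 1, by omega⟩
    rw [Nat.add_sub_cancel, ← SRCARD.card_SR hodd b',
      ← DIVSHIFT.card_dvd_shift (1 : F) (one_mul 1) b', ← Nat.card_coe_set_eq]
    refine Nat.card_congr (Equiv.subtypeEquivRight fun h => ?_)
    simp only [SS, Set.mem_ofPred_eq, X_sub_one_eq]
    tauto
  · have hb0 : b = 0 := by omega
    have : {h | h ∈ SS F b ∧ (X - 1 : F[X]) ∣ h} = ∅ := by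
      ext h
      simp only [SS, Set.mem_ofPred_eq, Set.mem_empty_iff_false, iff_false]
      rintro ⟨⟨hm, hd, -, -⟩, hdvd⟩
      have := one_le_of_dvd (by rw [X_sub_one_eq, natDegree_X_sub_C]) hm hdvd
      omega
    rw [this, Set.ncard_empty]

theorem card_dvd_add (hodd : Odd (Fintype.card F)) (b : ℕ) :
    {h | h ∈ SS F b ∧ (X + 1 : F[X]) ∣ h}.ncard =
      if 1 ≤ b then SR (Fintype.card F) (b - 1) else 0 := by
  split_ifs with hb
  · obtain ⟨b', rfl⟩ : ∃ b', b = b' + 1 := ⟨b - 1, by omega⟩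
    rw [Nat.add_sub_cancel, ← SRCARD.card_SR hodd b',
      ← DIVSHIFT.card_dvd_shift (-1 : F) (by ring) b', ← Nat.card_coe_set_eq]
    refine Nat.card_congr (Equiv.subtypeEquivRight fun h => ?_)
    simp only [SS, Set.mem_ofPred_eq, X_add_one_eq]
    tauto
  · have hb0 : b = 0 := by omega
    have : {h | h ∈ SS F b ∧ (X + 1 : F[X]) ∣ h} = ∅ := by
      ext h
      simp only [SS, Set.mem_ofPred_eq, Set.mem_empty_iff_false, iff_false]
      rintro ⟨⟨hm, hd, -, -⟩, hdvd⟩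
      have := one_le_of_dvd (by rw [X_add_one_eq, natDegree_X_sub_C]) hm hdvd
      omega
    rw [this, Set.ncard_empty]

theorem card_dvd_both (hodd : Odd (Fintype.card F)) (b : ℕ) :
    {h | h ∈ SS F b ∧ (X - 1 : F[X]) ∣ h ∧ (X + 1 : F[X]) ∣ h}.ncard =
      if 2 ≤ b then SR (Fintype.card F) (b - 2) else 0 := by
  split_ifs with hb
  · obtain ⟨b', rfl⟩ : ∃ b', b = b' + 2 := ⟨b - 2, by omega⟩
    rw [Nat.add_sub_cancel, ← SRCARD.card_SR hodd b', ← DIVSHIFT.card_dvd_shift2 hodd b',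
      ← Nat.card_coe_set_eq]
    refine Nat.card_congr (Equiv.subtypeEquivRight fun h => ?_)
    simp only [SS, Set.mem_ofPred_eq]
    tauto
  · have : {h | h ∈ SS F b ∧ (X - 1 : F[X]) ∣ h ∧ (X + 1 : F[X]) ∣ h} = ∅ := by
      ext h
      simp only [SS, Set.mem_ofPred_eq, Set.mem_empty_iff_false, iff_false]
      rintro ⟨⟨hm, hd, -, -⟩, hdvd1, hdvd2⟩
      have := two_le_of_dvd hodd hm hdvd1 hdvd2
      omega
    rw [this, Set.ncard_empty]

/-- `(X + 1)^2` is self-reciprocal -/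
theorem card_dvd_sq (hodd : Odd (Fintype.card F)) (b : ℕ) :
    {h | h ∈ SS F b ∧ (X + 1 : F[X]) ^ 2 ∣ h}.ncard =
      if 2 ≤ b then SR (Fintype.card F) (b - 2) else 0 := by
  have h2 : (-1 : F) * (-1) = 1 := by ring
  set d : F[X] := (X - C (-1)) * (X - C (-1)) with hd
  have hdd : (X + 1 : F[X]) ^ 2 = d := by rw [hd, X_add_one_eq, sq]
  have hdm : d.Monic := (monic_X_sub_C (-1)).mul (monic_X_sub_C (-1))
  have hd0 : d.coeff 0 ≠ 0 := by
    rw [hd, mul_coeff_zero]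
    exact mul_ne_zero (DIVSHIFT.coeff_zero_X_sub_C_ne h2) (DIVSHIFT.coeff_zero_X_sub_C_ne h2)
  have hdt : tilde0 d = d := by
    show tilde (RingHom.id F) d = d
    rw [hd, tilde_mul (RingHom.id F) (DIVSHIFT.coeff_zero_X_sub_C_ne h2)
      (DIVSHIFT.coeff_zero_X_sub_C_ne h2)]
    have t2 : tilde (RingHom.id F) (X - C (-1 : F)) = X - C (-1) := DIVSHIFT.tilde0_X_sub_C h2
    rw [t2]
  have hdeg : d.natDegree = 2 := by
    rw [hd, (monic_X_sub_C (-1 : F)).natDegree_mul (monic_X_sub_C (-1)), natDegree_X_sub_C]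
  rw [hdd]
  split_ifs with hb
  · obtain ⟨b', rfl⟩ : ∃ b', b = b' + 2 := ⟨b - 2, by omega⟩
    rw [Nat.add_sub_cancel, ← SRCARD.card_SR hodd b',
      ← DIVSHIFT.card_dvd_shift_gen d hdm hd0 hdt 2 b' hdeg, ← Nat.card_coe_set_eq]
    refine Nat.card_congr (Equiv.subtypeEquivRight fun h => ?_)
    simp only [SS, Set.mem_ofPred_eq]
    tauto
  · have : {h | h ∈ SS F b ∧ d ∣ h} = ∅ := by
      ext h
      simp only [SS, Set.mem_ofPred_eq, Set.mem_empty_iff_false, iff_false]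
      rintro ⟨⟨hm, hd', -, -⟩, hdvd⟩
      have := natDegree_le_of_dvd hdvd hm.ne_zero
      omega
    rw [this, Set.ncard_empty]

end count

end WNSCARD

section count

variable {F : Type u} [Field F] [Fintype F]

open N1CARD WNSCARD

theorem WNSCARD.card_minus (hodd : Odd (Fintype.card F)) (b : ℕ) :
    Nat.card {x : F[X] × Bool // x.1.Monic ∧ x.1.natDegree = b ∧ x.1.coeff 0 ≠ 0 ∧
        tilde0 x.1 = x.1 ∧ ¬ (X + 1 : F[X]) ∣ x.1 ∧ (x.2 = true → (X - 1 : F[X]) ∣ x.1)} =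
      Wns (Fintype.card F) b := by
  have hAB : {h | h ∈ SS F b ∧ (X + 1 : F[X]) ∣ h ∧ (X - 1 : F[X]) ∣ h}.ncard =
      if 2 ≤ b then SR (Fintype.card F) (b - 2) else 0 := by
    rw [← card_dvd_both hodd b]
    congr 1
    ext h
    simp only [Set.mem_ofPred_eq]
    tauto
  have h := core (SS F b) (finite_SS hodd b) (X + 1 : F[X]) (X - 1) _ _ _ (ncard_SS hodd b)
    (card_dvd_add hodd b) (card_dvd_sub hodd b) hAB
  unfold Wns
  rw [← h]
  refine Nat.card_congr (Equiv.subtypeEquivRight fun x => ?_)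
  simp only [SS, Set.mem_ofPred_eq]
  tauto

theorem WNSCARD.card_plus (hodd : Odd (Fintype.card F)) (b : ℕ) :
    Nat.card {x : F[X] × Bool // x.1.Monic ∧ x.1.natDegree = b ∧ x.1.coeff 0 ≠ 0 ∧
        tilde0 x.1 = x.1 ∧ ¬ (X - 1 : F[X]) ∣ x.1 ∧ (x.2 = true → (X + 1 : F[X]) ∣ x.1)} =
      Wns (Fintype.card F) b := by
  have h := core (SS F b) (finite_SS hodd b) (X - 1 : F[X]) (X + 1) _ _ _ (ncard_SS hodd b)
    (card_dvd_sub hodd b) (card_dvd_add hodd b) (card_dvd_both hodd b)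
  unfold Wns
  rw [← h]
  refine Nat.card_congr (Equiv.subtypeEquivRight fun x => ?_)
  simp only [SS, Set.mem_ofPred_eq]
  tauto

theorem WNSCARD.card_one (hodd : Odd (Fintype.card F)) (b : ℕ) :
    Nat.card {h : F[X] // h.Monic ∧ h.natDegree = b ∧ h.coeff 0 ≠ 0 ∧ tilde0 h = h ∧
        ¬ (X + 1 : F[X]) ^ 2 ∣ h} = Wns (Fintype.card F) b := by
  have hcard : Nat.card {h : F[X] // h.Monic ∧ h.natDegree = b ∧ h.coeff 0 ≠ 0 ∧ tilde0 h = h ∧
      ¬ (X + 1 : F[X]) ^ 2 ∣ h} = (SS F b \ {h | h ∈ SS F b ∧ (X + 1 : F[X]) ^ 2 ∣ h}).ncard := by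
    rw [← Nat.card_coe_set_eq]
    refine Nat.card_congr (Equiv.subtypeEquivRight fun x => ?_)
    simp only [SS, Set.mem_ofPred_eq, Set.mem_sdiff]
    tauto
  have e1 := Set.ncard_sdiff_add_ncard_of_subset
    (s := {h | h ∈ SS F b ∧ (X + 1 : F[X]) ^ 2 ∣ h}) (t := SS F b) (fun h hh => hh.1)
    (finite_SS hodd b)
  rw [ncard_SS hodd b, card_dvd_sq hodd b] at e1
  rw [hcard]
  unfold Wns
  omega

end count

end Cfsg.Agent.S2560P
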