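import Mathlib

/-!
# S3913 pieces HINT and SYLINT (helper9): intersection of a subgroup with a normal Hall / normal Sylow subgroup.
-/

set_option autoImplicit false

namespace Cfsg.Agent.S3913P

/-- `|A ⊓ F| * F.relIndex A = |A|`. -/
theorem HINT_aux_card {G : Type*} [Group G] [Finite G] (F A : Subgroup G) :
    Nat.card ↥(A ⊓ F) * F.relIndex A = Nat.card ↥A := by
  have h1 : Nat.card ↥(F.subgroupOf A) * (F.subgroupOf A).index = Nat.card ↥A :=
    Subgroup.card_mul_index (F.subgroupOf A)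
  have h2 : Nat.card ↥(F.subgroupOf A) = Nat.card ↥(A ⊓ F) := by
    rw [← Subgroup.inf_subgroupOf_left F A]
    exact Nat.card_congr (Subgroup.subgroupOfEquivOfLe (inf_le_left : A ⊓ F ≤ A)).toEquiv
  rw [h2] at h1
  exact h1

/-- HINT (M): intersection with a normal Hall subgroup. -/
theorem HINT {G : Type*} [Group G] [Finite G] (F : Subgroup G) [F.Normal]
    (hF : (Nat.card ↥F).Coprime F.index) (A : Subgroup G) :
    Nat.card ↥(A ⊓ F) = Nat.gcd (Nat.card ↥A) (Nat.card ↥F) := by
  have h1 := HINT_aux_card F A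
  have h2 : F.relIndex A ∣ F.index := Subgroup.relIndex_dvd_index_of_normal F A
  have h3 : Nat.card ↥(A ⊓ F) ∣ Nat.card ↥F := Subgroup.card_dvd_of_le inf_le_right
  obtain ⟨m, hm⟩ := h3
  have hcop : Nat.Coprime (F.relIndex A) m := by
    have hmF : m ∣ Nat.card ↥F := ⟨Nat.card ↥(A ⊓ F), by rw [hm, mul_comm]⟩
    exact (Nat.Coprime.coprime_dvd_left hmF (Nat.Coprime.coprime_dvd_right h2 hF)).symm
  rw [← h1, hm, Nat.gcd_mul_left, hcop, mul_one]

/-- SYLINT (M): intersection with a normal Sylow subgroup. -/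
theorem SYLINT {G : Type*} [Group G] [Finite G] (p : ℕ) [Fact p.Prime] (P : Sylow p G)
    (hP : (P : Subgroup G).Normal) (A : Subgroup G) :
    Nat.card ↥(A ⊓ (P : Subgroup G)) = p ^ (Nat.card ↥A).factorization p := by
  have hp : p.Prime := Fact.out
  have := hP
  have h1 := HINT_aux_card (P : Subgroup G) A
  have h2 : (P : Subgroup G).relIndex A ∣ (P : Subgroup G).index :=
    Subgroup.relIndex_dvd_index_of_normal _ _
  have h3 : ¬ p ∣ (P : Subgroup G).relIndex A := fun h => P.not_dvd_index (h.trans h2)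
  have hpg : IsPGroup p ↥(A ⊓ (P : Subgroup G)) := P.isPGroup'.to_le inf_le_right
  obtain ⟨n, hn⟩ := IsPGroup.iff_card.mp hpg
  have hApos : Nat.card ↥A ≠ 0 := Nat.card_pos.ne'
  have hkpos : (P : Subgroup G).relIndex A ≠ 0 := by
    intro h0; rw [h0, mul_zero] at h1; exact hApos h1.symm
  have hfac : (Nat.card ↥A).factorization p = n := by
    rw [← h1, hn, Nat.factorization_mul (pow_ne_zero _ hp.ne_zero) hkpos]
    simp [Nat.factorization_eq_zero_of_not_dvd h3, hp.factorization_pow]
  rw [hfac, hn]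

end Cfsg.Agent.S3913P
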