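import Mathlib
import Cfsg.Agent.Helper17.S3913Defs

/-!
# S3913 piece ZQUOT, core (helper9): a subgroup of a `CycQ` group is a Z-group or contains a quaternion Sylow
`2`-subgroup.  The core takes the conclusion of QG2 (subgroups of `Q8` are cyclic or everything) as a hypothesis.
-/

set_option autoImplicit false

namespace Cfsg.Agent.S3913P

/-- core of ZQUOT, with QG2 for the Sylow `2`-subgroups of `K` as a hypothesis. -/
theorem ZQUOT_aux_core {K : Type*} [Group K] [Finite K] (hK : CycQ K) (X : Subgroup K)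
    (hX : ¬ IsZGroup ↥X)
    (hQG2 : ∀ (P : Sylow 2 K) (_ : ↥(P : Subgroup K) ≃* QuaternionGroup 2)
      (T : Subgroup ↥(P : Subgroup K)), IsCyclic ↥T ∨ T = ⊤) :
    ∃ P : Sylow 2 K, Nonempty (↥(P : Subgroup K) ≃* QuaternionGroup 2) ∧ (P : Subgroup K) ≤ X := by
  classical
  -- a non-cyclic Sylow subgroup of `X`
  have h1 : ∃ r : ℕ, r.Prime ∧ ∃ S : Sylow r ↥X, ¬ IsCyclic ↥(S : Subgroup ↥X) := by
    by_contra hcon
    push Not at hcon
    exact hX ⟨fun p hp S => hcon p hp S⟩
  obtain ⟨r, hr, S, hS⟩ := h1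
  have : Fact r.Prime := ⟨hr⟩
  -- its image in `K` lies in a Sylow `r`-subgroup `P` of `K`
  have hpg : IsPGroup r ↥((S : Subgroup ↥X).map X.subtype) := S.isPGroup'.map X.subtype
  obtain ⟨P, hP⟩ := hpg.exists_le_sylow
  -- the injective homomorphism `S → P`
  let f : ↥(S : Subgroup ↥X) →* ↥(P : Subgroup K) :=
    MonoidHom.codRestrict (X.subtype.comp (S : Subgroup ↥X).subtype) (P : Subgroup K)
      (fun x => hP ⟨x.1, x.2, rfl⟩)
  have hf : Function.Injective f := by
    intro x y hxy
    have := congrArg (fun z : ↥(P : Subgroup K) => (z : K)) hxy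
    exact Subtype.ext (Subtype.ext this)
  rcases hK r P with hc | ⟨hr2, ⟨e⟩⟩
  · exact absurd (isCyclic_of_injective f hf) hS
  · subst hr2
    refine ⟨P, ⟨e⟩, ?_⟩
    rcases hQG2 P e f.range with hc | htop
    · exfalso
      apply hS
      have : IsCyclic ↥f.range := hc
      exact isCyclic_of_injective f.rangeRestrict
        (by
          intro x y hxy
          apply hf
          have := congrArg (fun z : ↥f.range => (z : ↥(P : Subgroup K))) hxy
          simpa using this)
    · intro y hy
      have hy' : (⟨y, hy⟩ : ↥(P : Subgroup K)) ∈ f.range := by rw [htop]; trivial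
      obtain ⟨x, hx⟩ := hy'
      have := congrArg (fun z : ↥(P : Subgroup K) => (z : K)) hx
      simp only [f] at this
      have h2 : ((x : ↥X) : K) = y := this
      rw [← h2]
      exact (x : ↥X).2

end Cfsg.Agent.S3913P
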