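import Mathlib
import Cfsg.Agent.Helper9.S3913ZQUOTcore
import Cfsg.Agent.Helper21.S3913QG2

/-!
# S3913 piece ZQUOT (helper9): a subgroup of a `CycQ` group is a Z-group or contains a quaternion Sylow `2`-subgroup.
-/

set_option autoImplicit false

namespace Cfsg.Agent.S3913P

/-- ZQUOT (M; QG2). -/
theorem ZQUOT {K : Type*} [Group K] [Finite K] (hK : CycQ K) (X : Subgroup K) (hX : ¬ IsZGroup ↥X) :
    ∃ P : Sylow 2 K, Nonempty (↥(P : Subgroup K) ≃* QuaternionGroup 2) ∧ (P : Subgroup K) ≤ X :=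
  ZQUOT_aux_core hK X hX (fun _ e T => QG2 e T)

end Cfsg.Agent.S3913P
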