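import Mathlib
import Cfsg.Agent.Helper26.S4057Defs

set_option autoImplicit false

/-! S4057 board, pieces CLASS2 and CLASS2P: the power formula in class 2. -/

namespace Cfsg.Agent.S4057P

open scoped commutatorElement

/-- auxiliary: `b ^ m * a = ⁅b, a⁆ ^ m * a * b ^ m` when `⁅b, a⁆` commutes with `a` and `b`. -/
theorem CLASS2_aux_pow_mul {G : Type*} [Group G] (a b : G)
    (h2 : Commute ⁅b, a⁆ b) (m : ℕ) : b ^ m * a = ⁅b, a⁆ ^ m * a * b ^ m := by
  have hba : b * a = ⁅b, a⁆ * a * b := by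
    rw [commutatorElement_def]; group
  induction m with
  | zero => simp
  | succ m ih =>
    have hcm : Commute (⁅b, a⁆ ^ m) b := h2.pow_left m
    calc b ^ (m + 1) * a = b * (b ^ m * a) := by rw [pow_succ', mul_assoc]
      _ = b * (⁅b, a⁆ ^ m * a * b ^ m) := by rw [ih]
      _ = (b * ⁅b, a⁆ ^ m) * a * b ^ m := by group
      _ = (⁅b, a⁆ ^ m * b) * a * b ^ m := by rw [hcm.eq]
      _ = ⁅b, a⁆ ^ m * (b * a) * b ^ m := by group
      _ = ⁅b, a⁆ ^ m * (⁅b, a⁆ * a * b) * b ^ m := by rw [← hba]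
      _ = (⁅b, a⁆ ^ m * ⁅b, a⁆) * a * (b * b ^ m) := by group
      _ = ⁅b, a⁆ ^ (m + 1) * a * b ^ (m + 1) := by rw [← pow_succ, ← pow_succ']

/-- CLASS2: the power formula in class 2. -/
theorem CLASS2 {G : Type*} [Group G] (a b : G) (h1 : Commute ⁅b, a⁆ a) (h2 : Commute ⁅b, a⁆ b)
    (m : ℕ) : (a * b) ^ m = a ^ m * b ^ m * ⁅b, a⁆ ^ (m * (m - 1) / 2) := by
  induction m with
  | zero => simp
  | succ m ih =>
    have hT : (m + 1) * (m + 1 - 1) / 2 = m * (m - 1) / 2 + m := Nat.triangle_succ m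
    set c := ⁅b, a⁆ with hc
    set T := m * (m - 1) / 2 with hTdef
    have hca : ∀ k : ℕ, Commute (c ^ k) a := fun k => h1.pow_left k
    have hcb : ∀ k : ℕ, Commute (c ^ k) b := fun k => h2.pow_left k
    have hcbm : ∀ k : ℕ, Commute (c ^ k) (b ^ m) := fun k => (h2.pow_left k).pow_right m
    have hpm := CLASS2_aux_pow_mul a b h2 m
    rw [← hc] at hpm
    rw [hT]
    calc (a * b) ^ (m + 1) = (a * b) ^ m * (a * b) := pow_succ _ _
      _ = a ^ m * b ^ m * c ^ T * (a * b) := by rw [ih]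
      _ = a ^ m * b ^ m * (c ^ T * a) * b := by group
      _ = a ^ m * b ^ m * (a * c ^ T) * b := by rw [(hca T).eq]
      _ = a ^ m * (b ^ m * a) * c ^ T * b := by group
      _ = a ^ m * (c ^ m * a * b ^ m) * c ^ T * b := by rw [hpm]
      _ = a ^ m * (c ^ m * a) * (b ^ m * c ^ T) * b := by group
      _ = a ^ m * (a * c ^ m) * (c ^ T * b ^ m) * b := by rw [(hca m).eq, (hcbm T).eq]
      _ = a ^ m * a * c ^ m * c ^ T * (b ^ m * b) := by group
      _ = a ^ (m + 1) * (c ^ m * c ^ T) * b ^ (m + 1) := by rw [← pow_succ, ← pow_succ]; group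
      _ = a ^ (m + 1) * (c ^ (T + m) * b ^ (m + 1)) := by rw [← pow_add, add_comm m T]; group
      _ = a ^ (m + 1) * (b ^ (m + 1) * c ^ (T + m)) := by
          rw [((h2.pow_left (T + m)).pow_right (m + 1)).eq]
      _ = a ^ (m + 1) * b ^ (m + 1) * c ^ (T + m) := by group

/-- CLASS2P: for `p` odd, `(ab)^p = a^p b^p` when `[b,a]` is central of order dividing `p`. -/
theorem CLASS2P {G : Type*} [Group G] {p : ℕ} [Fact p.Prime] (hp : p ≠ 2) (a b : G)
    (h1 : Commute ⁅b, a⁆ a) (h2 : Commute ⁅b, a⁆ b) (h3 : ⁅b, a⁆ ^ p = 1) :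
    (a * b) ^ p = a ^ p * b ^ p := by
  rw [CLASS2 a b h1 h2 p]
  have hodd : Odd p := (Fact.out : p.Prime).odd_of_ne_two hp
  obtain ⟨k, hk⟩ := hodd
  have hdiv : p * (p - 1) / 2 = p * k := by
    have : p - 1 = 2 * k := by omega
    rw [this, ← mul_assoc, mul_comm p 2, mul_assoc, Nat.mul_div_cancel_left _ (by norm_num : 0 < 2)]
  rw [hdiv, pow_mul, h3, one_pow, mul_one]

end Cfsg.Agent.S4057P
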