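import Mathlib
import Cfsg.Agent.Helper4.S4404Defs

set_option autoImplicit false

namespace Cfsg.Agent.S4404P

variable {S : Type*} [Group S] [Finite S]

/-- WLE : `[M, g] ≤ M` for normal `M`. -/
theorem Wc_le (M : Subgroup S) [M.Normal] (g : S) : Wc M g ≤ M := by
  unfold Wc
  exact Subgroup.commutator_le_left M (Subgroup.zpowers g)

end Cfsg.Agent.S4404P
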