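import Mathlib
import Cfsg.Prelude.Def_GeometricClasses
import Cfsg.Agent.Helper24.S5704.Defs
import Cfsg.Agent.Helper17.S5704.STDefs

/-! # S5704, chapter STAR', piece STEXT (helper9 hedge): Witt extension of a similarity of `z^⊥` fixing `z`. -/

set_option autoImplicit false
set_option linter.unusedSectionVars false
set_option linter.unusedVariables false
set_option linter.style.haveILetI false
set_option linter.unusedSimpArgs false

namespace Cfsg.Agent.S5704P

open Matrix Cfsg.Agent.S5637P Cfsg.Agent.S5704S Cfsg.Agent.S5634P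

variable {F : Type*} [Field F] {n a b : ℕ} (e : Fin n ≃ Fin a × Fin b)

/-- every functional is `bf G · t` -/
theorem STEXT.exists_t {m : ℕ} {G : Matrix (Fin m) (Fin m) F} (hG : IsSymp G) (ψ : Fin m → F) :
    ∃ t : Fin m → F, ∀ v, bf G v t = ψ ⬝ᵥ v := by
  have hinj : Function.Injective (Matrix.mulVecLin G) := by
    rw [injective_iff_map_eq_zero]
    intro t ht
    have ht' : G *ᵥ t = 0 := ht
    apply hG.nondeg
    intro y
    rw [hG.skew]
    unfold bf
    rw [ht', dotProduct_zero, neg_zero]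
  obtain ⟨t, ht⟩ := (LinearMap.injective_iff_surjective.mp hinj) ψ
  have ht' : G *ᵥ t = ψ := ht
  refine ⟨t, fun v => ?_⟩
  unfold bf
  rw [ht', dotProduct_comm]

theorem STEXT.exists_dual {m : ℕ} {G : Matrix (Fin m) (Fin m) F} (hG : IsSymp G) {z : Fin m → F}
    (hz : z ≠ 0) : ∃ zs : Fin m → F, bf G zs z = 1 := by
  have h : ∃ y, bf G z y ≠ 0 := by
    by_contra h
    push Not at h
    exact hz (hG.nondeg z h)
  obtain ⟨y, hy⟩ := h
  refine ⟨(-(bf G z y)⁻¹) • y, ?_⟩
  rw [bf_smul_left, hG.skew y z]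
  field_simp

theorem STEXT {GW : Matrix (Fin b) (Fin b) F} (hW : IsSymp GW) {z : Fin b → F} (hz : z ≠ 0)
    (B : GL (Fin b) F) (hBz : (B : Matrix (Fin b) (Fin b) F) *ᵥ z = z)
    (hBψ : psi GW z ᵥ* (B : Matrix (Fin b) (Fin b) F) = psi GW z) {ν : F} (hν : ν ≠ 0)
    (hsim : ∀ w w' : Fin b → F, bf GW w z = 0 → bf GW w' z = 0 →
      bf GW ((B : Matrix (Fin b) (Fin b) F) *ᵥ w) ((B : Matrix (Fin b) (Fin b) F) *ᵥ w') =
        ν * bf GW w w') :
    ∃ B' : GL (Fin b) F, (B' : Matrix (Fin b) (Fin b) F) *ᵥ z = z ∧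
      (∀ w : Fin b → F, bf GW w z = 0 →
        (B' : Matrix (Fin b) (Fin b) F) *ᵥ w = (B : Matrix (Fin b) (Fin b) F) *ᵥ w) ∧
      ∀ w w' : Fin b → F,
        bf GW ((B' : Matrix (Fin b) (Fin b) F) *ᵥ w) ((B' : Matrix (Fin b) (Fin b) F) *ᵥ w') =
          ν * bf GW w w' := by
  classical
  obtain ⟨zs, hzs⟩ := STEXT.exists_dual hW hz
  obtain ⟨t, ht⟩ := STEXT.exists_t hW
    (ν • (psi GW zs ᵥ* ((B⁻¹ : GL (Fin b) F) : Matrix (Fin b) (Fin b) F)))
  -- the key property of `t`
  have key : ∀ w : Fin b → F, bf GW ((B : Matrix (Fin b) (Fin b) F) *ᵥ w) t = ν * bf GW w zs := by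
    intro w
    rw [ht, smul_dotProduct, smul_eq_mul, ← dotProduct_mulVec, mulVec_mulVec,
      ← Units.val_mul, inv_mul_cancel, Units.val_one, one_mulVec, psi_dot]
  set Bm : Matrix (Fin b) (Fin b) F :=
    (B : Matrix (Fin b) (Fin b) F) * (1 - vecMulVec zs (psi GW z)) + vecMulVec t (psi GW z) with hBm
  have hBmv : ∀ w : Fin b → F, Bm *ᵥ w =
      (B : Matrix (Fin b) (Fin b) F) *ᵥ (w - bf GW w z • zs) + bf GW w z • t := by
    intro w
    rw [hBm, add_mulVec, ← mulVec_mulVec, sub_mulVec, one_mulVec, vecMulVec_mulVec',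
      vecMulVec_mulVec', psi_dot]
  have hperp : ∀ w : Fin b → F, bf GW (w - bf GW w z • zs) z = 0 := by
    intro w
    rw [bf_sub_left, bf_smul_left, hzs, mul_one, sub_self]
  have hsimB : ∀ w w' : Fin b → F, bf GW (Bm *ᵥ w) (Bm *ᵥ w') = ν * bf GW w w' := by
    intro w w'
    rw [hBmv, hBmv]
    have h1 := hsim _ _ (hperp w) (hperp w')
    have h2 := key (w - bf GW w z • zs)
    have h3 := key (w' - bf GW w' z • zs)
    have h4 : bf GW t ((B : Matrix (Fin b) (Fin b) F) *ᵥ (w' - bf GW w' z • zs)) =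
        -(ν * bf GW (w' - bf GW w' z • zs) zs) := by
      rw [hW.skew, h3]
    simp only [bf_add_left, bf_add_right, bf_smul_left, bf_smul_right, h1, h2, h4, hW.alt]
    simp only [bf_sub_left, bf_sub_right, bf_smul_left, bf_smul_right, hW.alt]
    have h5 : bf GW zs w' = - bf GW w' zs := hW.skew _ _
    rw [h5]
    ring
  have hBminj : Function.Injective Bm.mulVec := by
    intro x y hxy
    have hsub : Bm *ᵥ (x - y) = 0 := by rw [mulVec_sub, hxy, sub_self]
    have : x - y = 0 := by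
      apply hW.nondeg
      intro w'
      have h := hsimB (x - y) w'
      rw [hsub, bf_zero_left] at h
      exact (mul_eq_zero.mp h.symm).resolve_left hν
    exact sub_eq_zero.mp this
  have hunit : IsUnit Bm := Matrix.mulVec_injective_iff_isUnit.mp hBminj
  obtain ⟨B', hB'⟩ := hunit
  refine ⟨B', ?_, ?_, ?_⟩
  · rw [hB', hBmv, hW.alt, zero_smul, sub_zero, zero_smul, add_zero, hBz]
  · intro w hw
    rw [hB', hBmv, hw, zero_smul, sub_zero, zero_smul, add_zero]
  · intro w w'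
    rw [hB']
    exact hsimB w w'

end Cfsg.Agent.S5704P
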