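import Mathlib
import Cfsg.Prelude.Def_GeometricClasses
import Cfsg.Agent.Helper24.S5704.Defs
import Cfsg.Agent.Helper17.S5704.STDefs

/-! # S5704, chapter STAR', piece STMOVE (helper9 hedge): `Sp(W)` is transitive on non-zero vectors by at most two
root elements `XW`. -/

set_option autoImplicit false
set_option linter.unusedSectionVars false
set_option linter.unusedVariables false
set_option linter.style.haveILetI false
set_option linter.unusedSimpArgs false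

namespace Cfsg.Agent.S5704P

open Matrix Cfsg.Agent.S5637P Cfsg.Agent.S5704S Cfsg.Agent.S5634P

variable {F : Type*} [Field F] {n a b : ℕ} (e : Fin n ≃ Fin a × Fin b)

/-- the image of `V_w` under a root element -/
theorem STMOVE.gmap_XW {GW : Matrix (Fin b) (Fin b) F} (hW : IsSymp GW) (v : Fin b → F) (c : F)
    (w : Fin b → F) :
    gmap (XW e GW v c) (Vw e w) = Vw e (w + (c * bf GW w v) • v) := by
  ext y
  rw [mem_gmap, mem_Vw]
  constructor
  · rintro ⟨x, hx, rfl⟩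
    obtain ⟨u, rfl⟩ := (mem_Vw e).mp hx
    exact ⟨u, XW_mulVec_tn e hW v c u w⟩
  · rintro ⟨u, rfl⟩
    exact ⟨tn e u w, tn_mem_Vw e u w, XW_mulVec_tn e hW v c u w⟩

/-- one root element moves `z'` to `z` when they are not orthogonal -/
theorem STMOVE.step {GW : Matrix (Fin b) (Fin b) F} (hW : IsSymp GW) (M : Subgroup (GL (Fin n) F))
    (hroot : ∀ (v : Fin b → F) (c : F), XW e GW v c ∈ M) {z z' : Fin b → F}
    (h : bf GW z' z ≠ 0) :
    ∃ D : GL (Fin n) F, D ∈ M ∧ D ∈ Kr e ∧ gmap D (Vw e z') = Vw e z := by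
  refine ⟨XW e GW (z - z') (bf GW z' z)⁻¹, hroot _ _, XW_mem_Kr e hW _ _, ?_⟩
  rw [STMOVE.gmap_XW e hW]
  congr 1
  rw [bf_sub_right, hW.alt, sub_zero, inv_mul_cancel₀ h, one_smul]
  abel

/-- a vector pairing non-trivially with both `z'` and `z` -/
theorem STMOVE.exists_mid {m : ℕ} {G : Matrix (Fin m) (Fin m) F} (hG : IsSymp G) {z z' : Fin m → F}
    (hz : z ≠ 0) (hz' : z' ≠ 0) : ∃ y : Fin m → F, bf G z' y ≠ 0 ∧ bf G y z ≠ 0 := by
  obtain ⟨w₁, hw₁⟩ : ∃ y, bf G z' y ≠ 0 := by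
    by_contra h
    push Not at h
    exact hz' (hG.nondeg z' h)
  obtain ⟨w₂, hw₂⟩ : ∃ y, bf G y z ≠ 0 := by
    by_contra h
    push Not at h
    refine hz (hG.nondeg z fun y => ?_)
    rw [hG.skew, h y, neg_zero]
  by_cases h1 : bf G w₁ z = 0
  · by_cases h2 : bf G z' w₂ = 0
    · refine ⟨w₁ + w₂, ?_, ?_⟩
      · rw [bf_add_right, h2, add_zero]; exact hw₁
      · rw [bf_add_left, h1, zero_add]; exact hw₂
    · exact ⟨w₂, h2, hw₂⟩
  · exact ⟨w₁, hw₁, h1⟩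

theorem STMOVE {GW : Matrix (Fin b) (Fin b) F} (hW : IsSymp GW) (M : Subgroup (GL (Fin n) F))
    (hroot : ∀ (v : Fin b → F) (c : F), XW e GW v c ∈ M) {z z' : Fin b → F} (hz : z ≠ 0)
    (hz' : z' ≠ 0) :
    ∃ D : GL (Fin n) F, D ∈ M ∧ D ∈ Kr e ∧ gmap D (Vw e z') = Vw e z := by
  by_cases h : bf GW z' z = 0
  · obtain ⟨y, hy1, hy2⟩ := STMOVE.exists_mid hW hz hz'
    obtain ⟨D₁, hD₁M, hD₁K, hD₁⟩ := STMOVE.step e hW M hroot hy1
    obtain ⟨D₂, hD₂M, hD₂K, hD₂⟩ := STMOVE.step e hW M hroot hy2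
    refine ⟨D₂ * D₁, M.mul_mem hD₂M hD₁M, (Kr e).mul_mem hD₂K hD₁K, ?_⟩
    rw [gmap_mul, hD₁, hD₂]
  · exact STMOVE.step e hW M hroot h

end Cfsg.Agent.S5704P
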