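import Mathlib
import Cfsg.Agent.Helper27.Suz2Defs
import Cfsg.Agent.Helper27.Suz2Irr
import Cfsg.Agent.Helper27.SUZ2SEC
import Cfsg.Agent.Helper19.Suz2B0
import Cfsg.Agent.Helper3.SUZ2FPF

/-!
# SUZ2 board, piece SECLINE: Lemma IRR for sections
-/

set_option autoImplicit false
set_option linter.style.haveILetI false
set_option linter.unusedSectionVars false

namespace Cfsg.Agent.SUZ2P

open Cfsg.Agent.Helper17.Suz2

universe u v

variable {K : Type v} {P : Type u} [Group K] [Group P] [MulDistribMulAction K P]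

/-- in a section of exponent 2, `π (a⁻¹ * a') = π a + π a'`. -/
theorem sec_line_aux_inv_mul {V : Type*} [AddCommGroup V] {B A : Subgroup P} (hBA : B ≤ A)
    (π : P → V) (hadd : ∀ a ∈ A, ∀ a' ∈ A, π (a * a') = π a + π a')
    (hker : ∀ a ∈ A, (π a = 0 ↔ a ∈ B)) (h2 : ∀ v : V, v + v = 0)
    {a a' : P} (ha : a ∈ A) (ha' : a' ∈ A) : π (a⁻¹ * a') = π a + π a' := by
  have h1 : π 1 = 0 := (hker 1 (one_mem A)).mpr (one_mem B)
  have h3 : π a⁻¹ = π a := by
    have h4 : π (a * a⁻¹) = π a + π a⁻¹ := hadd a ha a⁻¹ (inv_mem ha)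
    rw [mul_inv_cancel, h1] at h4
    have h5 : π a + π a = 0 := h2 _
    have h6 : π a + π a⁻¹ = π a + π a := by rw [← h4, h5]
    exact add_left_cancel h6
  rw [hadd a⁻¹ (inv_mem ha) a' ha', h3]

theorem sec_line (hS : Star K P) {B A : Subgroup P} (hmin : KMin K B A)
    (hsq : ∀ a ∈ A, a * a ∈ B) (hcm : ∀ a ∈ A, ∀ a' ∈ A, cm a a' ∈ B) :
    ∀ a ∈ A, a ∉ B → ∀ a' ∈ A, a' ∉ B → ∃ k : K, (k • a)⁻¹ * a' ∈ B := by
  classical
  haveI : Finite P := hS.fin
  haveI : Finite K := B0_finK hS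
  have hBA : B ≤ A := hmin.lt.le
  obtain ⟨V, iV, iact, π, hfinV, hsurj, hadd, hker, hequiv, h2⟩ :=
    exists_section hmin.invB hmin.invA hBA hsq hcm
  obtain ⟨n, hn2, -, hKn⟩ := B0_card hS
  have hinvmul : ∀ {a a' : P}, a ∈ A → a' ∈ A → π (a⁻¹ * a') = π a + π a' :=
    fun ha ha' => sec_line_aux_inv_mul hBA π hadd hker h2 ha ha'
  -- fixed-point-freeness on the section
  have hfpf : ∀ k : K, k ≠ 1 → ∀ w : V, k • w = w → w = 0 := by
    intro k hk w hw
    obtain ⟨a, ha, rfl⟩ := hsurj w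
    rw [hker a ha]
    apply fpf hS hk B (fun x hx => hmin.invB k x hx)
    have hka : k • a ∈ A := hmin.invA k a ha
    rw [← hker _ (mul_mem (inv_mem ha) hka), hinvmul ha hka, hequiv k a ha, hw]
    exact h2 _
  -- irreducibility
  have hirr : ∀ U : AddSubgroup V, (∀ (k : K), ∀ x ∈ U, k • x ∈ U) → U = ⊥ ∨ U = ⊤ := by
    intro U hU
    let D : Subgroup P :=
      { carrier := {p | p ∈ A ∧ π p ∈ U}
        one_mem' := by
          refine ⟨one_mem A, ?_⟩
          have h1 : π 1 = 0 := (hker 1 (one_mem A)).mpr (one_mem B)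
          rw [h1]; exact zero_mem U
        mul_mem' := by
          rintro x y ⟨hx, hxU⟩ ⟨hy, hyU⟩
          refine ⟨mul_mem hx hy, ?_⟩
          rw [hadd x hx y hy]
          exact add_mem hxU hyU
        inv_mem' := by
          rintro x ⟨hx, hxU⟩
          refine ⟨inv_mem hx, ?_⟩
          have h3 : π (x⁻¹ * 1) = π x + π 1 := hinvmul hx (one_mem A)
          have h1 : π 1 = 0 := (hker 1 (one_mem A)).mpr (one_mem B)
          rw [mul_one, h1, add_zero] at h3
          rw [h3]; exact hxU }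
    have hDmem : ∀ p : P, p ∈ D ↔ p ∈ A ∧ π p ∈ U := fun p => Iff.rfl
    have hDinv : KInv K D := by
      intro k x hx
      rw [hDmem] at hx ⊢
      refine ⟨hmin.invA k x hx.1, ?_⟩
      rw [hequiv k x hx.1]
      exact hU k _ hx.2
    have hBD : B ≤ D := by
      intro x hx
      rw [hDmem]
      refine ⟨hBA hx, ?_⟩
      rw [(hker x (hBA hx)).mpr hx]
      exact zero_mem U
    have hDA : D ≤ A := fun x hx => ((hDmem x).mp hx).1
    rcases hmin.min D hDinv hBD hDA with h | h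
    · left
      rw [eq_bot_iff]
      intro w hw
      obtain ⟨a, ha, rfl⟩ := hsurj w
      have : a ∈ D := (hDmem a).mpr ⟨ha, hw⟩
      rw [h] at this
      rw [AddSubgroup.mem_bot]
      exact (hker a ha).mpr this
    · right
      rw [eq_top_iff]
      intro w _
      obtain ⟨a, ha, rfl⟩ := hsurj w
      have : a ∈ D := by rw [h]; exact ha
      exact ((hDmem a).mp this).2
  have hnt : ∃ w : V, w ≠ 0 := by
    obtain ⟨a, haA, haB⟩ := SetLike.exists_of_lt hmin.lt
    exact ⟨π a, fun h => haB ((hker a haA).mp h)⟩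
  have hline := (Cfsg.Agent.Helper27.Suz2Irr.irr_line hS.comm n (by omega) hKn h2 hfpf hirr hnt).1
  intro a ha haB a' ha' haB'
  have h1 : π a ≠ 0 := fun h => haB ((hker a ha).mp h)
  have h1' : π a' ≠ 0 := fun h => haB' ((hker a' ha').mp h)
  obtain ⟨k, hk, -⟩ := hline.reg (π a) (π a') h1 h1'
  refine ⟨k, ?_⟩
  have hka : k • a ∈ A := hmin.invA k a ha
  rw [← hker _ (mul_mem (inv_mem hka) ha'), hinvmul hka ha', hequiv k a ha, hk]
  exact h2 _

end Cfsg.Agent.SUZ2P
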