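import Mathlib
import Cfsg.Agent.Helper27.Suz2Defs
import Cfsg.Agent.Helper27.SUZ2SEC
import Cfsg.Agent.Helper19.Suz2B0
import Cfsg.Agent.Helper3.MaschkeExt
import Cfsg.Agent.Helper9.SUZ2SECLINE

/-!
# SUZ2 board, piece MAS: Maschke for sections
-/

set_option autoImplicit false
set_option linter.style.haveILetI false
set_option linter.unusedSectionVars false

namespace Cfsg.Agent.SUZ2P

open Cfsg.Agent.Helper17.Suz2

universe u v

variable {K : Type v} {P : Type u} [Group K] [Group P] [MulDistribMulAction K P]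

/-- additive Maschke for an `𝔽₂`-module of an odd-order group, from `Helper3.maschke_ext`. -/
theorem maschke_aux_add {V : Type*} [AddCommGroup V] [DistribMulAction K V] [Finite K] [Finite V]
    (h2 : ∀ v : V, v + v = 0) (hodd : ¬ 2 ∣ Nat.card K) (W : AddSubgroup V)
    (hW : ∀ (k : K), ∀ w ∈ W, k • w ∈ W) :
    ∃ C : AddSubgroup V, (∀ (k : K), ∀ c ∈ C, k • c ∈ C) ∧ W ⊓ C = ⊥ ∧ W ⊔ C = ⊤ := by
  classical
  haveI : Fact (Nat.Prime 2) := ⟨Nat.prime_two⟩
  let σ : K → Multiplicative V →* Multiplicative V := fun k =>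
    { toFun := fun x => Multiplicative.ofAdd (k • x.toAdd)
      map_one' := by
        show Multiplicative.ofAdd (k • (0 : V)) = 1
        rw [smul_zero]; rfl
      map_mul' := fun x y => by
        show Multiplicative.ofAdd (k • (x.toAdd + y.toAdd)) =
          Multiplicative.ofAdd (k • x.toAdd) * Multiplicative.ofAdd (k • y.toAdd)
        rw [smul_add]; rfl }
  have hσ : ∀ (k : K) (x : Multiplicative V), σ k x = Multiplicative.ofAdd (k • x.toAdd) :=
    fun _ _ => rfl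
  obtain ⟨C, hC, hinf, hsup⟩ := Cfsg.Agent.Helper3.maschke_ext (V := Multiplicative V) σ
    (fun x => by rw [hσ, one_smul]; rfl)
    (fun a b x => by rw [hσ, hσ, hσ, mul_smul]; rfl) 2
    (fun x => by
      show Multiplicative.ofAdd (2 • x.toAdd) = 1
      rw [two_smul, h2]; rfl) hodd (AddSubgroup.toSubgroup W)
    (fun k w hw => hW k _ hw)
  refine ⟨AddSubgroup.toSubgroup.symm C, ?_, ?_, ?_⟩
  · intro k c hc
    exact hC k (Multiplicative.ofAdd c) hc
  · rw [eq_bot_iff]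
    intro x hx
    have h1 : Multiplicative.ofAdd x ∈ AddSubgroup.toSubgroup W ⊓ C :=
      ⟨hx.1, hx.2⟩
    rw [hinf, Subgroup.mem_bot] at h1
    rw [AddSubgroup.mem_bot]
    exact h1
  · rw [eq_top_iff]
    intro x _
    have h1 : Multiplicative.ofAdd x ∈ AddSubgroup.toSubgroup W ⊔ C := by
      rw [hsup]; exact Subgroup.mem_top _
    obtain ⟨w, hw, c, hc, hwc⟩ := Subgroup.mem_sup.mp h1
    have h3 : x = w.toAdd + c.toAdd := by
      have := congrArg Multiplicative.toAdd hwc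
      exact this.symm
    rw [h3]
    exact add_mem (AddSubgroup.mem_sup_left hw) (AddSubgroup.mem_sup_right hc)

theorem maschke (hS : Star K P) {B U A : Subgroup P} (hB : KInv K B) (hU : KInv K U)
    (hA : KInv K A) (hBU : B ≤ U) (hUA : U ≤ A) (hsq : ∀ a ∈ A, a * a ∈ B)
    (hcm : ∀ a ∈ A, ∀ a' ∈ A, cm a a' ∈ B) :
    ∃ W : Subgroup P, KInv K W ∧ B ≤ W ∧ W ≤ A ∧ U ⊓ W = B ∧ U ⊔ W = A := by
  classical
  haveI : Finite P := hS.fin
  haveI : Finite K := B0_finK hS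
  have hBA : B ≤ A := hBU.trans hUA
  obtain ⟨V, iV, iact, π, hfinV, hsurj, hadd, hker, hequiv, h2⟩ :=
    exists_section hB hA hBA hsq hcm
  obtain ⟨n, hn2, -, hKn⟩ := B0_card hS
  have hodd : ¬ 2 ∣ Nat.card K := by
    intro h
    have h3 : 2 ∣ 2 ^ n := dvd_pow_self 2 (by omega)
    rw [← hKn] at h3
    have := (Nat.dvd_add_right h).mp h3
    omega
  have hinvmul : ∀ {a a' : P}, a ∈ A → a' ∈ A → π (a⁻¹ * a') = π a + π a' :=
    fun ha ha' => sec_line_aux_inv_mul hBA π hadd hker h2 ha ha'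
  have hπ1 : π 1 = 0 := (hker 1 (one_mem A)).mpr (one_mem B)
  have hπinv : ∀ {a : P}, a ∈ A → π a⁻¹ = π a := by
    intro a ha
    have h3 : π (a⁻¹ * 1) = π a + π 1 := hinvmul ha (one_mem A)
    rwa [mul_one, hπ1, add_zero] at h3
  -- image of U
  let W₀ : AddSubgroup V :=
    { carrier := {w | ∃ x ∈ U, π x = w}
      zero_mem' := ⟨1, one_mem U, hπ1⟩
      add_mem' := by
        rintro _ _ ⟨x, hx, rfl⟩ ⟨y, hy, rfl⟩
        exact ⟨x * y, mul_mem hx hy, hadd x (hUA hx) y (hUA hy)⟩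
      neg_mem' := by
        rintro _ ⟨x, hx, rfl⟩
        refine ⟨x, hx, ?_⟩
        have h3 : π x + π x = 0 := h2 _
        exact (neg_eq_of_add_eq_zero_left h3).symm }
  have hW₀ : ∀ (k : K), ∀ w ∈ W₀, k • w ∈ W₀ := by
    rintro k _ ⟨x, hx, rfl⟩
    exact ⟨k • x, hU k x hx, hequiv k x (hUA hx)⟩
  obtain ⟨C, hC, hinf, hsup⟩ := maschke_aux_add h2 hodd W₀ hW₀
  let W : Subgroup P :=
    { carrier := {p | p ∈ A ∧ π p ∈ C}
      one_mem' := ⟨one_mem A, by rw [hπ1]; exact zero_mem C⟩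
      mul_mem' := by
        rintro x y ⟨hx, hxC⟩ ⟨hy, hyC⟩
        refine ⟨mul_mem hx hy, ?_⟩
        rw [hadd x hx y hy]
        exact add_mem hxC hyC
      inv_mem' := by
        rintro x ⟨hx, hxC⟩
        refine ⟨inv_mem hx, ?_⟩
        rw [hπinv hx]; exact hxC }
  have hWmem : ∀ p : P, p ∈ W ↔ p ∈ A ∧ π p ∈ C := fun p => Iff.rfl
  have hBW : B ≤ W := by
    intro x hx
    rw [hWmem]
    refine ⟨hBA hx, ?_⟩
    rw [(hker x (hBA hx)).mpr hx]
    exact zero_mem C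
  have hWA : W ≤ A := fun x hx => ((hWmem x).mp hx).1
  refine ⟨W, ?_, hBW, hWA, ?_, ?_⟩
  · intro k x hx
    rw [hWmem] at hx ⊢
    refine ⟨hA k x hx.1, ?_⟩
    rw [hequiv k x hx.1]
    exact hC k _ hx.2
  · apply le_antisymm
    · rintro x ⟨hxU, hxW⟩
      have h3 : π x ∈ W₀ ⊓ C := ⟨⟨x, hxU, rfl⟩, ((hWmem x).mp hxW).2⟩
      rw [hinf, AddSubgroup.mem_bot] at h3
      exact (hker x (hUA hxU)).mp h3
    · exact le_inf hBU hBW
  · apply le_antisymm
    · exact sup_le hUA hWA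
    · intro a ha
      have h3 : π a ∈ W₀ ⊔ C := by rw [hsup]; exact AddSubgroup.mem_top _
      obtain ⟨w, ⟨x, hx, rfl⟩, c, hc, hwc⟩ := AddSubgroup.mem_sup.mp h3
      obtain ⟨y, hy, rfl⟩ := hsurj c
      have hyW : y ∈ W := (hWmem y).mpr ⟨hy, hc⟩
      have hxy : x * y ∈ A := mul_mem (hUA hx) hy
      have h4 : π ((x * y)⁻¹ * a) = 0 := by
        rw [hinvmul hxy ha, hadd x (hUA hx) y hy, hwc]
        exact h2 _
      have h5 : (x * y)⁻¹ * a ∈ B := (hker _ (mul_mem (inv_mem hxy) ha)).mp h4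
      have h6 : a = x * (y * ((x * y)⁻¹ * a)) := by group
      rw [h6]
      exact mul_mem (Subgroup.mem_sup_left hx)
        (Subgroup.mem_sup_right (mul_mem hyW (hBW h5)))

end Cfsg.Agent.SUZ2P
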