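import Cfsg.Agent.Helper28.S2258Defs
import Cfsg.Agent.Helper18.Dickson45
import Cfsg.Agent.Helper26.S2258NORMCOUNT

/-! S2258 piece NFC: an element of `SL₂(F)` without eigenvector is conjugate to the companion
matrix `cM (tr X)`, and `tr X ^ 2 - 4` is a non-square. -/

set_option autoImplicit false

namespace Cfsg.Agent.S2258P

open Cfsg.Agent.Helper18.Dickson

variable {F : Type*} [Field F] [Fintype F] {p : ℕ}

local notation "SF" => Matrix.SpecialLinearGroup (Fin 2) F
local notation "MF" => Matrix (Fin 2) (Fin 2) F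
local notation "PF" => Matrix.ProjectiveSpecialLinearGroup (Fin 2) F
local notation "π" => QuotientGroup.mk' (Subgroup.center SF)
local notation "q" => Fintype.card F

namespace NFC

omit [Fintype F] in
/-- a root of the characteristic polynomial gives an eigenvector -/
theorem not_noEig_of_root (X : SF) (μ : F) (hμ : μ ^ 2 - tr X * μ + 1 = 0) : ¬ NoEig X := by
  intro hX
  obtain ⟨g, hg⟩ := exists_conj_borel X μ hμ
  set X' : SF := g * X * g⁻¹ with hX'
  have hXg : X * g⁻¹ = g⁻¹ * X' := by rw [hX']; group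
  set v : Fin 2 → F := ((g⁻¹ : SF) : MF).mulVec ![1, 0] with hv
  have hX'e : (X' : MF).mulVec ![1, 0] = (X' : MF) 0 0 • ![1, 0] := by
    ext i
    fin_cases i
    · simp [Matrix.mulVec, dotProduct, Fin.sum_univ_two]
    · simp [Matrix.mulVec, dotProduct, Fin.sum_univ_two, hg]
  have hXv : (X : MF).mulVec v = (X' : MF) 0 0 • v := by
    rw [hv, Matrix.mulVec_mulVec, ← Matrix.SpecialLinearGroup.coe_mul, hXg,
      Matrix.SpecialLinearGroup.coe_mul, ← Matrix.mulVec_mulVec, hX'e, Matrix.mulVec_smul]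
  have hv0 : v ≠ 0 := by
    intro h0
    have h1 : ((g : SF) : MF).mulVec v = ![1, 0] := by
      rw [hv, Matrix.mulVec_mulVec, ← Matrix.SpecialLinearGroup.coe_mul, mul_inv_cancel]
      simp
    rw [h0, Matrix.mulVec_zero] at h1
    have := congrFun h1 0
    simp at this
  exact hX v hv0 _ hXv

end NFC

/-- NFC (M–L). -/
theorem exists_conj_cM (h : Hyp F p) (X : SF) (hX : NoEig X) :
    ¬ IsSquare (tr X ^ 2 - 4) ∧ ∃ g : SF, g * X * g⁻¹ = cM (tr X) := by
  have h2 : (2 : F) ≠ 0 := h.two_ne_zero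
  have hns : ¬ IsSquare (tr X ^ 2 - 4) := by
    rintro ⟨d, hd⟩
    apply NFC.not_noEig_of_root X ((tr X + d) / 2) _ hX
    field_simp
    linear_combination -hd
  refine ⟨hns, ?_⟩
  -- the entries of X
  set a := (X : MF) 0 0 with ha
  set b := (X : MF) 0 1 with hb
  set c := (X : MF) 1 0 with hc
  set d := (X : MF) 1 1 with hd
  have hdet : a * d - b * c = 1 := det_eq X
  have hc0 : c ≠ 0 := by
    intro hc0
    apply hX ![1, 0] (by intro h0; have := congrFun h0 0; simp at this) a
    ext i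
    fin_cases i
    · simp [Matrix.mulVec, dotProduct, Fin.sum_univ_two, ha]
    · simp [Matrix.mulVec, dotProduct, Fin.sum_univ_two, ← hc, hc0]
  -- a solution of the norm equation
  have hcount := norm_count h2 (tr X) c⁻¹ hns (inv_ne_zero hc0)
  have hne : Nonempty {ab : F × F // ab.1 ^ 2 + tr X * ab.1 * ab.2 + ab.2 ^ 2 = c⁻¹} := by
    by_contra hemp
    rw [not_nonempty_iff] at hemp
    rw [Nat.card_of_isEmpty] at hcount
    omega
  obtain ⟨⟨⟨α, β⟩, hN⟩⟩ := hne
  simp only at hN
  have htr : tr X = a + d := rfl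
  have hN' : c * (α ^ 2 + (a + d) * α * β + β ^ 2) = 1 := by
    rw [← htr, hN]; exact mul_inv_cancel₀ hc0
  -- the conjugating matrix
  have hPdet : (!![α + β * a, a * α + β * (a ^ 2 + b * c); β * c, c * α + β * c * (a + d)] : MF).det
      = 1 := by
    rw [Matrix.det_fin_two_of]
    linear_combination hN' + c * β ^ 2 * hdet
  obtain ⟨P, hP⟩ : ∃ P : SF, (P : MF) =
      !![α + β * a, a * α + β * (a ^ 2 + b * c); β * c, c * α + β * c * (a + d)] := ⟨⟨_, hPdet⟩, rfl⟩
  have hXP : X * P = P * cM (tr X) := by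
    apply Subtype.ext
    rw [Matrix.SpecialLinearGroup.coe_mul, Matrix.SpecialLinearGroup.coe_mul, hP, cM_coe,
      Matrix.eta_fin_two (X : MF), ← ha, ← hb, ← hc, ← hd, htr]
    ext i j
    fin_cases i <;> fin_cases j <;>
      simp [Matrix.mul_apply, Fin.sum_univ_two]
    · ring
    · linear_combination (-α - β * a) * hdet
    · ring
    · linear_combination (-β * c) * hdet
  refine ⟨P⁻¹, ?_⟩
  rw [inv_inv]
  have : P⁻¹ * X * P = P⁻¹ * (X * P) := by group
  rw [this, hXP]
  group

end Cfsg.Agent.S2258P
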