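import Mathlib
import Cfsg.Agent.Helper3.S4411Defs

set_option autoImplicit false

/-! # S4411 board, piece AQ

`q ∣ |N_G(H) : C_G(H)|` iff some `q`-element of `N_G(H)` does not centralise `H`; conjugation; the `q`-part of an
element. -/

namespace Cfsg.Agent.S4411P

open Cfsg

/-- the `q`-part of an element: some power of `y` is a `q`-element generating the same thing modulo `q'`. -/
theorem AQ_qpart {Y : Type*} [Group Y] [Finite Y] (q : ℕ) [Fact q.Prime] (y : Y) :
    ∃ m : ℕ, m.Coprime q ∧ IsQElt q (y ^ m) := by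
  have hq : q.Prime := Fact.out
  have hn : orderOf y ≠ 0 := (orderOf_pos y).ne'
  obtain ⟨e, m, hm, hnm⟩ := Nat.exists_eq_pow_mul_and_not_dvd hn q hq.ne_one
  refine ⟨m, ?_, e, ?_⟩
  · rw [Nat.coprime_comm]
    exact (Nat.Prime.coprime_iff_not_dvd hq).2 hm
  · rw [← pow_mul, mul_comm, ← hnm]
    exact pow_orderOf_eq_one y

theorem AQ_conj {G : Type*} [Group G] (q : ℕ) (H : Subgroup G) (g : G) (h : Acts q H) :
    Acts q (H.map (MulAut.conj g).toMonoidHom) := by
  obtain ⟨y, hyN, hyC, k, hyk⟩ := h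
  have hmem : ∀ x : G, x ∈ H.map (MulAut.conj g).toMonoidHom ↔ g⁻¹ * x * g ∈ H := by
    intro x
    constructor
    · rintro ⟨a, ha, rfl⟩
      have : g⁻¹ * ((MulAut.conj g).toMonoidHom a) * g = a := by
        show g⁻¹ * (g * a * g⁻¹) * g = a
        group
      rw [this]
      exact ha
    · intro hx
      refine ⟨g⁻¹ * x * g, hx, ?_⟩
      show g * (g⁻¹ * x * g) * g⁻¹ = x
      group
  refine ⟨g * y * g⁻¹, ?_, ?_, k, ?_⟩
  · rw [Subgroup.mem_normalizer_iff]
    intro x
    rw [hmem, hmem]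
    have h1 := (Subgroup.mem_normalizer_iff.1 hyN) (g⁻¹ * x * g)
    rw [h1]
    have : g⁻¹ * (g * y * g⁻¹ * x * (g * y * g⁻¹)⁻¹) * g = y * (g⁻¹ * x * g) * y⁻¹ := by group
    rw [this]
  · intro hc
    apply hyC
    rw [Subgroup.mem_centralizer_iff]
    intro a ha
    have h1 := (Subgroup.mem_centralizer_iff.1 hc) (g * a * g⁻¹) (by
      show g * a * g⁻¹ ∈ H.map (MulAut.conj g).toMonoidHom
      exact ⟨a, ha, rfl⟩)
    have h2 : a * y = g⁻¹ * (g * a * g⁻¹ * (g * y * g⁻¹)) * g := by group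
    have h3 : y * a = g⁻¹ * (g * y * g⁻¹ * (g * a * g⁻¹)) * g := by group
    rw [h2, h3, h1]
  · have : (g * y * g⁻¹) ^ q ^ k = g * y ^ q ^ k * g⁻¹ := conj_pow
    rw [this, hyk]
    group

/-- `q ∣ |N_G(H) : C_G(H)|` iff some `q`-element of `N_G(H)` does not centralise `H`
(Cauchy in the quotient + `q`-part of a lift; converse: order of the image). -/
theorem AQ_iff {G : Type*} [Group G] [Finite G] (q : ℕ) [Fact q.Prime] (H : Subgroup G) :
    q ∣ ((Subgroup.centralizer (H : Set G)).subgroupOf (Subgroup.normalizer (H : Set G))).index ↔ Acts q H := by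
  have hq : q.Prime := Fact.out
  have hnormal : ((Subgroup.centralizer (H : Set G)).subgroupOf (Subgroup.normalizer (H : Set G))).Normal := by
    rw [← Subgroup.normalizerMonoidHom_ker]
    infer_instance
  set C' := (Subgroup.centralizer (H : Set G)).subgroupOf (Subgroup.normalizer (H : Set G)) with hC'
  constructor
  · intro hdvd
    rw [Subgroup.index_eq_card] at hdvd
    obtain ⟨xb, hxb⟩ := exists_prime_orderOf_dvd_card' q hdvd
    obtain ⟨x, rfl⟩ := QuotientGroup.mk_surjective xb
    obtain ⟨m, hm, hqe⟩ := AQ_qpart q x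
    obtain ⟨k, hk⟩ := hqe
    refine ⟨((x ^ m : Subgroup.normalizer (H : Set G)) : G), (x ^ m).2, ?_, k, ?_⟩
    · intro hc
      have hmem : x ^ m ∈ C' := by
        rw [hC', Subgroup.mem_subgroupOf]
        exact hc
      have h1 : ((x ^ m : Subgroup.normalizer (H : Set G)) : Subgroup.normalizer (H : Set G) ⧸ C') = 1 :=
        (QuotientGroup.eq_one_iff _).2 hmem
      have h2 : ((x : Subgroup.normalizer (H : Set G)) : Subgroup.normalizer (H : Set G) ⧸ C') ^ m = 1 := by
        rw [← QuotientGroup.mk_pow]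
        exact h1
      have h3 : q ∣ m := by
        rw [← hxb]
        exact orderOf_dvd_of_pow_eq_one h2
      have h4 : q ∣ Nat.gcd m q := Nat.dvd_gcd h3 dvd_rfl
      rw [hm] at h4
      exact hq.one_lt.ne' (Nat.dvd_one.1 h4)
    · have := congrArg (fun z : Subgroup.normalizer (H : Set G) => (z : G)) hk
      simpa using this
  · rintro ⟨y, hyN, hyC, k, hyk⟩
    rw [Subgroup.index_eq_card]
    let yb : Subgroup.normalizer (H : Set G) ⧸ C' := ((⟨y, hyN⟩ : Subgroup.normalizer (H : Set G)) : _)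
    have hyb1 : yb ≠ 1 := by
      intro h
      have := (QuotientGroup.eq_one_iff _).1 h
      rw [hC', Subgroup.mem_subgroupOf] at this
      exact hyC this
    have hybk : yb ^ q ^ k = 1 := by
      show ((⟨y, hyN⟩ : Subgroup.normalizer (H : Set G)) : Subgroup.normalizer (H : Set G) ⧸ C') ^ q ^ k = 1
      rw [← QuotientGroup.mk_pow]
      have : (⟨y, hyN⟩ : Subgroup.normalizer (H : Set G)) ^ q ^ k = 1 := by
        apply Subtype.ext
        simpa using hyk
      rw [this]
      rfl
    obtain ⟨j, hj, hoj⟩ := (Nat.dvd_prime_pow hq).1 (orderOf_dvd_of_pow_eq_one hybk)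
    have hj0 : j ≠ 0 := by
      rintro rfl
      rw [pow_zero, orderOf_eq_one_iff] at hoj
      exact hyb1 hoj
    have h1 : q ∣ orderOf yb := by
      rw [hoj]
      exact dvd_pow_self q hj0
    exact h1.trans (orderOf_dvd_natCard yb)

end Cfsg.Agent.S4411P
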