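import Mathlib
import Cfsg.Prelude.Def_GeometricClasses
import Cfsg.Agent.Helper19.Mono.Defs

/-! S5634, monomial half (driver helper19), piece FULL (helper9): if every non-monomial element of `M` has only non-zero
entries then `M` is monomial. -/

set_option autoImplicit false
set_option linter.unusedSectionVars false
set_option linter.unusedVariables false

namespace Cfsg.Agent.MonoP

open Matrix

variable {ι : Type} [Fintype ι] [DecidableEq ι] {K : Type*} [Field K] [Fintype K]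

namespace FULL

/-- an element outside a small finite set -/
theorem exists_notMem (S : Finset ι) (h : S.card < Fintype.card ι) : ∃ x, x ∉ S := by
  by_contra hcon
  push Not at hcon
  have : S = Finset.univ := Finset.eq_univ_iff_forall.mpr hcon
  rw [this, Finset.card_univ] at h
  exact lt_irrefl _ h

/-- the diagonal entries of `d2 r s ε` -/
def dv (r s : ι) (ε : Kˣ) : ι → Kˣ :=
  Function.update (Function.update (fun _ => (1 : Kˣ)) r ε) s ε⁻¹

theorem dv_r (r s : ι) (hrs : r ≠ s) (ε : Kˣ) : dv r s ε r = ε := by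
  unfold dv
  rw [Function.update_of_ne hrs, Function.update_self]

theorem dv_s (r s : ι) (ε : Kˣ) : dv r s ε s = ε⁻¹ := by
  unfold dv
  rw [Function.update_self]

theorem dv_other (r s : ι) (ε : Kˣ) (j : ι) (hr : j ≠ r) (hs : j ≠ s) : dv r s ε j = 1 := by
  unfold dv
  rw [Function.update_of_ne hs, Function.update_of_ne hr]

theorem d2_val (r s : ι) (ε : Kˣ) :
    ((d2 r s ε : GL ι K) : Matrix ι ι K) = Matrix.diagonal (fun i => ((dv r s ε i : Kˣ) : K)) := rfl

theorem isMono_diagonal (d : ι → K) : IsMono (Matrix.diagonal d) :=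
  ⟨1, fun i j hij => Matrix.diagonal_apply_ne _ (by simpa using hij)⟩

theorem d2_mem (M : Subgroup (GL ι K)) (hmon : MonoSLE M) (r s : ι) (hrs : r ≠ s) (ε : Kˣ) :
    d2 r s ε ∈ M := by
  apply hmon
  · rw [d2_val]
    exact isMono_diagonal _
  · rw [d2_val, Matrix.det_diagonal]
    have h1 : ∏ i, ((dv r s ε i : Kˣ) : K) = ((∏ i, dv r s ε i : Kˣ) : K) := by
      rw [Units.coe_prod]
    rw [h1]
    have h2 : ∏ i, dv r s ε i = 1 := by
      unfold dv
      rw [Finset.prod_update_of_mem (Finset.mem_univ s),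
        Finset.prod_update_of_mem (by simp [hrs] : r ∈ Finset.univ \ {s})]
      simp
    rw [h2, Units.val_one]

/-- the entries of a conjugate of `d2 r s ε` -/
theorem conj_entry (g : GL ι K) (r s : ι) (hrs : r ≠ s) (ε : Kˣ) (i k : ι) :
    ((g * d2 r s ε * g⁻¹ : GL ι K) : Matrix ι ι K) i k =
      (1 : Matrix ι ι K) i k +
        (((ε : Kˣ) : K) - 1) * ((g : Matrix ι ι K) i r * ((g⁻¹ : GL ι K) : Matrix ι ι K) r k) +
        ((((ε⁻¹ : Kˣ) : Kˣ) : K) - 1) *
          ((g : Matrix ι ι K) i s * ((g⁻¹ : GL ι K) : Matrix ι ι K) s k) := by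
  rw [Units.val_mul, Units.val_mul, d2_val, Matrix.mul_apply]
  simp only [Matrix.mul_diagonal]
  have hone : (1 : Matrix ι ι K) i k =
      ∑ j, (g : Matrix ι ι K) i j * ((g⁻¹ : GL ι K) : Matrix ι ι K) j k := by
    rw [← Matrix.mul_apply, ← Units.val_mul, mul_inv_cancel, Units.val_one]
  have hsplit : ∀ j, (g : Matrix ι ι K) i j * ((dv r s ε j : Kˣ) : K) *
      ((g⁻¹ : GL ι K) : Matrix ι ι K) j k =
      (g : Matrix ι ι K) i j * ((g⁻¹ : GL ι K) : Matrix ι ι K) j k +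
        (((dv r s ε j : Kˣ) : K) - 1) *
          ((g : Matrix ι ι K) i j * ((g⁻¹ : GL ι K) : Matrix ι ι K) j k) := by
    intro j
    ring
  rw [Finset.sum_congr rfl (fun j _ => hsplit j), Finset.sum_add_distrib, ← hone, add_assoc]
  congr 1
  rw [Fintype.sum_eq_add r s hrs, dv_r r s hrs, dv_s]
  intro j hj
  rw [dv_other r s ε j hj.1 hj.2, Units.val_one, sub_self, zero_mul]

/-- the inverse of a monomial matrix is monomial -/
theorem isMono_of_inv (g : GL ι K) (h : IsMono ((g⁻¹ : GL ι K) : Matrix ι ι K)) :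
    IsMono (g : Matrix ι ι K) := by
  obtain ⟨σ, hσ⟩ := h
  refine ⟨σ⁻¹, ?_⟩
  intro i k hik
  -- `k = σ j`
  obtain ⟨j, rfl⟩ : ∃ j, k = σ j := ⟨σ⁻¹ k, by simp⟩
  have hij : i ≠ j := by
    intro h
    apply hik
    rw [h]
    simp
  -- `(g g⁻¹) i j = g i (σ j) * g⁻¹ (σ j) j`
  have hprod : ∀ i' : ι, (1 : Matrix ι ι K) i' j =
      (g : Matrix ι ι K) i' (σ j) * ((g⁻¹ : GL ι K) : Matrix ι ι K) (σ j) j := by
    intro i'
    have h1 : (1 : Matrix ι ι K) i' j =
        ∑ l, (g : Matrix ι ι K) i' l * ((g⁻¹ : GL ι K) : Matrix ι ι K) l j := by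
      rw [← Matrix.mul_apply, ← Units.val_mul, mul_inv_cancel, Units.val_one]
    rw [h1]
    apply Finset.sum_eq_single (σ j)
    · intro l _ hl
      rw [hσ l j hl, mul_zero]
    · intro h
      exact absurd (Finset.mem_univ _) h
  have hjj := hprod j
  rw [Matrix.one_apply_eq] at hjj
  have hne : ((g⁻¹ : GL ι K) : Matrix ι ι K) (σ j) j ≠ 0 := by
    intro h0
    rw [h0, mul_zero] at hjj
    exact one_ne_zero hjj
  have hi := hprod i
  rw [Matrix.one_apply_ne hij] at hi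
  rcases mul_eq_zero.mp hi.symm with h | h
  · exact h
  · exact absurd h hne

/-- proportional rows of `g⁻¹` are impossible -/
theorem false_of_rows (g : GL ι K) (r s : ι) (hrs : r ≠ s) (k₀ : ι)
    (hr : ((g⁻¹ : GL ι K) : Matrix ι ι K) r k₀ ≠ 0)
    (hs : ((g⁻¹ : GL ι K) : Matrix ι ι K) s k₀ ≠ 0)
    (h : ∀ k, ((g⁻¹ : GL ι K) : Matrix ι ι K) r k * ((g⁻¹ : GL ι K) : Matrix ι ι K) s k₀ =
      ((g⁻¹ : GL ι K) : Matrix ι ι K) r k₀ * ((g⁻¹ : GL ι K) : Matrix ι ι K) s k) : False := by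
  have h0 : ∑ k, ((g⁻¹ : GL ι K) : Matrix ι ι K) r k * (g : Matrix ι ι K) k s = 0 := by
    rw [← Matrix.mul_apply, ← Units.val_mul, inv_mul_cancel, Units.val_one, Matrix.one_apply_ne hrs]
  have h1 : ∑ k, ((g⁻¹ : GL ι K) : Matrix ι ι K) s k * (g : Matrix ι ι K) k s = 1 := by
    rw [← Matrix.mul_apply, ← Units.val_mul, inv_mul_cancel, Units.val_one, Matrix.one_apply_eq]
  have h2 : ((g⁻¹ : GL ι K) : Matrix ι ι K) s k₀ *
      ∑ k, ((g⁻¹ : GL ι K) : Matrix ι ι K) r k * (g : Matrix ι ι K) k s =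
      ((g⁻¹ : GL ι K) : Matrix ι ι K) r k₀ *
        ∑ k, ((g⁻¹ : GL ι K) : Matrix ι ι K) s k * (g : Matrix ι ι K) k s := by
    rw [Finset.mul_sum, Finset.mul_sum]
    apply Finset.sum_congr rfl
    intro k _
    have := h k
    linear_combination (g : Matrix ι ι K) k s * this
  rw [h0, h1, mul_zero, mul_one] at h2
  exact hr h2.symm

/-- proportional columns of `g` are impossible -/
theorem false_of_cols (g : GL ι K) (r s : ι) (hrs : r ≠ s) (i₁ : ι)
    (hr : (g : Matrix ι ι K) i₁ r ≠ 0) (hs : (g : Matrix ι ι K) i₁ s ≠ 0)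
    (h : ∀ i, (g : Matrix ι ι K) i r * (g : Matrix ι ι K) i₁ s =
      (g : Matrix ι ι K) i s * (g : Matrix ι ι K) i₁ r) : False := by
  have h0 : ∑ i, ((g⁻¹ : GL ι K) : Matrix ι ι K) r i * (g : Matrix ι ι K) i s = 0 := by
    rw [← Matrix.mul_apply, ← Units.val_mul, inv_mul_cancel, Units.val_one, Matrix.one_apply_ne hrs]
  have h1 : ∑ i, ((g⁻¹ : GL ι K) : Matrix ι ι K) r i * (g : Matrix ι ι K) i r = 1 := by
    rw [← Matrix.mul_apply, ← Units.val_mul, inv_mul_cancel, Units.val_one, Matrix.one_apply_eq]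
  have h2 : (g : Matrix ι ι K) i₁ s *
      ∑ i, ((g⁻¹ : GL ι K) : Matrix ι ι K) r i * (g : Matrix ι ι K) i r =
      (g : Matrix ι ι K) i₁ r *
        ∑ i, ((g⁻¹ : GL ι K) : Matrix ι ι K) r i * (g : Matrix ι ι K) i s := by
    rw [Finset.mul_sum, Finset.mul_sum]
    apply Finset.sum_congr rfl
    intro i _
    have := h i
    linear_combination ((g⁻¹ : GL ι K) : Matrix ι ι K) r i * this
  rw [h0, h1, mul_zero, mul_one] at h2
  exact hs h2

end FULL

theorem FULL.isMono (hK : 4 ≤ Fintype.card K) (hι : 5 ≤ Fintype.card ι) (M : Subgroup (GL ι K))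
    (hmon : MonoSLE M)
    (hnz : ∀ y : GL ι K, y ∈ M → ¬ IsMono (y : Matrix ι ι K) → ∀ i j, (y : Matrix ι ι K) i j ≠ 0) :
    ∀ g : GL ι K, g ∈ M → IsMono (g : Matrix ι ι K) := by
  intro g hg
  by_contra hnm
  have hG := hnz g hg hnm
  have hnm' : ¬ IsMono ((g⁻¹ : GL ι K) : Matrix ι ι K) := fun h => hnm (FULL.isMono_of_inv g h)
  have hG' := hnz g⁻¹ (M.inv_mem hg) hnm'
  -- two indices `r ≠ s`
  obtain ⟨r, -⟩ := FULL.exists_notMem (∅ : Finset ι) (by simp; omega)
  obtain ⟨s, hs⟩ := FULL.exists_notMem ({r} : Finset ι) (by simp; omega)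
  have hrs : r ≠ s := by
    intro h
    apply hs
    simp [h]
  have hx : ∀ ε : Kˣ, g * d2 r s ε * g⁻¹ ∈ M := fun ε =>
    M.mul_mem (M.mul_mem hg (FULL.d2_mem M hmon r s hrs ε)) (M.inv_mem hg)
  by_cases hcase : ∃ ε : Kˣ, ε ≠ 1 ∧
      IsMono ((g * d2 r s ε * g⁻¹ : GL ι K) : Matrix ι ι K)
  · -- Case 1
    obtain ⟨ε, hε, σ, hσ⟩ := hcase
    have hε1 : ((ε : Kˣ) : K) - 1 ≠ 0 := by
      intro h
      apply hε
      apply Units.ext
      rw [Units.val_one]
      exact sub_eq_zero.mp h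
    have hrel : ∀ i k, i ≠ k → i ≠ σ k →
        (g : Matrix ι ι K) i r * ((g⁻¹ : GL ι K) : Matrix ι ι K) r k =
          (((ε⁻¹ : Kˣ) : Kˣ) : K) *
            ((g : Matrix ι ι K) i s * ((g⁻¹ : GL ι K) : Matrix ι ι K) s k) := by
      intro i k hik hiσ
      have h0 := hσ i k hiσ
      rw [FULL.conj_entry g r s hrs ε, Matrix.one_apply_ne hik, zero_add] at h0
      have hinv : (((ε⁻¹ : Kˣ) : Kˣ) : K) * ((ε : Kˣ) : K) = 1 := by
        rw [← Units.val_mul, inv_mul_cancel, Units.val_one]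
      have h3 : (((ε : Kˣ) : K) - 1) *
          ((g : Matrix ι ι K) i r * ((g⁻¹ : GL ι K) : Matrix ι ι K) r k -
            (((ε⁻¹ : Kˣ) : Kˣ) : K) *
              ((g : Matrix ι ι K) i s * ((g⁻¹ : GL ι K) : Matrix ι ι K) s k)) = 0 := by
        linear_combination h0 -
          ((g : Matrix ι ι K) i s * ((g⁻¹ : GL ι K) : Matrix ι ι K) s k) * hinv
      rcases mul_eq_zero.mp h3 with h | h
      · exact absurd h hε1
      · exact sub_eq_zero.mp h
    -- rows `r`, `s` of `g⁻¹` are proportional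
    obtain ⟨k₀, -⟩ := FULL.exists_notMem (∅ : Finset ι) (by simp; omega)
    refine FULL.false_of_rows g r s hrs k₀ (hG' r k₀) (hG' s k₀) ?_
    intro k
    obtain ⟨i, hi⟩ := FULL.exists_notMem ({k, σ k, k₀, σ k₀} : Finset ι)
      (lt_of_le_of_lt Finset.card_le_four (by omega))
    simp only [Finset.mem_insert, Finset.mem_singleton, not_or] at hi
    obtain ⟨hik, hiσk, hik₀, hiσk₀⟩ := hi
    have e1 := hrel i k hik hiσk
    have e2 := hrel i k₀ hik₀ hiσk₀
    have hir := hG i r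
    have his := hG i s
    have hεinv : (((ε⁻¹ : Kˣ) : Kˣ) : K) ≠ 0 := Units.ne_zero _
    have h4 : ((g : Matrix ι ι K) i r * ((g : Matrix ι ι K) i s * (((ε⁻¹ : Kˣ) : Kˣ) : K))) *
        (((g⁻¹ : GL ι K) : Matrix ι ι K) r k * ((g⁻¹ : GL ι K) : Matrix ι ι K) s k₀ -
          ((g⁻¹ : GL ι K) : Matrix ι ι K) r k₀ * ((g⁻¹ : GL ι K) : Matrix ι ι K) s k) = 0 := by
      linear_combination
        ((g : Matrix ι ι K) i s * (((ε⁻¹ : Kˣ) : Kˣ) : K) *
          ((g⁻¹ : GL ι K) : Matrix ι ι K) s k₀) * e1 -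
        ((g : Matrix ι ι K) i s * (((ε⁻¹ : Kˣ) : Kˣ) : K) *
          ((g⁻¹ : GL ι K) : Matrix ι ι K) s k) * e2
    rcases mul_eq_zero.mp h4 with h | h
    · exact absurd h (mul_ne_zero hir (mul_ne_zero his hεinv))
    · exact sub_eq_zero.mp h
  · -- Case 2
    push Not at hcase
    have hrel : ∀ i k, i ≠ k →
        (g : Matrix ι ι K) i r * ((g⁻¹ : GL ι K) : Matrix ι ι K) r k =
          (g : Matrix ι ι K) i s * ((g⁻¹ : GL ι K) : Matrix ι ι K) s k := by
      intro i k hik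
      by_contra hne
      set cr := (g : Matrix ι ι K) i r * ((g⁻¹ : GL ι K) : Matrix ι ι K) r k with hcr
      set cs := (g : Matrix ι ι K) i s * ((g⁻¹ : GL ι K) : Matrix ι ι K) s k with hcs
      have hcr0 : cr ≠ 0 := mul_ne_zero (hG i r) (hG' r k)
      have hcs0 : cs ≠ 0 := mul_ne_zero (hG i s) (hG' s k)
      set ε : Kˣ := Units.mk0 (cs / cr) (div_ne_zero hcs0 hcr0) with hεdef
      have hε : ε ≠ 1 := by
        intro h
        apply hne
        have h1 : ((ε : Kˣ) : K) = 1 := by rw [h, Units.val_one]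
        rw [hεdef, Units.val_mk0] at h1
        have := (div_eq_one_iff_eq hcr0).mp h1
        exact this.symm
      have hnmx := hcase ε hε
      have hxne := hnz _ (hx ε) hnmx i k
      apply hxne
      rw [FULL.conj_entry g r s hrs ε, Matrix.one_apply_ne hik, zero_add, ← hcr, ← hcs]
      have h1 : ((ε : Kˣ) : K) = cs / cr := by rw [hεdef, Units.val_mk0]
      have h2 : (((ε⁻¹ : Kˣ) : Kˣ) : K) = cr / cs := by
        rw [Units.val_inv_eq_inv_val, h1, inv_div]
      rw [h1, h2]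
      field_simp
      ring
    obtain ⟨i₁, -⟩ := FULL.exists_notMem (∅ : Finset ι) (by simp; omega)
    refine FULL.false_of_cols g r s hrs i₁ (hG i₁ r) (hG i₁ s) ?_
    intro i
    obtain ⟨k, hk⟩ := FULL.exists_notMem ({i, i₁} : Finset ι)
      (lt_of_le_of_lt Finset.card_le_two (by omega))
    simp only [Finset.mem_insert, Finset.mem_singleton, not_or] at hk
    obtain ⟨hki, hki₁⟩ := hk
    have e1 := hrel i k (Ne.symm hki)
    have e2 := hrel i₁ k (Ne.symm hki₁)
    have h4 : (((g⁻¹ : GL ι K) : Matrix ι ι K) r k * ((g⁻¹ : GL ι K) : Matrix ι ι K) s k) *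
        ((g : Matrix ι ι K) i r * (g : Matrix ι ι K) i₁ s -
          (g : Matrix ι ι K) i s * (g : Matrix ι ι K) i₁ r) = 0 := by
      linear_combination
        ((g : Matrix ι ι K) i₁ s * ((g⁻¹ : GL ι K) : Matrix ι ι K) s k) * e1 -
        ((g : Matrix ι ι K) i s * ((g⁻¹ : GL ι K) : Matrix ι ι K) s k) * e2
    rcases mul_eq_zero.mp h4 with h | h
    · exact absurd h (mul_ne_zero (hG' r k) (hG' s k))
    · exact sub_eq_zero.mp h

end Cfsg.Agent.MonoP
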