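import Mathlib
import Cfsg.Prelude.Def_GeometricClasses
import Cfsg.Agent.Helper19.Mono.Defs
import Cfsg.Agent.Helper9.S5634FULL

/-! S5634, monomial half (driver helper19), piece ZERO (helper9): a non-monomial `g ∈ M` has no zero entry (given that
non-monomial elements of `M` have at most one zero in every row and column). -/

set_option autoImplicit false
set_option linter.unusedSectionVars false
set_option linter.unusedVariables false

namespace Cfsg.Agent.MonoP

open Matrix

variable {ι : Type} [Fintype ι] [DecidableEq ι] {K : Type*} [Field K] [Fintype K]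

namespace ZERO

/-- an element outside a small finite set (any universe) -/
theorem exists_notMem' {α : Type*} [Fintype α] [DecidableEq α] (S : Finset α)
    (h : S.card < Fintype.card α) : ∃ x, x ∉ S := by
  by_contra hcon
  push Not at hcon
  have : S = Finset.univ := Finset.eq_univ_iff_forall.mpr hcon
  rw [this, Finset.card_univ] at h
  exact lt_irrefl _ h

/-- a non-trivial relation between three vectors of `K²` -/
theorem exists_rel (u v : Fin 3 → K) :
    ∃ c : Fin 3 → K, c ≠ 0 ∧ ∑ a, c a * u a = 0 ∧ ∑ a, c a * v a = 0 := by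
  set f : (Fin 3 → K) →ₗ[K] (Fin 2 → K) := Matrix.mulVecLin (Matrix.of ![u, v]) with hf
  have hker : LinearMap.ker f ≠ ⊥ := by
    apply LinearMap.ker_ne_bot_of_finrank_lt
    simp
  obtain ⟨c, hc, hc0⟩ := (Submodule.ne_bot_iff _).mp hker
  refine ⟨c, hc0, ?_, ?_⟩
  · have := congrFun (LinearMap.mem_ker.mp hc) 0
    simpa [hf, Matrix.mulVec, dotProduct, mul_comm] using this
  · have := congrFun (LinearMap.mem_ker.mp hc) 1
    simpa [hf, Matrix.mulVec, dotProduct, mul_comm] using this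

/-- a scalar avoiding four values -/
theorem exists_s (hK : 5 ≤ Fintype.card K) (c p : Fin 3 → K) (hp : ∀ a, p a ≠ 0) :
    ∃ s : K, s ≠ 0 ∧ ∀ a, 1 + s * c a / p a ≠ 0 := by
  classical
  set S : Finset K := insert 0 (Finset.univ.image (fun a : Fin 3 => -(p a / c a))) with hS
  have hcard : S.card < Fintype.card K := by
    have h1 : S.card ≤ (Finset.univ.image (fun a : Fin 3 => -(p a / c a))).card + 1 :=
      Finset.card_insert_le _ _
    have h2 : (Finset.univ.image (fun a : Fin 3 => -(p a / c a))).card ≤ 3 := by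
      refine le_trans Finset.card_image_le ?_
      simp
    omega
  obtain ⟨s, hs⟩ := exists_notMem' S hcard
  rw [hS, Finset.mem_insert, not_or] at hs
  refine ⟨s, hs.1, ?_⟩
  intro a h
  have hca : c a ≠ 0 := by
    intro h0
    rw [h0, mul_zero, zero_div, add_zero] at h
    exact one_ne_zero h
  apply hs.2
  rw [Finset.mem_image]
  refine ⟨a, Finset.mem_univ _, ?_⟩
  have hpa := hp a
  field_simp at h ⊢
  linear_combination -h

end ZERO

theorem ZERO.ne_zero (hK : 5 ≤ Fintype.card K) (hι : 6 ≤ Fintype.card ι) (M : Subgroup (GL ι K))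
    (hmon : MonoSLE M)
    (hcol : ∀ y : GL ι K, y ∈ M → ¬ IsMono (y : Matrix ι ι K) →
      ∀ k i₁ i₂ : ι, i₁ ≠ i₂ → (y : Matrix ι ι K) i₁ k = 0 → (y : Matrix ι ι K) i₂ k = 0 → False)
    (hrow : ∀ y : GL ι K, y ∈ M → ¬ IsMono (y : Matrix ι ι K) →
      ∀ i k₁ k₂ : ι, k₁ ≠ k₂ → (y : Matrix ι ι K) i k₁ = 0 → (y : Matrix ι ι K) i k₂ = 0 → False)
    (g : GL ι K) (hg : g ∈ M) (hnm : ¬ IsMono (g : Matrix ι ι K)) :
    ∀ i j, (g : Matrix ι ι K) i j ≠ 0 := by
  classical
  intro i₀ j₀ h0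
  -- the row `ρ`
  have hρ : ∀ r, r ≠ j₀ → (g : Matrix ι ι K) i₀ r ≠ 0 := by
    intro r hr h
    exact hrow g hg hnm i₀ r j₀ hr h h0
  -- indices
  obtain ⟨k₁, hk₁⟩ := FULL.exists_notMem ({i₀} : Finset ι) (by simp; omega)
  obtain ⟨k₂, hk₂⟩ := FULL.exists_notMem ({i₀, k₁} : Finset ι)
    (lt_of_le_of_lt Finset.card_le_two (by omega))
  simp only [Finset.mem_insert, Finset.mem_singleton, not_or] at hk₁ hk₂
  obtain ⟨hk₂i, hk₂k⟩ := hk₂
  have hcard3 : Fintype.card (Fin 3) ≤ Fintype.card {j : ι // j ≠ j₀} := by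
    rw [Fintype.card_subtype_compl, Fintype.card_fin]
    simp
    omega
  obtain ⟨emb⟩ := Function.Embedding.nonempty_of_card_le hcard3
  set r : Fin 3 → ι := fun a => (emb a).val with hr
  have hrinj : Function.Injective r := Subtype.val_injective.comp emb.injective
  have hrj : ∀ a, r a ≠ j₀ := fun a => (emb a).2
  have hr01 : r 0 ≠ r 1 := fun h => by simpa using hrinj h
  have hr02 : r 0 ≠ r 2 := fun h => by simpa using hrinj h
  have hr12 : r 1 ≠ r 2 := fun h => by simpa using hrinj h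
  -- the relation
  obtain ⟨c, hc0, hc1, hc2⟩ := ZERO.exists_rel
    (fun a => ((g⁻¹ : GL ι K) : Matrix ι ι K) (r a) k₁)
    (fun a => ((g⁻¹ : GL ι K) : Matrix ι ι K) (r a) k₂)
  obtain ⟨s, hs0, hs⟩ := ZERO.exists_s hK c (fun a => (g : Matrix ι ι K) i₀ (r a))
    (fun a => hρ _ (hrj a))
  set τ : Fin 3 → Kˣ := fun a => Units.mk0 _ (hs a) with hτ
  have hτv : ∀ a, ((τ a : Kˣ) : K) = 1 + s * c a / (g : Matrix ι ι K) i₀ (r a) := fun a => rfl
  -- the diagonal element
  set T : GL ι K := d2 (r 0) j₀ (τ 0) * d2 (r 1) j₀ (τ 1) * d2 (r 2) j₀ (τ 2) with hT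
  have hTM : T ∈ M :=
    M.mul_mem (M.mul_mem (FULL.d2_mem M hmon _ _ (hrj 0) _) (FULL.d2_mem M hmon _ _ (hrj 1) _))
      (FULL.d2_mem M hmon _ _ (hrj 2) _)
  set tv : ι → K := fun j => ((FULL.dv (r 0) j₀ (τ 0) j : Kˣ) : K) *
    ((FULL.dv (r 1) j₀ (τ 1) j : Kˣ) : K) * ((FULL.dv (r 2) j₀ (τ 2) j : Kˣ) : K) with htv
  have hTval : (T : Matrix ι ι K) = Matrix.diagonal tv := by
    rw [hT, Units.val_mul, Units.val_mul, FULL.d2_val, FULL.d2_val, FULL.d2_val,
      Matrix.diagonal_mul_diagonal, Matrix.diagonal_mul_diagonal]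
  have htv0 : tv (r 0) = ((τ 0 : Kˣ) : K) := by
    simp only [htv]
    rw [FULL.dv_r _ _ (hrj 0), FULL.dv_other _ _ _ _ hr01 (hrj 0),
      FULL.dv_other _ _ _ _ hr02 (hrj 0), Units.val_one, mul_one, mul_one]
  have htv1 : tv (r 1) = ((τ 1 : Kˣ) : K) := by
    simp only [htv]
    rw [FULL.dv_r _ _ (hrj 1), FULL.dv_other _ _ _ _ hr01.symm (hrj 1),
      FULL.dv_other _ _ _ _ hr12 (hrj 1), Units.val_one, mul_one, one_mul]
  have htv2 : tv (r 2) = ((τ 2 : Kˣ) : K) := by
    simp only [htv]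
    rw [FULL.dv_r _ _ (hrj 2), FULL.dv_other _ _ _ _ hr02.symm (hrj 2),
      FULL.dv_other _ _ _ _ hr12.symm (hrj 2), Units.val_one, one_mul, one_mul]
  have htvr : ∀ a, tv (r a) = ((τ a : Kˣ) : K) := by
    intro a
    fin_cases a
    · exact htv0
    · exact htv1
    · exact htv2
  have htvo : ∀ j, j ≠ j₀ → (∀ a, j ≠ r a) → tv j = 1 := by
    intro j hj hja
    simp only [htv]
    rw [FULL.dv_other _ _ _ _ (hja 0) hj, FULL.dv_other _ _ _ _ (hja 1) hj,
      FULL.dv_other _ _ _ _ (hja 2) hj, Units.val_one, mul_one, mul_one]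
  -- `x = g T g⁻¹`
  set x : GL ι K := g * T * g⁻¹ with hx
  have hxM : x ∈ M := M.mul_mem (M.mul_mem hg hTM) (M.inv_mem hg)
  have hgT : ∀ j, ((g * T : GL ι K) : Matrix ι ι K) i₀ j = (g : Matrix ι ι K) i₀ j * tv j := by
    intro j
    rw [Units.val_mul, hTval, Matrix.mul_diagonal]
  -- the row `i₀` of `x`
  have hxrow : ∀ k, (x : Matrix ι ι K) i₀ k = (1 : Matrix ι ι K) i₀ k +
      s * ∑ a, c a * ((g⁻¹ : GL ι K) : Matrix ι ι K) (r a) k := by
    intro k
    rw [hx, Units.val_mul, Matrix.mul_apply]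
    simp only [hgT]
    have hone : (1 : Matrix ι ι K) i₀ k =
        ∑ j, (g : Matrix ι ι K) i₀ j * ((g⁻¹ : GL ι K) : Matrix ι ι K) j k := by
      rw [← Matrix.mul_apply, ← Units.val_mul, mul_inv_cancel, Units.val_one]
    have hsplit : ∀ j, (g : Matrix ι ι K) i₀ j * tv j * ((g⁻¹ : GL ι K) : Matrix ι ι K) j k =
        (g : Matrix ι ι K) i₀ j * ((g⁻¹ : GL ι K) : Matrix ι ι K) j k +
          (g : Matrix ι ι K) i₀ j * (tv j - 1) * ((g⁻¹ : GL ι K) : Matrix ι ι K) j k := by
      intro j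
      ring
    rw [Finset.sum_congr rfl (fun j _ => hsplit j), Finset.sum_add_distrib, ← hone]
    congr 1
    have hvan : ∀ j, j ∉ Finset.univ.image r →
        (g : Matrix ι ι K) i₀ j * (tv j - 1) * ((g⁻¹ : GL ι K) : Matrix ι ι K) j k = 0 := by
      intro j hj
      by_cases hjj : j = j₀
      · rw [hjj, h0, zero_mul, zero_mul]
      · have : ∀ a, j ≠ r a := by
          intro a ha
          apply hj
          rw [Finset.mem_image]
          exact ⟨a, Finset.mem_univ _, ha.symm⟩
        rw [htvo j hjj this, sub_self, mul_zero, zero_mul]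
    rw [← Finset.sum_subset (Finset.subset_univ (Finset.univ.image r)) (fun j _ hj => hvan j hj),
      Finset.sum_image (fun a _ b _ hab => hrinj hab), Finset.mul_sum]
    apply Finset.sum_congr rfl
    intro a _
    rw [htvr a, hτv a]
    have := hρ _ (hrj a)
    field_simp
    ring
  have hx1 : (x : Matrix ι ι K) i₀ k₁ = 0 := by
    rw [hxrow, Matrix.one_apply_ne (Ne.symm hk₁), hc1, mul_zero, add_zero]
  have hx2 : (x : Matrix ι ι K) i₀ k₂ = 0 := by
    rw [hxrow, Matrix.one_apply_ne (Ne.symm hk₂i), hc2, mul_zero, add_zero]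
  -- `x` is not monomial
  have hxnm : ¬ IsMono (x : Matrix ι ι K) := by
    rintro ⟨σ, hσ⟩
    set k' : ι := σ.symm i₀ with hk'
    have hxg : ∀ j, (x : Matrix ι ι K) i₀ k' * (g : Matrix ι ι K) k' j =
        (g : Matrix ι ι K) i₀ j * tv j := by
      intro j
      rw [← hgT j]
      have hxg' : x * g = g * T := by
        rw [hx]
        group
      rw [← hxg', Units.val_mul, Matrix.mul_apply]
      symm
      apply Finset.sum_eq_single k'
      · intro l _ hl
        show (x : Matrix ι ι K) i₀ l * (g : Matrix ι ι K) l j = 0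
        rw [hσ i₀ l, zero_mul]
        intro h
        apply hl
        rw [hk', h]
        simp
      · intro h
        exact absurd (Finset.mem_univ _) h
    -- `x i₀ k' ≠ 0`
    have hc' : (x : Matrix ι ι K) i₀ k' ≠ 0 := by
      intro h
      have := hxg (r 0)
      rw [h, zero_mul, htv0] at this
      exact mul_ne_zero (hρ _ (hrj 0)) (Units.ne_zero _) this.symm
    have hk'j₀ : (g : Matrix ι ι K) k' j₀ = 0 := by
      have := hxg j₀
      rw [h0, zero_mul] at this
      rcases mul_eq_zero.mp this with h | h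
      · exact absurd h hc'
      · exact h
    have hk'i₀ : k' = i₀ := by
      by_contra hne
      exact hcol g hg hnm j₀ k' i₀ hne hk'j₀ h0
    rw [hk'i₀] at hxg hc'
    -- `c' = 1`
    obtain ⟨j₁, hj₁⟩ := FULL.exists_notMem ({j₀, r 0, r 1, r 2} : Finset ι)
      (lt_of_le_of_lt Finset.card_le_four (by omega))
    simp only [Finset.mem_insert, Finset.mem_singleton, not_or] at hj₁
    obtain ⟨hj₁0, hj₁r0, hj₁r1, hj₁r2⟩ := hj₁
    have hj₁r : ∀ a, j₁ ≠ r a := by
      intro a
      fin_cases a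
      · exact hj₁r0
      · exact hj₁r1
      · exact hj₁r2
    have hc'1 : (x : Matrix ι ι K) i₀ i₀ = 1 := by
      have := hxg j₁
      rw [htvo j₁ hj₁0 hj₁r, mul_one] at this
      exact mul_right_cancel₀ (hρ j₁ hj₁0) (by rw [this, one_mul])
    apply hc0
    funext a
    have := hxg (r a)
    rw [hc'1, one_mul, htvr a, hτv a] at this
    have hρa := hρ _ (hrj a)
    have h5 : s * c a / (g : Matrix ι ι K) i₀ (r a) = 0 := by
      have h6 : (g : Matrix ι ι K) i₀ (r a) * (s * c a / (g : Matrix ι ι K) i₀ (r a)) = 0 := by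
        linear_combination -this
      rcases mul_eq_zero.mp h6 with h | h
      · exact absurd h hρa
      · exact h
    rw [div_eq_zero_iff] at h5
    rcases h5 with h | h
    · rcases mul_eq_zero.mp h with h' | h'
      · exact absurd h' hs0
      · simpa using h'
    · exact absurd h hρa
  exact hrow x hxM hxnm i₀ k₁ k₂ (Ne.symm hk₂k) hx1 hx2

end Cfsg.Agent.MonoP
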