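import Mathlib
import Cfsg.Prelude.Def_Transfer
import Cfsg.Agent.Helper9.HomCount
import Cfsg.Agent.Helper17.Basic

set_option autoImplicit false

namespace Cfsg.Agent.Helper9

open Subgroup
open scoped commutatorElement

universe u

variable {G : Type u} [Group G]

/-- The centre of a subgroup, as a subgroup of the subgroup. -/
theorem center_subtype_eq (E : Subgroup G) :
    Subgroup.center E = (Subgroup.centralizer (E : Set G)).subgroupOf E := by
  ext x
  rw [Subgroup.mem_center_iff, Subgroup.mem_subgroupOf, Subgroup.mem_centralizer_iff]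
  constructor
  · intro h g hg
    exact congrArg Subtype.val (h ⟨g, hg⟩)
  · intro h g
    exact Subtype.ext (h g g.2)

/-- The order of the centre of a subgroup. -/
theorem card_center_subtype (E : Subgroup G) :
    Nat.card (Subgroup.center E) = Nat.card (Subgroup.centralizer (E : Set G) ⊓ E : Subgroup G) := by
  rw [← Cfsg.Agent.Helper17.card_subgroupOf, ← center_subtype_eq]

/-- In an extraspecial subgroup, commutators lie in the centre. -/
theorem commutator_mem_center_of_isExtraspecial {p : ℕ} (E : Subgroup G)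
    (hE : Cfsg.IsExtraspecial p E) :
    ∀ a ∈ E, ∀ b ∈ E, ⁅a, b⁆ ∈ (Subgroup.centralizer (E : Set G) ⊓ E : Subgroup G) := by
  obtain ⟨⟨_, _, hcomm⟩, _⟩ := hE
  intro a ha b hb
  have h1 : ⁅(⟨a, ha⟩ : E), ⟨b, hb⟩⁆ ∈ commutator E := by
    rw [commutator_def]
    exact Subgroup.commutator_mem_commutator (Subgroup.mem_top _) (Subgroup.mem_top _)
  rw [hcomm, center_subtype_eq, Subgroup.mem_subgroupOf] at h1
  refine ⟨h1, ?_⟩
  rw [commutatorElement_def]
  exact E.mul_mem (E.mul_mem (E.mul_mem ha hb) (E.inv_mem ha)) (E.inv_mem hb)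

/-- The subgroup of all `h` centralizing `Z(Q)` with `[h, Q] ≤ Z(Q)`. -/
def commSub (Q : Subgroup G) : Subgroup G where
  carrier := {h | h ∈ Subgroup.centralizer
      ((Subgroup.centralizer (Q : Set G) ⊓ Q : Subgroup G) : Set G) ∧
    ∀ q ∈ Q, ⁅h, q⁆ ∈ (Subgroup.centralizer (Q : Set G) ⊓ Q : Subgroup G)}
  one_mem' := by
    refine ⟨one_mem _, fun q _ => ?_⟩
    rw [commutatorElement_one_left]; exact one_mem _
  mul_mem' := by
    rintro h h' ⟨h1, h2⟩ ⟨h1', h2'⟩
    refine ⟨mul_mem h1 h1', fun q hq => ?_⟩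
    have e1 : ⁅h * h', q⁆ = (h * ⁅h', q⁆ * h⁻¹) * ⁅h, q⁆ := by
      simp only [commutatorElement_def]; group
    have e2 : h * ⁅h', q⁆ * h⁻¹ = ⁅h', q⁆ := by
      rw [← h1 _ (h2' q hq), mul_assoc, mul_inv_cancel, mul_one]
    rw [e1, e2]
    exact mul_mem (h2' q hq) (h2 q hq)
  inv_mem' := by
    rintro h ⟨h1, h2⟩
    refine ⟨inv_mem h1, fun q hq => ?_⟩
    have e1 : ⁅h⁻¹, q⁆ = h⁻¹ * (⁅h, q⁆)⁻¹ * h⁻¹⁻¹ := by
      simp only [commutatorElement_def]; group
    have e2 : h⁻¹ * (⁅h, q⁆)⁻¹ * h⁻¹⁻¹ = (⁅h, q⁆)⁻¹ := by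
      rw [← (inv_mem h1) _ (inv_mem (h2 q hq)), mul_assoc, mul_inv_cancel, mul_one]
    rw [e1, e2]
    exact inv_mem (h2 q hq)

theorem mem_commSub (Q : Subgroup G) (h : G) : h ∈ commSub Q ↔
    h ∈ Subgroup.centralizer ((Subgroup.centralizer (Q : Set G) ⊓ Q : Subgroup G) : Set G) ∧
    ∀ q ∈ Q, ⁅h, q⁆ ∈ (Subgroup.centralizer (Q : Set G) ⊓ Q : Subgroup G) := Iff.rfl

/-- If `Z(Q)` has prime order, `Q' ≤ Z(Q)`, and `t` centralizes `Z(Q)` with `[t, Q] ≤ Z(Q)`, then
`t ∈ Q C_G(Q)`: every such automorphism of `Q` is inner. -/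
theorem mem_sup_centralizer_of_commutator_mem [Finite G] {p : ℕ} [Fact p.Prime] (Q : Subgroup G)
    (hZ : Nat.card (Subgroup.centralizer (Q : Set G) ⊓ Q : Subgroup G) = p)
    (hQQ : ∀ a ∈ Q, ∀ b ∈ Q, ⁅a, b⁆ ∈ (Subgroup.centralizer (Q : Set G) ⊓ Q : Subgroup G))
    (t : G)
    (htZ : t ∈ Subgroup.centralizer ((Subgroup.centralizer (Q : Set G) ⊓ Q : Subgroup G) : Set G))
    (ht : ∀ q ∈ Q, ⁅t, q⁆ ∈ (Subgroup.centralizer (Q : Set G) ⊓ Q : Subgroup G)) :
    t ∈ Q ⊔ Subgroup.centralizer (Q : Set G) := by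
  have hp : p.Prime := Fact.out
  have hQS : Q ≤ commSub Q := by
    intro a ha
    rw [mem_commSub]
    refine ⟨?_, fun q hq => hQQ a ha q hq⟩
    intro z hz
    have hz' : z ∈ Subgroup.centralizer (Q : Set G) := hz.1
    exact (hz' a ha).symm
  have htS : t ∈ commSub Q := ⟨htZ, ht⟩
  have hSZ : commSub Q ≤ Subgroup.centralizer
      ((Subgroup.centralizer (Q : Set G) ⊓ Q : Subgroup G) : Set G) := fun h hh => hh.1
  have key := relIndex_centralizer_eq (Subgroup.centralizer (Q : Set G) ⊓ Q : Subgroup G)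
    (commSub Q) Q hZ hSZ (hQS.trans hSZ) (fun a ha b hb => ha.2 b hb)
  have hinf1 : (Subgroup.centralizer (commSub Q : Set G) ⊓ Q : Subgroup G) =
      (Subgroup.centralizer (Q : Set G) ⊓ Q : Subgroup G) := by
    apply le_antisymm
    · exact inf_le_inf_right _ (Subgroup.centralizer_le hQS)
    · exact le_inf (Subgroup.le_centralizer_iff.mp hSZ) inf_le_right
  have h1 := Cfsg.Agent.Helper17.relIndex_mul_card_inf (Subgroup.centralizer (commSub Q : Set G)) Q
  rw [hinf1, hZ, ← key] at h1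
  have h2 := Cfsg.Agent.Helper17.relIndex_mul_card_inf (Subgroup.centralizer (Q : Set G)) (commSub Q)
  have h3 := Cfsg.Agent.Helper17.card_sup_mul_card_inf Q
    (Subgroup.centralizer (Q : Set G) ⊓ commSub Q)
    (inf_le_left.trans (Subgroup.centralizer_le_normalizer _))
  have hinf2 : (Q ⊓ (Subgroup.centralizer (Q : Set G) ⊓ commSub Q) : Subgroup G) =
      (Subgroup.centralizer (Q : Set G) ⊓ Q : Subgroup G) := by
    apply le_antisymm
    · exact le_inf (inf_le_right.trans inf_le_left) inf_le_left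
    · exact le_inf inf_le_right (le_inf inf_le_left (inf_le_right.trans hQS))
  rw [hinf2, hZ] at h3
  have hle : Q ⊔ (Subgroup.centralizer (Q : Set G) ⊓ commSub Q) ≤ commSub Q :=
    sup_le hQS inf_le_right
  have hcard : Nat.card (Q ⊔ (Subgroup.centralizer (Q : Set G) ⊓ commSub Q) : Subgroup G) =
      Nat.card (commSub Q) := by
    have h4 : Nat.card (Q ⊔ (Subgroup.centralizer (Q : Set G) ⊓ commSub Q) : Subgroup G) * p =
        Nat.card (commSub Q) * p := by
      rw [h3, ← h1, ← h2]; ring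
    exact Nat.eq_of_mul_eq_mul_right hp.pos h4
  have heq := Subgroup.eq_of_le_of_card_ge hle hcard.ge
  have : t ∈ Q ⊔ (Subgroup.centralizer (Q : Set G) ⊓ commSub Q) := by rw [heq]; exact htS
  exact (sup_le_sup_left inf_le_left Q) this

/-- Two nonidentity elements of a subgroup of order two are equal. -/
theorem eq_of_card_eq_two [Finite G] {H : Subgroup G} (h : Nat.card H = 2) {x y : G} (hx : x ∈ H)
    (hy : y ∈ H) (hx1 : x ≠ 1) (hy1 : y ≠ 1) : x = y := by
  classical
  by_contra hne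
  have := Fintype.ofFinite H
  have h3 : 2 < Fintype.card H := Fintype.two_lt_card_iff.mpr
    ⟨1, ⟨x, hx⟩, ⟨y, hy⟩, fun h => hx1 (congrArg Subtype.val h).symm,
      fun h => hy1 (congrArg Subtype.val h).symm, fun h => hne (congrArg Subtype.val h)⟩
  rw [← Nat.card_eq_fintype_card, h] at h3
  omega

end Cfsg.Agent.Helper9
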