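import Mathlib

set_option autoImplicit false

/-! S0679 chapter (5) (designer helper19), piece TAU: an odd element of `G` fixing a given 4-tuple. -/

namespace Cfsg.Agent.S0679F

open Equiv

variable {α : Type*} [Fintype α] [DecidableEq α]

/-- (5-TAU) an odd element of `G` fixing a given 4-tuple. -/
theorem TAU (G : Subgroup (Perm α))
    (h4 : ∀ x y : Fin 4 ↪ α, ∃ h ∈ G, h ∈ alternatingGroup α ∧ ∀ i, h (x i) = y i)
    (hodd : ¬ G ≤ alternatingGroup α) (x : Fin 4 ↪ α) :
    ∃ τ ∈ G, τ ∉ alternatingGroup α ∧ ∀ i, τ (x i) = x i := by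
  obtain ⟨g, hgG, hgA⟩ := SetLike.not_le_iff_exists.1 hodd
  obtain ⟨h, hhG, hhA, hh⟩ := h4 (x.trans g.toEmbedding) x
  refine ⟨h * g, G.mul_mem hhG hgG, ?_, ?_⟩
  · intro hcon
    apply hgA
    have : g = h⁻¹ * (h * g) := by group
    rw [this]
    exact (alternatingGroup α).mul_mem ((alternatingGroup α).inv_mem hhA) hcon
  · intro i
    have := hh i
    simpa using this

end Cfsg.Agent.S0679F
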