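import Mathlib
import Cfsg.Agent.Helper26.S1237Defs

/-!
# S1237 board, piece CTXF: the action of `ψ` on the four-group `V`
-/

set_option autoImplicit false
set_option linter.unusedSectionVars false

namespace Cfsg.Agent.S1237P

theorem CTXF_map {T : Type*} [Group T] {V : Subgroup T} {ψ : MulAut T} (c : Ctx V ψ)
    {v : T} (hv : v ∈ V) : ψ v ∈ V := by
  rw [c.mem] at hv ⊢
  rw [← map_mul, hv, map_one]

theorem CTXF_aux_pow_succ {T : Type*} [Group T] (ψ : MulAut T) (n : ℕ) (v : T) :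
    (ψ ^ (n + 1)) v = ψ ((ψ ^ n) v) := by
  rw [pow_succ', MulAut.mul_apply]

theorem CTXF_aux_pow_add {T : Type*} [Group T] (ψ : MulAut T) (m n : ℕ) (v : T) :
    (ψ ^ (m + n)) v = (ψ ^ m) ((ψ ^ n) v) := by
  rw [pow_add, MulAut.mul_apply]

theorem CTXF_aux_pow_mem {T : Type*} [Group T] {V : Subgroup T} {ψ : MulAut T} (c : Ctx V ψ)
    {v : T} (hv : v ∈ V) (n : ℕ) : (ψ ^ n) v ∈ V := by
  induction n with
  | zero => simpa using hv
  | succ n ih => rw [CTXF_aux_pow_succ]; exact CTXF_map c ih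

/-- the orbit structure: `V = {1, s, ψ s, ψ² s}` with `ψ³ s = s`. -/
theorem CTXF_aux_orbit {T : Type*} [Group T] {V : Subgroup T} {ψ : MulAut T} (c : Ctx V ψ)
    {s : T} (hs : s ∈ V) (hs1 : s ≠ 1) :
    ψ s ≠ s ∧ ψ (ψ s) ≠ s ∧ ψ (ψ (ψ s)) = s ∧
      ∀ x ∈ V, x = 1 ∨ x = s ∨ x = ψ s ∨ x = ψ (ψ s) := by
  classical
  have hcard : Set.ncard (V : Set T) = 4 := by
    rw [← c.card]; exact (Nat.card_coe_set_eq (V : Set T)).symm
  have hVfin : (V : Set T).Finite := by
    apply Set.finite_of_ncard_ne_zero; rw [hcard]; norm_num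
  have hinj : Function.Injective ψ := ψ.injective
  have hψ1 : ∀ x : T, ψ x = 1 → x = 1 := fun x hx => by
    apply hinj; rw [hx, map_one]
  -- an element outside a small subset
  have hex : ∀ S : Set T, S ⊆ (V : Set T) → S.ncard < 4 → ∃ t ∈ V, t ∉ S := by
    intro S hS hlt
    have := Set.exists_mem_notMem_of_ncard_lt_ncard (s := S) (t := (V : Set T))
      (by rw [hcard]; exact hlt) (hVfin.subset hS)
    obtain ⟨t, htV, htS⟩ := this
    exact ⟨t, htV, htS⟩
  have h1V : (1 : T) ∈ V := one_mem V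
  -- step (c)
  have hc1 : ψ s ≠ s := by
    intro h
    have hall : ∀ k : ℕ, (ψ ^ k) s = s := by
      intro k
      induction k with
      | zero => simp
      | succ k ih => rw [CTXF_aux_pow_succ, ih, h]
    obtain ⟨t, htV, htS⟩ := hex {1, s} (by
      intro x hx
      rcases hx with rfl | rfl
      · exact h1V
      · exact hs) (by
      have : ({1, s} : Set T).ncard ≤ 2 := Set.ncard_insert_le _ _ |>.trans (by
        rw [Set.ncard_singleton])
      omega)
    have ht1 : t ≠ 1 := fun h => htS (by rw [h]; exact Set.mem_insert _ _)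
    have hts : t ≠ s := fun h => htS (by rw [h]; exact Set.mem_insert_of_mem _ rfl)
    obtain ⟨k, hk⟩ := c.trans s hs t htV hs1 ht1
    rw [hall k] at hk
    exact hts hk.symm
  have hψs : ψ s ∈ V := CTXF_map c hs
  -- step (d)
  have hc2 : ψ (ψ s) ≠ s := by
    intro h
    have hall : ∀ k : ℕ, (ψ ^ k) s = s ∨ (ψ ^ k) s = ψ s := by
      intro k
      induction k with
      | zero => left; simp
      | succ k ih =>
        rw [CTXF_aux_pow_succ]
        rcases ih with ih | ih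
        · right; rw [ih]
        · left; rw [ih, h]
    obtain ⟨t, htV, htS⟩ := hex {1, s, ψ s} (by
      intro x hx
      rcases hx with rfl | rfl | rfl
      · exact h1V
      · exact hs
      · exact hψs) (by
      have h2 : ({s, ψ s} : Set T).ncard ≤ 2 := Set.ncard_insert_le _ _ |>.trans (by
        rw [Set.ncard_singleton])
      have : ({1, s, ψ s} : Set T).ncard ≤ 3 := (Set.ncard_insert_le _ _).trans (by omega)
      omega)
    have ht1 : t ≠ 1 := fun h => htS (by rw [h]; exact Set.mem_insert _ _)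
    have hts : t ≠ s := fun h => htS (by
      rw [h]; exact Set.mem_insert_of_mem _ (Set.mem_insert _ _))
    have htψ : t ≠ ψ s := fun h => htS (by
      rw [h]; exact Set.mem_insert_of_mem _ (Set.mem_insert_of_mem _ rfl))
    obtain ⟨k, hk⟩ := c.trans s hs t htV hs1 ht1
    rcases hall k with h' | h'
    · rw [h'] at hk; exact hts hk.symm
    · rw [h'] at hk; exact htψ hk.symm
  have hψψs : ψ (ψ s) ∈ V := CTXF_map c hψs
  have hψs1 : ψ s ≠ 1 := fun h => hs1 (hψ1 s h)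
  have hψψs1 : ψ (ψ s) ≠ 1 := fun h => hψs1 (hψ1 _ h)
  have hc3 : ψ (ψ s) ≠ ψ s := fun h => hc1 (hinj h)
  -- step (f)
  have hsub : ({1, s, ψ s, ψ (ψ s)} : Set T) ⊆ (V : Set T) := by
    intro x hx
    rcases hx with rfl | rfl | rfl | rfl
    · exact h1V
    · exact hs
    · exact hψs
    · exact hψψs
  have hn4 : ({1, s, ψ s, ψ (ψ s)} : Set T).ncard = 4 := by
    rw [Set.ncard_insert_of_notMem, Set.ncard_insert_of_notMem, Set.ncard_insert_of_notMem,
      Set.ncard_singleton]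
    · intro h
      exact hc3 (Set.mem_singleton_iff.mp h).symm
    · intro h
      rcases h with h | h
      · exact hc1 h.symm
      · exact hc2 (Set.mem_singleton_iff.mp h).symm
    · intro h
      rcases h with h | h | h
      · exact hs1 h.symm
      · exact hψs1 h.symm
      · exact hψψs1 (Set.mem_singleton_iff.mp h).symm
  have heq : ({1, s, ψ s, ψ (ψ s)} : Set T) = (V : Set T) :=
    Set.eq_of_subset_of_ncard_le hsub (by rw [hcard, hn4]) hVfin
  have hVel : ∀ x ∈ V, x = 1 ∨ x = s ∨ x = ψ s ∨ x = ψ (ψ s) := by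
    intro x hx
    have : x ∈ ({1, s, ψ s, ψ (ψ s)} : Set T) := by rw [heq]; exact hx
    rcases this with h | h | h | h
    · exact Or.inl h
    · exact Or.inr (Or.inl h)
    · exact Or.inr (Or.inr (Or.inl h))
    · exact Or.inr (Or.inr (Or.inr h))
  refine ⟨hc1, hc2, ?_, hVel⟩
  rcases hVel _ (CTXF_map c hψψs) with h | h | h | h
  · exact absurd (hψ1 _ h) hψψs1
  · exact h
  · exact absurd (hinj h) hc2
  · exact absurd (hinj h) hc3

theorem CTXF_aux_mod {T : Type*} [Group T] {V : Subgroup T} {ψ : MulAut T} (c : Ctx V ψ)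
    {s : T} (hs : s ∈ V) (hs1 : s ≠ 1) (j : ℕ) : (ψ ^ j) s = (ψ ^ (j % 3)) s := by
  obtain ⟨-, -, h3, -⟩ := CTXF_aux_orbit c hs hs1
  have h3' : (ψ ^ 3) s = s := by
    rw [CTXF_aux_pow_succ, CTXF_aux_pow_succ, CTXF_aux_pow_succ]
    simpa using h3
  have hq : ∀ q : ℕ, (ψ ^ (3 * q)) s = s := by
    intro q
    induction q with
    | zero => simp
    | succ q ih =>
      rw [show 3 * (q + 1) = 3 * q + 3 by ring, CTXF_aux_pow_add, h3', ih]
  conv_lhs => rw [← Nat.mod_add_div j 3]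
  rw [CTXF_aux_pow_add, hq]

theorem CTXF_fix {T : Type*} [Group T] {V : Subgroup T} {ψ : MulAut T} (c : Ctx V ψ)
    {v : T} (hv : v ∈ V) (hv1 : v ≠ 1) (j : ℕ) : (ψ ^ j) v = v ↔ 3 ∣ j := by
  obtain ⟨h1, h2, -, -⟩ := CTXF_aux_orbit c hv hv1
  rw [CTXF_aux_mod c hv hv1 j, Nat.dvd_iff_mod_eq_zero]
  have hlt : j % 3 < 3 := Nat.mod_lt _ (by norm_num)
  interval_cases h : j % 3
  · simp
  · simp only [pow_one]
    constructor
    · intro h'; exact absurd h' h1
    · intro h'; omega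
  · constructor
    · intro h'
      rw [CTXF_aux_pow_succ, CTXF_aux_pow_succ] at h'
      simp only [pow_zero, MulAut.one_apply] at h'
      exact absurd h' h2
    · intro h'; omega

theorem CTXF_pow {T : Type*} [Group T] {V : Subgroup T} {ψ : MulAut T} (c : Ctx V ψ)
    (j : ℕ) (hj : ¬ 3 ∣ j) : Ctx V (ψ ^ j) := by
  refine ⟨c.mem, c.central, c.card, ?_⟩
  intro s hs t ht hs1 ht1
  obtain ⟨i, hi⟩ := c.trans s hs t ht hs1 ht1
  refine ⟨i * j, ?_⟩
  rw [← pow_mul, ← hi, CTXF_aux_mod c hs hs1 (j * (i * j)), CTXF_aux_mod c hs hs1 i]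
  congr 2
  have hj2 : j * j % 3 = 1 := by
    have h3 : j % 3 = 1 ∨ j % 3 = 2 := by
      have := Nat.mod_lt j (show 0 < 3 by norm_num)
      have h0 : j % 3 ≠ 0 := fun h => hj (Nat.dvd_of_mod_eq_zero h)
      omega
    rcases h3 with h | h <;> simp [Nat.mul_mod, h]
  calc j * (i * j) % 3 = (i * (j * j)) % 3 := by ring_nf
    _ = ((i % 3) * (j * j % 3)) % 3 := Nat.mul_mod _ _ _
    _ = i % 3 := by rw [hj2, mul_one, Nat.mod_mod]

theorem CTXF_aux_invol {T : Type*} [Group T] [Finite T] (hT : IsPGroup 2 T) (N : Subgroup T)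
    (hN : N ≠ ⊥) : ∃ z ∈ N, z ≠ 1 ∧ z * z = 1 := by
  haveI : Fact (Nat.Prime 2) := ⟨Nat.prime_two⟩
  have hNp : IsPGroup 2 N := hT.to_subgroup N
  obtain ⟨n, hn⟩ := IsPGroup.iff_card.mp hNp
  have hn0 : n ≠ 0 := by
    intro h
    rw [h, pow_zero] at hn
    exact hN (Subgroup.card_eq_one.mp hn)
  have hdvd : 2 ∣ Nat.card N := by rw [hn]; exact dvd_pow_self 2 hn0
  obtain ⟨z, hz⟩ := exists_prime_orderOf_dvd_card' 2 hdvd
  refine ⟨(z : T), z.2, ?_, ?_⟩
  · intro h
    have : z = 1 := Subtype.ext h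
    rw [this, orderOf_one] at hz
    norm_num at hz
  · have h2 : z ^ 2 = 1 := by rw [← hz]; exact pow_orderOf_eq_one z
    have := congrArg (fun y : N => (y : T)) h2
    simpa [pow_two] using this

theorem CTXF_fpf {T : Type*} [Group T] [Finite T] (hT : IsPGroup 2 T) {V : Subgroup T}
    {ψ : MulAut T} (c : Ctx V ψ) (x : T) (hx : ψ x = x) : x = 1 := by
  by_contra hx1
  have hN : Subgroup.zpowers x ≠ ⊥ := by
    intro h
    exact hx1 (Subgroup.zpowers_eq_bot.mp h)
  obtain ⟨z, hzN, hz1, hz2⟩ := CTXF_aux_invol hT (Subgroup.zpowers x) hN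
  obtain ⟨n, rfl⟩ := Subgroup.mem_zpowers_iff.mp hzN
  have hzV : x ^ n ∈ V := (c.mem _).mpr hz2
  have hfix : (ψ ^ 1) (x ^ n) = x ^ n := by
    rw [pow_one, map_zpow, hx]
  have := (CTXF_fix c hzV hz1 1).mp hfix
  omega

theorem CTXF_le {T : Type*} [Group T] [Finite T] (hT : IsPGroup 2 T) {V : Subgroup T}
    {ψ : MulAut T} (c : Ctx V ψ) (N : Subgroup T) (hN : N ≠ ⊥) (hNψ : ∀ n ∈ N, ψ n ∈ N) :
    V ≤ N := by
  obtain ⟨z, hzN, hz1, hz2⟩ := CTXF_aux_invol hT N hN
  have hzV : z ∈ V := (c.mem _).mpr hz2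
  obtain ⟨-, -, -, hel⟩ := CTXF_aux_orbit c hzV hz1
  intro x hx
  rcases hel x hx with rfl | rfl | rfl | rfl
  · exact one_mem N
  · exact hzN
  · exact hNψ _ hzN
  · exact hNψ _ (hNψ _ hzN)

end Cfsg.Agent.S1237P
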