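import Mathlib
import Cfsg.Agent.Helper7.S5655.Defs
import Cfsg.Agent.Helper7.S5655.MonoLib
import Cfsg.Agent.Helper7.S5655.Defs2
import Cfsg.Agent.Helper16.S5655RANK

/-! S5655 (k = 1), chapter of helper7, piece MONORANK (helper9): a monomial matrix conjugate to `Z` with `Z - c` of rank
`≤ r` has no `r + 1` "independent" moved columns. -/

set_option autoImplicit false
set_option linter.unusedSectionVars false
set_option linter.unusedVariables false

namespace Cfsg.Agent.S5655K1

open Matrix
open Cfsg.Agent.S2644 Cfsg.Agent.Helper2.SUGen Cfsg.Agent.Helper28.SimMax Cfsg.Agent.MonoP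

variable {K : Type*} [Field K] {q n : ℕ}

local notation "h" => Cfsg.hermForm n K q
local notation "T" => Cfsg.unitaryTransvection n q

/-- MONORANK (M): the combination used three times. -/
theorem MONORANK.main (A A' Z : Matrix (Fin n) (Fin n) K) (hAA : A' * A = 1) (s : Equiv.Perm (Fin n))
    (d : Fin n → K) (hd : ∀ j, d j ≠ 0) (hAy : A * mono s d = Z * A) (c : K) (r : ℕ)
    (a b : Fin r → Fin n → K) (hZ : Z - c • (1 : Matrix (Fin n) (Fin n) K) = ∑ l, vecMulVec (a l) (b l))
    (ks : Fin (r + 1) → Fin n) (hJ : ∀ i, s (ks i) ≠ ks i ∨ d (ks i) ≠ c)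
    (hks : ∀ i j, i ≠ j → ks i ≠ ks j ∧ s (ks i) ≠ ks j) : False := by
  have hAY : A * (mono s d - c • (1 : Matrix (Fin n) (Fin n) K)) =
      (Z - c • (1 : Matrix (Fin n) (Fin n) K)) * A := by
    rw [Matrix.mul_sub, Matrix.sub_mul, hAy, Matrix.mul_smul, Matrix.smul_mul, Matrix.mul_one,
      Matrix.one_mul]
  have hY : ∀ i j : Fin n, (mono s d - c • (1 : Matrix (Fin n) (Fin n) K)) i j =
      (if i = s j then d j else 0) - c * (if i = j then 1 else 0) := by
    intro i j
    rw [Matrix.sub_apply, Matrix.smul_apply, mono_apply, Matrix.one_apply, smul_eq_mul]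
  refine RANK.main A A' (mono s d - c • (1 : Matrix (Fin n) (Fin n) K))
    (Z - c • (1 : Matrix (Fin n) (Fin n) K)) hAA hAY r a b hZ ks (fun i => s (ks i)) ?_ ?_
  · intro i
    rw [hY, if_pos rfl]
    rcases hJ i with h1 | h1
    · rw [if_neg h1, mul_zero, sub_zero]
      exact hd _
    · by_cases h2 : s (ks i) = ks i
      · rw [if_pos h2, mul_one]
        exact sub_ne_zero.mpr h1
      · rw [if_neg h2, mul_zero, sub_zero]
        exact hd _
  · intro i j hij
    rw [hY, if_neg, if_neg (hks i j hij).2, mul_zero, sub_zero]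
    intro h1
    exact (hks i j hij).1 (s.injective h1)

end Cfsg.Agent.S5655K1
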