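import Mathlib
import Cfsg.Agent.S0519
import Cfsg.Agent.Helper1.UniqueOrderP
import Cfsg.Agent.Helper9.NormalSeries

/-!
# Normal four-subgroups of `2`-groups of rank at least three

A finite `2`-group containing an elementary abelian subgroup of order `8` has a normal
four-subgroup (via the classification of `2`-groups whose normal abelian subgroups are all
cyclic, S0519).
-/

set_option autoImplicit false

namespace Cfsg.Agent.Helper9

open Subgroup

universe u

/-- Elements of exponent two commute. -/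
theorem commute_of_sq_eq_one {X : Type*} [Group X] {a b : X} (ha : a ^ 2 = 1) (hb : b ^ 2 = 1)
    (hab : (a * b) ^ 2 = 1) : a * b = b * a := by
  have ha' : a⁻¹ = a := by rw [inv_eq_iff_mul_eq_one, ← pow_two, ha]
  have hb' : b⁻¹ = b := by rw [inv_eq_iff_mul_eq_one, ← pow_two, hb]
  have h1 : (a * b)⁻¹ = a * b := by rw [inv_eq_iff_mul_eq_one, ← pow_two, hab]
  rw [mul_inv_rev, ha', hb'] at h1
  exact h1.symm

/-- A subgroup of exponent two is commutative. -/
theorem isMulCommutative_of_sq_eq_one {X : Type*} [Group X] (E : Subgroup X)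
    (hE : ∀ e ∈ E, e ^ 2 = 1) : IsMulCommutative E := by
  refine ⟨⟨?_⟩⟩
  rintro ⟨a, ha⟩ ⟨b, hb⟩
  apply Subtype.ext
  exact commute_of_sq_eq_one (hE a ha) (hE b hb) (hE _ (E.mul_mem ha hb))

/-- A cyclic subgroup of exponent two has order at most two. -/
theorem card_le_two_of_isCyclic_of_sq_eq_one {X : Type*} [Group X] [Finite X] (F : Subgroup X)
    [hF : IsCyclic F] (hF2 : ∀ e ∈ F, e ^ 2 = 1) : Nat.card F ≤ 2 := by
  obtain ⟨g, hg⟩ := IsCyclic.exists_generator (α := F)
  rw [← orderOf_eq_card_of_forall_mem_zpowers hg]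
  apply Nat.le_of_dvd (by norm_num)
  apply orderOf_dvd_of_pow_eq_one
  apply Subtype.ext
  simpa using hF2 g g.2

/-- A group with a cyclic subgroup of index two has no elementary abelian subgroup of order more
than four. -/
theorem card_le_four_of_cyclic_index_two {X : Type*} [Group X] [Finite X] (c : X)
    (hc : 2 * orderOf c = Nat.card X) (E : Subgroup X) (hE : ∀ e ∈ E, e ^ 2 = 1) :
    Nat.card E ≤ 4 := by
  set C := zpowers c with hC
  have hCcard : Nat.card C = orderOf c := Nat.card_zpowers c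
  have hidx : C.index = 2 := by
    have h1 := C.card_mul_index
    rw [hCcard, ← hc, mul_comm] at h1
    have hpos : 0 < orderOf c := orderOf_pos c
    exact Nat.eq_of_mul_eq_mul_right hpos h1
  have : C.Normal := normal_of_index_eq_two hidx
  have h1 : Nat.card (E ⊓ C : Subgroup X) * (E ⊓ C).relIndex E = Nat.card E := by
    have := relIndex_mul_relIndex (⊥ : Subgroup X) (E ⊓ C) E bot_le inf_le_left
    rwa [relIndex_bot_left, relIndex_bot_left] at this
  rw [inf_relIndex_left] at h1
  have h2 : C.relIndex E ∣ 2 := hidx ▸ relIndex_dvd_index_of_normal C E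
  have h3 : C.relIndex E ≤ 2 := Nat.le_of_dvd (by norm_num) h2
  have : IsCyclic (E ⊓ C : Subgroup X) := isCyclic_of_le (inf_le_right : E ⊓ C ≤ C)
  have h4 : Nat.card (E ⊓ C : Subgroup X) ≤ 2 :=
    card_le_two_of_isCyclic_of_sq_eq_one _ (fun e he => hE e he.1)
  calc Nat.card E = Nat.card (E ⊓ C : Subgroup X) * C.relIndex E := h1.symm
    _ ≤ 2 * 2 := Nat.mul_le_mul h4 h3

/-- In a finite `2`-group without a normal four-subgroup every abelian normal subgroup is
cyclic. -/
theorem isCyclic_of_no_normal_four {S : Type u} [Group S] [Finite S] (hS : IsPGroup 2 S)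
    (hno : ¬ ∃ U : Subgroup S, U.Normal ∧ Nat.card U = 4 ∧ ∀ u ∈ U, u ^ 2 = 1)
    (A : Subgroup S) (hAn : A.Normal) (hAc : IsMulCommutative A) : IsCyclic A := by
  have : Fact (Nat.Prime 2) := ⟨Nat.prime_two⟩
  by_contra hcyc
  have hnu : ¬ Cfsg.Agent.Helper1.UniqP 2 A := fun h =>
    hcyc (Cfsg.Agent.Helper1.UniqP.isCyclic_of_isMulCommutative (hS.to_subgroup A) h)
  unfold Cfsg.Agent.Helper1.UniqP at hnu
  push Not at hnu
  obtain ⟨K₁, K₂, hK₁, hK₂, hne⟩ := hnu
  have hcomm : ∀ a ∈ A, ∀ b ∈ A, a * b = b * a := fun a ha b hb =>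
    congrArg Subtype.val (hAc.is_comm.comm ⟨a, ha⟩ ⟨b, hb⟩)
  -- the subgroup of elements of `A` of order dividing two
  let Ω : Subgroup S :=
    { carrier := {a | a ∈ A ∧ a ^ 2 = 1}
      one_mem' := ⟨A.one_mem, one_pow 2⟩
      mul_mem' := by
        rintro a b ⟨ha, ha2⟩ ⟨hb, hb2⟩
        refine ⟨A.mul_mem ha hb, ?_⟩
        have hc : Commute a b := hcomm a ha b hb
        rw [hc.mul_pow, ha2, hb2, one_mul]
      inv_mem' := by
        rintro a ⟨ha, ha2⟩
        exact ⟨A.inv_mem ha, by rw [inv_pow, ha2, inv_one]⟩ }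
  have hΩn : Ω.Normal := by
    refine ⟨fun a ha g => ?_⟩
    obtain ⟨haA, ha2⟩ := ha
    refine ⟨hAn.conj_mem a haA g, ?_⟩
    rw [conj_pow, ha2, mul_one, mul_inv_cancel]
  -- the two subgroups of order two lie in `Ω`
  have hKΩ : ∀ K : Subgroup A, Nat.card K = 2 → K.map A.subtype ≤ Ω := by
    rintro K hK _ ⟨k, hk, rfl⟩
    refine ⟨k.2, ?_⟩
    have h1 : (⟨k, hk⟩ : K) ^ 2 = 1 := by
      rw [← hK]; exact pow_card_eq_one'
    have h2 := congrArg (fun y : K => ((y : A) : S)) h1
    simpa using h2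
  have hcardK : ∀ K : Subgroup A, Nat.card K = 2 → Nat.card (K.map A.subtype) = 2 := by
    intro K hK
    rw [← hK]
    exact Nat.card_congr (K.equivMapOfInjective _ A.subtype_injective).symm.toEquiv
  have hΩ4 : 2 ^ 2 ≤ Nat.card Ω := by
    obtain ⟨j, hj⟩ := IsPGroup.iff_card.mp (hS.to_subgroup Ω)
    rw [hj]
    apply Nat.pow_le_pow_right (by norm_num)
    by_contra hj2
    have hj1 : j ≤ 1 := by omega
    have hle : Nat.card Ω ≤ 2 := by
      rw [hj]
      calc 2 ^ j ≤ 2 ^ 1 := Nat.pow_le_pow_right (by norm_num) hj1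
        _ = 2 := by norm_num
    have e1 : K₁.map A.subtype = Ω :=
      Subgroup.eq_of_le_of_card_ge (hKΩ K₁ hK₁) (by rw [hcardK K₁ hK₁]; exact hle)
    have e2 : K₂.map A.subtype = Ω :=
      Subgroup.eq_of_le_of_card_ge (hKΩ K₂ hK₂) (by rw [hcardK K₂ hK₂]; exact hle)
    exact hne (Subgroup.map_injective A.subtype_injective (e1.trans e2.symm))
  obtain ⟨B, hBn, hBΩ, hBcard⟩ := exists_normal_le_card_eq hS Ω 2 hΩ4
  exact hno ⟨B, hBn, by rw [hBcard]; norm_num, fun u hu => (hBΩ hu).2⟩

/-- A finite `2`-group containing an elementary abelian subgroup of order `8` has a normal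
four-subgroup. -/
theorem exists_normal_four {S : Type u} [Group S] [Finite S] (hS : IsPGroup 2 S)
    (E : Subgroup S) (hE8 : Nat.card E = 8) (hE2 : ∀ e ∈ E, e ^ 2 = 1) :
    ∃ U : Subgroup S, U.Normal ∧ Nat.card U = 4 ∧ ∀ u ∈ U, u ^ 2 = 1 := by
  have : Fact (Nat.Prime 2) := ⟨Nat.prime_two⟩
  by_contra hno
  have hn := isCyclic_of_no_normal_four hS hno
  have hEc : IsMulCommutative E := isMulCommutative_of_sq_eq_one E hE2
  have hEnc : ¬ IsCyclic E := by
    intro hcyc
    have := card_le_two_of_isCyclic_of_sq_eq_one E hE2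
    omega
  obtain ⟨-, h | h | h⟩ := Cfsg.Agent.S0519.result 2 hS hn ⟨E, hEc, hEnc⟩
  · obtain ⟨n, ⟨e⟩⟩ := h
    have hord : orderOf (e.symm (QuaternionGroup.a 1)) = 2 * n := by
      rw [MulEquiv.orderOf_eq, QuaternionGroup.orderOf_a_one]
    have hn0 : n ≠ 0 := by
      rintro rfl
      have := orderOf_pos (e.symm (QuaternionGroup.a 1))
      omega
    have : NeZero n := ⟨hn0⟩
    have hcard : Nat.card S = 4 * n := by
      rw [Nat.card_congr e.toEquiv, Nat.card_eq_fintype_card, QuaternionGroup.card]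
    have := card_le_four_of_cyclic_index_two (e.symm (QuaternionGroup.a 1))
      (by rw [hord, hcard]; ring) E hE2
    omega
  · obtain ⟨n, -, ⟨e⟩⟩ := h
    have hcard : Nat.card S = 2 * n := by
      rw [Nat.card_congr e.toEquiv, DihedralGroup.nat_card]
    have hord : orderOf (e.symm (DihedralGroup.r 1)) = n := by
      rw [MulEquiv.orderOf_eq, DihedralGroup.orderOf_r_one]
    have := card_le_four_of_cyclic_index_two (e.symm (DihedralGroup.r 1))
      (by rw [hord, hcard]) E hE2
    omega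
  · obtain ⟨n, -, hcard, x, y, hx, -, -⟩ := h
    have := card_le_four_of_cyclic_index_two x (by rw [hx, hcard, pow_succ]; ring) E hE2
    omega

end Cfsg.Agent.Helper9
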