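import Mathlib

/-! Pauli / Clifford model of the extraspecial group `2^{1+2n}_+` over `ZMod 3`:
signs, the cocycle-trivialisation lemma and character orthogonality. -/

set_option autoImplicit false

namespace Cfsg.Agent.Helper9.Pl

/-- the sign character `ZMod 2 → ZMod 3`. -/
def sg (t : ZMod 2) : ZMod 3 := if t = 0 then 1 else -1

theorem sg_zero : sg 0 = 1 := by decide
theorem sg_one : sg 1 = -1 := by decide
theorem sg_add : ∀ s t : ZMod 2, sg (s + t) = sg s * sg t := by decide
theorem sg_mul_self : ∀ t : ZMod 2, sg t * sg t = 1 := by decide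
theorem sg_cases : ∀ t : ZMod 2, sg t = 1 ∨ sg t = -1 := by decide
theorem sg_ne_zero : ∀ t : ZMod 2, sg t ≠ 0 := by decide
theorem sg_eq_one_iff : ∀ t : ZMod 2, sg t = 1 ↔ t = 0 := by decide
theorem sg_injective : ∀ s t : ZMod 2, sg s = sg t → s = t := by decide
theorem k3_cases : ∀ c : ZMod 3, c ≠ 0 → c = 1 ∨ c = -1 := by decide
theorem k3_self_neg : ∀ c : ZMod 3, c = -c → c = 0 := by decide
theorem z2_add_self : ∀ a : ZMod 2, a + a = 0 := by decide
theorem z2_eq_of_add : ∀ a b : ZMod 2, a + b = 0 → a = b := by decide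
theorem z2_cases : ∀ a : ZMod 2, a = 0 ∨ a = 1 := by decide
theorem z2_two : (2 : ZMod 2) = 0 := by decide

section split
variable {ι : Type*} [Fintype ι] [LinearOrder ι] {R : Type*} [CommRing R]

/-- splitting a double sum along the order. -/
theorem dsum_split (h : ι → ι → R) :
    ∑ i, ∑ j, h i j = (∑ i, ∑ j, if i < j then h i j + h j i else 0) + ∑ i, h i i := by
  have h1 : ∀ i j, h i j = (if i < j then h i j else 0) + (if j < i then h i j else 0) +
      (if i = j then h i j else 0) := by
    intro i j
    rcases lt_trichotomy i j with hlt | heq | hgt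
    · simp [hlt, not_lt.mpr hlt.le, hlt.ne]
    · subst heq; simp
    · simp [hgt, not_lt.mpr hgt.le, hgt.ne']
  have h2 : ∑ i, ∑ j, (if j < i then h i j else 0) = ∑ i, ∑ j, (if i < j then h j i else 0) := by
    rw [Finset.sum_comm]
  calc ∑ i, ∑ j, h i j
      = ∑ i, ∑ j, ((if i < j then h i j else 0) + (if j < i then h i j else 0) +
          (if i = j then h i j else 0)) := by
        apply Finset.sum_congr rfl; intro i _
        apply Finset.sum_congr rfl; intro j _
        exact h1 i j
    _ = (∑ i, ∑ j, (if i < j then h i j else 0)) + (∑ i, ∑ j, (if j < i then h i j else 0)) +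
          ∑ i, ∑ j, (if i = j then h i j else 0) := by
        simp only [Finset.sum_add_distrib]
    _ = (∑ i, ∑ j, (if i < j then h i j else 0)) + (∑ i, ∑ j, (if i < j then h j i else 0)) +
          ∑ i, h i i := by
        rw [h2]
        congr 1
        apply Finset.sum_congr rfl; intro i _
        simp
    _ = (∑ i, ∑ j, if i < j then h i j + h j i else 0) + ∑ i, h i i := by
        congr 1
        rw [← Finset.sum_add_distrib]
        apply Finset.sum_congr rfl; intro i _
        rw [← Finset.sum_add_distrib]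
        apply Finset.sum_congr rfl; intro j _
        split_ifs <;> simp

end split

section quad
variable {ι : Type*} [Fintype ι] [DecidableEq ι] [LinearOrder ι]

/-- a bilinear form over `ZMod 2` vanishing on the diagonal is the polarisation of a function. -/
theorem exists_quad (δ : (ι → ZMod 2) →ₗ[ZMod 2] (ι → ZMod 2) →ₗ[ZMod 2] ZMod 2)
    (hδ : ∀ u, δ u u = 0) :
    ∃ s : (ι → ZMod 2) → ZMod 2, ∀ u v, s (u + v) + s u + s v = δ u v := by
  classical
  let e : ι → (ι → ZMod 2) := fun i j => if i = j then 1 else 0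
  let M : ι → ι → ZMod 2 := fun i j => δ (e i) (e j)
  have hMd : ∀ i, M i i = 0 := fun i => hδ _
  have hMs : ∀ i j, M i j = M j i := by
    intro i j
    apply z2_eq_of_add
    have h1 := hδ (e i + e j)
    simp only [map_add, LinearMap.add_apply] at h1
    have h2 : δ (e i) (e i) = 0 := hδ _
    have h3 : δ (e j) (e j) = 0 := hδ _
    rw [h2, h3] at h1
    show δ (e i) (e j) + δ (e j) (e i) = 0
    linear_combination h1
  have hexp : ∀ u v, δ u v = ∑ i, ∑ j, u i * v j * M i j := by
    intro u v
    rw [LinearMap.pi_apply_eq_sum_univ (δ u) v, Finset.sum_comm]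
    apply Finset.sum_congr rfl; intro j _
    have h1 : δ u (e j) = δ.flip (e j) u := rfl
    show v j • δ u (e j) = _
    rw [h1, LinearMap.pi_apply_eq_sum_univ (δ.flip (e j)) u, Finset.smul_sum]
    apply Finset.sum_congr rfl; intro i _
    show v j • (u i • δ (e i) (e j)) = u i * v j * M i j
    simp only [smul_eq_mul]
    ring
  refine ⟨fun u => ∑ i, ∑ j, if i < j then u i * u j * M i j else 0, ?_⟩
  intro u v
  rw [hexp, dsum_split]
  have h0 : ∑ i, u i * v i * M i i = 0 := by
    apply Finset.sum_eq_zero; intro i _; rw [hMd]; ring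
  rw [h0, add_zero]
  simp only [← Finset.sum_add_distrib]
  apply Finset.sum_congr rfl; intro i _
  apply Finset.sum_congr rfl; intro j _
  split_ifs with hij
  · rw [hMs j i]
    simp only [Pi.add_apply]
    have key : ∀ a b c d m : ZMod 2,
        (a + b) * (c + d) * m + a * c * m + b * d * m = a * d * m + c * b * m := by decide
    exact key _ _ _ _ _
  · simp

end quad

/-- orthogonality of the characters of `(ZMod 2)^n`. -/
theorem sum_sg_dot {n : ℕ} (d : Fin n → ZMod 2) (hd : d ≠ 0) :
    ∑ y : Fin n → ZMod 2, sg (dotProduct d y) = 0 := by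
  classical
  obtain ⟨i, hi⟩ : ∃ i, d i ≠ 0 := by
    by_contra h
    apply hd
    funext j
    by_contra hj
    exact h ⟨j, hj⟩
  have hi1 : d i = 1 := by
    rcases z2_cases (d i) with h | h
    · exact absurd h hi
    · exact h
  apply k3_self_neg
  have h1 : ∑ y : Fin n → ZMod 2, sg (dotProduct d y)
      = ∑ y : Fin n → ZMod 2, sg (dotProduct d (y + Pi.single i 1)) :=
    (Fintype.sum_equiv (Equiv.addRight (Pi.single i 1)) _ _ (fun y => rfl)).symm
  rw [← Finset.sum_neg_distrib]
  conv_lhs => rw [h1]
  apply Finset.sum_congr rfl; intro y _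
  rw [dotProduct_add, sg_add, dotProduct_single, hi1, mul_one, sg_one]
  ring

theorem sum_sg_dot_zero {n : ℕ} :
    ∑ y : Fin n → ZMod 2, sg (dotProduct (0 : Fin n → ZMod 2) y) = (2 : ZMod 3) ^ n := by
  simp only [zero_dotProduct, sg_zero]
  rw [Finset.sum_const, Finset.card_univ]
  simp

theorem two_pow_ne_zero (n : ℕ) : (2 : ZMod 3) ^ n ≠ 0 := by
  apply pow_ne_zero
  decide

end Cfsg.Agent.Helper9.Pl
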