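import Mathlib
import Cfsg.Agent.Helper2.S2094.DefsC
import Cfsg.Agent.Helper18.S2096CLUNIT

set_option autoImplicit false
set_option linter.unusedSectionVars false
set_option linter.unusedVariables false

/-! S2094 chapter C, piece CLUNITB (helper9; driver helper2): `Yc ψ ψ0 a t` is the unit
`yc ψ ψ0 a t = 1 + t ψ_a ψ_0`. -/

namespace Cfsg.Agent.S2094P

open Cfsg.Agent.S3352P Cfsg.Agent.S3351P Cfsg.Agent.S2096P

variable {n : ℕ} {F : Type*} [Field F] {A : Type*} [Ring A] [Algebra F A] {ψ : J n → A} {ψ0 : A}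

namespace CLUNITB

/-- `N² = 0` for `N = ψ_a ψ_0` -/
theorem N_sq (hψ : CARB ψ ψ0) (a : J n) : (ψ a * ψ0) * (ψ a * ψ0) = 0 :=
  CLUNIT.prod_zero _ _ _ (hψ.car.sq a) (hψ.anti0 a)

theorem yc_mul_yc (hψ : CARB ψ ψ0) (a : J n) (s t : F) :
    yc ψ ψ0 a s * yc ψ ψ0 a t = yc ψ ψ0 a (s + t) := by
  unfold yc
  have hN := N_sq hψ a
  simp only [mul_add, add_mul, mul_one, one_mul, smul_mul_assoc, mul_smul_comm, hN, smul_zero,
    add_zero, add_smul]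
  abel

theorem yc_zero (a : J n) : yc ψ ψ0 a (0 : F) = 1 := by
  unfold yc
  rw [zero_smul, add_zero]

theorem isUnit_yc (hψ : CARB ψ ψ0) (a : J n) (t : F) : IsUnit (yc ψ ψ0 a t) := by
  refine ⟨⟨yc ψ ψ0 a t, yc ψ ψ0 a (-t), ?_, ?_⟩, rfl⟩
  · rw [yc_mul_yc hψ, add_neg_cancel, yc_zero]
  · rw [yc_mul_yc hψ, neg_add_cancel, yc_zero]

end CLUNITB

/-- CLUNITB -/
theorem coe_Yc (hψ : CARB ψ ψ0) (a : J n) (t : F) :
    ((Yc ψ ψ0 a t : Aˣ) : A) = yc ψ ψ0 a t := by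
  have h := CLUNITB.isUnit_yc hψ a t
  unfold Yc
  rw [dif_pos h]
  exact IsUnit.unit_spec h

end Cfsg.Agent.S2094P
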