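import Mathlib
import Cfsg.Agent.Helper2.S2094.DefsC
import Cfsg.Agent.Helper18.S2096CLUNIT
import Cfsg.Agent.Helper9.S2094CLUNITB

set_option autoImplicit false
set_option linter.unusedSectionVars false
set_option linter.unusedVariables false

/-! S2094 chapter C, piece CLRELB1 (helper9; driver helper2): the relations `yadd` and `ycomm` for
`yc`, `xc`. -/

namespace Cfsg.Agent.S2094P

open Cfsg.Agent.S3352P Cfsg.Agent.S3351P Cfsg.Agent.S2096P

variable {n : ℕ} {F : Type*} [Field F] {A : Type*} [Ring A] [Algebra F A] {ψ : J n → A} {ψ0 : A}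

/-- CLRELB1 -/
theorem yc_add (hψ : CARB ψ ψ0) (a : J n) (s t : F) :
    yc ψ ψ0 a (s + t) = yc ψ ψ0 a s * yc ψ ψ0 a t :=
  (CLUNITB.yc_mul_yc hψ a s t).symm

theorem yc_comm_xc (hψ : CARB ψ ψ0) {a c d : J n} (hcd : IsRoot c d) (h1 : d ≠ a)
    (h2 : c ≠ ng a) (s t : F) : yc ψ ψ0 a s * xc ψ c d t = xc ψ c d t * yc ψ ψ0 a s := by
  have e1 : ψ0 * ψ c = -(ψ c * ψ0) := hψ.anti0 c
  have e2 : ψ a * ψ c = -(ψ c * ψ a) := hψ.car.anti a c h2
  have e3 : ψ0 * ψ (ng d) = -(ψ (ng d) * ψ0) := hψ.anti0 (ng d)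
  have e4 : ψ a * ψ (ng d) = -(ψ (ng d) * ψ a) := by
    apply hψ.car.anti
    intro h
    exact h1 (ng_injective h)
  have hN := CLUNIT.swap4 (ψ a) ψ0 (ψ c) (ψ (ng d)) e1 e2 e3 e4
  unfold yc xc
  simp only [mul_add, add_mul, mul_one, one_mul, smul_mul_assoc, mul_smul_comm, hN, smul_add]
  rw [smul_comm s t]
  abel

end Cfsg.Agent.S2094P
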