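import Mathlib
import Cfsg.Agent.Helper2.S2094.DefsC
import Cfsg.Agent.Helper18.S2096CLUNIT
import Cfsg.Agent.Helper9.S2094CLUNITB

set_option autoImplicit false
set_option linter.unusedSectionVars false
set_option linter.unusedVariables false

/-! S2094 chapter C, piece CLRELB3 (helper9; driver helper2): the relation `xy` for `xc`, `yc`. -/

namespace Cfsg.Agent.S2094P

open Cfsg.Agent.S3352P Cfsg.Agent.S3351P Cfsg.Agent.S2096P

variable {n : ℕ} {F : Type*} [Field F] {A : Type*} [Ring A] [Algebra F A] {ψ : J n → A} {ψ0 : A}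

namespace CLRELB3

section ring

variable {B : Type*} [Ring B]

/-- the formal commutator computation -/
theorem comm_formal (p m na r : B) (hpp : p * p = 0) (hmm : m * m = 0) (hpmp : p * m * p = 0)
    (hna : p * m - m * p = na) (hnam : na * m = -r) (hnar : na * r = 0) :
    (1 + p) * (1 + m) * (1 - p) * (1 - m) = (1 + na) * (1 + r) := by
  have e1 : (1 + p) * (1 + m) * (1 - p) * (1 - m) =
      1 + (p * m - m * p) - (p * m - m * p) * m - p * p - p * m * p - m * m + p * p * m +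
        p * m * p * m := by
    noncomm_ring
  have e2 : (1 + na) * (1 + r) = 1 + na + r + na * r := by noncomm_ring
  rw [e1, e2, hna, hnam, hnar, hpp, hpmp, hmm]
  noncomm_ring

end ring

/-- `P N_b - N_b P = N_a` -/
theorem comm_P_N (hψ : CARB ψ ψ0) {a b : J n} (hab : IsRoot a b) :
    (ψ a * ψ (ng b)) * (ψ b * ψ0) - (ψ b * ψ0) * (ψ a * ψ (ng b)) = ψ a * ψ0 := by
  have e1 : ψ0 * ψ a = -(ψ a * ψ0) := hψ.anti0 a
  have e2 : ψ0 * ψ (ng b) = -(ψ (ng b) * ψ0) := hψ.anti0 (ng b)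
  have e3 : ψ b * ψ a = -(ψ a * ψ b) := hψ.car.anti b a hab.2
  have e4 : ψ b * ψ (ng b) + ψ (ng b) * ψ b = 1 := hψ.car.pair b
  have h1 : (ψ b * ψ0) * (ψ a * ψ (ng b)) = -(ψ a * (ψ b * ψ (ng b)) * ψ0) := by
    calc (ψ b * ψ0) * (ψ a * ψ (ng b)) = ψ b * (ψ0 * ψ a) * ψ (ng b) := by noncomm_ring
      _ = ψ b * (-(ψ a * ψ0)) * ψ (ng b) := by rw [e1]
      _ = -((ψ b * ψ a) * (ψ0 * ψ (ng b))) := by noncomm_ring
      _ = -((-(ψ a * ψ b)) * (-(ψ (ng b) * ψ0))) := by rw [e3, e2]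
      _ = -(ψ a * (ψ b * ψ (ng b)) * ψ0) := by noncomm_ring
  rw [h1]
  calc (ψ a * ψ (ng b)) * (ψ b * ψ0) - -(ψ a * (ψ b * ψ (ng b)) * ψ0)
      = ψ a * (ψ b * ψ (ng b) + ψ (ng b) * ψ b) * ψ0 := by noncomm_ring
    _ = ψ a * ψ0 := by rw [e4, mul_one]

/-- `N_a P = 0` -/
theorem Na_P (hψ : CARB ψ ψ0) (a b : J n) : (ψ a * ψ0) * (ψ a * ψ (ng b)) = 0 :=
  CLUNIT.prod_zero _ _ _ (hψ.car.sq a) (hψ.anti0 a)

/-- `P N_b P = 0` -/
theorem P_N_P (hψ : CARB ψ ψ0) {a b : J n} (hab : IsRoot a b) :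
    (ψ a * ψ (ng b)) * (ψ b * ψ0) * (ψ a * ψ (ng b)) = 0 := by
  have h1 := comm_P_N hψ hab
  have h2 : (ψ a * ψ (ng b)) * (ψ b * ψ0) = (ψ b * ψ0) * (ψ a * ψ (ng b)) + ψ a * ψ0 := by
    rw [← h1]
    abel
  rw [h2, add_mul, mul_assoc, CLUNIT.N_sq hψ.car hab, mul_zero, Na_P hψ a b, add_zero]

/-- `N_a N_b = -ψ_a ψ_b` -/
theorem Na_Nb (hψ : CARB ψ ψ0) (a b : J n) : (ψ a * ψ0) * (ψ b * ψ0) = -(ψ a * ψ b) := by
  have e1 : ψ0 * ψ b = -(ψ b * ψ0) := hψ.anti0 b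
  calc (ψ a * ψ0) * (ψ b * ψ0) = ψ a * (ψ0 * ψ b) * ψ0 := by noncomm_ring
    _ = ψ a * (-(ψ b * ψ0)) * ψ0 := by rw [e1]
    _ = -(ψ a * ψ b * (ψ0 * ψ0)) := by noncomm_ring
    _ = -(ψ a * ψ b) := by rw [hψ.sq0, mul_one]

/-- `N_a ψ_a ψ_b = 0` -/
theorem Na_R (hψ : CARB ψ ψ0) (a b : J n) : (ψ a * ψ0) * (ψ a * ψ b) = 0 :=
  CLUNIT.prod_zero _ _ _ (hψ.car.sq a) (hψ.anti0 a)

end CLRELB3

open CLRELB3 in
/-- CLRELB3 -/
theorem xc_yc_xy (hψ : CARB ψ ψ0) {a b : J n} (hab : IsRoot a b) (s t : F) :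
    xc ψ a b s * yc ψ ψ0 b t * xc ψ a b (-s) * yc ψ ψ0 b (-t) =
      yc ψ ψ0 a (s * t) * xc ψ a (ng b) (s * t * t) := by
  unfold xc yc
  rw [ng_ng, neg_smul, neg_smul, ← sub_eq_add_neg, ← sub_eq_add_neg]
  apply comm_formal
  · rw [smul_mul_smul_comm, CLUNIT.N_sq hψ.car hab, smul_zero]
  · rw [smul_mul_smul_comm, CLUNITB.N_sq hψ b, smul_zero]
  · rw [smul_mul_smul_comm, smul_mul_smul_comm, P_N_P hψ hab, smul_zero]
  · rw [smul_mul_smul_comm, smul_mul_smul_comm, mul_comm t s, ← smul_sub, comm_P_N hψ hab]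
  · rw [smul_mul_smul_comm, Na_Nb hψ a b, smul_neg]
  · rw [smul_mul_smul_comm, Na_R hψ a b, smul_zero]

end Cfsg.Agent.S2094P
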