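import Mathlib
import Cfsg.Agent.Helper2.S2094.DefsR

set_option autoImplicit false
set_option linter.unusedSectionVars false
set_option linter.unusedVariables false

/-! S2094 chapter K, piece UNITRIB (helper9; driver helper2): the image of `Û` consists of upper
unitriangular matrices with respect to `rkI`. -/

namespace Cfsg.Agent.S2094P

open Matrix Cfsg.Agent.S3352P Cfsg.Agent.S3351P Cfsg.Agent.S2096P Cfsg.Agent.RGD

variable {n : ℕ} {F : Type*} [Field F] {M : Type*} [Group M] {X : J n → J n → F → M}
  {Ys : J n → F → M}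

namespace UNITRIB

theorem rkI_inj : Function.Injective (rkI (n := n)) := by
  intro a b h
  rcases a with ⟨⟩ | i | i <;> rcases b with ⟨⟩ | j | j
  · rfl
  · have := j.isLt
    simp only [rkI] at h
    omega
  · have := j.isLt
    simp only [rkI] at h
    omega
  · have := i.isLt
    simp only [rkI] at h
    omega
  · simp only [rkI] at h
    rw [Fin.ext h]
  · have := i.isLt
    have := j.isLt
    simp only [rkI] at h
    omega
  · have := i.isLt
    simp only [rkI] at h
    omega
  · have := i.isLt
    have := j.isLt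
    simp only [rkI] at h
    omega
  · have := i.isLt
    have := j.isLt
    simp only [rkI] at h
    have : i.val = j.val := by omega
    rw [Fin.ext this]

/-- `rkI` on the signed indices is `rk`, shifted by one on the negative ones -/
theorem rkI_lt_of_rk_lt {a b : J n} (h : rk a < rk b) :
    rkI (Sum.inr a : I n) < rkI (Sum.inr b : I n) := by
  rcases a with i | i <;> rcases b with j | j
  · simpa only [rkI, rk] using h
  · have := i.isLt
    have := j.isLt
    simp only [rkI, rk] at h ⊢
    omega
  · have := i.isLt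
    have := j.isLt
    simp only [rkI, rk] at h ⊢
    omega
  · have := i.isLt
    have := j.isLt
    simp only [rkI, rk] at h ⊢
    omega

theorem rk_add_ng (a : J n) : rk (ng a) + rk a = 2 * n - 1 := by
  cases a with
  | inl i =>
    have := i.isLt
    simp only [ng_inl, rk]
    omega
  | inr i =>
    have := i.isLt
    simp only [ng_inr, rk]
    omega

/-- upper unitriangular with respect to `rkI` -/
def UT (A : Matrix (I n) (I n) F) : Prop := A.BlockTriangular rkI ∧ ∀ a, A a a = 1

theorem UT_one : UT (1 : Matrix (I n) (I n) F) :=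
  ⟨Matrix.blockTriangular_one, fun a => Matrix.one_apply_eq a⟩

theorem UT_mul {A B : Matrix (I n) (I n) F} (hA : UT A) (hB : UT B) : UT (A * B) := by
  refine ⟨hA.1.mul hB.1, fun a => ?_⟩
  rw [Matrix.mul_apply, Finset.sum_eq_single a]
  · rw [hA.2, hB.2, mul_one]
  · intro c _ hca
    rcases lt_or_gt_of_ne (fun h => hca (rkI_inj h)) with h | h
    · rw [hA.1 h, zero_mul]
    · rw [hB.1 h, mul_zero]
  · intro h
    exact absurd (Finset.mem_univ a) h

theorem UT_inv {A B : Matrix (I n) (I n) F} (hA : UT A) (hAB : A * B = 1) : UT B := by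
  let _ : Invertible A := invertibleOfRightInverse A B hAB
  have hB : B = A⁻¹ := (Matrix.inv_eq_right_inv hAB).symm
  have hBt : B.BlockTriangular rkI := by
    rw [hB]
    exact Matrix.blockTriangular_inv_of_blockTriangular hA.1
  refine ⟨hBt, fun a => ?_⟩
  have h1 : (A * B) a a = 1 := by rw [hAB, Matrix.one_apply_eq]
  rw [Matrix.mul_apply, Finset.sum_eq_single a] at h1
  · rw [hA.2, one_mul] at h1
    exact h1
  · intro c _ hca
    rcases lt_or_gt_of_ne (fun h => hca (rkI_inj h)) with h | h
    · rw [hA.1 h, zero_mul]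
    · rw [hBt h, mul_zero]
  · intro h
    exact absurd (Finset.mem_univ a) h

/-- a strictly upper triangular matrix unit vanishes on and below the diagonal -/
theorem single_apply_of_lt {i j : I n} (hij : rkI i < rkI j) (c : F) {k l : I n}
    (hkl : rkI l ≤ rkI k) : Matrix.single i j c k l = 0 := by
  apply Matrix.single_apply_of_ne
  rintro ⟨rfl, rfl⟩
  omega

theorem UT_xmB {a b : J n} (hab : IsRoot a b) (hlt : rk a < rk b) (t : F) : UT (xmB a b t) := by
  have h2 : rk (ng b) < rk (ng a) := by
    have e1 := rk_add_ng a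
    have e2 := rk_add_ng b
    omega
  have l1 := rkI_lt_of_rk_lt hlt
  have l2 := rkI_lt_of_rk_lt h2
  constructor
  · intro i j hij
    unfold xmB
    rw [Matrix.add_apply, Matrix.smul_apply, Matrix.sub_apply,
      single_apply_of_lt l1 1 hij.le, single_apply_of_lt l2 1 hij.le, sub_zero, smul_zero,
      add_zero, Matrix.one_apply_ne]
    rintro rfl
    exact lt_irrefl _ hij
  · intro c
    unfold xmB
    rw [Matrix.add_apply, Matrix.smul_apply, Matrix.sub_apply,
      single_apply_of_lt l1 1 le_rfl, single_apply_of_lt l2 1 le_rfl, sub_zero, smul_zero,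
      add_zero, Matrix.one_apply_eq]

theorem UT_ymB (i : Fin n) (t : F) : UT (ymB (Sum.inl i : J n) t) := by
  have hi := i.isLt
  have l1 : rkI (Sum.inr (Sum.inl i) : I n) < rkI (o0 : I n) := by
    simp only [rkI]
    exact hi
  have l2 : rkI (o0 : I n) < rkI (Sum.inr (ng (Sum.inl i)) : I n) := by
    simp only [rkI, ng_inl]
    omega
  have l3 : rkI (Sum.inr (Sum.inl i) : I n) < rkI (Sum.inr (ng (Sum.inl i)) : I n) :=
    l1.trans l2
  constructor
  · intro k l hkl
    unfold ymB
    rw [Matrix.sub_apply, Matrix.sub_apply, Matrix.add_apply, Matrix.smul_apply, Matrix.smul_apply,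
      Matrix.smul_apply, single_apply_of_lt l1 1 hkl.le, single_apply_of_lt l2 1 hkl.le,
      single_apply_of_lt l3 1 hkl.le, smul_zero, smul_zero, smul_zero, sub_zero, sub_zero, add_zero,
      Matrix.one_apply_ne]
    rintro rfl
    exact lt_irrefl _ hkl
  · intro c
    unfold ymB
    rw [Matrix.sub_apply, Matrix.sub_apply, Matrix.add_apply, Matrix.smul_apply, Matrix.smul_apply,
      Matrix.smul_apply, single_apply_of_lt l1 1 le_rfl, single_apply_of_lt l2 1 le_rfl,
      single_apply_of_lt l3 1 le_rfl, smul_zero, smul_zero, smul_zero, sub_zero, sub_zero, add_zero,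
      Matrix.one_apply_eq]

/-- closure induction -/
theorem UT_of_mem_closure (π : M →* Matrix (I n) (I n) F) {S : Set M}
    (hS : ∀ g ∈ S, UT (π g)) {y : M} (hy : y ∈ Subgroup.closure S) : UT (π y) := by
  induction hy using Subgroup.closure_induction with
  | mem x hx => exact hS x hx
  | one =>
    rw [map_one]
    exact UT_one
  | mul x y _ _ hx hy =>
    rw [map_mul]
    exact UT_mul hx hy
  | inv x _ hx =>
    apply UT_inv hx
    rw [← map_mul, mul_inv_cancel, map_one]

end UNITRIB

/-- UNITRIB: the elements of `Û` have upper unitriangular matrices -/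
theorem unitri_of_mem_UhB (π : M →* Matrix (I n) (I n) F)
    (hπX : ∀ a b, IsRoot a b → ∀ t : F, π (X a b t) = xmB a b t)
    (hπY : ∀ a, ∀ t : F, π (Ys a t) = ymB a t) {y : M} (hy : y ∈ (datumB X Ys).Uh) :
    (∀ i j, rkI j < rkI i → π y i j = 0) ∧ ∀ i, π y i i = 1 := by
  have key : UNITRIB.UT (π y) := by
    apply UNITRIB.UT_of_mem_closure π _ hy
    rintro g ⟨⟨r, hv⟩, hpos, hg⟩
    cases r with
    | lg a b =>
      apply UNITRIB.UT_of_mem_closure π _ hg
      rintro _ ⟨t, rfl⟩
      rw [hπX a b hv t]
      exact UNITRIB.UT_xmB hv hpos t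
    | sh a =>
      obtain ⟨i, rfl⟩ := hpos
      apply UNITRIB.UT_of_mem_closure π _ hg
      rintro _ ⟨t, rfl⟩
      rw [hπY _ t]
      exact UNITRIB.UT_ymB i t
  exact ⟨fun i j h => key.1 h, key.2⟩

end Cfsg.Agent.S2094P
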