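import Mathlib
import Cfsg.Agent.Helper2.S2099.DefsC
import Cfsg.Agent.Helper18.S2096CLUNIT

set_option autoImplicit false
set_option linter.unusedSectionVars false
set_option linter.unusedVariables false

/-! S2099 chapter C, piece CLUNITQ (helper9; driver helper2): `YcQ ψ ψW a w` is the unit
`ycQ ψ ψW a w = 1 + ψ_a ψW(w)`. -/

namespace Cfsg.Agent.S2099P

open Cfsg.Agent.S3352P Cfsg.Agent.S3351P Cfsg.Agent.S2096P

variable {n : ℕ} {F : Type*} [Field F] {P : Type*} [AddCommGroup P] [Module F P]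
  {Q0 : QuadraticForm F P} {A : Type*} [Ring A] [Algebra F A] {ψ : J n → A} {ψW : P →ₗ[F] A}

namespace CLUNITQ

/-- `N_w N_v = 0` for `N_w = ψ_a ψW(w)` -/
theorem N_mul_N (hψ : CARQ Q0 ψ ψW) (a : J n) (w v : P) :
    (ψ a * ψW w) * (ψ a * ψW v) = 0 :=
  CLUNIT.prod_zero _ _ _ (hψ.car.sq a) (hψ.antiW a w)

theorem ycQ_mul_ycQ (hψ : CARQ Q0 ψ ψW) (a : J n) (w v : P) :
    ycQ ψ ψW a w * ycQ ψ ψW a v = ycQ ψ ψW a (w + v) := by
  unfold ycQ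
  have hN := N_mul_N hψ a w v
  rw [map_add]
  simp only [mul_add, add_mul, mul_one, one_mul, hN, add_zero]
  abel

theorem ycQ_zero (a : J n) : ycQ ψ ψW a (0 : P) = 1 := by
  unfold ycQ
  rw [map_zero, mul_zero, add_zero]

theorem isUnit_ycQ (hψ : CARQ Q0 ψ ψW) (a : J n) (w : P) : IsUnit (ycQ ψ ψW a w) := by
  refine ⟨⟨ycQ ψ ψW a w, ycQ ψ ψW a (-w), ?_, ?_⟩, rfl⟩
  · rw [ycQ_mul_ycQ hψ, add_neg_cancel, ycQ_zero]
  · rw [ycQ_mul_ycQ hψ, neg_add_cancel, ycQ_zero]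

end CLUNITQ

/-- CLUNITQ -/
theorem coe_YcQ (hψ : CARQ Q0 ψ ψW) (a : J n) (w : P) :
    ((YcQ ψ ψW a w : Aˣ) : A) = ycQ ψ ψW a w := by
  have h := CLUNITQ.isUnit_ycQ hψ a w
  unfold YcQ
  rw [dif_pos h]
  exact IsUnit.unit_spec h

end Cfsg.Agent.S2099P
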