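import Mathlib
import Cfsg.Agent.Helper2.S2099.DefsC
import Cfsg.Agent.Helper18.S2096CLUNIT
import Cfsg.Agent.Helper9.S2099CLUNITQ

set_option autoImplicit false
set_option linter.unusedSectionVars false
set_option linter.unusedVariables false

/-! S2099 chapter C, piece CLRELQ1 (helper9; driver helper2): the relations `yadd` and `ycomm` for
`ycQ`, `xc`. -/

namespace Cfsg.Agent.S2099P

open Cfsg.Agent.S3352P Cfsg.Agent.S3351P Cfsg.Agent.S2096P

variable {n : ℕ} {F : Type*} [Field F] {P : Type*} [AddCommGroup P] [Module F P]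
  {Q0 : QuadraticForm F P} {A : Type*} [Ring A] [Algebra F A] {ψ : J n → A} {ψW : P →ₗ[F] A}

/-- CLRELQ1 -/
theorem ycQ_add (hψ : CARQ Q0 ψ ψW) (a : J n) (w v : P) :
    ycQ ψ ψW a (w + v) = ycQ ψ ψW a w * ycQ ψ ψW a v :=
  (CLUNITQ.ycQ_mul_ycQ hψ a w v).symm

theorem ycQ_comm_xc (hψ : CARQ Q0 ψ ψW) {a c d : J n} (hcd : IsRoot c d) (h1 : d ≠ a)
    (h2 : c ≠ ng a) (w : P) (t : F) :
    ycQ ψ ψW a w * xc ψ c d t = xc ψ c d t * ycQ ψ ψW a w := by
  have e1 : ψW w * ψ c = -(ψ c * ψW w) := hψ.antiW c w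
  have e2 : ψ a * ψ c = -(ψ c * ψ a) := hψ.car.anti a c h2
  have e3 : ψW w * ψ (ng d) = -(ψ (ng d) * ψW w) := hψ.antiW (ng d) w
  have e4 : ψ a * ψ (ng d) = -(ψ (ng d) * ψ a) := by
    apply hψ.car.anti
    intro h
    exact h1 (ng_injective h)
  have hN := CLUNIT.swap4 (ψ a) (ψW w) (ψ c) (ψ (ng d)) e1 e2 e3 e4
  unfold ycQ xc
  simp only [mul_add, add_mul, mul_one, one_mul, smul_mul_assoc, mul_smul_comm, hN, smul_add]
  abel

end Cfsg.Agent.S2099P
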