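import Mathlib
import Cfsg.Agent.Helper2.S2099.DefsC
import Cfsg.Agent.Helper18.S2096CLUNIT
import Cfsg.Agent.Helper9.S2099CLUNITQ
import Cfsg.Agent.Helper9.S2094CLRELB3

set_option autoImplicit false
set_option linter.unusedSectionVars false
set_option linter.unusedVariables false

/-! S2099 chapter C, piece CLRELQ3 (helper9; driver helper2): the relation `xy` for `xc`, `ycQ`. -/

namespace Cfsg.Agent.S2099P

open Cfsg.Agent.S3352P Cfsg.Agent.S3351P Cfsg.Agent.S2096P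

variable {n : ℕ} {F : Type*} [Field F] {P : Type*} [AddCommGroup P] [Module F P]
  {Q0 : QuadraticForm F P} {A : Type*} [Ring A] [Algebra F A] {ψ : J n → A} {ψW : P →ₗ[F] A}

namespace CLRELQ3

/-- `P N_b - N_b P = N_a` -/
theorem comm_P_N (hψ : CARQ Q0 ψ ψW) {a b : J n} (hab : IsRoot a b) (w : P) :
    (ψ a * ψ (ng b)) * (ψ b * ψW w) - (ψ b * ψW w) * (ψ a * ψ (ng b)) = ψ a * ψW w := by
  have e1 : ψW w * ψ a = -(ψ a * ψW w) := hψ.antiW a w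
  have e2 : ψW w * ψ (ng b) = -(ψ (ng b) * ψW w) := hψ.antiW (ng b) w
  have e3 : ψ b * ψ a = -(ψ a * ψ b) := hψ.car.anti b a hab.2
  have e4 : ψ b * ψ (ng b) + ψ (ng b) * ψ b = 1 := hψ.car.pair b
  have h1 : (ψ b * ψW w) * (ψ a * ψ (ng b)) = -(ψ a * (ψ b * ψ (ng b)) * ψW w) := by
    calc (ψ b * ψW w) * (ψ a * ψ (ng b)) = ψ b * (ψW w * ψ a) * ψ (ng b) := by noncomm_ring
      _ = ψ b * (-(ψ a * ψW w)) * ψ (ng b) := by rw [e1]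
      _ = -((ψ b * ψ a) * (ψW w * ψ (ng b))) := by noncomm_ring
      _ = -((-(ψ a * ψ b)) * (-(ψ (ng b) * ψW w))) := by rw [e3, e2]
      _ = -(ψ a * (ψ b * ψ (ng b)) * ψW w) := by noncomm_ring
  rw [h1]
  calc (ψ a * ψ (ng b)) * (ψ b * ψW w) - -(ψ a * (ψ b * ψ (ng b)) * ψW w)
      = ψ a * (ψ b * ψ (ng b) + ψ (ng b) * ψ b) * ψW w := by noncomm_ring
    _ = ψ a * ψW w := by rw [e4, mul_one]

/-- `N_a P = 0` -/
theorem Na_P (hψ : CARQ Q0 ψ ψW) (a b : J n) (w : P) :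
    (ψ a * ψW w) * (ψ a * ψ (ng b)) = 0 :=
  CLUNIT.prod_zero _ _ _ (hψ.car.sq a) (hψ.antiW a w)

/-- `P N_b P = 0` -/
theorem P_N_P (hψ : CARQ Q0 ψ ψW) {a b : J n} (hab : IsRoot a b) (w : P) :
    (ψ a * ψ (ng b)) * (ψ b * ψW w) * (ψ a * ψ (ng b)) = 0 := by
  have h1 := comm_P_N hψ hab w
  have h2 : (ψ a * ψ (ng b)) * (ψ b * ψW w) = (ψ b * ψW w) * (ψ a * ψ (ng b)) + ψ a * ψW w := by
    rw [← h1]
    abel
  rw [h2, add_mul, mul_assoc, CLUNIT.N_sq hψ.car hab, mul_zero, Na_P hψ a b w, add_zero]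

/-- `N_a N_b = -Q0(w) ψ_a ψ_b` -/
theorem Na_Nb (hψ : CARQ Q0 ψ ψW) (a b : J n) (w : P) :
    (ψ a * ψW w) * (ψ b * ψW w) = -(Q0 w • (ψ a * ψ b)) := by
  have e1 : ψW w * ψ b = -(ψ b * ψW w) := hψ.antiW b w
  calc (ψ a * ψW w) * (ψ b * ψW w) = ψ a * (ψW w * ψ b) * ψW w := by noncomm_ring
    _ = ψ a * (-(ψ b * ψW w)) * ψW w := by rw [e1]
    _ = -(ψ a * ψ b * (ψW w * ψW w)) := by noncomm_ring
    _ = -(Q0 w • (ψ a * ψ b)) := by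
        rw [hψ.sqW, ← Algebra.commutes, ← Algebra.smul_def]

/-- `N_a ψ_a ψ_b = 0` -/
theorem Na_R (hψ : CARQ Q0 ψ ψW) (a b : J n) (w : P) : (ψ a * ψW w) * (ψ a * ψ b) = 0 :=
  CLUNIT.prod_zero _ _ _ (hψ.car.sq a) (hψ.antiW a w)

end CLRELQ3

open CLRELQ3 in
/-- CLRELQ3 -/
theorem xc_ycQ_xy (hψ : CARQ Q0 ψ ψW) {a b : J n} (hab : IsRoot a b) (s : F) (w : P) :
    xc ψ a b s * ycQ ψ ψW b w * xc ψ a b (-s) * ycQ ψ ψW b (-w) =
      ycQ ψ ψW a (s • w) * xc ψ a (ng b) (s * Q0 w) := by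
  unfold xc ycQ
  rw [ng_ng, neg_smul, map_neg, mul_neg, ← sub_eq_add_neg, ← sub_eq_add_neg, map_smul,
    mul_smul_comm]
  apply Cfsg.Agent.S2094P.CLRELB3.comm_formal
  · rw [smul_mul_smul_comm, CLUNIT.N_sq hψ.car hab, smul_zero]
  · exact CLUNITQ.N_mul_N hψ b w w
  · rw [smul_mul_assoc, mul_smul_comm, smul_mul_assoc, P_N_P hψ hab w, smul_zero, smul_zero]
  · rw [smul_mul_assoc, mul_smul_comm, ← smul_sub, comm_P_N hψ hab w]
  · rw [smul_mul_assoc, Na_Nb hψ a b w, smul_neg, smul_smul]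
  · rw [smul_mul_smul_comm, Na_R hψ a b w, smul_zero]

end Cfsg.Agent.S2099P
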