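import Cfsg.Agent.Helper1.LieGrp
import Cfsg.Agent.S0032

/-!
# The automorphism of the associated graded Lie ring `LG G` induced by an automorphism of `G`
(piece LG2a of S3779).  Only the API of `Cfsg.Agent.LieGrp` (piece LG1) is used.
-/

namespace Cfsg.Agent.LieGrp

open scoped commutatorElement

universe u
variable {G : Type u} [Group G]

theorem map_mem_H (φ : MulAut G) {n : ℕ} {x : G} (hx : x ∈ H G n) : φ x ∈ H G n := by
  have hchar : (H G n).Characteristic := inferInstance
  have h := Subgroup.characteristic_iff_comap_eq.mp hchar φ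
  have hx' : x ∈ (H G n).comap φ.toMonoidHom := by rw [h]; exact hx
  exact hx'

namespace Aux9

/-! ### consequences of the layer API -/

theorem cls_congr (n : ℕ) {x y : G} (h : x = y) (hx : x ∈ H G n) (hy : y ∈ H G n) :
    cls n x hx = cls n y hy := by
  subst h; rfl

theorem cls_one (n : ℕ) : cls n (1 : G) (one_mem _) = 0 :=
  (cls_eq_zero_iff n 1 _).mpr (one_mem _)

theorem cls_inv (n : ℕ) (x : G) (hx : x ∈ H G n) :
    cls n x⁻¹ (inv_mem hx) = - cls n x hx := by
  have h := cls_mul n x⁻¹ x (inv_mem hx) hx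
  rw [cls_congr n (inv_mul_cancel x) _ (one_mem _), cls_one] at h
  exact eq_neg_of_add_eq_zero_left h.symm

theorem cls_eq_iff (n : ℕ) (x y : G) (hx : x ∈ H G n) (hy : y ∈ H G n) :
    cls n x hx = cls n y hy ↔ y⁻¹ * x ∈ H G (n + 1) := by
  rw [← cls_eq_zero_iff n (y⁻¹ * x) (mul_mem (inv_mem hy) hx), cls_mul n y⁻¹ x (inv_mem hy) hx,
    cls_inv, neg_add_eq_zero, eq_comm]

theorem cls_pow (n : ℕ) (x : G) (hx : x ∈ H G n) (k : ℕ) :
    cls n (x ^ k) (pow_mem hx k) = k • cls n x hx := by
  induction k with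
  | zero => rw [zero_smul, cls_congr n (pow_zero x) _ (one_mem _), cls_one]
  | succ k ih =>
    rw [succ_nsmul, ← ih, ← cls_mul, cls_congr n (pow_succ x k)]

theorem cls_map_congr (φ : MulAut G) (n : ℕ) (x y : G) (hx : x ∈ H G n) (hy : y ∈ H G n)
    (h : cls n x hx = cls n y hy) :
    cls n (φ x) (map_mem_H φ hx) = cls n (φ y) (map_mem_H φ hy) := by
  rw [cls_eq_iff] at h ⊢
  have := map_mem_H φ h
  rwa [map_mul, map_inv] at this

/-- induction principle for `LG G` -/
theorem LG_induction {P : LG G → Prop} (h0 : P 0)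
    (hι : ∀ n x (hx : x ∈ H G n), P (ι G n (cls n x hx)))
    (hadd : ∀ a b, P a → P b → P (a + b)) : ∀ a, P a := by
  intro a
  refine DirectSum.induction_on (motive := P) a h0 ?_ hadd
  intro n b
  obtain ⟨x, hx, rfl⟩ := cls_surjective n b
  exact hι n x hx

/-- two additive maps out of `LG G` agreeing on the classes agree -/
theorem LG_hom_ext {M : Type*} [AddCommMonoid M] (f g : LG G →+ M)
    (h : ∀ n x (hx : x ∈ H G n), f (ι G n (cls n x hx)) = g (ι G n (cls n x hx))) : f = g := by
  ext a
  refine LG_induction (P := fun a => f a = g a) ?_ h ?_ a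
  · rw [map_zero, map_zero]
  · intro a b ha hb; rw [map_add, map_add, ha, hb]

/-! ### the induced map on a layer -/

/-- the map induced by `φ` on the `n`-th layer -/
noncomputable def layerFun (φ : MulAut G) (n : ℕ) (a : A G n) : A G n :=
  cls n (φ (Classical.choose (cls_surjective n a)))
    (map_mem_H φ (Classical.choose (Classical.choose_spec (cls_surjective n a))))

theorem layerFun_cls (φ : MulAut G) (n : ℕ) (x : G) (hx : x ∈ H G n) :
    layerFun φ n (cls n x hx) = cls n (φ x) (map_mem_H φ hx) := by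
  unfold layerFun
  apply cls_map_congr
  exact Classical.choose_spec (Classical.choose_spec (cls_surjective n (cls n x hx)))

/-- the additive map induced by `φ` on the `n`-th layer -/
noncomputable def layerHom (φ : MulAut G) (n : ℕ) : A G n →+ A G n where
  toFun := layerFun φ n
  map_zero' := by
    rw [← cls_one n, layerFun_cls, cls_congr n (map_one φ) _ (one_mem _)]
  map_add' a b := by
    obtain ⟨x, hx, rfl⟩ := cls_surjective n a
    obtain ⟨y, hy, rfl⟩ := cls_surjective n b
    rw [← cls_mul, layerFun_cls, layerFun_cls, layerFun_cls, ← cls_mul,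
      cls_congr n (map_mul φ x y)]

theorem layerHom_cls (φ : MulAut G) (n : ℕ) (x : G) (hx : x ∈ H G n) :
    layerHom φ n (cls n x hx) = cls n (φ x) (map_mem_H φ hx) :=
  layerFun_cls φ n x hx

/-! ### the induced map on `LG G` -/

/-- the additive endomorphism of `LG G` induced by `φ` -/
noncomputable def autLGHom (φ : MulAut G) : LG G →+ LG G :=
  DirectSum.map (fun n => layerHom φ n)

theorem autLGHom_ι (φ : MulAut G) (n : ℕ) (a : A G n) :
    autLGHom φ (ι G n a) = ι G n (layerHom φ n a) :=
  DirectSum.map_of _ n a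

theorem autLGHom_ι_cls (φ : MulAut G) (n : ℕ) (x : G) (hx : x ∈ H G n) :
    autLGHom φ (ι G n (cls n x hx)) = ι G n (cls n (φ x) (map_mem_H φ hx)) := by
  rw [autLGHom_ι, layerHom_cls]

/-- the `n`-th component of an element of `LG G` -/
def comp (a : LG G) (n : ℕ) : A G n := (@id (DirectSum ℕ (A G)) a) n

theorem comp_ext {a b : LG G} (h : ∀ n, comp a n = comp b n) : a = b :=
  DFinsupp.ext (f := @id (DirectSum ℕ (A G)) a) (g := @id (DirectSum ℕ (A G)) b) h

theorem comp_zero (n : ℕ) : comp (0 : LG G) n = 0 := rfl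

theorem autLGHom_comp (φ : MulAut G) (a : LG G) (n : ℕ) :
    comp (autLGHom φ a) n = layerHom φ n (comp a n) :=
  DirectSum.map_apply _ n (@id (DirectSum ℕ (A G)) a)

theorem autLGHom_mul (φ ψ : MulAut G) (a : LG G) :
    autLGHom φ (autLGHom ψ a) = autLGHom (φ * ψ) a := by
  have : (autLGHom φ).comp (autLGHom ψ) = autLGHom (φ * ψ) := by
    apply LG_hom_ext
    intro n x hx
    rw [AddMonoidHom.comp_apply, autLGHom_ι_cls, autLGHom_ι_cls, autLGHom_ι_cls]
    rfl
  exact DFunLike.congr_fun this a

theorem autLGHom_one (a : LG G) : autLGHom (1 : MulAut G) a = a := by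
  have : autLGHom (1 : MulAut G) = AddMonoidHom.id (LG G) := by
    apply LG_hom_ext
    intro n x hx
    rw [autLGHom_ι_cls]
    rfl
  exact DFunLike.congr_fun this a

end Aux9

open Aux9

/-- additive automorphism of `LG G` induced by `φ` -/
noncomputable def autLG (φ : MulAut G) : LG G ≃+ LG G where
  toFun := autLGHom φ
  invFun := autLGHom φ⁻¹
  left_inv a := by rw [autLGHom_mul, inv_mul_cancel, autLGHom_one]
  right_inv a := by rw [autLGHom_mul, mul_inv_cancel, autLGHom_one]
  map_add' := map_add _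

theorem autLG_apply (φ : MulAut G) (a : LG G) : autLG φ a = autLGHom φ a := rfl

theorem autLG_ι_cls (φ : MulAut G) (n : ℕ) (x : G) (hx : x ∈ H G n) :
    autLG φ (ι G n (cls n x hx)) = ι G n (cls n (φ x) (map_mem_H φ hx)) :=
  autLGHom_ι_cls φ n x hx

theorem autLG_lie (φ : MulAut G) (a b : LG G) : autLG φ ⁅a, b⁆ = ⁅autLG φ a, autLG φ b⁆ := by
  refine LG_induction (P := fun a => autLG φ ⁅a, b⁆ = ⁅autLG φ a, autLG φ b⁆) ?_ ?_ ?_ a
  · rw [zero_lie, map_zero, zero_lie]
  · intro m x hx
    refine LG_induction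
      (P := fun b => autLG φ ⁅ι G m (cls m x hx), b⁆ = ⁅autLG φ (ι G m (cls m x hx)), autLG φ b⁆)
      ?_ ?_ ?_ b
    · rw [lie_zero, map_zero, lie_zero]
    · intro n y hy
      rw [lie_ι_ι, autLG_ι_cls, autLG_ι_cls, autLG_ι_cls, lie_ι_ι]
      congr 1
      exact cls_congr _ (map_commutatorElement φ x y) _ _
    · intro b b' h h'
      rw [lie_add, map_add, h, h', map_add, lie_add]
  · intro a a' h h'
    rw [add_lie, map_add, h, h', map_add, add_lie]

theorem autLG_iterate (φ : MulAut G) (k : ℕ) (a : LG G) :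
    (autLG φ)^[k] a = autLG (φ ^ k) a := by
  induction k with
  | zero => rw [Function.iterate_zero, id, pow_zero, autLG_apply, autLGHom_one]
  | succ k ih =>
    rw [Function.iterate_succ_apply', ih, autLG_apply, autLG_apply, autLGHom_mul, ← pow_succ']
    rfl

theorem autLG_one (a : LG G) : autLG (1 : MulAut G) a = a := autLGHom_one a

theorem autLG_fixed [Finite G] (φ : MulAut G) (hfpf : ∀ g : G, φ g = g → g = 1) (a : LG G)
    (h : autLG φ a = a) : a = 0 := by
  apply comp_ext
  intro n
  rw [comp_zero]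
  have h1 : layerHom φ n (comp a n) = comp a n := by
    rw [← autLGHom_comp, ← autLG_apply, h]
  obtain ⟨x, hx, hxa⟩ := cls_surjective n (comp a n)
  rw [← hxa, layerHom_cls, eq_comm, cls_eq_iff] at h1
  have h2 : x ∈ H G (n + 1) :=
    Cfsg.Agent.S0032.result φ hfpf (H G (n + 1)) (fun y hy => map_mem_H φ hy) x h1
  rw [← hxa]
  exact (cls_eq_zero_iff n x hx).mpr h2

theorem card_nsmul_LG [Finite G] (a : LG G) : (Nat.card G) • a = 0 := by
  refine LG_induction (P := fun a => (Nat.card G) • a = 0) ?_ ?_ ?_ a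
  · exact smul_zero _
  · intro n x hx
    rw [← map_nsmul, ← cls_pow, cls_congr n (pow_card_eq_one' (G := G)) _ (one_mem _), cls_one,
      map_zero]
  · intro a b ha hb
    rw [smul_add, ha, hb, add_zero]

end Cfsg.Agent.LieGrp
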