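import Mathlib
import Cfsg.Agent.Helper20.MargF

/-! S2536 stage 2, piece BIGA: a primitive group of degree `≥ 9` with a Jordan 4-set contains
the alternating group (Marggraf, via `Helper20.Marg`). -/

set_option autoImplicit false

namespace Cfsg.Agent.S2536P

open Equiv

universe u

section Alt

variable {α : Type u} [Fintype α] [DecidableEq α]

/-- BIGA -/
theorem alt_le_of_jordan_four {M : Subgroup (Perm α)} (hprim : MulAction.IsPreprimitive M α)
    (h9 : 9 ≤ Fintype.card α) (Γ : Set α) (hΓ : Γ.ncard = 4)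
    (hJ : ∀ x ∈ Γ, ∀ y ∈ Γ, ∃ g ∈ M, (∀ z ∉ Γ, g z = z) ∧ g x = y) :
    alternatingGroup α ≤ M := by
  have hΓJ : Cfsg.Agent.Helper20.Marg.IsJordan M Γ := by
    intro x hx y hy
    obtain ⟨g, hgM, hfix, hgx⟩ := hJ x hx y hy
    refine ⟨⟨g, hgM⟩, ?_, hgx⟩
    intro z hz
    exact hfix z hz
  have hle := Cfsg.Agent.Helper20.Marg.alternatingGroup_le_range_of_isPreprimitive hprim hΓJ
    (by omega) (by omega)
  intro σ hσ
  obtain ⟨x, hx⟩ := hle hσ
  have hxx : MulAction.toPermHom M α x = x.1 := by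
    ext a
    rfl
  rw [← hx, hxx]
  exact x.2

end Alt

end Cfsg.Agent.S2536P
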