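import Mathlib
import Cfsg.Agent.Helper27.S4150Defs

/-! S4150 (driver helper27), piece SYLI (helper9): Sylow's theorem in prime degree,
`|G : N_G(⟨y⟩)| ≡ 1 (mod q)`. -/

set_option autoImplicit false
set_option linter.unusedSectionVars false
set_option linter.unusedVariables false
set_option linter.style.haveILetI false

namespace Cfsg.Agent.S4150P

open Equiv Equiv.Perm MulAction

section
variable {α : Type*} [Fintype α] [DecidableEq α]

namespace SYLI

/-- `q² ∤ q!` -/
theorem not_sq_dvd_factorial {q : ℕ} (hq : q.Prime) : ¬ q ^ 2 ∣ q.factorial := by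
  intro h
  have hq0 : 0 < q := hq.pos
  obtain ⟨k, rfl⟩ : ∃ k, q = k + 1 := ⟨q - 1, by omega⟩
  rw [Nat.factorial_succ, pow_two] at h
  have h1 := Nat.dvd_of_mul_dvd_mul_left (by omega) h
  have h2 := (hq.dvd_factorial).mp h1
  omega

theorem card_zpowers_subgroupOf {q : ℕ} (G : Subgroup (Perm α)) {y : Perm α} (hyG : y ∈ G)
    (hyo : orderOf y = q) : Nat.card ((Subgroup.zpowers y).subgroupOf G) = q := by
  have hle : Subgroup.zpowers y ≤ G := by
    rw [Subgroup.zpowers_le]
    exact hyG
  rw [Nat.card_congr (Subgroup.subgroupOfEquivOfLe hle).toEquiv, Nat.card_zpowers, hyo]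

theorem factorization_card {q : ℕ} (hq : q.Prime) (hα : Fintype.card α = q)
    (G : Subgroup (Perm α)) {y : Perm α} (hyG : y ∈ G) (hyo : orderOf y = q) :
    (Nat.card G).factorization q = 1 := by
  have hdvd : Nat.card G ∣ q.factorial := by
    have h1 : Nat.card G ∣ Nat.card (Perm α) := Subgroup.card_subgroup_dvd_card G
    have h2 : Nat.card (Perm α) = q.factorial := by
      rw [Nat.card_eq_fintype_card, Fintype.card_perm, hα]
    rwa [h2] at h1
  have hpos : Nat.card G ≠ 0 := Nat.card_pos.ne'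
  have hq1 : q ∣ Nat.card G := by
    have h1 : Nat.card ((Subgroup.zpowers y).subgroupOf G) ∣ Nat.card G :=
      Subgroup.card_subgroup_dvd_card _
    rwa [card_zpowers_subgroupOf G hyG hyo] at h1
  have h1 : 1 ≤ (Nat.card G).factorization q := by
    rw [← hq.pow_dvd_iff_le_factorization hpos, pow_one]
    exact hq1
  have h2 : ¬ 2 ≤ (Nat.card G).factorization q := by
    rw [← hq.pow_dvd_iff_le_factorization hpos]
    intro h
    exact not_sq_dvd_factorial hq (h.trans hdvd)
  omega

/-- `⟨y⟩` is a Sylow `q`-subgroup of `G` -/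
theorem exists_sylow {q : ℕ} [Fact q.Prime] (hα : Fintype.card α = q)
    (G : Subgroup (Perm α)) {y : Perm α} (hyG : y ∈ G) (hyo : orderOf y = q) :
    ∃ P : Sylow q ↥G, (P : Subgroup ↥G) = (Subgroup.zpowers y).subgroupOf G := by
  have hq : q.Prime := Fact.out
  refine ⟨Sylow.ofCard ((Subgroup.zpowers y).subgroupOf G) ?_, Sylow.coe_ofCard _ _⟩
  rw [card_zpowers_subgroupOf G hyG hyo, factorization_card hq hα G hyG hyo, pow_one]

/-- the normaliser of that Sylow subgroup -/
theorem normIn_subgroupOf (G : Subgroup (Perm α)) {y : Perm α} (hyG : y ∈ G) :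
    (normIn G y).subgroupOf G =
      Subgroup.normalizer (((Subgroup.zpowers y).subgroupOf G : Subgroup ↥G) : Set ↥G) := by
  have hle : Subgroup.zpowers y ≤ G := by
    rw [Subgroup.zpowers_le]
    exact hyG
  rw [← Subgroup.subgroupOf_normalizer_eq hle]
  unfold normIn
  rw [Subgroup.inf_subgroupOf_left]

theorem card_normIn (G : Subgroup (Perm α)) (y : Perm α) :
    Nat.card (normIn G y) = Nat.card ((normIn G y).subgroupOf G) :=
  (Nat.card_congr (Subgroup.subgroupOfEquivOfLe (normIn_le G y)).toEquiv).symm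

end SYLI

/-- SYLI [M]: Sylow's theorem: `|G : N_G(⟨y⟩)| ≡ 1 (mod q)`. -/
theorem SYLI.main {q : ℕ} (hq : q.Prime) (hα : Fintype.card α = q) (G : Subgroup (Perm α))
    {y : Perm α} (hyG : y ∈ G) (hyo : orderOf y = q) :
    ∃ n : ℕ, Nat.card G = Nat.card (normIn G y) * n ∧ n % q = 1 := by
  haveI : Fact q.Prime := ⟨hq⟩
  obtain ⟨P, hP⟩ := SYLI.exists_sylow hα G hyG hyo
  refine ⟨Nat.card (Sylow q ↥G), ?_, ?_⟩
  · rw [SYLI.card_normIn, SYLI.normIn_subgroupOf G hyG, ← hP, P.card_eq_index_normalizer]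
    exact (Subgroup.card_mul_index _).symm
  · have h1 := card_sylow_modEq_one q ↥G
    unfold Nat.ModEq at h1
    rw [h1]
    exact Nat.mod_eq_of_lt hq.one_lt

end

end Cfsg.Agent.S4150P
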