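import Mathlib
import Cfsg.Agent.Helper27.S4150Defs
import Cfsg.Agent.Helper9.S4150SYLI

/-! S4150 (driver helper27), piece SYLT (helper9): Burnside transfer in prime degree:
if `N_G(⟨y⟩) = ⟨y⟩` then `G = ⟨y⟩`. -/

set_option autoImplicit false
set_option linter.unusedSectionVars false
set_option linter.unusedVariables false
set_option linter.style.haveILetI false

namespace Cfsg.Agent.S4150P

open Equiv Equiv.Perm MulAction

section
variable {α : Type*} [Fintype α] [DecidableEq α]

namespace SYLT

/-- an element of prime order `q` on `q` points generates a transitive group -/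
theorem pretransitive {q : ℕ} (hq : q.Prime) (hα : Fintype.card α = q) (G : Subgroup (Perm α))
    {y : Perm α} (hyG : y ∈ G) (hyo : orderOf y = q) : IsPretransitive ↥G α := by
  have hcyc : y.IsCycle := by
    apply Equiv.Perm.isCycle_of_prime_order' (hyo ▸ hq)
    rw [hyo, hα]
    have := hq.pos
    omega
  have hsupp : y.support = Finset.univ := by
    apply Finset.eq_univ_of_card
    rw [← hcyc.orderOf, hyo, hα]
  constructor
  intro a b
  have ha : a ∈ y.support := by rw [hsupp]; exact Finset.mem_univ _
  have hb : b ∈ y.support := by rw [hsupp]; exact Finset.mem_univ _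
  obtain ⟨i, hi⟩ := hcyc.exists_zpow_eq (Equiv.Perm.mem_support.mp ha) (Equiv.Perm.mem_support.mp hb)
  exact ⟨⟨y ^ i, G.zpow_mem hyG i⟩, hi⟩

end SYLT

/-- SYLT [M-L]: Burnside transfer: if `N_G(⟨y⟩) = ⟨y⟩` then `G = ⟨y⟩`. -/
theorem SYLT.main {q : ℕ} (hq : q.Prime) (hα : Fintype.card α = q) (G : Subgroup (Perm α))
    {y : Perm α} (hyG : y ∈ G) (hyo : orderOf y = q) (hN : Nat.card (normIn G y) = q) :
    Nat.card G = q := by
  haveI : Fact q.Prime := ⟨hq⟩
  obtain ⟨P, hP⟩ := SYLI.exists_sylow hα G hyG hyo
  have hPcard : Nat.card (P : Subgroup ↥G) = q := by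
    rw [hP]
    exact SYLI.card_zpowers_subgroupOf G hyG hyo
  -- the normaliser equals `P`
  have hNcard : Nat.card (Subgroup.normalizer ((P : Subgroup ↥G) : Set ↥G)) = q := by
    rw [hP, ← SYLI.normIn_subgroupOf G hyG, ← SYLI.card_normIn]
    exact hN
  have hNP : Subgroup.normalizer ((P : Subgroup ↥G) : Set ↥G) = (P : Subgroup ↥G) := by
    symm
    apply Subgroup.eq_of_le_of_card_ge Subgroup.le_normalizer
    rw [hNcard, hPcard]
  -- `P` is commutative
  have hcomm : ∀ g ∈ (P : Subgroup ↥G), ∀ h ∈ (P : Subgroup ↥G), h * g = g * h := by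
    intro g hg h hh
    rw [hP, Subgroup.mem_subgroupOf, Subgroup.mem_zpowers_iff] at hg hh
    obtain ⟨i, hi⟩ := hg
    obtain ⟨j, hj⟩ := hh
    apply Subtype.ext
    rw [Subgroup.coe_mul, Subgroup.coe_mul, ← hi, ← hj, ← zpow_add, ← zpow_add, add_comm]
  have hPC : Subgroup.normalizer ((P : Subgroup ↥G) : Set ↥G) ≤
      Subgroup.centralizer ((P : Subgroup ↥G) : Set ↥G) := by
    rw [hNP]
    intro g hg
    rw [Subgroup.mem_centralizer_iff]
    intro h hh
    exact hcomm g hg h hh
  set K : Subgroup ↥G := (MonoidHom.transferSylow P hPC).ker with hK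
  have hcompl : Subgroup.IsComplement' K (P : Subgroup ↥G) :=
    MonoidHom.ker_transferSylow_isComplement' P hPC
  have hmul : Nat.card K * Nat.card (P : Subgroup ↥G) = Nat.card ↥G := hcompl.card_mul_card
  have hndvd : ¬ q ∣ Nat.card K := MonoidHom.not_dvd_card_ker_transferSylow P hPC
  -- primitivity
  haveI : IsPretransitive ↥G α := SYLT.pretransitive hq hα G hyG hyo
  haveI : IsPreprimitive ↥G α := by
    apply IsPreprimitive.of_prime_card
    rw [Nat.card_eq_fintype_card, hα]
    exact hq
  haveI : K.Normal := by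
    rw [hK]
    infer_instance
  by_cases hfix : fixedPoints K α = Set.univ
  · -- `K` is trivial
    have hKbot : K = ⊥ := by
      rw [eq_bot_iff]
      intro k hk
      rw [Subgroup.mem_bot]
      apply Subtype.ext
      apply Equiv.ext
      intro a
      have ha : a ∈ fixedPoints K α := by rw [hfix]; exact Set.mem_univ _
      have := ha ⟨k, hk⟩
      exact this
    rw [hKbot, Subgroup.card_bot, one_mul, hPcard] at hmul
    exact hmul.symm
  · exfalso
    haveI : IsPretransitive K α := IsQuasiPreprimitive.isPretransitive_of_normal hfix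
    obtain ⟨a⟩ : Nonempty α := by
      rw [← Fintype.card_pos_iff, hα]
      exact hq.pos
    have h1 : (stabilizer K a).index = Nat.card α := MulAction.index_stabilizer_of_transitive K a
    have h2 : (stabilizer K a).index ∣ Nat.card K := Subgroup.index_dvd_card _
    rw [h1, Nat.card_eq_fintype_card, hα] at h2
    exact hndvd h2

end

end Cfsg.Agent.S4150P
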