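import Mathlib
import Cfsg.Agent.Helper9.TateNormal
import Cfsg.Agent.Helper9.Focal
import Cfsg.Agent.Helper9.PResidual
import Cfsg.Agent.Helper1.PGroup

set_option autoImplicit false
set_option linter.style.haveILetI false

/-! Tate's theorem, general form: `P ≤ V ≤ G`, `P ∩ G' ≤ V'` implies
`P ∩ O^p(G) = P ∩ O^p(V)`. -/

namespace Cfsg.Agent.Helper9

open Subgroup
open scoped commutatorElement

universe u

/-- `P ∩ G' ⊆ P' (P ∩ O^p(G))`. -/
theorem commutator_inf_sylow_decomp {G : Type u} [Group G] [Finite G] {p : ℕ} [Fact p.Prime]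
    (P : Sylow p G) (x : G) (hx : x ∈ commutator G ⊓ (P : Subgroup G)) :
    ∃ y ∈ ⁅(P : Subgroup G), (P : Subgroup G)⁆,
      ∃ k ∈ Cfsg.pResidual p G ⊓ (P : Subgroup G), x = y * k := by
  obtain ⟨hxc, hxP⟩ := Subgroup.mem_inf.mp hx
  set K := Cfsg.pResidual p G with hK
  have hsup : (P : Subgroup G) ⊔ K = ⊤ := sylow_sup_pResidual P
  have h1 : (commutator G).map (QuotientGroup.mk' K)
      = (⁅(P : Subgroup G), (P : Subgroup G)⁆).map (QuotientGroup.mk' K) := by
    rw [commutator_def, Subgroup.map_commutator, Subgroup.map_commutator, ← hsup,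
      Subgroup.map_sup, QuotientGroup.map_mk'_self, sup_bot_eq]
  have h2 : QuotientGroup.mk' K x ∈ (commutator G).map (QuotientGroup.mk' K) :=
    Subgroup.mem_map_of_mem _ hxc
  rw [h1] at h2
  obtain ⟨y, hy, hyx⟩ := h2
  have hyP : y ∈ (P : Subgroup G) := Subgroup.commutator_le_self (P : Subgroup G) hy
  refine ⟨y, hy, y⁻¹ * x, Subgroup.mem_inf.mpr ⟨?_, ?_⟩, by group⟩
  · exact QuotientGroup.eq.mp hyx
  · exact (P : Subgroup G).mul_mem ((P : Subgroup G).inv_mem hyP) hxP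

/-- **Tate's theorem**, general form. -/
theorem tate_general {G : Type u} [Group G] [Finite G] {p : ℕ} [Fact p.Prime] (P : Sylow p G)
    (V : Subgroup G) (hPV : (P : Subgroup G) ≤ V)
    (hfoc : commutator G ⊓ (P : Subgroup G) ≤ ⁅V, V⁆) :
    (P : Subgroup G) ⊓ Cfsg.pResidual p G ≤ (Cfsg.pResidual p V).map V.subtype := by
  have hp : p.Prime := Fact.out
  set K := Cfsg.pResidual p G with hKdef
  set KV : Subgroup G := (Cfsg.pResidual p V).map V.subtype with hKVdef
  -- F1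
  have hKVK : KV ≤ K := by
    rw [hKVdef, Cfsg.pResidual, MonoidHom.map_closure, hKdef, Cfsg.pResidual]
    apply Subgroup.closure_mono
    rintro _ ⟨n, hn, rfl⟩
    change (orderOf ((n : G))).Coprime p
    rw [Subgroup.orderOf_coe]
    exact hn
  have hK : K ≤ Subgroup.closure {g : G | g ∈ K ∧ (orderOf g).Coprime p} := by
    conv_lhs => rw [hKdef, Cfsg.pResidual]
    apply Subgroup.closure_mono
    intro g hg
    exact ⟨Subgroup.subset_closure hg, hg⟩
  -- F3
  have hF3 : ∀ x ∈ commutator G ⊓ (P : Subgroup G),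
      ∃ y ∈ ⁅(P : Subgroup G), (P : Subgroup G)⁆, ∃ k ∈ KV ⊓ (P : Subgroup G), x = y * k := by
    intro x hx
    obtain ⟨hxc, hxP⟩ := Subgroup.mem_inf.mp hx
    have hxV : x ∈ ⁅V, V⁆ := hfoc hx
    rw [← Subgroup.map_subtype_commutator] at hxV
    obtain ⟨v, hv, rfl⟩ := hxV
    set PV : Sylow p V := P.subtype hPV with hPVdef
    have hPVcoe : (PV : Subgroup V) = (P : Subgroup G).subgroupOf V := Sylow.coe_subtype P hPV
    have hvPV : v ∈ (PV : Subgroup V) := by
      rw [hPVcoe, Subgroup.mem_subgroupOf]; exact hxP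
    obtain ⟨y, hy, k, hk, hvyk⟩ :=
      commutator_inf_sylow_decomp PV v (Subgroup.mem_inf.mpr ⟨hv, hvPV⟩)
    refine ⟨(y : G), ?_, (k : G), Subgroup.mem_inf.mpr ⟨?_, ?_⟩, ?_⟩
    · have h1 : (y : G) ∈ (⁅(PV : Subgroup V), (PV : Subgroup V)⁆).map V.subtype :=
        Subgroup.mem_map_of_mem _ hy
      rw [Subgroup.map_commutator, hPVcoe, Subgroup.map_subgroupOf_eq_of_le hPV] at h1
      exact h1
    · exact Subgroup.mem_map_of_mem _ (Subgroup.mem_inf.mp hk).1
    · have := (Subgroup.mem_inf.mp hk).2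
      rw [hPVcoe, Subgroup.mem_subgroupOf] at this
      exact this
    · rw [hvyk]; rfl
  set Qs := K.subgroupOf (P : Subgroup G) with hQs
  set QV := KV.subgroupOf (P : Subgroup G) with hQV
  haveI hQsn : Qs.Normal := Subgroup.normal_subgroupOf
  haveI hQVn : QV.Normal := by
    constructor
    intro q hq u
    rw [hQV, Subgroup.mem_subgroupOf] at hq ⊢
    obtain ⟨k, hk, hkq⟩ := hq
    have huV : (u : G) ∈ V := hPV u.2
    refine ⟨⟨(u : G), huV⟩ * k * ⟨(u : G), huV⟩⁻¹, ?_, ?_⟩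
    · exact (inferInstance : (Cfsg.pResidual p V).Normal).conj_mem k hk _
    · simp only [Subgroup.coe_subtype, Subgroup.coe_mul, Subgroup.coe_inv]
      rw [show (k : G) = (q : G) from hkq]
  have hQVQs : QV ≤ Qs := by
    intro q hq
    rw [hQs, Subgroup.mem_subgroupOf]
    exact hKVK (Subgroup.mem_subgroupOf.mp hq)
  set Q0 : Subgroup ↥(P : Subgroup G) := QV ⊔ ⁅Qs, Qs⁆ with hQ0
  haveI : Q0.Normal := Subgroup.sup_normal QV ⁅Qs, Qs⁆
  have hQ0K : Q0 ≤ Qs := sup_le hQVQs (Subgroup.commutator_le_left Qs Qs)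
  have hPp : IsPGroup p ↥(P : Subgroup G) := P.isPGroup'
  have hΦ : Qs ≤ Q0 ⊔ frattini ↥(P : Subgroup G) := by
    intro u hu
    have h1 : (u : G) ∈ (P : Subgroup G) ⊓ K :=
      Subgroup.mem_inf.mpr ⟨u.2, Subgroup.mem_subgroupOf.mp hu⟩
    have h2 : (u : G) ∈ commutator G ⊓ (P : Subgroup G) := by
      rw [Subgroup.commutator_inf_eq_focalSubgroup P]
      exact sylow_inf_pResidual_le_focalSubgroup P h1
    obtain ⟨y, hy, k, hk, huyk⟩ := hF3 _ h2
    rw [← Subgroup.map_subtype_commutator] at hy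
    obtain ⟨y', hy', rfl⟩ := hy
    obtain ⟨hkKV, hkP⟩ := Subgroup.mem_inf.mp hk
    have huy : u = y' * ⟨k, hkP⟩ := Subtype.ext huyk
    rw [huy]
    apply Subgroup.mul_mem
    · exact le_sup_right (a := Q0)
        (Cfsg.Agent.Helper1.IsPGroup.commutator_le_frattini hPp hy')
    · apply le_sup_left (b := frattini ↥(P : Subgroup G))
      apply le_sup_left (b := ⁅Qs, Qs⁆)
      rw [hQV, Subgroup.mem_subgroupOf]
      exact hkKV
  have hcore : Qs ≤ Q0 := tate_core P K hK Q0 hQ0K le_sup_right hΦ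
  -- now `Qs ≤ QV`
  have hfinal : Qs ≤ QV := by
    set Qb := Qs.map (QuotientGroup.mk' QV) with hQb
    have h1 : Qb ≤ ⁅Qb, Qb⁆ := by
      calc Qb ≤ Q0.map (QuotientGroup.mk' QV) := Subgroup.map_mono hcore
        _ = ⁅Qb, Qb⁆ := by
          rw [hQ0, Subgroup.map_sup, QuotientGroup.map_mk'_self, bot_sup_eq,
            Subgroup.map_commutator]
    have hPb : IsPGroup p (↥(P : Subgroup G) ⧸ QV) := hPp.to_quotient QV
    haveI : Group.IsNilpotent (↥(P : Subgroup G) ⧸ QV) := hPb.isNilpotent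
    haveI : Group.IsSolvable (↥(P : Subgroup G) ⧸ QV) := inferInstance
    haveI : Group.IsSolvable Qb := inferInstance
    have h2 : Qb = ⊥ := eq_bot_of_le_commutator_of_isSolvable Qb h1
    rw [hQb, Subgroup.map_eq_bot_iff, QuotientGroup.ker_mk'] at h2
    exact h2
  intro x hx
  obtain ⟨hxP, hxK⟩ := Subgroup.mem_inf.mp hx
  have h1 : (⟨x, hxP⟩ : ↥(P : Subgroup G)) ∈ Qs := by
    rw [hQs, Subgroup.mem_subgroupOf]; exact hxK
  have h2 := hfinal h1
  rw [hQV, Subgroup.mem_subgroupOf] at h2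
  exact h2

end Cfsg.Agent.Helper9
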