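import Cfsg.Agent.Helper21.S2286DEFS

/-! S2286 board (driver helper21), piece CORE: the homomorphism from the presented group onto
`SL(2,F)` resp. `PSL(2,F)` is bijective on Bruhat normal forms. -/

set_option autoImplicit false

namespace Cfsg.Agent.Helper21.S2286

open Polynomial Multiplicative

namespace CORE

variable {F : Type*} [Field F]

theorem x_val (a : F) : (x a).1 = !![1, a; 0, 1] := rfl
theorem hh_val (s : Fˣ) : (hh s).1 = !![(s : F), 0; 0, ((s⁻¹ : Fˣ) : F)] := rfl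
theorem t0_val : (t0 : Matrix.SpecialLinearGroup (Fin 2) F).1 = !![0, 1; -1, 0] := rfl

theorem hh_mul' (s s' : Fˣ) : hh (s * s') = hh s * hh s' := by
  apply Subtype.ext
  rw [Matrix.SpecialLinearGroup.coe_mul, hh_val, hh_val, hh_val]
  ext i j
  fin_cases i <;> fin_cases j <;> simp [Matrix.mul_apply, Fin.sum_univ_two, mul_comm]

theorem hh_one' : hh (1 : Fˣ) = 1 := by
  apply Subtype.ext
  rw [hh_val, Matrix.SpecialLinearGroup.coe_one]
  ext i j
  fin_cases i <;> fin_cases j <;> simp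

/-- `hh` as a homomorphism -/
def hhHom : Fˣ →* Matrix.SpecialLinearGroup (Fin 2) F where
  toFun := hh
  map_one' := hh_one'
  map_mul' := hh_mul'

theorem hh_zpow' (s : Fˣ) (j : ℤ) : hh s ^ j = hh (s ^ j) :=
  (map_zpow (hhHom (F := F)) s j).symm

theorem borel_entries' (a : F) (s : Fˣ) :
    (x a * hh s).1 1 0 = 0 ∧ (x a * hh s).1 0 0 = (s : F) ∧ (x a * hh s).1 0 1 = a * ((s⁻¹ : Fˣ) : F) := by
  rw [Matrix.SpecialLinearGroup.coe_mul, x_val, hh_val]
  refine ⟨?_, ?_, ?_⟩ <;> simp [Matrix.mul_apply, Fin.sum_univ_two]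

theorem bigcell_entry' (a : F) (s : Fˣ) (b : F) : (x a * hh s * t0 * x b).1 1 0 ≠ 0 := by
  have : (x a * hh s * t0 * x b).1 1 0 = -((s⁻¹ : Fˣ) : F) := by
    rw [Matrix.SpecialLinearGroup.coe_mul, Matrix.SpecialLinearGroup.coe_mul,
      Matrix.SpecialLinearGroup.coe_mul, x_val, hh_val, t0_val, x_val]
    simp [Matrix.mul_apply, Fin.sum_univ_two]
  rw [this]
  exact neg_ne_zero.mpr (Units.ne_zero _)

/-- lower unitriangular matrices -/
def y (c : F) : Matrix.SpecialLinearGroup (Fin 2) F :=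
  ⟨!![1, 0; c, 1], by simp [Matrix.det_fin_two]⟩

theorem y_val (c : F) : (y c).1 = !![1, 0; c, 1] := rfl

theorem y_eq (c : F) : y c = t0 * x (-c) * t0⁻¹ := by
  rw [eq_mul_inv_iff_mul_eq]
  apply Subtype.ext
  rw [Matrix.SpecialLinearGroup.coe_mul, Matrix.SpecialLinearGroup.coe_mul, y_val, t0_val, x_val]
  ext i j
  fin_cases i <;> fin_cases j <;> simp [Matrix.mul_apply, Fin.sum_univ_two]

theorem big_eq (A : Matrix.SpecialLinearGroup (Fin 2) F) (hr : A.1 1 0 ≠ 0) :
    A = x ((A.1 0 0 - 1) / A.1 1 0) * y (A.1 1 0) * x ((A.1 1 1 - 1) / A.1 1 0) := by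
  have hdet := A.2
  rw [Matrix.det_fin_two] at hdet
  apply Subtype.ext
  rw [Matrix.SpecialLinearGroup.coe_mul, Matrix.SpecialLinearGroup.coe_mul, y_val, x_val, x_val]
  ext i j
  fin_cases i <;> fin_cases j <;>
    simp [Matrix.mul_apply, Fin.sum_univ_two] <;> field_simp <;>
    first | ring1 | linear_combination hdet | linear_combination -hdet

theorem sl2_gen' : Subgroup.closure (({t0} : Set (Matrix.SpecialLinearGroup (Fin 2) F)) ∪ Set.range x) = ⊤ := by
  rw [eq_top_iff]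
  intro A _
  set K := Subgroup.closure (({t0} : Set (Matrix.SpecialLinearGroup (Fin 2) F)) ∪ Set.range x) with hK
  have ht : (t0 : Matrix.SpecialLinearGroup (Fin 2) F) ∈ K := Subgroup.subset_closure (Or.inl rfl)
  have hx : ∀ a : F, x a ∈ K := fun a => Subgroup.subset_closure (Or.inr ⟨a, rfl⟩)
  have hy : ∀ c : F, y c ∈ K := fun c => by
    rw [y_eq]
    exact K.mul_mem (K.mul_mem ht (hx _)) (K.inv_mem ht)
  have hbig : ∀ B : Matrix.SpecialLinearGroup (Fin 2) F, B.1 1 0 ≠ 0 → B ∈ K := by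
    intro B hB
    rw [big_eq B hB]
    exact K.mul_mem (K.mul_mem (hx _) (hy _)) (hx _)
  by_cases hr : A.1 1 0 = 0
  · have hdet := A.2
    rw [Matrix.det_fin_two, hr, mul_zero, sub_zero] at hdet
    have hp : A.1 0 0 ≠ 0 := left_ne_zero_of_mul_eq_one hdet
    have h1 : (t0 * A).1 1 0 ≠ 0 := by
      have : (t0 * A).1 1 0 = -A.1 0 0 := by
        rw [Matrix.SpecialLinearGroup.coe_mul, t0_val]
        simp [Matrix.mul_apply, Fin.sum_univ_two]
      rw [this]
      exact neg_ne_zero.mpr hp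
    have h2 := hbig _ h1
    have : A = t0⁻¹ * (t0 * A) := by group
    rw [this]
    exact K.mul_mem (K.inv_mem ht) h2
  · exact hbig A hr


/-- a scalar special matrix in Borel form -/
theorem borel_scalar (a : F) (s : Fˣ) (r : F)
    (hr : Matrix.scalar (Fin 2) r = (x a * hh s).1) : a = 0 ∧ s ^ 2 = 1 := by
  obtain ⟨-, h00, h01⟩ := borel_entries' a s
  have e00 : r = (s : F) := by
    rw [← h00, ← hr]; simp
  have e01 : a * ((s⁻¹ : Fˣ) : F) = 0 := by
    rw [← h01, ← hr]; simp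
  have e11 : (x a * hh s).1 1 1 = r := by
    rw [← hr]; simp
  have hdet := (x a * hh s).2
  rw [Matrix.det_fin_two, ← hr] at hdet
  simp only [Matrix.scalar_apply, Matrix.diagonal_apply_eq, Matrix.diagonal_apply_ne _ (show (0 : Fin 2) ≠ 1 by decide),
    Matrix.diagonal_apply_ne _ (show (1 : Fin 2) ≠ 0 by decide), mul_zero, sub_zero] at hdet
  constructor
  · rcases mul_eq_zero.mp e01 with h | h
    · exact h
    · exact absurd h (Units.ne_zero _)
  · apply Units.ext
    rw [Units.val_pow_eq_pow_val, Units.val_one, ← e00, pow_two]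
    exact hdet

end CORE

theorem core_SL {F : Type*} [Field F] (ω : Fˣ) {P : Type*} [Group P]
    (φ : Multiplicative F →* P) (h t : P)
    (hform : ∀ g : P, (∃ (a : F) (j : ℤ), g = φ (ofAdd a) * h ^ j) ∨
      (∃ (a : F) (j : ℤ) (b : F), g = φ (ofAdd a) * h ^ j * t * φ (ofAdd b)))
    (hker : ∀ j : ℤ, ω ^ j = 1 → h ^ j = 1)
    (Φ : P →* Matrix.SpecialLinearGroup (Fin 2) F) (hΦφ : ∀ a : F, Φ (φ (ofAdd a)) = x a)
    (hΦh : Φ h = hh ω) (hΦt : Φ t = t0) : Function.Bijective Φ := by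
  constructor
  · rw [injective_iff_map_eq_one]
    intro g hg
    rcases hform g with ⟨a, j, rfl⟩ | ⟨a, j, b, rfl⟩
    · rw [map_mul, map_zpow, hΦφ, hΦh, CORE.hh_zpow'] at hg
      have hsc : Matrix.scalar (Fin 2) (1 : F) = (x a * hh (ω ^ j)).1 := by
        rw [hg]; simp
      obtain ⟨ha, hs⟩ := CORE.borel_scalar a (ω ^ j) 1 hsc
      obtain ⟨-, h00, -⟩ := CORE.borel_entries' a (ω ^ j)
      have h1 : ω ^ j = 1 := by
        apply Units.ext
        rw [← h00, hg]; simp
      rw [ha, hker j h1, ofAdd_zero, map_one, mul_one]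
    · exfalso
      rw [map_mul, map_mul, map_mul, map_zpow, hΦφ, hΦφ, hΦh, hΦt, CORE.hh_zpow'] at hg
      have := CORE.bigcell_entry' a (ω ^ j) b
      rw [hg] at this
      simp at this
  · rw [← MonoidHom.range_eq_top, eq_top_iff, ← CORE.sl2_gen', Subgroup.closure_le]
    rintro g (hg | ⟨a, rfl⟩)
    · rw [Set.mem_singleton_iff] at hg
      exact ⟨t, by rw [hΦt, hg]⟩
    · exact ⟨φ (ofAdd a), hΦφ a⟩

theorem core_PSL {F : Type*} [Field F] (ω : Fˣ) {P : Type*} [Group P]
    (φ : Multiplicative F →* P) (h t : P)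
    (hform : ∀ g : P, (∃ (a : F) (j : ℤ), g = φ (ofAdd a) * h ^ j) ∨
      (∃ (a : F) (j : ℤ) (b : F), g = φ (ofAdd a) * h ^ j * t * φ (ofAdd b)))
    (hker : ∀ j : ℤ, ω ^ (2 * j) = 1 → h ^ j = 1)
    (Φ : P →* Matrix.ProjectiveSpecialLinearGroup (Fin 2) F)
    (hΦφ : ∀ a : F, Φ (φ (ofAdd a)) = QuotientGroup.mk (x a))
    (hΦh : Φ h = QuotientGroup.mk (hh ω)) (hΦt : Φ t = QuotientGroup.mk t0) :
    Function.Bijective Φ := by
  constructor
  · rw [injective_iff_map_eq_one]
    intro g hg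
    rcases hform g with ⟨a, j, rfl⟩ | ⟨a, j, b, rfl⟩
    · rw [map_mul, map_zpow, hΦφ, hΦh, ← QuotientGroup.mk_zpow, ← QuotientGroup.mk_mul, CORE.hh_zpow',
        QuotientGroup.eq_one_iff, Matrix.SpecialLinearGroup.mem_center_iff] at hg
      obtain ⟨r, -, hr⟩ := hg
      obtain ⟨ha, hs⟩ := CORE.borel_scalar a (ω ^ j) r hr
      have h1 : ω ^ (2 * j) = 1 := by
        rw [mul_comm, zpow_mul]
        exact_mod_cast hs
      rw [ha, hker j h1, ofAdd_zero, map_one, mul_one]
    · exfalso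
      rw [map_mul, map_mul, map_mul, map_zpow, hΦφ, hΦφ, hΦh, hΦt, ← QuotientGroup.mk_zpow,
        ← QuotientGroup.mk_mul, ← QuotientGroup.mk_mul, ← QuotientGroup.mk_mul, CORE.hh_zpow',
        QuotientGroup.eq_one_iff, Matrix.SpecialLinearGroup.mem_center_iff] at hg
      obtain ⟨r, -, hr⟩ := hg
      have := CORE.bigcell_entry' a (ω ^ j) b
      rw [← hr] at this
      simp at this
  · have hsurj : Function.Surjective (QuotientGroup.mk' (Subgroup.center (Matrix.SpecialLinearGroup (Fin 2) F))) :=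
      QuotientGroup.mk'_surjective _
    intro y
    obtain ⟨A, rfl⟩ := hsurj y
    have hA : A ∈ (Φ.range).comap (QuotientGroup.mk' (Subgroup.center (Matrix.SpecialLinearGroup (Fin 2) F))) := by
      have : (⊤ : Subgroup (Matrix.SpecialLinearGroup (Fin 2) F)) ≤
          (Φ.range).comap (QuotientGroup.mk' (Subgroup.center (Matrix.SpecialLinearGroup (Fin 2) F))) := by
        rw [← CORE.sl2_gen', Subgroup.closure_le]
        rintro g (hg | ⟨a, rfl⟩)
        · rw [Set.mem_singleton_iff] at hg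
          exact ⟨t, by rw [hΦt, hg]; rfl⟩
        · exact ⟨φ (ofAdd a), by rw [hΦφ a]; rfl⟩
      exact this (Subgroup.mem_top A)
    exact hA

end Cfsg.Agent.Helper21.S2286
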