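import Cfsg.Agent.Helper27.M24Gen
import Cfsg.Prelude.Def_SporadicCombinatorics

/-!
# S1572, piece S23: the shift `t ↦ t + 1` is a member of `M24` of order 23 whose only fixed vectors
of sum of squares 64 are in the standard cross.
-/

set_option autoImplicit false

namespace Cfsg.Agent.S1572P

open Cfsg Cfsg.Agent.Helper27

namespace S23

/-- the shift `t ↦ t + 1` -/
abbrev sP : Equiv.Perm GolayPt := Equiv.optionCongr (Equiv.addRight (1 : ZMod 23))

theorem sP_some (x : ZMod 23) : sP (some x) = some (x + 1) := rfl

theorem sP_none : sP none = none := rfl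

theorem sP_pow_some (n : ℕ) (x : ZMod 23) : (sP ^ n) (some x) = some (x + n) := by
  induction n generalizing x with
  | zero => simp
  | succ n ih =>
    rw [pow_succ, Equiv.Perm.mul_apply, sP_some, ih]
    congr 1
    push_cast
    ring

theorem sP_pow_none (n : ℕ) : (sP ^ n) none = none := by
  induction n with
  | zero => simp
  | succ n ih => rw [pow_succ, Equiv.Perm.mul_apply, sP_none, ih]

theorem sP_mem_M24 : sP ∈ M24 :=
  mem_M24_of_table _ _ represents_shift (by decide +kernel)

theorem sP_pow_23 : sP ^ 23 = 1 := by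
  ext q
  rcases q with _ | x
  · rw [sP_pow_none]; rfl
  · rw [sP_pow_some]
    have : ((23 : ℕ) : ZMod 23) = 0 := by decide
    rw [this, add_zero]; rfl

/-- a vector fixed by the shift is constant on the 23 residues -/
theorem const_of_fixed (u : GolayPt → ℤ) (h : ∀ q, u (sP.symm q) = u q) (x : ZMod 23) :
    u (some x) = u (some 0) := by
  have h1 : ∀ q, u (sP q) = u q := fun q => by
    have := h (sP q)
    rw [Equiv.symm_apply_apply] at this
    exact this.symm
  have h2 : ∀ n : ℕ, u (some (n : ZMod 23)) = u (some 0) := by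
    intro n
    induction n with
    | zero => simp
    | succ n ih =>
      rw [← ih, ← h1 (some (n : ZMod 23)), sP_some]
      push_cast
      rfl
  have := h2 x.val
  rwa [ZMod.natCast_zmod_val] at this

theorem sqNorm_eq (u : GolayPt → ℤ) (h : ∀ x : ZMod 23, u (some x) = u (some 0)) :
    sqNorm u = u none ^ 2 + 23 * u (some 0) ^ 2 := by
  unfold sqNorm
  rw [Fintype.sum_option]
  congr 1
  rw [Finset.sum_congr rfl (fun x _ => by rw [h x])]
  simp

end S23

/-- S23: a member of `M24` of order 23 whose only fixed vectors of sum of squares 64 are in the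
standard cross -/
theorem exists_s23 : ∃ σ ∈ M24, σ ^ 23 = 1 ∧ ∀ u : GolayPt → ℤ, (∀ q, u (σ.symm q) = u q) →
    sqNorm u = 64 → u ∈ stdCross := by
  refine ⟨S23.sP, S23.sP_mem_M24, S23.sP_pow_23, ?_⟩
  intro u hfix hn
  have hc := S23.const_of_fixed u hfix
  rw [S23.sqNorm_eq u hc] at hn
  have hb : u (some 0) = 0 := by
    by_contra hne
    have h1 : 1 ≤ u (some 0) ^ 2 := by
      have : 0 < u (some 0) ^ 2 := by positivity
      omega
    have h4 : u (some 0) ^ 2 ≤ 2 := by nlinarith [sq_nonneg (u none)]
    have habs : |u (some 0)| ≤ 1 := by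
      rw [abs_le]
      constructor <;> nlinarith
    have : u (some 0) = 1 ∨ u (some 0) = -1 := by
      rw [abs_le] at habs
      rcases habs with ⟨l, r⟩
      have : u (some 0) = -1 ∨ u (some 0) = 0 ∨ u (some 0) = 1 := by omega
      rcases this with h | h | h
      · exact Or.inr h
      · exact absurd h hne
      · exact Or.inl h
    have h41 : u none ^ 2 = 41 := by
      rcases this with h | h <;> rw [h] at hn <;> linarith
    have hl : |u none| ≤ 6 := by
      rw [abs_le]; constructor <;> nlinarith
    rw [abs_le] at hl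
    rcases hl with ⟨l, r⟩
    have : ∀ a : ℤ, -6 ≤ a → a ≤ 6 → a ^ 2 ≠ 41 := by decide
    exact this _ l r h41
  rw [hb] at hn
  have ha : u none = 8 ∨ u none = -8 := by
    have h64 : u none ^ 2 = 8 ^ 2 := by linarith
    rcases sq_eq_sq_iff_eq_or_eq_neg.mp h64 with h | h
    · exact Or.inl h
    · exact Or.inr h
  refine ⟨none, u none, ha, ?_⟩
  funext q
  rcases q with _ | x
  · simp
  · rw [hc x, hb]
    simp
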