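import Cfsg.Agent.Helper22.S1572Defs
import Cfsg.Agent.Helper9.S1572S23
import Cfsg.Agent.Helper19.S1572CROSS1

/-!
# S1572, piece G23: an element of order 23 of the stabiliser of the standard cross fixing only the
standard cross.
-/

set_option autoImplicit false

namespace Cfsg.Agent.S1572P

open Cfsg Cfsg.Agent.Helper27 Cfsg.Agent.Helper22.Co0Mono Cfsg.Agent.Helper22.CrossStab
  Cfsg.Agent.Helper22.Co0Center Cfsg.Agent.Helper22.MinTrans Cfsg.Agent.Helper22.Co0Order
  Cfsg.Agent.Helper22.Census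
open scoped Pointwise

namespace G23

/-- the vectors of the standard cross, as a type -/
abbrev CrossPt : Type := {v : ↥leechLattice // (v : GolayPt → ℤ) ∈ stdCross}

/-- the action of the stabiliser of the standard cross on its 48 vectors -/
instance crossAction : MulAction ↥NN CrossPt where
  smul h s := ⟨h.1 • s.1, h.2 s.1 s.2⟩
  one_smul s := Subtype.ext (one_smul _ s.1)
  mul_smul a b s := Subtype.ext (mul_smul a.1 b.1 s.1)

theorem crossAction_coe (h : ↥NN) (s : CrossPt) : ((h • s : CrossPt) : ↥leechLattice) = h.1 • s.1 := rfl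

/-- the parametrisation of the 48 vectors -/
def crossOf (p : GolayPt × Bool) : CrossPt :=
  ⟨⟨Pi.single p.1 (if p.2 then 8 else -8), single_mem p.1 (by split_ifs <;> norm_num)⟩,
    ⟨p.1, _, by split_ifs <;> simp, rfl⟩⟩

theorem crossOf_bijective : Function.Bijective crossOf := by
  constructor
  · rintro ⟨i, b⟩ ⟨j, c⟩ h
    have h1 : (Pi.single i (if b then (8 : ℤ) else -8) : GolayPt → ℤ) = Pi.single j (if c then 8 else -8) :=
      congrArg (fun s : CrossPt => ((s : ↥leechLattice) : GolayPt → ℤ)) h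
    have hij : i = j := by
      by_contra hne
      have := congrFun h1 i
      rw [Pi.single_eq_same, Pi.single_eq_of_ne hne] at this
      split_ifs at this; omega
    subst hij
    have := congrFun h1 i
    rw [Pi.single_eq_same, Pi.single_eq_same] at this
    cases b <;> cases c <;> simp_all
  · rintro ⟨⟨v, hv⟩, i, s, hs, hvs⟩
    rcases hs with rfl | rfl
    · exact ⟨(i, true), Subtype.ext (Subtype.ext (by simpa [crossOf] using hvs.symm))⟩
    · exact ⟨(i, false), Subtype.ext (Subtype.ext (by simpa [crossOf] using hvs.symm))⟩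

theorem card_crossPt : Nat.card CrossPt = 48 := by
  rw [← Nat.card_congr (Equiv.ofBijective crossOf crossOf_bijective)]
  simp [GolayPt]

theorem piCo_pow_apply (σ : Equiv.Perm GolayPt) (hσ : σ ∈ M24) (n : ℕ) (v : ↥leechLattice) (q : GolayPt) :
    (((piCo σ hσ) ^ n • v : ↥leechLattice) : GolayPt → ℤ) q = (v : GolayPt → ℤ) ((σ ^ n).symm q) := by
  induction n generalizing v with
  | zero =>
    rw [pow_zero, pow_zero, one_smul]
    rfl
  | succ n ih =>
    rw [pow_succ, mul_smul, ih, piCo_apply, pow_succ]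
    rfl

theorem piCo_pow_eq_one (σ : Equiv.Perm GolayPt) (hσ : σ ∈ M24) (n : ℕ) (h : σ ^ n = 1) :
    (piCo σ hσ) ^ n = 1 := by
  apply Subtype.ext
  apply Equiv.ext
  intro v
  show ((piCo σ hσ) ^ n) • v = (1 : ↥Co0) • v
  rw [one_smul]
  apply Subtype.ext
  funext q
  rw [piCo_pow_apply, h]
  rfl

end G23

/-- G23: an element of `NN` of order 23 fixing only the standard cross -/
theorem exists_g23 : ∃ g ∈ NN, g ^ 23 = 1 ∧ ∀ x : ↥Co0, x⁻¹ * g * x ∈ NN → x ∈ NN := by
  obtain ⟨σ, hσ, hσ23, hfix⟩ := exists_s23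
  refine ⟨piCo σ hσ, piCo_mem_NN σ hσ, G23.piCo_pow_eq_one σ hσ 23 hσ23, ?_⟩
  intro x hx
  set g := piCo σ hσ with hg
  have hg23 : g ^ 23 = 1 := G23.piCo_pow_eq_one σ hσ 23 hσ23
  -- the conjugate, as a member of `NN`
  set γ : ↥NN := ⟨x⁻¹ * g * x, hx⟩ with hγ
  have hγ23 : γ ^ 23 = 1 := by
    apply Subtype.ext
    rw [Subgroup.coe_pow, Subgroup.coe_one]
    show (x⁻¹ * g * x) ^ 23 = 1
    have := conj_pow (a := x⁻¹) (b := g) (i := 23)
    rw [inv_inv] at this
    rw [this, hg23, mul_one, inv_mul_cancel]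
  have : Fact (Nat.Prime 23) := ⟨by norm_num⟩
  have hP : IsPGroup 23 ↥(Subgroup.zpowers γ) := by
    rintro ⟨h, hh⟩
    obtain ⟨k, rfl⟩ := Subgroup.mem_zpowers_iff.mp hh
    refine ⟨1, Subtype.ext ?_⟩
    rw [pow_one, Subgroup.coe_pow, Subgroup.coe_one]
    show (γ ^ k) ^ 23 = 1
    rw [← zpow_natCast, ← zpow_mul, mul_comm, zpow_mul, zpow_natCast, hγ23, one_zpow]
  obtain ⟨s, hs⟩ := hP.nonempty_fixed_point_of_prime_not_dvd_card G23.CrossPt
    (by rw [G23.card_crossPt]; norm_num)
  have hs1 : (⟨γ, Subgroup.mem_zpowers γ⟩ : ↥(Subgroup.zpowers γ)) • s = s := hs _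
  have hs2 : (x⁻¹ * g * x) • (s : ↥leechLattice) = s := congrArg Subtype.val hs1
  -- `x • s` is fixed by `g`
  have hs3 : g • (x • (s : ↥leechLattice)) = x • (s : ↥leechLattice) := by
    conv_rhs => rw [← hs2]
    rw [← mul_smul, ← mul_smul]
    congr 1
    group
  have hq : ∀ q, ((x • (s : ↥leechLattice) : ↥leechLattice) : GolayPt → ℤ) (σ.symm q) =
      ((x • (s : ↥leechLattice) : ↥leechLattice) : GolayPt → ℤ) q := by
    intro q
    rw [← piCo_apply σ hσ, ← hg, hs3]
  have hn : sqNorm ((x • (s : ↥leechLattice) : ↥leechLattice) : GolayPt → ℤ) = 64 := by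
    rw [co0_norm]
    obtain ⟨i, t, ht, hv⟩ := s.2
    rw [hv, sqNorm_single]
    rcases ht with rfl | rfl <;> norm_num
  exact mem_NN_of_map x s s.2 (hfix _ hq hn)

end Cfsg.Agent.S1572P
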