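import Mathlib
import Cfsg.Agent.Helper28.S3589Defs

/-! S3589 (driver helper28), piece ARITH8 (helper9), with the small arithmetic library shared with
ARITH4 and ARITH. -/

set_option autoImplicit false
set_option linter.unusedVariables false

namespace Cfsg.Agent.S3589P

namespace ARITH8

theorem le_sum {D : Finset ℕ} {a : ℕ} (ha : a ∈ D) : a ≤ D.sum id :=
  Finset.single_le_sum (f := id) (fun _ _ => Nat.zero_le _) ha

theorem add_le_sum {D : Finset ℕ} {a a' : ℕ} (ha : a ∈ D) (ha' : a' ∈ D) (hne : a ≠ a') :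
    a + a' ≤ D.sum id := by
  have h1 : a + (D.erase a).sum id = D.sum id := Finset.add_sum_erase D id ha
  have h2 : a' ≤ (D.erase a).sum id := le_sum (Finset.mem_erase.2 ⟨hne.symm, ha'⟩)
  omega

theorem mem_ords_10 (q : ℕ) : Nat.lcm (q - 1) 8 ∈ ords q := by simp [ords]

theorem mem_ords_11 (q : ℕ) : Nat.lcm (q + 1) 8 ∈ ords q := by simp [ords]

theorem mem_ords_8 (q : ℕ) : Nat.lcm (Nat.lcm (q - 1) (q + 1)) 4 ∈ ords q := by simp [ords]

theorem mem_ords_9 (q : ℕ) : Nat.lcm (q ^ 2 + 1) 4 ∈ ords q := by simp [ords]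

/-- `q - 1` and `q + 1` are coprime for even `q` -/
theorem coprime_pred_succ {q : ℕ} (hq : 2 ≤ q) (hev : Even q) : Nat.Coprime (q - 1) (q + 1) := by
  have h1 : q + 1 = 2 + (q - 1) := by omega
  rw [h1, Nat.coprime_add_self_right]
  have hodd : Odd (q - 1) := by
    rcases hev with ⟨k, hk⟩
    exact ⟨k - 1, by omega⟩
  exact Nat.coprime_two_right.2 hodd

theorem sq_sub_one_dvd {q : ℕ} (hq : 2 ≤ q) (hev : Even q) :
    q ^ 2 - 1 ∣ Nat.lcm (q - 1) (q + 1) := by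
  rw [(coprime_pred_succ hq hev).lcm_eq_mul]
  have h : q ^ 2 - 1 = (q - 1) * (q + 1) := by
    obtain ⟨m, rfl⟩ : ∃ m, q = m + 1 := ⟨q - 1, by omega⟩
    have e : (m + 1) ^ 2 - 1 = m * (m + 1 + 1) := by
      have : (m + 1) ^ 2 = m * (m + 1 + 1) + 1 := by ring
      omega
    rw [e, Nat.add_sub_cancel]
  rw [h]

end ARITH8

open ARITH8 in
/-- ARITH8 (S): `Dm ⊆ {1}`, `Dp ⊆ {1}`, not both nonempty: `lcm (q+1) 8` or `lcm (q-1) 8`. -/
theorem arith_eight (q : ℕ) (hq : 2 ≤ q) (hev : Even q) (Dm Dp : Finset ℕ) (hDm : ∀ a ∈ Dm, 1 ≤ a)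
    (hDp : ∀ d ∈ Dp, 1 ≤ d) (h : Dm.sum id + Dp.sum id ≤ 1) :
    ∃ M ∈ ords q, 8 ∣ M ∧ (∀ a ∈ Dm, q ^ a + 1 ∣ M) ∧ (∀ d ∈ Dp, q ^ d - 1 ∣ M) := by
  by_cases hp : Dp = ∅
  · refine ⟨Nat.lcm (q + 1) 8, mem_ords_11 q, Nat.dvd_lcm_right _ _, ?_, ?_⟩
    · intro a ha
      have h1 := le_sum ha
      have h2 := hDm a ha
      have : a = 1 := by omega
      subst this
      rw [pow_one]
      exact Nat.dvd_lcm_left _ _
    · intro d hd
      rw [hp] at hd
      exact absurd hd (Finset.notMem_empty d)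
  · obtain ⟨d₀, hd₀⟩ := Finset.nonempty_iff_ne_empty.2 hp
    have h3 := le_sum hd₀
    have h4 := hDp d₀ hd₀
    refine ⟨Nat.lcm (q - 1) 8, mem_ords_10 q, Nat.dvd_lcm_right _ _, ?_, ?_⟩
    · intro a ha
      have h1 := le_sum ha
      have h2 := hDm a ha
      omega
    · intro d hd
      have h1 := le_sum hd
      have h2 := hDp d hd
      have : d = 1 := by omega
      subst this
      rw [pow_one]
      exact Nat.dvd_lcm_left _ _

end Cfsg.Agent.S3589P
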