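import Mathlib
import Cfsg.Agent.Helper28.S3589Defs
import Cfsg.Agent.Helper9.S3589ARITH8

/-! S3589 (driver helper28), piece ARITH4 (helper9). -/

set_option autoImplicit false
set_option linter.unusedVariables false

namespace Cfsg.Agent.S3589P

open ARITH8 in
/-- ARITH4 (S-M): `2 ∈ Dm`: `lcm (q²+1) 4`; else `lcm (lcm (q-1) (q+1)) 4`. -/
theorem arith_four (q : ℕ) (hq : 2 ≤ q) (hev : Even q) (Dm Dp : Finset ℕ) (hDm : ∀ a ∈ Dm, 1 ≤ a)
    (hDp : ∀ d ∈ Dp, 1 ≤ d) (h : Dm.sum id + Dp.sum id ≤ 2) :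
    ∃ M ∈ ords q, 4 ∣ M ∧ (∀ a ∈ Dm, q ^ a + 1 ∣ M) ∧ (∀ d ∈ Dp, q ^ d - 1 ∣ M) := by
  by_cases h2 : 2 ∈ Dm
  · have h3 := le_sum h2
    refine ⟨Nat.lcm (q ^ 2 + 1) 4, mem_ords_9 q, Nat.dvd_lcm_right _ _, ?_, ?_⟩
    · intro a ha
      by_cases ha2 : a = 2
      · subst ha2
        exact Nat.dvd_lcm_left _ _
      · have h4 := add_le_sum ha h2 ha2
        have h5 := hDm a ha
        omega
    · intro d hd
      have h4 := le_sum hd
      have h5 := hDp d hd
      omega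
  · refine ⟨Nat.lcm (Nat.lcm (q - 1) (q + 1)) 4, mem_ords_8 q, Nat.dvd_lcm_right _ _, ?_, ?_⟩
    · intro a ha
      have h4 := le_sum ha
      have h5 := hDm a ha
      have ha2 : a ≠ 2 := fun h => h2 (h ▸ ha)
      have : a = 1 := by omega
      subst this
      rw [pow_one]
      exact (Nat.dvd_lcm_right _ _).trans (Nat.dvd_lcm_left _ _)
    · intro d hd
      have h4 := le_sum hd
      have h5 := hDp d hd
      have : d = 1 ∨ d = 2 := by omega
      rcases this with rfl | rfl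
      · rw [pow_one]
        exact (Nat.dvd_lcm_left _ _).trans (Nat.dvd_lcm_left _ _)
      · exact (sq_sub_one_dvd hq hev).trans (Nat.dvd_lcm_left _ _)

end Cfsg.Agent.S3589P
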