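import Mathlib
import Cfsg.Agent.Helper28.S3589Defs
import Cfsg.Agent.Helper9.S3589ARITH8
import Cfsg.Agent.Helper9.S3589ARITH4
import Cfsg.Agent.Helper11.S3589ARITH1

/-! S3589 (driver helper28), piece ARITH (helper9): the combination of ARITH1/2/4/8. -/

set_option autoImplicit false
set_option linter.unusedVariables false

namespace Cfsg.Agent.S3589P

namespace ARITH

theorem coprime_two_lcm {m n : ℕ} (hm : Nat.Coprime 2 m) (hn : Nat.Coprime 2 n) :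
    Nat.Coprime 2 (Nat.lcm m n) :=
  Nat.Coprime.coprime_dvd_right (Nat.lcm_dvd_mul m n) (hm.mul_right hn)

theorem coprime_two_finset_lcm (D : Finset ℕ) (f : ℕ → ℕ) (hf : ∀ a ∈ D, Nat.Coprime 2 (f a)) :
    Nat.Coprime 2 (D.lcm f) := by
  classical
  induction D using Finset.induction_on with
  | empty =>
    rw [Finset.lcm_empty]
    exact Nat.coprime_one_right 2
  | insert a s ha ih =>
    rw [Finset.lcm_insert]
    exact coprime_two_lcm (hf a (Finset.mem_insert_self a s))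
      (ih fun b hb => hf b (Finset.mem_insert_of_mem hb))

theorem odd_pow_add_one {q a : ℕ} (hev : Even q) (ha : 1 ≤ a) : Nat.Coprime 2 (q ^ a + 1) := by
  rw [Nat.coprime_two_left]
  exact (hev.pow_of_ne_zero (by omega)).add_one

theorem odd_pow_sub_one {q d : ℕ} (hq : 2 ≤ q) (hev : Even q) (hd : 1 ≤ d) :
    Nat.Coprime 2 (q ^ d - 1) := by
  rw [Nat.coprime_two_left]
  have h1 : Even (q ^ d) := hev.pow_of_ne_zero (by omega)
  have h2 : 1 ≤ q ^ d := Nat.one_le_pow _ _ (by omega)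
  rcases h1 with ⟨k, hk⟩
  exact ⟨k - 1, by omega⟩

/-- the common last step -/
theorem step (q : ℕ) (hq : 2 ≤ q) (hev : Even q) (Dm Dp : Finset ℕ) (hDm : ∀ a ∈ Dm, 1 ≤ a)
    (hDp : ∀ d ∈ Dp, 1 ≤ d) (k M : ℕ) (h2 : 2 ^ k ∣ M) (hm : ∀ a ∈ Dm, q ^ a + 1 ∣ M)
    (hp : ∀ d ∈ Dp, q ^ d - 1 ∣ M) :
    2 ^ k * Nat.lcm (Dm.lcm fun a => q ^ a + 1) (Dp.lcm fun d => q ^ d - 1) ∣ M := by
  have hL : Nat.lcm (Dm.lcm fun a => q ^ a + 1) (Dp.lcm fun d => q ^ d - 1) ∣ M :=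
    Nat.lcm_dvd (Finset.lcm_dvd hm) (Finset.lcm_dvd hp)
  have hc : Nat.Coprime 2 (Nat.lcm (Dm.lcm fun a => q ^ a + 1) (Dp.lcm fun d => q ^ d - 1)) :=
    coprime_two_lcm
      (coprime_two_finset_lcm Dm _ fun a ha => odd_pow_add_one hev (hDm a ha))
      (coprime_two_finset_lcm Dp _ fun d hd => odd_pow_sub_one hq hev (hDp d hd))
  exact (Nat.Coprime.pow_left k hc).mul_dvd_of_dvd_of_dvd h2 hL

end ARITH

open ARITH in
theorem arith (q : ℕ) (hq : 2 ≤ q) (hev : Even q) (Dm Dp : Finset ℕ) (hDm : ∀ a ∈ Dm, 1 ≤ a)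
    (hDp : ∀ d ∈ Dp, 1 ≤ d) (E : ℕ) (hE1 : 1 ≤ E) (hE8 : E ≤ 8)
    (h4 : Dm.sum id + Dp.sum id ≤ 4) (h2 : 2 ≤ E → Dm.sum id + Dp.sum id ≤ 3)
    (h3 : 3 ≤ E → Dm.sum id + Dp.sum id ≤ 2) (h5 : 5 ≤ E → Dm.sum id + Dp.sum id ≤ 1) :
    ∃ M ∈ ords q, 2 ^ Nat.clog 2 E *
      Nat.lcm (Dm.lcm fun a => q ^ a + 1) (Dp.lcm fun d => q ^ d - 1) ∣ M := by
  have hc : (E = 1 ∧ Nat.clog 2 E = 0) ∨ (E = 2 ∧ Nat.clog 2 E = 1) ∨
      (3 ≤ E ∧ E ≤ 4 ∧ Nat.clog 2 E = 2) ∨ (5 ≤ E ∧ Nat.clog 2 E = 3) := by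
    interval_cases E
    · left; exact ⟨rfl, by decide⟩
    · right; left; exact ⟨rfl, by decide⟩
    · right; right; left; exact ⟨le_rfl, by omega, by decide⟩
    · right; right; left; exact ⟨by omega, le_rfl, by decide⟩
    · right; right; right; exact ⟨le_rfl, by decide⟩
    · right; right; right; exact ⟨by omega, by decide⟩
    · right; right; right; exact ⟨by omega, by decide⟩
    · right; right; right; exact ⟨by omega, by decide⟩
  rcases hc with ⟨hE, hk⟩ | ⟨hE, hk⟩ | ⟨hE, -, hk⟩ | ⟨hE, hk⟩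
  · obtain ⟨M, hM, hm, hp⟩ := arith_one q hq hev Dm Dp hDm hDp h4
    refine ⟨M, hM, ?_⟩
    rw [hk]
    exact step q hq hev Dm Dp hDm hDp 0 M (by simp) hm hp
  · obtain ⟨M, hM, h2M, hm, hp⟩ := arith_two q hq hev Dm Dp hDm hDp (h2 (by omega))
    refine ⟨M, hM, ?_⟩
    rw [hk]
    exact step q hq hev Dm Dp hDm hDp 1 M (by simpa using h2M) hm hp
  · obtain ⟨M, hM, h2M, hm, hp⟩ := arith_four q hq hev Dm Dp hDm hDp (h3 hE)
    refine ⟨M, hM, ?_⟩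
    rw [hk]
    exact step q hq hev Dm Dp hDm hDp 2 M (by simpa using h2M) hm hp
  · obtain ⟨M, hM, h2M, hm, hp⟩ := arith_eight q hq hev Dm Dp hDm hDp (h5 hE)
    refine ⟨M, hM, ?_⟩
    rw [hk]
    exact step q hq hev Dm Dp hDm hDp 3 M (by simpa using h2M) hm hp

end Cfsg.Agent.S3589P
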