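import Mathlib
import Cfsg.Agent.Helper9.GrossA

/-!
# Gross (p = 2), part B: the abelian case (any `p`)
-/

set_option autoImplicit false
set_option linter.style.haveILetI false
set_option linter.unusedSectionVars false
set_option maxHeartbeats 1600000

namespace Cfsg.Agent.Helper9.Gross

open Module Subgroup Cfsg.Agent.Helper9.Ward Cfsg.Agent.Helper5.HHMod Cfsg.Agent.Helper5.HHT
open Cfsg.Agent.Helper5.FrobMod Cfsg.Agent.Helper29.S3f Cfsg.Agent.Helper9.Shult

variable {Γ : Type*} [Group Γ] [Finite Γ] {K : Type*} [Field K] [IsAlgClosed K]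
  {M : Type*} [AddCommGroup M] [Module K M] [FiniteDimensional K M]

/-- the abelian case: an abelian `q`-group `A` normalised by `s` (`s ^ (p ^ n) = 1`), faithful on
`M`, not centralised by `t = s ^ (p ^ (n - 1))`: then `s` has a nonzero fixed vector. -/
theorem abelian_alg {p q n : ℕ} (hp : p.Prime) (hq : q.Prime) (hn : 0 < n)
    (ρ : Representation K Γ M) (hqK : (q : K) ≠ 0)
    (A : Subgroup Γ) (hA : IsPGroup q A) (hab : ∀ a ∈ A, ∀ b ∈ A, a * b = b * a)
    (s : Γ) (hsA : s ∈ normalizer (A : Set Γ)) (hs : s ^ (p ^ n) = 1)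
    (hnt : ∃ g ∈ A, s ^ (p ^ (n - 1)) * g * (s ^ (p ^ (n - 1)))⁻¹ ≠ g)
    (hfaith : ∀ g ∈ A, ρ g = 1 → g = 1) :
    ∃ m : M, m ≠ 0 ∧ ρ s m = m := by
  classical
  set t := s ^ (p ^ (n - 1)) with ht
  obtain ⟨g, hgA, hgne⟩ := hnt
  have htA : t ∈ normalizer (A : Set Γ) := pow_mem hsA _
  have htg : t * g * t⁻¹ ∈ A := (mem_normalizer_iff.mp htA g).mp hgA
  set c := t * g * t⁻¹ * g⁻¹ with hc
  have hcA : c ∈ A := A.mul_mem htg (A.inv_mem hgA)
  have hc1 : c ≠ 1 := by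
    intro h
    apply hgne
    have : t * g * t⁻¹ = c * g := by rw [hc]; group
    rw [this, h, one_mul]
  obtain ⟨k, hk⟩ := hA ⟨c, hcA⟩
  have hk' : c ^ (q ^ k) = 1 := by
    have := congrArg Subtype.val hk
    simpa using this
  have hρc : ρ c ≠ 1 := fun h => hc1 (hfaith c hcA h)
  obtain ⟨χ, m, hm0, hmχ, hχc⟩ := exists_weight_ne_one ρ A hab c hcA (q ^ k) hk'
    (by rw [Nat.cast_pow]; exact pow_ne_zero _ hqK) hρc
  set un : ↥(normalizer (A : Set Γ)) := ⟨s, hsA⟩ with hun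
  letI := chAction A Kˣ
  have hunN : un ^ (p ^ n) = 1 := Subtype.ext (by simpa using hs)
  have hpos : 0 < p ^ n := pow_pos hp.pos n
  have hfixN : un ^ (p ^ n) • χ = χ := by rw [hunN, one_smul]
  have hper : 0 < MulAction.period un χ := MulAction.period_pos_of_fixed hpos hfixN
  have hdvd : MulAction.period un χ ∣ p ^ n := MulAction.pow_smul_eq_iff_period_dvd.mp hfixN
  -- no nontrivial power of `un` fixes `χ`
  have hfree : ∀ j, 0 < j → j < p ^ n → un ^ j • χ ≠ χ := by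
    intro j hj0 hjN hfix
    apply hχc
    have h1 : un ^ (p ^ (n - 1)) ∈ zpowers (un ^ j) :=
      pow_mem_zpowers_pow un p n hp hunN j hj0 hjN
    have h2 : zpowers (un ^ j) ≤ MulAction.stabilizer ↥(normalizer (A : Set Γ)) χ := by
      rw [zpowers_le]
      exact hfix
    have h3 : un ^ (p ^ (n - 1)) • χ = χ := h2 h1
    have h4 : (un ^ (p ^ (n - 1)) • χ) ⟨t * g * t⁻¹, htg⟩ = χ ⟨t * g * t⁻¹, htg⟩ := by rw [h3]
    have h5 : (un ^ (p ^ (n - 1)) • χ) ⟨t * g * t⁻¹, htg⟩ = χ ⟨g, hgA⟩ := by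
      show χ (conjInv A (un ^ (p ^ (n - 1))) ⟨t * g * t⁻¹, htg⟩) = χ ⟨g, hgA⟩
      congr 1
      apply Subtype.ext
      rw [conjInv_coe]
      have : ((un ^ (p ^ (n - 1)) : ↥(normalizer (A : Set Γ))) : Γ) = t := by simp [hun, ht]
      rw [this]
      show t⁻¹ * (t * g * t⁻¹) * t = g
      group
    have h6 : χ ⟨g, hgA⟩ = χ ⟨t * g * t⁻¹, htg⟩ := h5.symm.trans h4
    have h7 : (⟨c, hcA⟩ : A) = ⟨t * g * t⁻¹, htg⟩ * (⟨g, hgA⟩ : A)⁻¹ := rfl
    rw [h7, map_mul, map_inv, ← h6, mul_inv_cancel]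
  have hperN : MulAction.period un χ = p ^ n := by
    by_contra hne
    have hlt : MulAction.period un χ < p ^ n := lt_of_le_of_ne (Nat.le_of_dvd hpos hdvd) hne
    exact hfree _ hper hlt (MulAction.pow_period_smul un χ)
  refine orbit_sum ρ A hab un χ m hmχ hm0 hper ?_
  show ρ ((un : Γ) ^ MulAction.period un χ) m = m
  rw [hperN]
  show ρ (s ^ (p ^ n)) m = m
  rw [hs, map_one, Module.End.one_apply]

end Cfsg.Agent.Helper9.Gross
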