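import Mathlib
import Cfsg.Agent.Helper5.S0518Defs
import Cfsg.Agent.Helper1.S0518LT1
import Cfsg.Agent.Helper6.S0518LT2

set_option autoImplicit false

/-! # S0518 board, piece LT3a: in the case `T < S`, every `E₈` of `N = N_G(Z(T))` lies in `T` -/

universe u

namespace Cfsg.Agent.S0518P

open Cfsg Subgroup

variable {G : Type u} [Group G]

/-- a subgroup covered by two subgroups lies in one of them -/
theorem LT3a_aux_cover {A X Y : Subgroup G} (h : ∀ a ∈ A, a ∈ X ∨ a ∈ Y) : A ≤ X ∨ A ≤ Y := by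
  by_contra hcon
  push Not at hcon
  obtain ⟨hX, hY⟩ := hcon
  obtain ⟨a₁, ha₁, ha₁X⟩ := SetLike.not_le_iff_exists.1 hX
  obtain ⟨a₂, ha₂, ha₂Y⟩ := SetLike.not_le_iff_exists.1 hY
  have h1 : a₁ ∈ Y := (h a₁ ha₁).resolve_left ha₁X
  have h2 : a₂ ∈ X := (h a₂ ha₂).resolve_right ha₂Y
  rcases h (a₁ * a₂) (A.mul_mem ha₁ ha₂) with h3 | h3
  · apply ha₁X
    have : a₁ = a₁ * a₂ * a₂⁻¹ := by group
    rw [this]
    exact X.mul_mem h3 (X.inv_mem h2)
  · apply ha₂Y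
    have : a₂ = a₁⁻¹ * (a₁ * a₂) := by group
    rw [this]
    exact Y.mul_mem (Y.inv_mem h1) h3

/-- a group of exponent 2 is abelian -/
theorem LT3a_aux_comm {B : Subgroup G} (hsq : ∀ b ∈ B, b * b = 1) {x y : G} (hx : x ∈ B) (hy : y ∈ B) :
    x * y = y * x := by
  have h1 := hsq (x * y) (B.mul_mem hx hy)
  have h2 := hsq x hx
  have h3 := hsq y hy
  calc x * y = x * (x * y * (x * y)) * y := by rw [h1, mul_one]
    _ = (x * x) * y * x * (y * y) := by group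
    _ = y * x := by rw [h2, h3, one_mul, mul_one]

/-- `T < S`: every `E₈` of `N` lies in `T` -/
theorem LT3a [Finite G] {C : Cfg G} {z : G} (d : TData C z) (S : Sylow 2 G) (hTS : C.T ≤ (S : Subgroup G))
    (hne : C.T ≠ (S : Subgroup G)) (B : Subgroup G) (hB : B ≤ C.N) (hcard : Nat.card ↥B = 8)
    (hsq : ∀ b ∈ B, b * b = 1) : B ≤ C.T := by
  obtain ⟨hNS, hNcard, hTN, hNT, -⟩ := LT2 d S hTS hne
  by_contra hBT
  obtain ⟨b₀, hb₀B, hb₀T⟩ := SetLike.not_le_iff_exists.1 hBT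
  -- `T` has index 2 in `N`
  have hidxN : (C.T.subgroupOf C.N).index = 2 := by
    have h1 : Nat.card (C.T.subgroupOf C.N) = 16 := by
      rw [Nat.card_congr (Subgroup.subgroupOfEquivOfLe hTN).toEquiv]
      exact d.base.b₁.card_T
    have h2 := (C.T.subgroupOf C.N).index_mul_card
    rw [h1, hNcard] at h2
    omega
  have hmul : ∀ x ∈ C.N, ∀ y ∈ C.N, (x * y ∈ C.T ↔ (x ∈ C.T ↔ y ∈ C.T)) := by
    intro x hx y hy
    have := Subgroup.mul_mem_iff_of_index_two hidxN (a := ⟨x, hx⟩) (b := ⟨y, hy⟩)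
    simpa [Subgroup.mem_subgroupOf] using this
  -- `B ∩ T` has index 2 in `B`
  have hidxB : (C.T.subgroupOf B).index = 2 := by
    rw [Subgroup.index_eq_two_iff]
    refine ⟨⟨b₀, hb₀B⟩, ?_⟩
    intro x
    have h1 := hmul x (hB x.2) b₀ (hB hb₀B)
    have h2 : ((x * ⟨b₀, hb₀B⟩ : ↥B) ∈ C.T.subgroupOf B) ↔ ((x : G) * b₀ ∈ C.T) := by
      rw [Subgroup.mem_subgroupOf]; rfl
    have h3 : (x ∈ C.T.subgroupOf B) ↔ ((x : G) ∈ C.T) := Subgroup.mem_subgroupOf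
    rw [h2, h3, h1]
    by_cases hx : (x : G) ∈ C.T
    · right
      exact ⟨hx, fun h => hb₀T (h.1 hx)⟩
    · left
      exact ⟨⟨fun h => absurd h hx, fun h => absurd h hb₀T⟩, hx⟩
  have hcardA : Nat.card ↥(C.T ⊓ B : Subgroup G) = 4 := by
    rw [← Subgroup.subgroupOf_map_subtype C.T B, Subgroup.card_map_of_injective B.subtype_injective]
    have h2 := (C.T.subgroupOf B).index_mul_card
    rw [hidxB, hcard] at h2
    omega
  -- `A = B ∩ T` lies in `Q₁` or in `Q₂`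
  have hcov : ∀ a ∈ (C.T ⊓ B : Subgroup G), a ∈ C.Q₁ ∨ a ∈ C.Q₂ := by
    intro a ha
    exact d.d1.invol a ha.1 (hsq a ha.2)
  -- `b₀` exchanges `Q₁` and `Q₂`
  obtain ⟨h12, h21, -, -, hc12, -, -⟩ := LT1 d S hTS b₀ (hNS (hB hb₀B)) (hNT (hB hb₀B)) hb₀T
  have hfix : ∀ a ∈ (C.T ⊓ B : Subgroup G), b₀ * a * b₀⁻¹ = a := by
    intro a ha
    rw [LT3a_aux_comm hsq hb₀B ha.2]
    group
  have hAZ : (C.T ⊓ B : Subgroup G) ≤ C.Q₁ ⊓ C.Q₂ := by
    rcases LT3a_aux_cover hcov with h | h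
    · intro a ha
      refine ⟨h ha, ?_⟩
      rw [← h12, ← hfix a ha]
      exact ⟨a, h ha, rfl⟩
    · intro a ha
      refine ⟨?_, h ha⟩
      rw [← h21, ← hfix a ha]
      exact ⟨a, h ha, rfl⟩
  have hAeq : (C.T ⊓ B : Subgroup G) = C.Q₁ ⊓ C.Q₂ := by
    apply Subgroup.eq_of_le_of_card_ge hAZ
    rw [hcardA, d.d1.card_inf_Q]
  have hc₁ : C.c₁ ∈ (C.T ⊓ B : Subgroup G) := by
    rw [hAeq]
    exact d.d1.c₁_mem
  have := hfix C.c₁ hc₁
  rw [hc12] at this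
  exact d.d0.c_ne this.symm

end Cfsg.Agent.S0518P
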