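import Mathlib
import Cfsg.Agent.Helper5.S0518Defs
import Cfsg.Agent.Helper14.PCore

set_option autoImplicit false

/-! # S0518 board, piece MAXLOC: generic lemmas on maximal 2-locals, `oddGen`, Sylow 2-subgroups -/

universe u

namespace Cfsg.Agent.S0518P

open Cfsg Subgroup

variable {G : Type u} [Group G]

theorem MAXLOC_maxN {P : Subgroup G} (h : IsMaximalTwoLocal P) : MaxN P := by
  intro X hX hne hle
  exact h.2 (normalizer (X : Set G)) ⟨X, hX, hne, rfl⟩ hle

theorem MAXLOC_exists_ge [Finite G] {L : Subgroup G} (h : IsTwoLocal L) :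
    ∃ P : Subgroup G, IsMaximalTwoLocal P ∧ L ≤ P := by
  obtain ⟨P, ⟨hP1, hP2⟩, hmax⟩ := Set.Finite.exists_maximal (s := {N : Subgroup G | IsTwoLocal N ∧ L ≤ N})
    (Set.toFinite _) ⟨L, h, le_rfl⟩
  refine ⟨P, ⟨hP1, ?_⟩, hP2⟩
  intro N hN hPN
  exact le_antisymm (hmax ⟨hN, hP2.trans hPN⟩ hPN) hPN

theorem MAXLOC_core [Finite G] {L : Subgroup G} (h : IsTwoLocal L) :
    IsPGroup 2 ↥(pCoreOf 2 L) ∧ pCoreOf 2 L ≠ ⊥ ∧ pCoreOf 2 L ≤ L ∧
      L ≤ normalizer (pCoreOf 2 L : Set G) := by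
  refine ⟨Cfsg.Agent.Helper14.pCoreOf_isPGroup 2 L, ?_, Cfsg.Agent.Helper14.pCoreOf_le 2 L,
    Cfsg.Agent.Helper14.le_normalizer_pCoreOf 2 L⟩
  obtain ⟨T, hT, hne, rfl⟩ := h
  have hle : T ≤ pCoreOf 2 (normalizer (T : Set G)) :=
    Cfsg.Agent.Helper14.le_pCoreOf 2 Subgroup.le_normalizer le_rfl hT
  intro hbot
  apply hne
  rw [eq_bot_iff]
  exact hbot ▸ hle

theorem MAXLOC_oddGen_le (P : Subgroup G) : oddGen P ≤ O2 G := by
  apply Subgroup.closure_mono
  intro g hg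
  exact hg.2

theorem MAXLOC_oddGen_le_self (P : Subgroup G) : oddGen P ≤ P := by
  rw [oddGen, Subgroup.closure_le]
  intro g hg
  exact hg.1

theorem MAXLOC_aux_orderOf_conj (g x : G) : orderOf (g * x * g⁻¹) = orderOf x := by
  have := orderOf_injective (MulAut.conj g).toMonoidHom (MulAut.conj g).injective x
  simpa [MulAut.conj_apply] using this

theorem MAXLOC_aux_conj_mem (P : Subgroup G) {g : G} (hg : g ∈ P) {x : G} (hx : x ∈ oddGen P) :
    g * x * g⁻¹ ∈ oddGen P := by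
  have key : oddGen P ≤ (oddGen P).comap (MulAut.conj g).toMonoidHom := by
    rw [oddGen, Subgroup.closure_le]
    intro y hy
    show (MulAut.conj g) y ∈ closure {g : G | g ∈ P ∧ Odd (orderOf g)}
    apply Subgroup.subset_closure
    refine ⟨?_, ?_⟩
    · rw [MulAut.conj_apply]
      exact P.mul_mem (P.mul_mem hg hy.1) (P.inv_mem hg)
    · rw [MulAut.conj_apply, MAXLOC_aux_orderOf_conj]
      exact hy.2
  have := key hx
  rw [Subgroup.mem_comap] at this
  simpa [MulAut.conj_apply] using this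

theorem MAXLOC_oddGen_normal (P : Subgroup G) : P ≤ normalizer (oddGen P : Set G) := by
  intro g hg
  rw [Subgroup.mem_normalizer_iff]
  intro x
  constructor
  · intro hx
    exact MAXLOC_aux_conj_mem P hg hx
  · intro hx
    have := MAXLOC_aux_conj_mem P (P.inv_mem hg) hx
    have e : g⁻¹ * (g * x * g⁻¹) * g⁻¹⁻¹ = x := by group
    rw [e] at this
    exact this

theorem MAXLOC_oddGen_cj (g : G) (P : Subgroup G) : oddGen (cj g P) = cj g (oddGen P) := by
  show closure {x : G | x ∈ cj g P ∧ Odd (orderOf x)} =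
    (closure {x : G | x ∈ P ∧ Odd (orderOf x)}).map (MulAut.conj g).toMonoidHom
  rw [MonoidHom.map_closure]
  congr 1
  ext y
  constructor
  · rintro ⟨⟨x, hx, rfl⟩, hodd⟩
    refine ⟨x, ⟨hx, ?_⟩, rfl⟩
    have : orderOf ((MulAut.conj g).toMonoidHom x) = orderOf x := by
      show orderOf ((MulAut.conj g) x) = orderOf x
      rw [MulAut.conj_apply, MAXLOC_aux_orderOf_conj]
    rw [this] at hodd
    exact hodd
  · rintro ⟨x, ⟨hx, hodd⟩, rfl⟩
    refine ⟨⟨x, hx, rfl⟩, ?_⟩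
    have : orderOf ((MulAut.conj g).toMonoidHom x) = orderOf x := by
      show orderOf ((MulAut.conj g) x) = orderOf x
      rw [MulAut.conj_apply, MAXLOC_aux_orderOf_conj]
    rw [this]
    exact hodd

/-- a 2-subgroup of `G` containing the Sylow 2-subgroup `T` of `P` meets `P` in `T` -/
theorem MAXLOC_sylow_inf [Finite G] {T P : Subgroup G} (hT : IsSylowTwoIn T P) (S : Subgroup G)
    (hS : IsPGroup 2 ↥S) (hTS : T ≤ S) : S ⊓ P = T := by
  obtain ⟨hTP, hT2, hodd⟩ := hT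
  apply le_antisymm _ (le_inf hTS hTP)
  have h1 : T.relIndex (S ⊓ P) * (S ⊓ P).relIndex P = T.relIndex P :=
    Subgroup.relIndex_mul_relIndex T (S ⊓ P) P (le_inf hTS hTP) inf_le_right
  have hodd1 : Odd (T.relIndex (S ⊓ P)) := by
    rw [← h1] at hodd
    exact (Nat.odd_mul.1 hodd).1
  have hSP : IsPGroup 2 ↥(S ⊓ P : Subgroup G) := hS.to_le inf_le_left
  obtain ⟨k, hk⟩ := (IsPGroup.iff_card).1 hSP
  have hdvd : T.relIndex (S ⊓ P) ∣ 2 ^ k := hk ▸ Subgroup.relIndex_dvd_card T (S ⊓ P)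
  obtain ⟨j, -, hj⟩ := (Nat.dvd_prime_pow Nat.prime_two).1 hdvd
  have hj0 : j = 0 := by
    by_contra hne
    rw [hj] at hodd1
    exact (Nat.not_even_iff_odd.2 hodd1) (Nat.even_pow.2 ⟨even_two, hne⟩)
  rw [hj0, pow_zero] at hj
  exact Subgroup.relIndex_eq_one.1 hj

/-- a normal 2-subgroup of `P` lies in the Sylow 2-subgroup `T` of `P` -/
theorem MAXLOC_normal_le [Finite G] {T P : Subgroup G} (hT : IsSylowTwoIn T P) (D : Subgroup G)
    (hD : IsPGroup 2 ↥D) (hDP : D ≤ P) (hn : P ≤ normalizer (D : Set G)) : D ≤ T := by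
  have hTD : IsPGroup 2 ↥(T ⊔ D : Subgroup G) :=
    IsPGroup.to_sup_of_normal_right' hT.2.1 hD (hT.1.trans hn)
  have h := MAXLOC_sylow_inf hT (T ⊔ D) hTD le_sup_left
  rw [← h]
  exact le_inf le_sup_right hDP

/-- proper subgroups of 2-groups have bigger normalizers -/
theorem MAXLOC_norm_grow [Finite G] {A W : Subgroup G} (hW : IsPGroup 2 ↥W) (hAW : A ≤ W)
    (h : ∀ w ∈ W, w ∈ normalizer (A : Set G) → w ∈ A) : A = W := by
  have : Fact (Nat.Prime 2) := ⟨Nat.prime_two⟩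
  have hnil : Group.IsNilpotent ↥W := hW.isNilpotent
  have hNC := Group.normalizerCondition_of_isNilpotent (G := ↥W)
  by_contra hne
  have hlt : A.subgroupOf W < ⊤ := by
    rw [lt_top_iff_ne_top]
    intro htop
    apply hne
    apply le_antisymm hAW
    intro w hw
    have : (⟨w, hw⟩ : ↥W) ∈ A.subgroupOf W := by rw [htop]; exact Subgroup.mem_top _
    exact this
  have hgrow := hNC (A.subgroupOf W) hlt
  obtain ⟨w, hwN, hwA⟩ := Set.exists_of_ssubset hgrow
  apply hwA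
  show (w : G) ∈ A
  apply h w w.2
  have hwN' : w ∈ normalizer ((A.subgroupOf W : Subgroup ↥W) : Set ↥W) := hwN
  rw [Subgroup.mem_normalizer_iff] at hwN' ⊢
  intro x
  constructor
  · intro hx
    have := (hwN' ⟨x, hAW hx⟩).1 hx
    exact this
  · intro hx
    have hxW : x ∈ W := by
      have h1 : (w : G) * x * (w : G)⁻¹ ∈ W := hAW hx
      have h2 : x = (w : G)⁻¹ * ((w : G) * x * (w : G)⁻¹) * (w : G) := by group
      rw [h2]
      exact W.mul_mem (W.mul_mem (W.inv_mem w.2) h1) w.2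
    exact (hwN' ⟨x, hxW⟩).2 hx

end Cfsg.Agent.S0518P
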