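import Mathlib
import Cfsg.Agent.Helper5.S0518Defs
import Cfsg.Agent.Helper9.S0518MAXLOC
import Cfsg.Agent.Helper9.S0518LT3a

set_option autoImplicit false

/-! # S0518 board, piece LT3b: in the case `T < S`, `N_G(N) = N`, hence `S = N` and `N_G(S) = S` -/

universe u

namespace Cfsg.Agent.S0518P

open Cfsg Subgroup

variable {G : Type u} [Group G]

theorem LT3b_aux_card_cj [Finite G] (g : G) (X : Subgroup G) : Nat.card ↥(cj g X) = Nat.card ↥X :=
  Subgroup.card_map_of_injective (MulAut.conj g).injective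

theorem LT3b_aux_cj_injective (g : G) {X Y : Subgroup G} (h : cj g X = cj g Y) : X = Y :=
  Subgroup.map_injective (MulAut.conj g).injective h

/-- `g Z g⁻¹ = Z` puts `g` in the normalizer -/
theorem LT3b_aux_mem_normalizer (g : G) {Z : Subgroup G} (h : cj g Z = Z) : g ∈ normalizer (Z : Set G) := by
  rw [Subgroup.mem_normalizer_iff]
  intro x
  constructor
  · intro hx
    rw [← h]
    exact ⟨x, hx, rfl⟩
  · intro hx
    rw [← h] at hx
    obtain ⟨y, hy, hyx⟩ := hx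
    have : y = x := by
      have h1 : g * y * g⁻¹ = g * x * g⁻¹ := hyx
      have h2 : y = g⁻¹ * (g * y * g⁻¹) * g := by group
      rw [h2, h1]
      group
    rw [← this]
    exact hy

/-- `T < S`: `N_G(N) = N`, hence `S = N` and `N_G(S) = S` -/
theorem LT3b [Finite G] {C : Cfg G} {z : G} (d : TData C z) (S : Sylow 2 G) (hTS : C.T ≤ (S : Subgroup G))
    (hne : C.T ≠ (S : Subgroup G)) :
    (S : Subgroup G) = C.N ∧ normalizer ((S : Subgroup G) : Set G) = (S : Subgroup G) := by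
  obtain ⟨hNS, -, hTN, -, -⟩ := LT2 d S hTS hne
  have hQ₁N : C.Q₁ ≤ C.N := d.base.b₁.Q_le.trans hTN
  have hQ₂N : C.Q₂ ≤ C.N := d.base.b₂.Q_le.trans hTN
  -- conjugates of `Q₁`, `Q₂` inside `N` are `Q₁` or `Q₂`
  have hE8 : ∀ (g : G) (Q : Subgroup G), Nat.card ↥Q = 8 → (∀ q ∈ Q, q * q = 1) → cj g Q ≤ C.N →
      cj g Q = C.Q₁ ∨ cj g Q = C.Q₂ := by
    intro g Q hcard hsq hle
    have hsq' : ∀ b ∈ cj g Q, b * b = 1 := by
      rintro _ ⟨q, hq, rfl⟩
      show g * q * g⁻¹ * (g * q * g⁻¹) = 1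
      have : g * q * g⁻¹ * (g * q * g⁻¹) = g * (q * q) * g⁻¹ := by group
      rw [this, hsq q hq]
      group
    have hcard' : Nat.card ↥(cj g Q) = 8 := (LT3b_aux_card_cj g Q).trans hcard
    have hT := LT3a d S hTS hne (cj g Q) hle hcard' hsq'
    exact d.d1.e8 (cj g Q) hT hcard' hsq'
  -- `N_G(N) ≤ N`
  have hkey : ∀ g : G, g ∈ normalizer (C.N : Set G) → g ∈ C.N := by
    intro g hg
    have hcjN : ∀ X : Subgroup G, X ≤ C.N → cj g X ≤ C.N := by
      rintro X hX _ ⟨x, hx, rfl⟩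
      exact (Subgroup.mem_normalizer_iff.1 hg x).1 (hX hx)
    have h1 := hE8 g C.Q₁ d.base.b₁.card_Q d.base.b₁.Q_sq (hcjN _ hQ₁N)
    have h2 := hE8 g C.Q₂ d.base.b₂.card_Q d.base.b₂.Q_sq (hcjN _ hQ₂N)
    have hneq : cj g C.Q₁ ≠ cj g C.Q₂ := fun h => d.d0.Q_ne (LT3b_aux_cj_injective g h)
    have hinf : cj g (C.Q₁ ⊓ C.Q₂) = cj g C.Q₁ ⊓ cj g C.Q₂ :=
      Subgroup.map_inf _ _ _ (MulAut.conj g).injective
    apply LT3b_aux_mem_normalizer g
    rw [hinf]
    rcases h1 with h1 | h1 <;> rcases h2 with h2 | h2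
    · exact absurd (h1.trans h2.symm) hneq
    · rw [h1, h2]
    · rw [h1, h2, inf_comm]
    · exact absurd (h1.trans h2.symm) hneq
  have hSN : C.N = (S : Subgroup G) :=
    MAXLOC_norm_grow S.isPGroup' hNS (fun w _ hw => hkey w hw)
  refine ⟨hSN.symm, ?_⟩
  rw [← hSN]
  exact le_antisymm (fun g hg => hkey g hg) Subgroup.le_normalizer

end Cfsg.Agent.S0518P
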