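import Cfsg.Agent.Helper9.S0745COUNTAcore
import Cfsg.Agent.Helper24.S0745PURE
import Cfsg.Agent.Helper24.S0745FLAGS
import Cfsg.Agent.Helper14.S0745INV

/-!
# S0745 board row COUNTA (helper9): official wrapper
-/

set_option autoImplicit false

namespace Cfsg.Agent.S0745P

open Equiv

variable {α : Type*} [Fintype α] [DecidableEq α]

/-- COUNTA -/
theorem countA {G : Subgroup (Perm α)} {t c r : ℕ} (h : Hyp G t c r) (hc : Odd c) (ht : 2 ≤ t)
    (N : ℕ)
    (hN : ∀ (Γ : Finset α) (a b : α), Γ.card = t → a ∈ Γ → b ∈ Γ → a ≠ b →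
      (swapLifts G Γ a b).card = N) :
    (invF G (t - 2 + r % 2)).card *
        ((Fintype.card α - (t - 2 + r % 2)) * (t - 2 + r % 2).choose (t - 2))
      = (Fintype.card α).choose t * (t * (t - 1)) * N :=
  countA_aux_core (r := r) N (fun u hu => pure_countA u hu t ht) (card_flags2 t)
    (fun Γ hΓ a b ha hb hab _ hu => nfix_swapLift h hc Γ hΓ a b ha hb hab hu) hN

end Cfsg.Agent.S0745P
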