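import Cfsg.Agent.Helper9.S0745COUNTBcore
import Cfsg.Agent.Helper24.S0745PURE
import Cfsg.Agent.Helper24.S0745FLAGS

/-!
# S0745 board row COUNTB (helper9): official wrapper
-/

set_option autoImplicit false

namespace Cfsg.Agent.S0745P

open Equiv

variable {α : Type*} [Fintype α] [DecidableEq α]

/-- COUNTB -/
theorem countB {G : Subgroup (Perm α)} {t c r : ℕ} (h : Hyp G t c r) (_hc : Odd c) (ht : 4 ≤ t) :
    (invF G (t - 2 + r % 2)).card *
        ((Fintype.card α - (t - 2 + r % 2)) * (Fintype.card α - (t - 2 + r % 2) - 2) *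
          (t - 2 + r % 2).choose (t - 4))
      ≤ (Fintype.card α).choose t * (t * (t - 1) * (t - 2) * (t - 3)) * c :=
  countB_aux_core h (fun u hu => pure_countB u hu t ht) (card_flags4 t)

end Cfsg.Agent.S0745P
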