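import Mathlib
import Cfsg.Agent.Helper17.Basic

set_option autoImplicit false
set_option linter.unusedSectionVars false
set_option linter.unusedVariables false

/-! # Quadratic offenders on elementary abelian 2-groups: reduction to a transvection -/

namespace Cfsg.Agent.Helper9.Off2

open Subgroup

variable {V : Type*} [CommGroup V]

/-- fixed points of a group of automorphisms -/
def fixSub (B : Subgroup (MulAut V)) : Subgroup V where
  carrier := {v | ∀ β ∈ B, β v = v}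
  one_mem' := fun β _ => map_one β
  mul_mem' := fun {a b} ha hb β hβ => by rw [map_mul, ha β hβ, hb β hβ]
  inv_mem' := fun {a} ha β hβ => by rw [map_inv, ha β hβ]

theorem mem_fixSub {B : Subgroup (MulAut V)} {v : V} : v ∈ fixSub B ↔ ∀ β ∈ B, β v = v := Iff.rfl

theorem fixSub_anti {B B' : Subgroup (MulAut V)} (h : B ≤ B') : fixSub B' ≤ fixSub B :=
  fun _ hv β hβ => hv β (h hβ)

theorem mem_fixSub_zpowers {β : MulAut V} {v : V} : v ∈ fixSub (zpowers β) ↔ β v = v := by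
  constructor
  · intro h
    exact h β (mem_zpowers β)
  · intro h γ hγ
    have h1 : β ∈ MulAction.stabilizer (MulAut V) v := by
      rw [MulAction.mem_stabilizer_iff, MulAut.smul_def]; exact h
    have h2 : zpowers β ≤ MulAction.stabilizer (MulAut V) v := by
      rw [zpowers_le]; exact h1
    have h3 := h2 hγ
    rw [MulAction.mem_stabilizer_iff, MulAut.smul_def] at h3
    exact h3

theorem pow_apply_of_apply {μ : MulAut V} {v : V} (h : μ v = v) (n : ℕ) : (μ ^ n) v = v := by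
  have h1 : μ ^ n ∈ zpowers μ := pow_mem (mem_zpowers μ) n
  exact (mem_fixSub_zpowers.2 h) _ h1

/-- an automorphism of odd order fixing what its square fixes -/
theorem apply_of_sq_apply {μ : MulAut V} (hodd : Odd (orderOf μ)) {v : V} (h : (μ * μ) v = v) :
    μ v = v := by
  obtain ⟨j, hj⟩ := hodd
  have h1 : μ = (μ * μ) ^ (j + 1) := by
    rw [← pow_two, ← pow_mul]
    have : 2 * (j + 1) = orderOf μ + 1 := by omega
    rw [this, pow_succ, pow_orderOf_eq_one, one_mul]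
  rw [h1]
  exact pow_apply_of_apply h _

theorem quad_sq {β : MulAut V} (h : ∀ v, β (β v * v) = β v * v) : β * β = 1 := by
  ext v
  have h1 := h v
  rw [map_mul] at h1
  have h2 : β (β v) * β v = v * β v := by rw [h1, mul_comm]
  exact mul_right_cancel h2

theorem quad_comm (hV : ∀ v : V, v * v = 1) {β γ : MulAut V}
    (h1 : ∀ v, γ (β v * v) = β v * v) (h2 : ∀ v, β (γ v * v) = γ v * v) : β * γ = γ * β := by
  ext v
  have inv_eq : ∀ w : V, w⁻¹ = w := fun w => inv_eq_of_mul_eq_one_left (hV w)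
  have e1 : β (γ v) = γ v * v * β v := by
    have := h2 v
    rw [map_mul] at this
    calc β (γ v) = β (γ v) * β v * (β v)⁻¹ := by rw [mul_inv_cancel_right]
      _ = γ v * v * β v := by rw [this, inv_eq]
  have e2 : γ (β v) = β v * v * γ v := by
    have := h1 v
    rw [map_mul] at this
    calc γ (β v) = γ (β v) * γ v * (γ v)⁻¹ := by rw [mul_inv_cancel_right]
      _ = β v * v * γ v := by rw [this, inv_eq]
  show β (γ v) = γ (β v)
  rw [e1, e2]
  rw [mul_comm (γ v) v, mul_comm (β v) v, mul_assoc, mul_assoc, mul_comm (γ v)]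

/-- a "unipotent" automorphism of odd order of an elementary abelian 2-group is trivial -/
theorem eq_one_of_unipotent (hV : ∀ v : V, v * v = 1) {μ : MulAut V} (hodd : Odd (orderOf μ))
    (H : Subgroup V) (h1 : ∀ v, μ v * v ∈ H) (h2 : ∀ h ∈ H, μ h = h) : μ = 1 := by
  ext v
  apply apply_of_sq_apply hodd
  show μ (μ v) = v
  have h3 : μ v = (μ v * v) * v := by rw [mul_assoc, hV, mul_one]
  have h4 : μ (μ v) = μ (μ v * v) * μ v := by rw [← map_mul, mul_assoc, hV, mul_one]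
  rw [h4, h2 _ (h1 v), mul_comm (μ v) v, mul_assoc, hV, mul_one]

section LemmaB

variable [Finite V]

theorem index_two_of_card_le {H : Subgroup V} (hne : H ≠ ⊤) (h : Nat.card V ≤ 2 * Nat.card H) :
    H.index = 2 := by
  have h1 := H.card_mul_index
  have h2 : H.index ≠ 1 := fun h => hne (index_eq_one.mp h)
  have h3 : H.index ≠ 0 := index_ne_zero_of_finite
  have h4 : 0 < Nat.card H := Nat.card_pos
  have h5 : H.index ≤ 2 := by
    by_contra hc
    push Not at hc
    nlinarith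
  omega

theorem fixSub_zpowers_ne_top {β : MulAut V} (hβ : β ≠ 1) : fixSub (zpowers β) ≠ ⊤ := by
  intro h
  apply hβ
  ext v
  have : v ∈ fixSub (zpowers β) := by rw [h]; exact mem_top v
  exact mem_fixSub_zpowers.1 this

/-- **Lemma B**: an involution `β` with fixed points of index 2 inverting a nontrivial
automorphism `μ` of odd order: the fixed points of `μ` have index 4 and are fixed by `β`. -/
theorem card_fix_of_transvection (hV : ∀ v : V, v * v = 1) {β μ : MulAut V}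
    (hβ2 : β * β = 1) (hβ1 : β ≠ 1) (hβ : Nat.card V ≤ 2 * Nat.card (fixSub (zpowers β)))
    (hμ1 : μ ≠ 1) (hodd : Odd (orderOf μ)) (hinv : β * μ * β⁻¹ = μ⁻¹) :
    Nat.card V = 4 * Nat.card (fixSub (zpowers μ)) ∧ fixSub (zpowers μ) ≤ fixSub (zpowers β) := by
  have hβinv : β⁻¹ = β := inv_eq_of_mul_eq_one_left hβ2
  set H1 := fixSub (zpowers β) with hH1
  have hidx1 : H1.index = 2 := index_two_of_card_le (fixSub_zpowers_ne_top hβ1) hβ
  set H2 := H1.map μ.toMonoidHom with hH2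
  have hcard2 : Nat.card H2 = Nat.card H1 :=
    Subgroup.card_map_of_injective μ.injective
  have hc1 : Nat.card H1 * 2 = Nat.card V := by rw [← hidx1]; exact H1.card_mul_index
  have hidx2 : H2.index = 2 := by
    have h1 := H2.card_mul_index
    rw [hcard2, ← hc1] at h1
    have h4 : 0 < Nat.card H1 := Nat.card_pos
    exact Nat.eq_of_mul_eq_mul_left h4 h1
  -- the intersection is fixed by `μ`
  have hF : H1 ⊓ H2 ≤ fixSub (zpowers μ) := by
    rintro v ⟨hv1, h, hh, rfl⟩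
    rw [mem_fixSub_zpowers]
    have hv1' : β (μ h) = μ h := mem_fixSub_zpowers.1 hv1
    have hh' : β h = h := mem_fixSub_zpowers.1 hh
    have e : μ⁻¹ * μ⁻¹ = β * (μ * β * μ⁻¹) := by
      have : β * μ * β = μ⁻¹ := by rw [← hinv, hβinv]
      calc μ⁻¹ * μ⁻¹ = (β * μ * β) * μ⁻¹ := by rw [this]
        _ = β * (μ * β * μ⁻¹) := by group
    have h1 : (μ⁻¹ * μ⁻¹) (μ h) = μ h := by
      rw [e]
      show β (μ (β (μ⁻¹ (μ h)))) = μ h
      have : μ⁻¹ (μ h) = h := by
        show μ.symm (μ h) = h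
        exact μ.symm_apply_apply h
      rw [this, hh', hv1']
    have h2 : (μ * μ) (μ h) = μ h := by
      have e2 : (μ * μ) * (μ⁻¹ * μ⁻¹) = 1 := by group
      have h3 : (μ * μ) ((μ⁻¹ * μ⁻¹) (μ h)) = μ h := by
        rw [← MulAut.mul_apply, e2]; rfl
      rwa [h1] at h3
    exact apply_of_sq_apply hodd h2
  -- `H1 ≠ H2`
  have hne : H1 ≠ H2 := by
    intro he
    apply hμ1
    apply eq_one_of_unipotent hV hodd H1
    · intro v
      rw [mul_mem_iff_of_index_two hidx1]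
      constructor
      · intro hμv
        rw [he] at hμv
        obtain ⟨h, hh, hhv⟩ := hμv
        have : h = v := μ.injective hhv
        rw [← this]; exact hh
      · intro hv
        rw [he]
        exact ⟨v, hv, rfl⟩
    · intro h hh
      have h1 : h ∈ H1 ⊓ H2 := ⟨hh, he ▸ hh⟩
      exact mem_fixSub_zpowers.1 (hF h1)
  -- cardinalities
  have hsup : H1 ⊔ H2 = ⊤ := by
    by_contra hc
    have hlt : H1 < H1 ⊔ H2 := by
      refine lt_of_le_of_ne le_sup_left ?_
      intro he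
      have h21 : H2 ≤ H1 := by rw [he]; exact le_sup_right
      have := Subgroup.eq_of_le_of_card_ge h21 (by rw [hcard2])
      exact hne this.symm
    have h1 := Subgroup.card_dvd_of_le hlt.le
    have h2 : Nat.card (H1 ⊔ H2 : Subgroup V) ∣ Nat.card V := Subgroup.card_subgroup_dvd_card _
    have h3 : Nat.card (H1 ⊔ H2 : Subgroup V) ≠ Nat.card V := fun h =>
      hc (Subgroup.eq_top_of_card_eq _ h)
    have h4 : Nat.card H1 < Nat.card (H1 ⊔ H2 : Subgroup V) := by
      refine lt_of_le_of_ne (Subgroup.card_le_of_le hlt.le) ?_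
      intro h
      exact hlt.ne (Subgroup.eq_of_le_of_card_ge hlt.le h.ge)
    obtain ⟨a, ha⟩ := h1
    obtain ⟨b, hb⟩ := h2
    have h5 : 0 < Nat.card H1 := Nat.card_pos
    rw [ha] at hb h3 h4
    rw [← hc1] at hb h3
    have hab : 2 = a * b := by
      have : Nat.card H1 * 2 = Nat.card H1 * (a * b) := by rw [hb]; ring
      exact Nat.eq_of_mul_eq_mul_left h5 this
    have ha1 : a ≠ 1 := by
      rintro rfl
      rw [mul_one] at h4
      exact lt_irrefl _ h4
    have hb1 : b ≠ 1 := by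
      rintro rfl
      apply h3
      rw [mul_one] at hab
      rw [← hab]
    have ha0 : a ≠ 0 := by rintro rfl; simp at hab
    have hb0 : b ≠ 0 := by rintro rfl; simp at hab
    have : 2 * 2 ≤ a * b := Nat.mul_le_mul (by omega) (by omega)
    omega
  have hprod := Cfsg.Agent.Helper17.card_sup_mul_card_inf_of_normal H1 H2
  rw [hsup, Subgroup.card_top, hcard2] at hprod
  have hF4 : Nat.card V = 4 * Nat.card (H1 ⊓ H2 : Subgroup V) := by
    have h5 : 0 < Nat.card H1 := Nat.card_pos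
    have : Nat.card H1 * (2 * Nat.card (H1 ⊓ H2 : Subgroup V)) = Nat.card H1 * Nat.card H1 := by
      rw [← hprod, ← hc1]; ring
    have h6 := Nat.eq_of_mul_eq_mul_left h5 this
    rw [← hc1, ← h6]; ring
  -- `Fix μ = H1 ⊓ H2`
  have hFix : fixSub (zpowers μ) = H1 ⊓ H2 := by
    symm
    apply Subgroup.eq_of_le_of_card_ge hF
    by_contra hc
    push Not at hc
    have h1 := Subgroup.card_dvd_of_le hF
    have h2 : Nat.card (fixSub (zpowers μ)) ∣ Nat.card V := Subgroup.card_subgroup_dvd_card _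
    have hneT := fixSub_zpowers_ne_top hμ1
    have h3 : Nat.card (fixSub (zpowers μ)) ≠ Nat.card V := fun h =>
      hneT (Subgroup.eq_top_of_card_eq _ h)
    obtain ⟨a, ha⟩ := h1
    obtain ⟨b, hb⟩ := h2
    have h5 : 0 < Nat.card (H1 ⊓ H2 : Subgroup V) := Nat.card_pos
    rw [ha] at hb h3 hc
    rw [hF4] at hb h3
    have hab : 4 = a * b := by
      have : Nat.card (H1 ⊓ H2 : Subgroup V) * 4 = Nat.card (H1 ⊓ H2 : Subgroup V) * (a * b) := by
        rw [mul_comm, hb]; ring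
      exact Nat.eq_of_mul_eq_mul_left h5 this
    have ha1 : a ≠ 1 := by
      rintro rfl
      rw [mul_one] at hc
      exact lt_irrefl _ hc
    have hb1 : b ≠ 1 := by
      rintro rfl
      apply h3
      rw [mul_one] at hab
      rw [← hab, mul_comm]
    have ha0 : a ≠ 0 := by rintro rfl; simp at hab
    have hb0 : b ≠ 0 := by rintro rfl; simp at hab
    have ha2 : a = 2 := by
      have h22 : 2 ≤ a := by omega
      have h23 : 2 ≤ b := by omega
      by_contra h
      have : 3 * 2 ≤ a * b := Nat.mul_le_mul (by omega) h23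
      omega
    -- `Fix μ` has index 2, so `μ` is unipotent
    have hidxμ : (fixSub (zpowers μ)).index = 2 := by
      apply index_two_of_card_le hneT
      rw [ha, hF4, ha2]
      omega
    apply hμ1
    apply eq_one_of_unipotent hV hodd (fixSub (zpowers μ))
    · intro v
      rw [mul_mem_iff_of_index_two hidxμ]
      constructor
      · intro hμv
        rw [mem_fixSub_zpowers] at hμv ⊢
        exact μ.injective hμv
      · intro hv
        rw [mem_fixSub_zpowers] at hv ⊢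
        rw [hv, hv]
    · intro h hh
      exact mem_fixSub_zpowers.1 hh
  rw [hFix]
  exact ⟨hF4, inf_le_left⟩

/-- an automorphism inverting `μ` (nontrivial of odd order) acts nontrivially on `V / Fix μ` -/
theorem exists_not_mem_fix_of_inverts (hV : ∀ v : V, v * v = 1) {δ μ : MulAut V}
    (hμ1 : μ ≠ 1) (hodd : Odd (orderOf μ)) (hinv : δ * μ * δ⁻¹ = μ⁻¹) :
    ∃ v : V, δ v * v ∉ fixSub (zpowers μ) := by
  by_contra hc
  push Not at hc
  apply hμ1
  have inv_eq : ∀ w : V, w⁻¹ = w := fun w => inv_eq_of_mul_eq_one_left (hV w)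
  have hodd2 : Odd (orderOf (μ * μ)) := by
    rw [← pow_two]
    have h1 : orderOf (μ ^ 2) ∣ orderOf μ := orderOf_pow_dvd 2
    exact Odd.of_dvd_nat hodd h1
  have hfix2 : ∀ v, (μ * μ) v = v → μ v = v := fun v h => apply_of_sq_apply hodd h
  have key : μ * μ = 1 := by
    apply eq_one_of_unipotent hV hodd2 (fixSub (zpowers μ))
    · intro v
      -- `δ (μ v) = μ⁻¹ (δ v)`
      have e1 : δ * μ = μ⁻¹ * δ := by rw [← hinv]; group
      have h1 : δ (μ v) = μ⁻¹ (δ v) := by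
        rw [← MulAut.mul_apply, e1, MulAut.mul_apply]
      have hf1 := hc v
      have hf2 := hc (μ v)
      rw [h1] at hf2
      -- `μ⁻¹ (δ v * v) = δ v * v`
      have h2 : μ⁻¹ (δ v * v) = δ v * v := by
        have := mem_fixSub_zpowers.1 hf1
        show μ.symm (δ v * v) = δ v * v
        rw [MulEquiv.symm_apply_eq, this]
      rw [map_mul] at h2
      -- so `μ⁻¹ v * μ v ∈ Fix`
      have h3 : μ⁻¹ v * μ v ∈ fixSub (zpowers μ) := by
        have h4 := mul_mem hf2 hf1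
        have e : μ⁻¹ (δ v) * μ v * (δ v * v) = μ⁻¹ v * μ v := by
          have h5 : μ⁻¹ (δ v) = δ v * v * (μ⁻¹ v)⁻¹ := by
            rw [← h2, mul_inv_cancel_right]
          rw [h5, inv_eq]
          calc δ v * v * μ⁻¹ v * μ v * (δ v * v)
              = (δ v * δ v) * (v * v) * (μ⁻¹ v * μ v) := by
                simp only [mul_comm, mul_assoc, mul_left_comm]
            _ = μ⁻¹ v * μ v := by rw [hV, hV, one_mul, one_mul]
        rwa [e] at h4
      have h6 : μ (μ⁻¹ v * μ v) = μ⁻¹ v * μ v := mem_fixSub_zpowers.1 h3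
      have h7 : μ (μ⁻¹ v) = v := by
        show μ (μ.symm v) = v
        exact μ.apply_symm_apply v
      rw [map_mul, h7] at h6
      -- `v * μ (μ v) = μ⁻¹ v * μ v`; want `(μ*μ) v * v ∈ Fix`
      have h8 : (μ * μ) v * v = μ⁻¹ v * μ v := by
        rw [MulAut.mul_apply, mul_comm]; exact h6
      rw [h8]; exact h3
    · intro h hh
      rw [MulAut.mul_apply, mem_fixSub_zpowers.1 hh, mem_fixSub_zpowers.1 hh]
  ext v
  exact hfix2 v (by rw [key]; rfl)

end LemmaB

section LemmaA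

variable [Finite V]

/-- hypotheses on a quadratic offender `B` acting faithfully on the abelian group `Λ` -/
structure OffHyp (Λ B : Subgroup (MulAut V)) : Prop where
  norm : ∀ β ∈ B, ∀ x ∈ Λ, β * x * β⁻¹ ∈ Λ
  faith : ∀ β ∈ B, (∀ x ∈ Λ, β * x = x * β) → β = 1
  quad : ∀ β ∈ B, ∀ γ ∈ B, ∀ v : V, γ (β v * v) = β v * v
  ne_bot : B ≠ ⊥
  off : Nat.card V ≤ Nat.card B * Nat.card (fixSub B)

theorem comm_of_sq_comm {G : Type*} [Group G] {γ x : G} (hodd : Odd (orderOf x))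
    (h : γ * (x * x) = (x * x) * γ) : γ * x = x * γ := by
  obtain ⟨j, hj⟩ := hodd
  have h1 : x = (x * x) ^ (j + 1) := by
    rw [← pow_two, ← pow_mul]
    have : 2 * (j + 1) = orderOf x + 1 := by omega
    rw [this, pow_succ, pow_orderOf_eq_one, one_mul]
  have h2 : Commute γ (x * x) := h
  have h3 : Commute γ ((x * x) ^ (j + 1)) := h2.pow_right _
  rw [← h1] at h3
  exact h3

theorem exists_transvection (hV : ∀ v : V, v * v = 1) (Λ : Subgroup (MulAut V))
    (hΛc : ∀ x ∈ Λ, ∀ y ∈ Λ, x * y = y * x) (hΛodd : Odd (Nat.card Λ)) :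
    ∀ (n : ℕ) (B : Subgroup (MulAut V)), Nat.card B = n → OffHyp Λ B →
      ∃ β ∈ B, β ≠ 1 ∧ Nat.card V ≤ 2 * Nat.card (fixSub (zpowers β)) := by
  classical
  intro n
  induction n using Nat.strong_induction_on with
  | _ n ih =>
  intro B hn h
  have hsq : ∀ β ∈ B, β * β = 1 := fun β hβ => quad_sq (fun v => h.quad β hβ β hβ v)
  have hcomm : ∀ β ∈ B, ∀ γ ∈ B, β * γ = γ * β := fun β hβ γ hγ =>
    quad_comm hV (h.quad β hβ γ hγ) (h.quad γ hγ β hβ)
  have hinvB : ∀ β ∈ B, β⁻¹ = β := fun β hβ => inv_eq_of_mul_eq_one_left (hsq β hβ)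
  have hoddΛ : ∀ x ∈ Λ, Odd (orderOf x) := fun x hx =>
    Odd.of_dvd_nat hΛodd (Subgroup.orderOf_dvd_natCard Λ hx)
  -- the minimal subgroup `M`
  let 𝒮 : Set (Subgroup (MulAut V)) := {M | M ≤ Λ ∧ (∀ β ∈ B, ∀ x ∈ M, β * x * β⁻¹ ∈ M) ∧
    ¬ (∀ β ∈ B, ∀ x ∈ M, β * x = x * β)}
  have hΛS : Λ ∈ 𝒮 := by
    refine ⟨le_rfl, h.norm, ?_⟩
    intro hall
    apply h.ne_bot
    rw [eq_bot_iff]
    intro β hβ
    rw [mem_bot]
    exact h.faith β hβ (hall β hβ)
  obtain ⟨M, hMS, hMmin⟩ := Set.exists_min_image 𝒮 (fun M => Nat.card M) (Set.toFinite _) ⟨Λ, hΛS⟩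
  obtain ⟨hMΛ, hMinv, hMnc⟩ := hMS
  have hMc : ∀ x ∈ M, ∀ y ∈ M, x * y = y * x := fun x hx y hy => hΛc x (hMΛ hx) y (hMΛ hy)
  have hmin : ∀ M' : Subgroup (MulAut V), M' ≤ M → (∀ β ∈ B, ∀ x ∈ M', β * x * β⁻¹ ∈ M') →
      M' ≠ M → ∀ β ∈ B, ∀ x ∈ M', β * x = x * β := by
    intro M' hM'M hM'inv hne
    by_contra hc
    have hM'S : M' ∈ 𝒮 := ⟨hM'M.trans hMΛ, hM'inv, hc⟩
    have h1 := hMmin M' hM'S
    exact hne (Subgroup.eq_of_le_of_card_ge hM'M h1)
  -- dichotomy
  have hdich : ∀ β ∈ B, (∀ x ∈ M, β * x = x * β) ∨ (∀ x ∈ M, β * x * β⁻¹ = x⁻¹) := by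
    intro β hβ
    let Mp : Subgroup (MulAut V) :=
      { carrier := {x | x ∈ M ∧ β * x = x * β}
        one_mem' := ⟨one_mem _, by rw [mul_one, one_mul]⟩
        mul_mem' := by
          rintro x y ⟨hx, hx'⟩ ⟨hy, hy'⟩
          refine ⟨mul_mem hx hy, ?_⟩
          rw [← mul_assoc, hx', mul_assoc, hy', mul_assoc]
        inv_mem' := by
          rintro x ⟨hx, hx'⟩
          refine ⟨inv_mem hx, ?_⟩
          calc β * x⁻¹ = x⁻¹ * (x * β) * x⁻¹ := by group
            _ = x⁻¹ * (β * x) * x⁻¹ := by rw [hx']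
            _ = x⁻¹ * β := by group }
    let Mm : Subgroup (MulAut V) :=
      { carrier := {x | x ∈ M ∧ β * x * β⁻¹ = x⁻¹}
        one_mem' := ⟨one_mem _, by group⟩
        mul_mem' := by
          rintro x y ⟨hx, hx'⟩ ⟨hy, hy'⟩
          refine ⟨mul_mem hx hy, ?_⟩
          calc β * (x * y) * β⁻¹ = (β * x * β⁻¹) * (β * y * β⁻¹) := by group
            _ = x⁻¹ * y⁻¹ := by rw [hx', hy']
            _ = (y * x)⁻¹ := by group
            _ = (x * y)⁻¹ := by rw [hMc y hy x hx]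
        inv_mem' := by
          rintro x ⟨hx, hx'⟩
          refine ⟨inv_mem hx, ?_⟩
          calc β * x⁻¹ * β⁻¹ = (β * x * β⁻¹)⁻¹ := by group
            _ = x⁻¹⁻¹ := by rw [hx'] }
    have hMpM : Mp ≤ M := fun x hx => hx.1
    have hMmM : Mm ≤ M := fun x hx => hx.1
    have hMpinv : ∀ γ ∈ B, ∀ x ∈ Mp, γ * x * γ⁻¹ ∈ Mp := by
      rintro γ hγ x ⟨hx, hx'⟩
      refine ⟨hMinv γ hγ x hx, ?_⟩
      have e1 := hcomm β hβ γ hγ
      have e2 : β * γ⁻¹ = γ⁻¹ * β := by rw [hinvB γ hγ]; exact e1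
      calc β * (γ * x * γ⁻¹) = (β * γ) * x * γ⁻¹ := by group
        _ = γ * (β * x) * γ⁻¹ := by rw [e1]; group
        _ = γ * x * (β * γ⁻¹) := by rw [hx']; group
        _ = γ * x * γ⁻¹ * β := by rw [e2]; group
    have hMminv : ∀ γ ∈ B, ∀ x ∈ Mm, γ * x * γ⁻¹ ∈ Mm := by
      rintro γ hγ x ⟨hx, hx'⟩
      refine ⟨hMinv γ hγ x hx, ?_⟩
      have e1 := hcomm β hβ γ hγ
      have e2 : γ⁻¹ * β⁻¹ = β⁻¹ * γ⁻¹ := by
        rw [hinvB γ hγ, hinvB β hβ]; exact e1.symm
      calc β * (γ * x * γ⁻¹) * β⁻¹ = (β * γ) * x * (γ⁻¹ * β⁻¹) := by group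
        _ = γ * (β * x * β⁻¹) * γ⁻¹ := by rw [e1, e2]; group
        _ = γ * x⁻¹ * γ⁻¹ := by rw [hx']
        _ = (γ * x * γ⁻¹)⁻¹ := by group
    by_cases hp : Mp = M
    · left
      intro x hx
      have : x ∈ Mp := by rw [hp]; exact hx
      exact this.2
    by_cases hm : Mm = M
    · right
      intro x hx
      have : x ∈ Mm := by rw [hm]; exact hx
      exact this.2
    exfalso
    apply hMnc
    have hcp := hmin Mp hMpM hMpinv hp
    have hcm := hmin Mm hMmM hMminv hm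
    intro γ hγ x hx
    apply comm_of_sq_comm (hoddΛ x (hMΛ hx))
    have hy : β * x * β⁻¹ ∈ M := hMinv β hβ x hx
    have ha : x * (β * x * β⁻¹) ∈ Mp := by
      refine ⟨mul_mem hx hy, ?_⟩
      have e : β * (x * (β * x * β⁻¹)) = (β * x * β⁻¹) * ((β * β) * x * β⁻¹ * β⁻¹) * β := by group
      rw [e, hsq β hβ, one_mul, hinvB β hβ]
      have e2 : x * β * β = x := by rw [mul_assoc, hsq β hβ, mul_one]
      rw [e2, hMc _ (by rw [← hinvB β hβ] at hy ⊢; simpa [hinvB β hβ] using hy) x hx]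
    have hb : x * (β * x * β⁻¹)⁻¹ ∈ Mm := by
      refine ⟨mul_mem hx (inv_mem hy), ?_⟩
      have e : β * (x * (β * x * β⁻¹)⁻¹) * β⁻¹ = (β * x * β⁻¹) * ((β * β) * x * (β⁻¹ * β⁻¹))⁻¹ := by
        group
      rw [e, hsq β hβ, one_mul, hinvB β hβ, hsq β hβ, mul_one]
      have hy' : β * x * β ∈ M := by rw [← hinvB β hβ] at hy ⊢; simpa [hinvB β hβ] using hy
      rw [mul_inv_rev, inv_inv, hMc _ hy' _ (inv_mem hx)]
    have hxx : x * x = (x * (β * x * β⁻¹)) * (x * (β * x * β⁻¹)⁻¹) := by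
      rw [mul_assoc x, ← mul_assoc (β * x * β⁻¹), hMc _ hy x hx, mul_assoc x, mul_inv_cancel,
        mul_one]
    rw [hxx]
    have c1 : Commute γ (x * (β * x * β⁻¹)) := hcp γ hγ _ ha
    have c2 : Commute γ (x * (β * x * β⁻¹)⁻¹) := hcm γ hγ _ hb
    exact (c1.mul_right c2).eq
  -- the subgroup `B0`
  set B0 : Subgroup (MulAut V) := B ⊓ centralizer (M : Set (MulAut V)) with hB0
  have hB0mem : ∀ β, β ∈ B0 ↔ β ∈ B ∧ ∀ x ∈ M, β * x = x * β := by
    intro β
    rw [hB0, mem_inf, mem_centralizer_iff]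
    constructor
    · rintro ⟨h1, h2⟩
      exact ⟨h1, fun x hx => (h2 x hx).symm⟩
    · rintro ⟨h1, h2⟩
      exact ⟨h1, fun x hx => (h2 x hx).symm⟩
  have hB0B : B0 ≤ B := inf_le_left
  obtain ⟨β1, hβ1B, hβ1⟩ : ∃ β1 ∈ B, ¬ ∀ x ∈ M, β1 * x = x * β1 := by
    by_contra hc
    push Not at hc
    exact hMnc hc
  have hβ1inv : ∀ x ∈ M, β1 * x * β1⁻¹ = x⁻¹ := (hdich β1 hβ1B).resolve_left hβ1
  have hβ1ne : β1 ≠ 1 := by
    rintro rfl
    apply hβ1
    intro x _
    rw [one_mul, mul_one]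
  have hrel : B0.relIndex B = 2 := by
    rw [relIndex_eq_two_iff]
    refine ⟨β1, hβ1B, ?_⟩
    intro b hb
    by_cases hb0 : b ∈ B0
    · refine Or.inr ⟨hb0, ?_⟩
      intro hba
      apply hβ1
      have : β1 ∈ B0 := by
        have := B0.mul_mem (B0.inv_mem hb0) hba
        rwa [inv_mul_cancel_left] at this
      exact ((hB0mem β1).1 this).2
    · refine Or.inl ⟨?_, hb0⟩
      rw [hB0mem]
      refine ⟨B.mul_mem hb hβ1B, ?_⟩
      have hbinv : ∀ x ∈ M, b * x * b⁻¹ = x⁻¹ :=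
        (hdich b hb).resolve_left (fun hc => hb0 ((hB0mem b).2 ⟨hb, hc⟩))
      intro x hx
      have h1 := hβ1inv x hx
      have h2 := hbinv x⁻¹ (inv_mem hx)
      rw [inv_inv] at h2
      calc b * β1 * x = b * (β1 * x * β1⁻¹) * b⁻¹ * (b * β1) := by group
        _ = x * (b * β1) := by rw [h1, h2]
  have hcardB : 2 * Nat.card B0 = Nat.card B := by
    have := Cfsg.Agent.Helper17.relIndex_mul_card_inf B0 B
    rwa [hrel, inf_eq_left.2 hB0B] at this
  by_cases hB0bot : B0 = ⊥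
  · -- `B` has order 2
    rw [hB0bot, Subgroup.card_bot] at hcardB
    refine ⟨β1, hβ1B, hβ1ne, ?_⟩
    have hz : zpowers β1 = B := by
      apply Subgroup.eq_of_le_of_card_ge (zpowers_le.2 hβ1B)
      rw [← hcardB, Nat.card_zpowers]
      have : orderOf β1 = 2 := by
        apply orderOf_eq_prime
        · rw [pow_two]; exact hsq β1 hβ1B
        · exact hβ1ne
      omega
    rw [hz]
    have := h.off
    rwa [← hcardB] at this
  by_cases hoff0 : Nat.card V ≤ Nat.card B0 * Nat.card (fixSub B0)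
  · have hlt : Nat.card B0 < n := by
      have : 0 < Nat.card B0 := Nat.card_pos
      omega
    have hH0 : OffHyp Λ B0 :=
      ⟨fun β hβ => h.norm β (hB0B hβ), fun β hβ => h.faith β (hB0B hβ),
        fun β hβ γ hγ => h.quad β (hB0B hβ) γ (hB0B hγ), hB0bot, hoff0⟩
    obtain ⟨β, hβ, hβ1', hβc⟩ := ih _ hlt B0 rfl hH0
    exact ⟨β, hB0B hβ, hβ1', hβc⟩
  exfalso
  push Not at hoff0
  -- `Fix B0 = Fix B`
  have hfixle : fixSub B ≤ fixSub B0 := fixSub_anti hB0B
  have hfixeq : fixSub B0 = fixSub B := by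
    symm
    apply Subgroup.eq_of_le_of_card_ge hfixle
    obtain ⟨k, hk⟩ := Subgroup.card_dvd_of_le hfixle
    have h1 := h.off
    rw [← hcardB] at h1
    have h5 : 0 < Nat.card (fixSub B0) := Nat.card_pos
    rw [hk] at hoff0 h5 ⊢
    have h3 : 0 < Nat.card B0 := Nat.card_pos
    have h4 : 0 < Nat.card (fixSub B) := Nat.card_pos
    have hk2 : k < 2 := by
      by_contra hc
      push Not at hc
      have : Nat.card B0 * (Nat.card (fixSub B) * 2) ≤ Nat.card B0 * (Nat.card (fixSub B) * k) :=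
        Nat.mul_le_mul_left _ (Nat.mul_le_mul_left _ hc)
      nlinarith
    have hk0 : k ≠ 0 := by
      rintro rfl
      rw [mul_zero] at h5
      exact lt_irrefl _ h5
    have : k = 1 := by omega
    rw [this, mul_one]
  -- an element `μ ≠ 1` of `M`
  obtain ⟨μ, hμM, hμ1⟩ : ∃ μ ∈ M, μ ≠ 1 := by
    by_contra hc
    push Not at hc
    apply hβ1
    intro x hx
    rw [hc x hx, mul_one, one_mul]
  have hμodd : Odd (orderOf μ) := hoddΛ μ (hMΛ hμM)
  -- `μ` fixes `Fix B0`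
  have hμfix : ∀ v ∈ fixSub B0, μ v = v := by
    intro v hv
    have h1 : μ v ∈ fixSub B0 := by
      intro γ hγ
      have hc := ((hB0mem γ).1 hγ).2 μ hμM
      rw [← MulAut.mul_apply, hc, MulAut.mul_apply, hv γ hγ]
    rw [hfixeq] at h1 hv
    have h2 : β1 (μ v) = μ v := h1 β1 hβ1B
    have h3 : β1 v = v := hv β1 hβ1B
    have e1 : β1 * μ = μ⁻¹ * β1 := by rw [← hβ1inv μ hμM]; group
    have h4 : β1 (μ v) = μ⁻¹ v := by
      rw [← MulAut.mul_apply, e1, MulAut.mul_apply, h3]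
    rw [h2] at h4
    apply apply_of_sq_apply hμodd
    rw [MulAut.mul_apply, h4]
    show μ (μ.symm v) = v
    exact μ.apply_symm_apply v
  -- the subgroup `W = [V, μ]`
  set W : Subgroup V := (μ.toMonoidHom * MonoidHom.id V).range with hW
  have hWmem : ∀ w, w ∈ W ↔ ∃ v, μ v * v = w := by
    intro w
    rw [hW, MonoidHom.mem_range]
    rfl
  have hWne : W ≠ ⊥ := by
    intro hb
    apply hμ1
    ext v
    have h1 : μ v * v ∈ W := (hWmem _).2 ⟨v, rfl⟩
    rw [hb, mem_bot] at h1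
    show μ v = v
    calc μ v = μ v * v * v := by rw [mul_assoc, hV, mul_one]
      _ = v := by rw [h1, one_mul]
  have hWinv : ∀ γ ∈ B0, ∀ w ∈ W, γ w ∈ W := by
    intro γ hγ w hw
    obtain ⟨v, rfl⟩ := (hWmem w).1 hw
    rw [hWmem]
    refine ⟨γ v, ?_⟩
    have hc := ((hB0mem γ).1 hγ).2 μ hμM
    rw [map_mul]
    congr 1
    calc μ (γ v) = (μ * γ) v := rfl
      _ = (γ * μ) v := by rw [hc]
      _ = γ (μ v) := rfl
  have : Fact (Nat.Prime 2) := ⟨Nat.prime_two⟩
  have hB0p : IsPGroup 2 ↥B0 := by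
    intro γ
    refine ⟨1, ?_⟩
    apply Subtype.ext
    rw [pow_one, pow_two]
    exact hsq γ.1 (hB0B γ.2)
  have hWp : IsPGroup 2 ↥W := by
    intro w
    refine ⟨1, ?_⟩
    apply Subtype.ext
    rw [pow_one, pow_two]
    exact hV w.1
  letI : MulAction ↥B0 ↥W :=
    { smul := fun γ w => ⟨(γ : MulAut V) w, hWinv γ.1 γ.2 w.1 w.2⟩
      one_smul := fun w => Subtype.ext rfl
      mul_smul := fun γ δ w => Subtype.ext rfl }
  have hsmul : ∀ (γ : ↥B0) (w : ↥W), ((γ • w : ↥W) : V) = (γ : MulAut V) w := fun _ _ => rfl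
  have h2W : 2 ∣ Nat.card ↥W := by
    obtain ⟨k, hk⟩ := IsPGroup.iff_card.mp hWp
    rw [hk]
    have : k ≠ 0 := by
      rintro rfl
      rw [pow_zero] at hk
      exact hWne (Subgroup.card_eq_one.mp hk)
    exact dvd_pow_self 2 this
  have h1fix : (1 : ↥W) ∈ MulAction.fixedPoints ↥B0 ↥W := by
    intro γ
    apply Subtype.ext
    rw [hsmul]
    exact map_one _
  obtain ⟨w, hwfix, hw1⟩ := hB0p.exists_fixed_point_of_prime_dvd_card_of_fixed_point ↥W h2W h1fix
  have hwF : (w : V) ∈ fixSub B0 := by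
    intro γ hγ
    have := hwfix ⟨γ, hγ⟩
    have h5 := congrArg Subtype.val this
    rw [hsmul] at h5
    exact h5
  have hμw : μ (w : V) = w := hμfix _ hwF
  obtain ⟨v, hv⟩ := (hWmem (w : V)).1 w.2
  have hμv : μ v = (w : V) * v := by rw [← hv, mul_assoc, hV, mul_one]
  have h6 : (μ * μ) v = v := by
    rw [MulAut.mul_apply, hμv, map_mul, hμw, hμv, ← mul_assoc, hV, one_mul]
  have h7 : μ v = v := apply_of_sq_apply hμodd h6
  apply hw1
  apply Subtype.ext
  rw [← hv, h7, hV]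
  rfl

/-- a nontrivial involution of `B` inverts a nontrivial element of `Λ` -/
theorem exists_inverted {Λ B : Subgroup (MulAut V)} (h : OffHyp Λ B) {β : MulAut V}
    (hβ : β ∈ B) (hβ1 : β ≠ 1) (hβ2 : β * β = 1) :
    ∃ μ ∈ Λ, μ ≠ 1 ∧ β * μ * β⁻¹ = μ⁻¹ := by
  have h1 : ¬ ∀ x ∈ Λ, β * x = x * β := fun hc => hβ1 (h.faith β hβ hc)
  push Not at h1
  obtain ⟨x, hx, hxβ⟩ := h1
  have hβinv : β⁻¹ = β := inv_eq_of_mul_eq_one_left hβ2
  refine ⟨x⁻¹ * (β * x * β⁻¹), Λ.mul_mem (Λ.inv_mem hx) (h.norm β hβ x hx), ?_, ?_⟩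
  · intro he
    apply hxβ
    have : β * x * β⁻¹ = x := by
      calc β * x * β⁻¹ = x * (x⁻¹ * (β * x * β⁻¹)) := by group
        _ = x := by rw [he, mul_one]
    calc β * x = (β * x * β⁻¹) * β := by group
      _ = x * β := by rw [this]
  · calc β * (x⁻¹ * (β * x * β⁻¹)) * β⁻¹ = (β * x * β⁻¹)⁻¹ * ((β * β) * x * (β⁻¹ * β⁻¹)) := by group
      _ = (β * x * β⁻¹)⁻¹ * x := by rw [hβ2, hβinv, hβ2, one_mul, mul_one]
      _ = (x⁻¹ * (β * x * β⁻¹))⁻¹ := by group

end LemmaA

end Cfsg.Agent.Helper9.Off2
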