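import Mathlib
import Cfsg.Agent.Helper9.Offender2
import Cfsg.Agent.Helper9.S4Section
import Cfsg.Agent.Helper14.SylowIn
import Cfsg.Agent.Helper26.GlaubermanRepl

set_option autoImplicit false
set_option linter.unusedSectionVars false
set_option linter.unusedVariables false
set_option linter.style.haveILetI false

/-! # The `p = 2` endgame: from a quadratic offender to an `S₄`-section -/

namespace Cfsg.Agent.Helper9.S4End

open Subgroup
open scoped IsMulCommutative commutatorElement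
open Cfsg.Agent.Helper9.Off2 Cfsg.Agent.Helper9.S4Sec Cfsg.Agent.Helper14

theorem inverts_pow_odd {Γ : Type*} [Group Γ] {δ μ : Γ} (h : δ * μ * δ⁻¹ = μ⁻¹) {r : ℕ}
    (hr : Odd r) : δ ^ r * μ * (δ ^ r)⁻¹ = μ⁻¹ := by
  obtain ⟨j, rfl⟩ := hr
  have h2 : δ ^ 2 * μ * (δ ^ 2)⁻¹ = μ := by
    calc δ ^ 2 * μ * (δ ^ 2)⁻¹ = δ * (δ * μ * δ⁻¹) * δ⁻¹ := by
          rw [pow_two, mul_inv_rev]; simp only [mul_assoc]
      _ = δ * μ⁻¹ * δ⁻¹ := by rw [h]
      _ = (δ * μ * δ⁻¹)⁻¹ := by group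
      _ = μ := by rw [h, inv_inv]
  have h3 : ∀ i : ℕ, (δ ^ 2) ^ i * μ * ((δ ^ 2) ^ i)⁻¹ = μ := by
    intro i
    induction i with
    | zero => simp
    | succ i ih =>
      calc (δ ^ 2) ^ (i + 1) * μ * ((δ ^ 2) ^ (i + 1))⁻¹
          = δ ^ 2 * ((δ ^ 2) ^ i * μ * ((δ ^ 2) ^ i)⁻¹) * (δ ^ 2)⁻¹ := by
            rw [pow_succ', mul_inv_rev]; simp only [mul_assoc]
        _ = μ := by rw [ih, h2]
  calc δ ^ (2 * j + 1) * μ * (δ ^ (2 * j + 1))⁻¹
      = (δ ^ 2) ^ j * (δ * μ * δ⁻¹) * ((δ ^ 2) ^ j)⁻¹ := by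
        rw [pow_succ, pow_mul, mul_inv_rev]; simp only [mul_assoc]
    _ = (δ ^ 2) ^ j * μ⁻¹ * ((δ ^ 2) ^ j)⁻¹ := by rw [h]
    _ = ((δ ^ 2) ^ j * μ * ((δ ^ 2) ^ j)⁻¹)⁻¹ := by group
    _ = μ⁻¹ := by rw [h3]

theorem exists_two_part {Y : Type*} [Group Y] [Finite Y] (n1 : Y) :
    ∃ k r : ℕ, Odd r ∧ (n1 ^ r) ^ (2 ^ k) = 1 := by
  have hn0 : orderOf n1 ≠ 0 := (orderOf_pos n1).ne'
  obtain ⟨k, r, hr, hn⟩ := Nat.exists_eq_pow_mul_and_not_dvd hn0 2 (by norm_num)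
  refine ⟨k, r, ?_, ?_⟩
  · rcases Nat.even_or_odd r with h | h
    · exact absurd h.two_dvd hr
    · exact h
  · rw [← pow_mul, mul_comm, ← hn, pow_orderOf_eq_one]

theorem isSylowIn_of_card_prime {Y : Type*} [Group Y] [Finite Y] {q : ℕ} (hq : q.Prime)
    (U0 M : Subgroup Y) (hle : U0 ≤ M) (hc : Nat.card U0 = q) (hM : ¬ q ^ 2 ∣ Nat.card M) :
    IsSylowIn q U0 M := by
  haveI : Fact q.Prime := ⟨hq⟩
  refine ⟨hle, IsPGroup.of_card (n := 1) (by rw [hc, pow_one]), ?_⟩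
  intro Q hQM hQ hUQ
  obtain ⟨j, hj⟩ := IsPGroup.iff_card.mp hQ
  have h1 : Nat.card Q ∣ Nat.card M := Subgroup.card_dvd_of_le hQM
  have hj1 : j ≤ 1 := by
    by_contra hj2
    push Not at hj2
    apply hM
    refine dvd_trans ?_ h1
    rw [hj]
    exact pow_dvd_pow q hj2
  have h2 : Nat.card Q ≤ Nat.card U0 := by
    rw [hj, hc]
    calc q ^ j ≤ q ^ 1 := Nat.pow_le_pow_right hq.pos hj1
      _ = q := pow_one q
  exact (Subgroup.eq_of_le_of_card_ge hUQ h2).symm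

theorem comm_of_exp_two {Y : Type*} [Group Y] (V1 : Subgroup Y) (hV1 : ∀ v ∈ V1, v * v = 1) :
    ∀ x ∈ V1, ∀ y ∈ V1, x * y = y * x := by
  intro x hx y hy
  have h1 : (y * x) * (y * x) = 1 := hV1 (y * x) (V1.mul_mem hy hx)
  calc x * y = (y * y) * (x * y) * (x * x) := by rw [hV1 y hy, hV1 x hx, one_mul, mul_one]
    _ = y * ((y * x) * (y * x)) * x := by simp only [mul_assoc]
    _ = y * x := by rw [h1, mul_one]

section main

variable {Y : Type*} [Group Y] [Finite Y] (V1 : Subgroup Y) [hV1n : V1.Normal]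

/-- data on the level of automorphisms of `V1` -/
theorem offHyp_of_data (hV1 : ∀ v ∈ V1, v * v = 1) [IsMulCommutative V1]
    (U : Subgroup Y) (hUdef : U = centralizer (V1 : Set Y))
    (L : Subgroup Y) [hLn : L.Normal]
    (A : Subgroup Y) (hAc : ∀ a ∈ A, ∀ c ∈ A, a * c = c * a)
    (hVA : V1 ≤ normalizer (A : Set Y))
    (hfaith : ∀ a ∈ A, (∀ x ∈ L, a * x * a⁻¹ * x⁻¹ ∈ U) → a ∈ U)
    (hAU : ¬ A ≤ U)
    (hoff : Nat.card V1 * Nat.card (A ⊓ U : Subgroup Y) ≤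
      Nat.card A * Nat.card (A ⊓ V1 : Subgroup Y)) :
    OffHyp (L.map (MulAut.conjNormal : Y →* MulAut V1))
      (A.map (MulAut.conjNormal : Y →* MulAut V1)) := by
  classical
  set ρ : Y →* MulAut V1 := MulAut.conjNormal with hρ
  have hρapp : ∀ (g : Y) (v : V1), ((ρ g v : V1) : Y) = g * v * g⁻¹ := fun g v =>
    MulAut.conjNormal_apply g v
  have hinvV : ∀ v ∈ V1, v⁻¹ = v := fun v hv => inv_eq_of_mul_eq_one_left (hV1 v hv)
  have hker : ∀ g : Y, ρ g = 1 ↔ g ∈ U := by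
    intro g
    rw [hUdef, mem_centralizer_iff]
    constructor
    · intro hg v hv
      have h1 := hρapp g ⟨v, hv⟩
      rw [hg] at h1
      have h2 : v = g * v * g⁻¹ := h1
      calc v * g = (g * v * g⁻¹) * g := by rw [← h2]
        _ = g * v := by group
    · intro hg
      apply MulEquiv.ext
      intro v
      apply Subtype.ext
      rw [hρapp]
      have := hg v v.2
      show g * v * g⁻¹ = v
      rw [← this]; group
  have hkerU : ρ.ker = U := by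
    ext g
    rw [MonoidHom.mem_ker, hker]
  refine ⟨?_, ?_, ?_, ?_, ?_⟩
  · rintro _ ⟨a, ha, rfl⟩ _ ⟨x, hx, rfl⟩
    refine ⟨a * x * a⁻¹, hLn.conj_mem x hx a, ?_⟩
    rw [map_mul, map_mul, map_inv]
  · rintro _ ⟨a, ha, rfl⟩ hcomm
    rw [hker]
    apply hfaith a ha
    intro x hx
    rw [← hker, map_mul, map_mul, map_mul, map_inv, map_inv]
    have := hcomm (ρ x) (mem_map_of_mem ρ hx)
    calc ρ a * ρ x * (ρ a)⁻¹ * (ρ x)⁻¹ = (ρ a * ρ x) * (ρ a)⁻¹ * (ρ x)⁻¹ := by group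
      _ = (ρ x * ρ a) * (ρ a)⁻¹ * (ρ x)⁻¹ := by rw [this]
      _ = 1 := by group
  · rintro _ ⟨a, ha, rfl⟩ _ ⟨c, hc, rfl⟩ v
    apply Subtype.ext
    rw [hρapp, Subgroup.coe_mul, hρapp]
    have h1 : (v : Y) * a⁻¹ * (v : Y)⁻¹ ∈ A :=
      (mem_normalizer_iff.mp (hVA v.2) a⁻¹).mp (inv_mem ha)
    have h2 : a * v * a⁻¹ * (v : Y) ∈ A := by
      have h3 : a * v * a⁻¹ * (v : Y) = a * ((v : Y) * a⁻¹ * (v : Y)⁻¹) := by
        rw [hinvV v v.2]; simp only [mul_assoc]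
      rw [h3]
      exact mul_mem ha h1
    have h4 := hAc c hc _ h2
    rw [h4]; group
  · intro hbot
    apply hAU
    intro a ha
    rw [← hker]
    have : ρ a ∈ A.map ρ := mem_map_of_mem ρ ha
    rw [hbot, mem_bot] at this
    exact this
  · have h1 : ρ.ker.relIndex A = Nat.card (A.map ρ) := relIndex_ker A ρ
    have h2 := Cfsg.Agent.Helper17.relIndex_mul_card_inf ρ.ker A
    rw [h1, hkerU, inf_comm] at h2
    have h3 : (A ⊓ V1).subgroupOf V1 ≤ fixSub (A.map ρ) := by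
      intro v hv
      rw [mem_subgroupOf] at hv
      rw [mem_fixSub]
      rintro _ ⟨a, ha, rfl⟩
      apply Subtype.ext
      rw [hρapp]
      have := hAc a ha v hv.1
      rw [this]; group
    have h4 : Nat.card (A ⊓ V1 : Subgroup Y) ≤ Nat.card (fixSub (A.map ρ)) := by
      rw [← Cfsg.Agent.Helper17.card_subgroupOf_of_le (inf_le_right : A ⊓ V1 ≤ V1)]
      exact Subgroup.card_le_of_le h3
    have hpos : 0 < Nat.card (A ⊓ U : Subgroup Y) := Nat.card_pos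
    have h5 : Nat.card V1 * Nat.card (A ⊓ U : Subgroup Y) ≤
        (Nat.card (A.map ρ) * Nat.card (fixSub (A.map ρ))) * Nat.card (A ⊓ U : Subgroup Y) := by
      calc Nat.card V1 * Nat.card (A ⊓ U : Subgroup Y)
          ≤ Nat.card A * Nat.card (A ⊓ V1 : Subgroup Y) := hoff
        _ = (Nat.card (A.map ρ) * Nat.card (A ⊓ U : Subgroup Y)) *
              Nat.card (A ⊓ V1 : Subgroup Y) := by rw [h2]
        _ ≤ (Nat.card (A.map ρ) * Nat.card (A ⊓ U : Subgroup Y)) *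
              Nat.card (fixSub (A.map ρ)) := Nat.mul_le_mul_left _ h4
        _ = _ := by ring
    exact Nat.le_of_mul_le_mul_right h5 hpos

theorem involves_S4_of_offender (hV1 : ∀ v ∈ V1, v * v = 1)
    (U : Subgroup Y) [hUn : U.Normal] (hUdef : U = centralizer (V1 : Set Y)) (hU2 : IsPGroup 2 U)
    (L : Subgroup Y) [hLn : L.Normal] (hodd : Odd (U.relIndex L)) (hLL : ⁅L, L⁆ ≤ U)
    (A : Subgroup Y) (hAc : ∀ a ∈ A, ∀ c ∈ A, a * c = c * a)
    (hVA : V1 ≤ normalizer (A : Set Y))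
    (hfaith : ∀ a ∈ A, (∀ x ∈ L, a * x * a⁻¹ * x⁻¹ ∈ U) → a ∈ U)
    (hAU : ¬ A ≤ U)
    (hoff : Nat.card V1 * Nat.card (A ⊓ U : Subgroup Y) ≤
      Nat.card A * Nat.card (A ⊓ V1 : Subgroup Y)) :
    Cfsg.Involves (Equiv.Perm (Fin 4)) Y := by
  classical
  have hV1c := comm_of_exp_two V1 hV1
  haveI : IsMulCommutative V1 := ⟨⟨fun x y => Subtype.ext (hV1c x x.2 y y.2)⟩⟩
  have hOff := offHyp_of_data V1 hV1 U hUdef L A hAc hVA hfaith hAU hoff
  set ρ : Y →* MulAut V1 := MulAut.conjNormal with hρ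
  have hρapp : ∀ (g : Y) (v : V1), ((ρ g v : V1) : Y) = g * v * g⁻¹ := fun g v =>
    MulAut.conjNormal_apply g v
  have hinvV : ∀ v ∈ V1, v⁻¹ = v := fun v hv => inv_eq_of_mul_eq_one_left (hV1 v hv)
  have hker : ∀ g : Y, ρ g = 1 ↔ g ∈ U := by
    intro g
    rw [hUdef, mem_centralizer_iff]
    constructor
    · intro hg v hv
      have h1 := hρapp g ⟨v, hv⟩
      rw [hg] at h1
      have h2 : v = g * v * g⁻¹ := h1
      calc v * g = (g * v * g⁻¹) * g := by rw [← h2]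
        _ = g * v := by group
    · intro hg
      apply MulEquiv.ext
      intro v
      apply Subtype.ext
      rw [hρapp]
      have := hg v v.2
      show g * v * g⁻¹ = v
      rw [← this]; group
  have hkerU : ρ.ker = U := by
    ext g
    rw [MonoidHom.mem_ker, hker]
  have hV : ∀ v : V1, v * v = 1 := fun v => Subtype.ext (hV1 v v.2)
  set Λ : Subgroup (MulAut V1) := L.map ρ with hΛ
  set B : Subgroup (MulAut V1) := A.map ρ with hB
  have hΛcard : Nat.card Λ = U.relIndex L := by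
    rw [← hkerU]; exact (relIndex_ker L ρ).symm
  have hΛodd : Odd (Nat.card Λ) := hΛcard ▸ hodd
  have hΛc : ∀ x ∈ Λ, ∀ y ∈ Λ, x * y = y * x := by
    rintro _ ⟨x, hx, rfl⟩ _ ⟨y, hy, rfl⟩
    have h1 : ⁅x, y⁆ ∈ U := hLL (Subgroup.commutator_mem_commutator hx hy)
    rw [← hker, commutatorElement_def, map_mul, map_mul, map_mul, map_inv, map_inv] at h1
    calc ρ x * ρ y = (ρ x * ρ y * (ρ x)⁻¹ * (ρ y)⁻¹) * (ρ y * ρ x) := by group
      _ = ρ y * ρ x := by rw [h1, one_mul]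
  -- Lemma A
  obtain ⟨β, hβB, hβ1, hβcard⟩ := exists_transvection hV Λ hΛc hΛodd (Nat.card B) B rfl hOff
  have hβ2 : β * β = 1 := quad_sq (fun v => hOff.quad β hβB β hβB v)
  obtain ⟨μ0, hμ0Λ, hμ01, hinv0⟩ := exists_inverted hOff hβB hβ1 hβ2
  obtain ⟨b, hbA, rfl⟩ := hβB
  obtain ⟨l0, hl0L, rfl⟩ := hμ0Λ
  -- choice of `y0`
  have hm_dvd : orderOf (ρ l0) ∣ Nat.card Λ := Subgroup.orderOf_dvd_natCard Λ (mem_map_of_mem ρ hl0L)
  have hm_odd : Odd (orderOf (ρ l0)) := Odd.of_dvd_nat hΛodd hm_dvd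
  have hm_ne : orderOf (ρ l0) ≠ 1 := fun h => hμ01 (orderOf_eq_one_iff.mp h)
  set q := (orderOf (ρ l0)).minFac with hqdef
  have hq : q.Prime := Nat.minFac_prime hm_ne
  have hqm : q ∣ orderOf (ρ l0) := Nat.minFac_dvd _
  have hqodd : Odd q := Odd.of_dvd_nat hm_odd hqm
  have hq2 : q ≠ 2 := fun h => by rw [h] at hqodd; exact absurd hqodd (by decide)
  have hqn : q ∣ orderOf l0 := hqm.trans (orderOf_map_dvd ρ l0)
  have hn0 : orderOf l0 ≠ 0 := (orderOf_pos l0).ne'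
  set y0 : Y := l0 ^ (orderOf l0 / q) with hy0def
  have hy0 : orderOf y0 = q := orderOf_pow_orderOf_div hn0 hqn
  have hy0L : y0 ∈ L := L.pow_mem hl0L _
  set μ : MulAut V1 := ρ y0 with hμdef
  have hμpow : μ = (ρ l0) ^ (orderOf l0 / q) := by rw [hμdef, hy0def, map_pow]
  have hμΛ : μ ∈ Λ := mem_map_of_mem ρ hy0L
  have hinv : ρ b * μ * (ρ b)⁻¹ = μ⁻¹ := by
    rw [hμpow, ← conj_pow, hinv0, inv_pow]
  have hy0U : y0 ∉ U := by
    intro hmem
    obtain ⟨j, hj⟩ := (IsPGroup.iff_orderOf.mp hU2) ⟨y0, hmem⟩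
    rw [Subgroup.orderOf_mk, hy0] at hj
    have h2q : 2 ∣ q := by
      rcases Nat.eq_zero_or_pos j with h0 | h0
      · rw [h0, pow_zero] at hj
        exact absurd hj hq.one_lt.ne'
      · rw [hj]; exact dvd_pow_self 2 (by omega)
    exact hq2 ((Nat.prime_dvd_prime_iff_eq Nat.prime_two hq).mp h2q).symm
  have hμ1 : μ ≠ 1 := fun h => hy0U ((hker y0).mp h)
  have hμord : orderOf μ = q := by
    have h1 : μ ^ q = 1 := by
      rw [hμdef, ← map_pow, ← hy0, pow_orderOf_eq_one, map_one]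
    rcases (Nat.dvd_prime hq).mp (orderOf_dvd_of_pow_eq_one h1) with h | h
    · exact absurd (orderOf_eq_one_iff.mp h) hμ1
    · exact h
  -- Lemma B
  obtain ⟨hcard4, -⟩ := card_fix_of_transvection hV hβ2 hβ1 hβcard hμ1 (hμord ▸ hqodd) hinv
  -- the subgroup `M = U ⟨y0⟩`
  set M : Subgroup Y := U ⊔ zpowers y0 with hMdef
  have hUM : U ≤ M := le_sup_left
  have hZM : zpowers y0 ≤ M := le_sup_right
  have hUcard : ∃ a : ℕ, Nat.card U = 2 ^ a := IsPGroup.iff_card.mp hU2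
  obtain ⟨a, ha⟩ := hUcard
  have hZcard : Nat.card (zpowers y0) = q := by rw [Nat.card_zpowers, hy0]
  have hcop : (Nat.card U).Coprime (Nat.card (zpowers y0)) := by
    rw [ha, hZcard]
    apply Nat.Coprime.pow_left
    rw [Nat.coprime_primes Nat.prime_two hq]; exact fun h => hq2 h.symm
  have hMcard : Nat.card M = 2 ^ a * q := by
    have h1 := Cfsg.Agent.Helper17.card_sup_mul_card_inf_of_normal U (zpowers y0)
    rw [(Subgroup.disjoint_of_coprime_natCard hcop).eq_bot, Subgroup.card_bot, mul_one, ha, hZcard] at h1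
    exact h1
  have hMq : ¬ q ^ 2 ∣ Nat.card M := by
    rw [hMcard]
    intro hdvd
    have h1 : (q ^ 2).Coprime (2 ^ a) := by
      apply Nat.Coprime.pow
      rw [Nat.coprime_primes hq Nat.prime_two]; exact hq2
    have h2 : q ^ 2 ∣ q := h1.dvd_of_dvd_mul_left hdvd
    have h3 := Nat.le_of_dvd hq.pos h2
    have h4 : q * 2 ≤ q ^ 2 := by rw [pow_two]; exact Nat.mul_le_mul_left q hq.two_le
    have := hq.pos
    omega
  -- `b` conjugates `y0` into `M`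
  have hby0 : b * y0 * b⁻¹ ∈ M := by
    have h1 : b * y0 * b⁻¹ * y0 ∈ U := by
      rw [← hker, map_mul, map_mul, map_mul, map_inv, hinv, inv_mul_cancel]
    have h2 : b * y0 * b⁻¹ = (b * y0 * b⁻¹ * y0) * y0⁻¹ := by group
    rw [h2]
    exact M.mul_mem (hUM h1) (M.inv_mem (hZM (mem_zpowers y0)))
  have hS1 : IsSylowIn q (zpowers y0) M := isSylowIn_of_card_prime hq _ M hZM hZcard hMq
  have hS2 : IsSylowIn q (zpowers (b * y0 * b⁻¹)) M := by
    apply isSylowIn_of_card_prime hq _ M _ _ hMq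
    · rw [zpowers_le]; exact hby0
    · rw [Nat.card_zpowers]
      have : b * y0 * b⁻¹ = MulAut.conj b y0 := by rw [MulAut.conj_apply]
      rw [this, MulEquiv.orderOf_eq, hy0]
  haveI : Fact q.Prime := ⟨hq⟩
  obtain ⟨g, hgM, hg⟩ := hS2.exists_conj hS1
  -- `n1 = g * b` normalizes `zpowers y0`
  set n1 : Y := g * b with hn1
  have hn1y : n1 * y0 * n1⁻¹ ∈ zpowers y0 := by
    rw [hg, mem_map_cj]
    have : g⁻¹ * (n1 * y0 * n1⁻¹) * g = b * y0 * b⁻¹ := by rw [hn1]; group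
    rw [this]; exact mem_zpowers _
  have hn1N : n1 ∈ normalizer (zpowers y0 : Set Y) := by
    apply Cfsg.Agent.Helper26.mem_normalizer_of_map_conj_le
    rintro _ ⟨z, hz, rfl⟩
    obtain ⟨i, rfl⟩ := hz
    have : (MulAut.conj n1).toMonoidHom (y0 ^ i) = (n1 * y0 * n1⁻¹) ^ i := by
      simp only [MulEquiv.coe_toMonoidHom, MulAut.conj_apply]
      rw [conj_zpow]
    rw [this]
    exact zpow_mem hn1y i
  -- `ρ g ∈ zpowers μ`
  have hρg : ρ g ∈ zpowers μ := by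
    have h1 : ρ g ∈ M.map ρ := mem_map_of_mem ρ hgM
    rw [hMdef, Subgroup.map_sup] at h1
    have h2 : U.map ρ = ⊥ := by
      rw [eq_bot_iff]
      rintro _ ⟨u, hu, rfl⟩
      rw [mem_bot, hker]; exact hu
    rw [h2, bot_sup_eq, MonoidHom.map_zpowers] at h1
    exact h1
  have hinv1 : ρ n1 * μ * (ρ n1)⁻¹ = μ⁻¹ := by
    obtain ⟨i, hi⟩ := hρg
    have hc : ρ g * μ⁻¹ * (ρ g)⁻¹ = μ⁻¹ := by
      rw [← hi]
      have : Commute (μ ^ i) μ⁻¹ := ((Commute.refl μ).zpow_left i).inv_right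
      calc μ ^ i * μ⁻¹ * (μ ^ i)⁻¹ = μ⁻¹ * μ ^ i * (μ ^ i)⁻¹ := by rw [this.eq]
        _ = μ⁻¹ := by group
    calc ρ n1 * μ * (ρ n1)⁻¹ = ρ g * (ρ b * μ * (ρ b)⁻¹) * (ρ g)⁻¹ := by
          rw [hn1, map_mul, mul_inv_rev]; simp only [mul_assoc]
      _ = μ⁻¹ := by rw [hinv, hc]
  -- the 2-part of `n1`
  obtain ⟨k, r, hr, hk⟩ := exists_two_part n1
  set b' : Y := n1 ^ r with hb'
  have hb'N : b' ∈ normalizer (zpowers y0 : Set Y) := pow_mem hn1N r
  have hinv' : ρ b' * μ * (ρ b')⁻¹ = μ⁻¹ := by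
    rw [hb', map_pow]; exact inverts_pow_odd hinv1 hr
  obtain ⟨v, hv⟩ := exists_not_mem_fix_of_inverts hV hμ1 (hμord ▸ hqodd) hinv'
  -- the subgroup `F`
  set F : Subgroup Y := (fixSub (zpowers μ)).map V1.subtype with hF
  have hFmem : ∀ x : Y, x ∈ F ↔ x ∈ V1 ∧ y0 * x * y0⁻¹ = x := by
    intro x
    constructor
    · rintro ⟨w, hw, rfl⟩
      refine ⟨w.2, ?_⟩
      have h1 := mem_fixSub_zpowers.mp hw
      have h2 := congrArg Subtype.val h1
      rw [hμdef, hρapp] at h2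
      exact h2
    · rintro ⟨hx, hxy⟩
      refine ⟨⟨x, hx⟩, ?_, rfl⟩
      rw [SetLike.mem_coe, mem_fixSub_zpowers]
      apply Subtype.ext
      rw [hμdef, hρapp]
      exact hxy
  have hFcard : Nat.card F = Nat.card (fixSub (zpowers μ)) :=
    Subgroup.card_map_of_injective V1.subtype_injective
  refine involves_S4 V1 hV1 y0 q hq hq2 hy0 F ?_ ?_ ?_ ?_ b' hb'N k hk ?_
  · intro x hx; exact ((hFmem x).mp hx).1
  · intro f hf
    have := ((hFmem f).mp hf).2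
    calc f * y0 = (y0 * f * y0⁻¹) * y0 := by rw [this]
      _ = y0 * f := by group
  · intro x hx hxy
    rw [hFmem]
    refine ⟨hx, ?_⟩
    rw [← hxy]; group
  · rw [hFcard]; exact hcard4
  · refine ⟨v, v.2, ?_⟩
    intro hmem
    apply hv
    obtain ⟨w, hw, hwe⟩ := hmem
    have : w = ρ b' v * v := by
      apply Subtype.ext
      rw [Subgroup.coe_mul, hρapp]
      have h1 : V1.subtype w = (w : Y) := rfl
      rw [← h1, hwe, hinvV v v.2]
    rw [← this]; exact hw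

end main

end Cfsg.Agent.Helper9.S4End
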