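import Mathlib
import Cfsg.Agent.Helper10.ThompsonNPC

set_option autoImplicit false
set_option linter.unusedSectionVars false
set_option linter.unusedVariables false

/-! # Thompson-type reduction for normal `p`-complements, for a family of functors -/

namespace Cfsg.Agent.Helper9.TR2

universe u

open Subgroup
open Cfsg.Agent.Helper10

variable {p : ℕ} [Fact p.Prime] {ι : Type*} {W : ι → ∀ (Q : Type u) [Group Q], Subgroup Q}

theorem thompson_reduction_fam (hW : ∀ i, Cfsg.IsCharPFunctor.{u} p (W i)) (i₀ : ι)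
    (𝒞 : ∀ (Y : Type u) [Group Y], Prop)
    (hsub : ∀ (Y : Type u) [Group Y], 𝒞 Y → ∀ M : Subgroup Y, 𝒞 ↥M)
    (hquot : ∀ (Y : Type u) [Group Y], 𝒞 Y → ∀ (N : Subgroup Y) [N.Normal], 𝒞 (Y ⧸ N))
    (Hfin : ∀ (Y : Type u) [Group Y] [Finite Y], 𝒞 Y →
      centralizer ((Cfsg.pCore p Y : Subgroup Y) : Set Y) ≤ Cfsg.pCore p Y →
      Cfsg.HasNormalPComplement p (Y ⧸ Cfsg.pCore p Y) →
      ∀ T : Sylow p Y, IsCoatom (T : Subgroup Y) → ¬ Cfsg.HasNormalPComplement p Y →
      (∀ i, Cfsg.HasNormalPComplement p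
        ↥(normalizer ((Cfsg.inducedFunctor (W i) (T : Subgroup Y) : Subgroup Y) : Set Y))) → False) :
    ∀ (n : ℕ) (X : Type u) [Group X] [Finite X], Nat.card X = n → 𝒞 X → ∀ T : Sylow p X,
      (∀ i, Cfsg.HasNormalPComplement p
        ↥(normalizer ((Cfsg.inducedFunctor (W i) (T : Subgroup X) : Subgroup X) : Set X))) →
      Cfsg.HasNormalPComplement p X := by
  intro n
  induction n using Nat.strong_induction_on with
  | _ n ih =>
  intro X _ _ hn hX T hT
  by_contra hnpc
  have hp : p.Prime := Fact.out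
  have hTall : ∀ i, ∀ T' : Sylow p X, Cfsg.HasNormalPComplement p
      ↥(normalizer ((Cfsg.inducedFunctor (W i) (T' : Subgroup X) : Subgroup X) : Set X)) :=
    fun i T' => npc_normalizer_iF_sylow (hW i) T T' (hT i)
  have IH : ∀ (Y : Type u) [Group Y] [Finite Y], Nat.card Y < Nat.card X → 𝒞 Y →
      ∀ T' : Sylow p Y, (∀ i, Cfsg.HasNormalPComplement p
        ↥(normalizer ((Cfsg.inducedFunctor (W i) (T' : Subgroup Y) : Subgroup Y) : Set Y))) →
      Cfsg.HasNormalPComplement p Y := by
    intro Y _ _ hlt hY T' hT'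
    exact ih (Nat.card Y) (hn ▸ hlt) Y rfl hY T' hT'
  -- (1) `O_{p'}(X) = 1`
  have hO : Cfsg.pPrimeCore p X = ⊥ := by
    by_contra hO
    apply hnpc
    have hDc := Cfsg.Agent.Helper23.pPrimeCore_card_coprime p X
    apply npc_of_quotient_coprime (Cfsg.pPrimeCore p X) hDc
    have hlt : Nat.card (X ⧸ Cfsg.pPrimeCore p X) < Nat.card X := card_quotient_lt_of_ne_bot hO
    exact IH _ hlt (hquot X hX _) _ (fun i => step_pPrimeCore (hW i) T (hT i))
  -- (2),(3) a maximal bad subgroup
  obtain ⟨Q, hbadQ⟩ := exists_badSub (p := p) hnpc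
  obtain ⟨H, hHbad, hHmax⟩ := Set.exists_max_image {H : Subgroup X | BadSub p H}
    (fun H : Subgroup X => (Nat.card ↥(normalizer (H : Set X))).factorization p * (Nat.card X + 1)
      + Nat.card ↥H) (Set.toFinite _) ⟨Q, hbadQ⟩
  have hv : ∀ H' : Subgroup X, BadSub p H' →
      (Nat.card ↥(normalizer (H' : Set X))).factorization p ≤
        (Nat.card ↥(normalizer (H : Set X))).factorization p := by
    intro H' hH'
    by_contra hlt
    push Not at hlt
    have h1 := hHmax H' hH'
    beta_reduce at h1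
    have h2 : Nat.card ↥H ≤ Nat.card X := Subgroup.card_le_card_group H
    nlinarith
  have hc : ∀ H' : Subgroup X, BadSub p H' →
      (Nat.card ↥(normalizer (H' : Set X))).factorization p =
        (Nat.card ↥(normalizer (H : Set X))).factorization p → Nat.card ↥H' ≤ Nat.card ↥H := by
    intro H' hH' he
    have h1 := hHmax H' hH'
    beta_reduce at h1
    rw [he] at h1
    omega
  -- (4) `H` is normal
  have hHn : normalizer (H : Set X) = ⊤ := by
    by_contra hne
    have hlt : Nat.card ↥(normalizer (H : Set X)) < Nat.card X := card_subgroup_lt_of_ne_top hne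
    obtain ⟨R⟩ : Nonempty (Sylow p ↥(normalizer (H : Set X))) := inferInstance
    have h1 : ¬ ∀ i, Cfsg.HasNormalPComplement p ↥(normalizer
        ((Cfsg.inducedFunctor (W i) (R : Subgroup ↥(normalizer (H : Set X))) :
          Subgroup ↥(normalizer (H : Set X))) : Set ↥(normalizer (H : Set X)))) :=
      fun h => hHbad.2.2 (IH _ hlt (hsub X hX _) R h)
    push Not at h1
    obtain ⟨i, h1⟩ := h1
    obtain ⟨U, hUbad, hUlt⟩ := step_grow (hW i) (hTall i) (normalizer (H : Set X)) H rfl hHbad.1
      hHbad.2.1 R h1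
    have := hv U hUbad
    omega
  have hHnorm : H.Normal := Subgroup.normalizer_eq_top_iff.1 hHn
  -- (5) pass to `O_p(X)`
  have hPp : IsPGroup p ↥(Cfsg.pCore p X) := Cfsg.Agent.Helper14.pCore_isPGroup p
  have hHP : H ≤ Cfsg.pCore p X := Cfsg.Agent.Helper14.le_pCore p hHnorm hHbad.1
  have hPne : Cfsg.pCore p X ≠ ⊥ := by
    intro h
    rw [h] at hHP
    exact hHbad.2.1 (le_bot_iff.1 hHP)
  have hvH : (Nat.card ↥(normalizer (H : Set X))).factorization p =
      (Nat.card X).factorization p := by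
    rw [hHn, Subgroup.card_top]
  have hPT : Cfsg.pCore p X ≤ (T : Subgroup X) := Cfsg.Agent.Helper14.pCore_le_sylow p T
  -- (6) `O_p(X) ≠ T`
  have hPT' : Cfsg.pCore p X ≠ (T : Subgroup X) := by
    intro h
    apply hnpc
    have hTn : (T : Subgroup X).Normal := h ▸ (inferInstance : (Cfsg.pCore p X).Normal)
    have h1 := iF_normal_of_normal (hW i₀) T.2 hTn
    have hN : normalizer ((Cfsg.inducedFunctor (W i₀) (T : Subgroup X) : Subgroup X) : Set X) = ⊤ :=
      Subgroup.normalizer_eq_top_iff.2 h1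
    have hT0 := hT i₀
    rw [hN] at hT0
    exact npc_of_top hT0
  -- (7) the quotient by `O_p(X)` has a normal `p`-complement
  have hquotNPC : Cfsg.HasNormalPComplement p (X ⧸ Cfsg.pCore p X) := by
    have hlt : Nat.card (X ⧸ Cfsg.pCore p X) < Nat.card X := card_quotient_lt_of_ne_bot hPne
    apply IH _ hlt (hquot X hX _)
      (T.mapSurjective (QuotientGroup.mk'_surjective (Cfsg.pCore p X)))
    intro i
    apply step_quot (hW i) (Cfsg.pCore p X) hPp T hPT hPT'
    intro L hLp hPL hTL
    by_contra hLn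
    have hLbad : BadSub p L := ⟨hLp, fun h => by rw [h] at hPL; exact not_lt_bot hPL, hLn⟩
    have h1 := hv L hLbad
    have h2 : (Nat.card X).factorization p ≤
        (Nat.card ↥(normalizer (L : Set X))).factorization p := by
      have hdvd := Subgroup.card_dvd_of_le hTL
      rw [T.card_eq_multiplicity] at hdvd
      exact (Nat.Prime.pow_dvd_iff_le_factorization hp Nat.card_pos.ne').1 hdvd
    have h3 := hc L hLbad (by omega)
    have h4 := card_subgroup_lt_of_lt hPL
    have h5 := Subgroup.card_le_of_le hHP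
    omega
  -- (8) `p`-constraint
  have hcent := step_constrained hO hquotNPC
  -- (9) `T` is a maximal subgroup
  have hTco : IsCoatom (T : Subgroup X) := by
    apply step_coatom T hnpc hcent
    intro M hTM hMtop
    have hltM : Nat.card ↥M < Nat.card X := card_subgroup_lt_of_ne_top hMtop
    apply IH ↥M hltM (hsub X hX M) (T.subtype hTM)
    intro i
    apply npc_normalizer_of_subtype M
    rw [iF_map_subtype (hW i) M (T.subtype hTM).2]
    have h1 : ((T.subtype hTM : Sylow p ↥M) : Subgroup ↥M).map M.subtype = (T : Subgroup X) := by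
      rw [Sylow.coe_subtype, Subgroup.subgroupOf_map_subtype]
      exact inf_eq_left.2 hTM
    rw [h1]
    exact hT i
  exact Hfin X hX hcent hquotNPC T hTco hnpc hT

end Cfsg.Agent.Helper9.TR2
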