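import Mathlib
import Cfsg.Agent.Helper9.ThompsonRed2
import Cfsg.Agent.Helper9.S4Endgame
import Cfsg.Agent.Helper9.Repl2
import Cfsg.Agent.Lead.TNC11
import Cfsg.Agent.Helper16.Homocyclic
import Cfsg.Agent.Helper14.SylowIn

set_option autoImplicit false
set_option linter.unusedSectionVars false
set_option linter.unusedVariables false
set_option linter.style.haveILetI false

/-! # Thompson's normal `p`-complement theorem, abelian version, `S₄`-free for `p = 2` -/

namespace Cfsg.Agent.Helper9.TS4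

open Subgroup
open scoped commutatorElement
open Cfsg.Agent.Helper26 Cfsg.Agent.Lead.TNC

universe u

variable {p : ℕ} [Fact p.Prime]

/-- the centralizer of `Ω₁(V)` is a `p`-group if `C_G(V)` is (all primes) -/
theorem isPGroup_centralizer_omega1_all {G : Type*} [Group G] [Finite G] (V : Subgroup G)
    [hVn : V.Normal]
    (hVp : IsPGroup p V) (hV : ∀ x ∈ V, ∀ y ∈ V, x * y = y * x)
    (hCV : IsPGroup p (centralizer (V : Set G))) :
    IsPGroup p (centralizer (omega1 p V hV : Set G)) := by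
  by_cases hp2 : p = 2
  · subst hp2
    intro x
    obtain ⟨x, hx⟩ := x
    have hn0 : orderOf x ≠ 0 := (orderOf_pos x).ne'
    obtain ⟨k, m, hm, hn⟩ := Nat.exists_eq_pow_mul_and_not_dvd hn0 2 (by norm_num)
    refine ⟨k, ?_⟩
    apply Subtype.ext
    show x ^ 2 ^ k = 1
    obtain ⟨y, hy⟩ : ∃ y, y = x ^ 2 ^ k := ⟨_, rfl⟩
    rw [← hy]
    have hyord : orderOf y = m := by
      rw [hy, orderOf_pow_of_dvd (pow_pos (by norm_num) k).ne' ⟨m, hn⟩, hn,
        Nat.mul_div_cancel_left _ (pow_pos (by norm_num) k)]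
    have hmodd : Odd m := by
      rcases Nat.even_or_odd m with h | h
      · exact absurd h.two_dvd hm
      · exact h
    have hyC : y ∈ centralizer (omega1 2 V hV : Set G) := by rw [hy]; exact pow_mem hx _
    have hyV : y ∈ centralizer (V : Set G) := by
      rw [mem_centralizer_iff]
      intro v hv
      obtain ⟨j, hj⟩ := (IsPGroup.iff_orderOf.mp hVp) ⟨v, hv⟩
      rw [Subgroup.orderOf_mk] at hj
      have h1 := Cfsg.Agent.Helper16.Homocyclic.conj_trivial_of_trivial_on_invol V hV y
        (fun x hx => hVn.conj_mem x hx y) m hmodd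
        (fun x _ => by rw [← hyord, pow_orderOf_eq_one]; group)
        (fun x hx hx2 => by
          have := mem_centralizer_iff.mp hyC x ⟨hx, hx2⟩
          rw [← this]; group)
        j v hv (by rw [← hj]; exact pow_orderOf_eq_one v)
      calc v * y = (y * v * y⁻¹) * y := by rw [h1]
        _ = y * v := by group
    obtain ⟨j, hj⟩ := (IsPGroup.iff_orderOf.mp hCV) ⟨y, hyV⟩
    rw [Subgroup.orderOf_mk, hyord] at hj
    have hm1 : m = 1 := by
      rcases Nat.eq_zero_or_pos j with h0 | h0
      · rw [hj, h0, pow_zero]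
      · exfalso
        apply hm
        rw [hj]; exact dvd_pow_self 2 (by omega)
    rw [hm1] at hyord
    exact orderOf_eq_one_iff.mp hyord
  · exact isPGroup_centralizer_omega1 hp2 V hVp hV hCV

/-- the structure `L` of a minimal configuration -/
theorem exL_of_max {G : Type u} [Group G] [Finite G] (P : Sylow p G)
    (hmax : ∀ M : Subgroup G, (P : Subgroup G) ≤ M → M = P ∨ M = ⊤)
    (hQ : Cfsg.HasNormalPComplement p (G ⧸ Cfsg.pCore p G)) :
    ∃ L : Subgroup G, L.Normal ∧ Cfsg.pCore p G ≤ L ∧ L ⊔ P = ⊤ ∧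
      ((Cfsg.pCore p G).relIndex L).Coprime p ∧ ⁅L, L⁆ ≤ Cfsg.pCore p G := by
  have hp : p.Prime := Fact.out
  set U := Cfsg.pCore p G with hU
  have hUn : U.Normal := inferInstance
  have hsurj := QuotientGroup.mk'_surjective U
  set Pb : Sylow p (G ⧸ U) := P.mapSurjective hsurj with hPb
  have hPbc : (Pb : Subgroup (G ⧸ U)) = (P : Subgroup G).map (QuotientGroup.mk' U) :=
    Sylow.coe_mapSurjective hsurj P
  obtain ⟨Lb, hLbn, hLbc⟩ := (Cfsg.Agent.Helper9.hasNormalPComplement_iff Pb).mp hQ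
  set L : Subgroup G := Lb.comap (QuotientGroup.mk' U) with hL
  have hLn : L.Normal := hLbn.comap _
  have hUL : U ≤ L := Cfsg.Agent.Helper23.le_comap_mk' U Lb
  have hLcard : Nat.card L = Nat.card U * Nat.card Lb := Cfsg.Agent.Helper23.card_comap_mk' U Lb
  have hrel : U.relIndex L = Nat.card Lb := by
    have h1 := Cfsg.Agent.Lead.card_eq_relIndex_mul_card hUL
    rw [hLcard, mul_comm] at h1
    exact (Nat.eq_of_mul_eq_mul_right Nat.card_pos h1).symm
  have hLbcop : (Nat.card Lb).Coprime p := by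
    have h1 : (Pb : Subgroup (G ⧸ U)).index = Nat.card Lb := hLbc.index_eq_card
    rw [← h1]
    exact ((Nat.Prime.coprime_iff_not_dvd hp).mpr Pb.not_dvd_index).symm
  have hLP : L ⊔ P = ⊤ := by
    have h1 : (L ⊔ (P : Subgroup G)).map (QuotientGroup.mk' U) = ⊤ := by
      rw [Subgroup.map_sup, hL, Subgroup.map_comap_eq_self_of_surjective hsurj, ← hPbc]
      exact hLbc.sup_eq_top
    have h2 : (QuotientGroup.mk' U).ker ≤ L ⊔ (P : Subgroup G) := by
      rw [QuotientGroup.ker_mk']; exact hUL.trans le_sup_left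
    rw [← Subgroup.comap_map_eq_self h2, h1, Subgroup.comap_top]
  have hmaxb : ∀ X : Subgroup (G ⧸ U), (Pb : Subgroup (G ⧸ U)) ≤ X → X = Pb ∨ X = ⊤ := by
    intro X hX
    have h1 : (P : Subgroup G) ≤ X.comap (QuotientGroup.mk' U) := by
      intro x hx
      rw [Subgroup.mem_comap]
      apply hX
      rw [hPbc]
      exact Subgroup.mem_map_of_mem _ hx
    have h2 : (X.comap (QuotientGroup.mk' U)).map (QuotientGroup.mk' U) = X :=
      Subgroup.map_comap_eq_self_of_surjective hsurj X
    rcases hmax _ h1 with h3 | h3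
    · left; rw [← h2, h3, hPbc]
    · right; rw [← h2, h3, ← MonoidHom.range_eq_map, MonoidHom.range_eq_top.mpr hsurj]
  have hab : ⁅Lb, Lb⁆ = ⊥ := commutator_eq_bot_of_max Pb Lb hLbc hmaxb
  have hLL : ⁅L, L⁆ ≤ U := by
    have h1 : (⁅L, L⁆).map (QuotientGroup.mk' U) = ⊥ := by
      rw [Subgroup.map_commutator, hL, Subgroup.map_comap_eq_self_of_surjective hsurj, hab]
    rw [Subgroup.map_eq_bot_iff, QuotientGroup.ker_mk'] at h1
    exact h1
  exact ⟨L, hLn, hUL, hLP, hrel ▸ hLbcop, hLL⟩

/-- the functor `Q ↦ J_A(Q)` -/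
theorem isCharPFunctor_thompsonA :
    Cfsg.IsCharPFunctor.{u} p (fun (Q : Type u) [Group Q] => Cfsg.thompsonSubgroupA Q) := by
  refine ⟨?_, ?_⟩
  · intro Q _ _ _ hnt
    exact thompsonSubgroupA_ne_bot
  · intro Q R _ _ _ _ φ
    exact thompsonSubgroupA_map_equiv φ

/-- the functor `Q ↦ Z(Q)` -/
theorem isCharPFunctor_center :
    Cfsg.IsCharPFunctor.{u} p (fun (Q : Type u) [Group Q] => Subgroup.center Q) := by
  refine ⟨?_, ?_⟩
  · intro Q _ _ hQ hnt
    haveI := hQ.center_nontrivial
    exact (Subgroup.nontrivial_iff_ne_bot _).mp inferInstance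
  · intro Q R _ _ _ _ φ
    ext x
    rw [Subgroup.mem_map, Subgroup.mem_center_iff]
    constructor
    · rintro ⟨z, hz, rfl⟩ y
      obtain ⟨w, rfl⟩ := φ.surjective y
      rw [Subgroup.mem_center_iff] at hz
      show φ w * φ z = φ z * φ w
      rw [← map_mul, ← map_mul, hz w]
    · intro hx
      refine ⟨φ.symm x, ?_, by simp⟩
      rw [Subgroup.mem_center_iff]
      intro w
      apply φ.injective
      rw [map_mul, map_mul, φ.apply_symm_apply]
      exact hx (φ w)

theorem inducedFunctor_center {G : Type u} [Group G] (T : Subgroup G) :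
    Cfsg.inducedFunctor (fun (Q : Type u) [Group Q] => Subgroup.center Q) T =
      T ⊓ centralizer (T : Set G) := by
  unfold Cfsg.inducedFunctor
  ext x
  rw [Subgroup.mem_map, Subgroup.mem_inf, mem_centralizer_iff]
  constructor
  · rintro ⟨z, hz, rfl⟩
    refine ⟨z.2, ?_⟩
    intro t ht
    rw [Subgroup.mem_center_iff] at hz
    exact congrArg Subtype.val (hz ⟨t, ht⟩)
  · rintro ⟨hx, hc⟩
    refine ⟨⟨x, hx⟩, ?_, rfl⟩
    rw [Subgroup.mem_center_iff]
    intro t
    exact Subtype.ext (hc t t.2)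

/-- **The endgame** -/
theorem endgame_S4 (Y : Type u) [Group Y] [Finite Y]
    (h𝒞 : p ≠ 2 ∨ ¬ Cfsg.Involves (Equiv.Perm (Fin 4)) Y)
    (hCU : centralizer ((Cfsg.pCore p Y : Subgroup Y) : Set Y) ≤ Cfsg.pCore p Y)
    (hQ : Cfsg.HasNormalPComplement p (Y ⧸ Cfsg.pCore p Y))
    (P : Sylow p Y) (hco : IsCoatom (P : Subgroup Y)) (hnpc : ¬ Cfsg.HasNormalPComplement p Y)
    (hZ : Cfsg.HasNormalPComplement p ↥(normalizer
      (((P : Subgroup Y) ⊓ centralizer ((P : Subgroup Y) : Set Y) : Subgroup Y) : Set Y)))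
    (hJ : Cfsg.HasNormalPComplement p
      ↥(normalizer ((Cfsg.thompsonSubgroupAOf (P : Subgroup Y) : Subgroup Y) : Set Y))) : False := by
  have hp : p.Prime := Fact.out
  have hmax : ∀ M : Subgroup Y, (P : Subgroup Y) ≤ M → M = P ∨ M = ⊤ := by
    intro M hM
    rcases eq_or_lt_of_le hM with h | h
    · exact Or.inl h.symm
    · exact Or.inr (hco.2 M h)
  obtain ⟨L, hLn, hUL, hLP, hLcop, hLL⟩ := exL_of_max P hmax hQ
  set U := Cfsg.pCore p Y with hU
  have hUn : U.Normal := inferInstance
  have hUp : IsPGroup p U := Cfsg.Agent.Helper14.pCore_isPGroup p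
  have hUP : U ≤ (P : Subgroup Y) := Cfsg.Agent.Helper14.pCore_le_sylow p P
  set Z : Subgroup Y := (P : Subgroup Y) ⊓ centralizer ((P : Subgroup Y) : Set Y) with hZdef
  -- `N_Y(Z(P)) = P`
  have hPNZ : (P : Subgroup Y) ≤ normalizer (Z : Set Y) := by
    intro x hx
    rw [mem_normalizer_iff]
    intro z
    have key : ∀ w ∈ Z, ∀ t ∈ (P : Subgroup Y), t * w * t⁻¹ = w := by
      intro w hw t ht
      rw [hZdef, Subgroup.mem_inf, mem_centralizer_iff] at hw
      rw [hw.2 t ht]; group
    constructor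
    · intro hz
      rw [key z hz x hx]; exact hz
    · intro hz
      have h1 := key _ hz x⁻¹ (inv_mem hx)
      have h2 : x⁻¹ * (x * z * x⁻¹) * x⁻¹⁻¹ = z := by group
      rw [h2] at h1
      rw [h1]; exact hz
  have hNZ : normalizer (Z : Set Y) = P := by
    rcases hmax _ hPNZ with h | h
    · exact h
    · exact absurd (Cfsg.Agent.Lead.TNC.npc_of_top (Cfsg.Agent.Lead.TNC.npc_of_eq h hZ)) hnpc
  have hCZ : centralizer (Z : Set Y) ≤ (P : Subgroup Y) := by
    rw [← hNZ]; exact Subgroup.centralizer_le_normalizer _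
  have hZCU : Z ≤ centralizer (U : Set Y) := by
    intro z hz
    rw [hZdef, Subgroup.mem_inf] at hz
    exact Subgroup.centralizer_le (show (U : Set Y) ⊆ (P : Subgroup Y) from hUP) hz.2
  have hZU : Z ≤ U := hZCU.trans hCU
  have hZUn : (U ⊓ centralizer (U : Set Y)).Normal := inferInstance
  set V : Subgroup Y := normalClosure (Z : Set Y) with hVdef
  have hVZU : V ≤ U ⊓ centralizer (U : Set Y) := normalClosure_le_normal (le_inf hZU hZCU)
  have hVn : V.Normal := normalClosure_normal
  have hVU : V ≤ U := hVZU.trans inf_le_left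
  have hVc : ∀ x ∈ V, ∀ y ∈ V, x * y = y * x := by
    intro x hx y hy
    exact mem_centralizer_iff.mp (hVZU hy).2 x (hVU hx)
  have hVp : IsPGroup p V := hUp.to_le hVU
  have hCVP : centralizer (V : Set Y) ≤ (P : Subgroup Y) :=
    (Subgroup.centralizer_le subset_normalClosure).trans hCZ
  have hCVp : IsPGroup p (centralizer (V : Set Y)) := P.2.to_le hCVP
  -- `V₁ = Ω₁(V)`
  set V1 : Subgroup Y := omega1 p V hVc with hV1def
  have hV1n : V1.Normal := omega1_normal V hVc
  have hV1V : V1 ≤ V := omega1_le V hVc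
  have hV1c : ∀ x ∈ V1, ∀ y ∈ V1, x * y = y * x := fun x hx y hy => hVc x (hV1V hx) y (hV1V hy)
  have hV1p : ∀ x ∈ V1, x ^ p = 1 := fun x hx => hx.2
  have hC1p : IsPGroup p (centralizer (V1 : Set Y)) :=
    isPGroup_centralizer_omega1_all V hVp hVc hCVp
  have hC1n : (centralizer (V1 : Set Y)).Normal := inferInstance
  have hC1U : centralizer (V1 : Set Y) ≤ U := Cfsg.Agent.Helper14.le_pCore p hC1n hC1p
  have hUC1 : U ≤ centralizer (V1 : Set Y) := by
    intro u hu
    rw [mem_centralizer_iff]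
    intro v hv
    exact (mem_centralizer_iff.mp (hVZU (hV1V hv)).2 u hu).symm
  have hV1U : V1 ≤ U := hV1V.trans hVU
  have hV1P : V1 ≤ (P : Subgroup Y) := hV1U.trans hUP
  by_cases hall : ∀ A ∈ famEl 0 (P : Subgroup Y), V1 ≤ A
  · -- `J(P) ≤ U`, so `J(P) = J(U)` is normal
    have hAU : ∀ A ∈ famEl 0 (P : Subgroup Y), A ≤ U := by
      intro A hA
      refine le_trans ?_ hC1U
      intro a ha
      rw [mem_centralizer_iff]
      intro v hv
      exact hA.2.1.1 v (hall A hA hv) a ha
    have hfam : famEl 0 (P : Subgroup Y) = famEl 0 U := by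
      ext X
      constructor
      · intro hX
        exact (famEl_restrict hX (hAU X hX) hUP).1
      · intro hX
        obtain ⟨A, hA⟩ := famEl_nonempty 0 (P : Subgroup Y)
        exact (famEl_restrict hA (hAU A hA) hUP).2 hX
    have hJU : Cfsg.thompsonSubgroupAOf (P : Subgroup Y) = Cfsg.thompsonSubgroupAOf U := by
      rw [thompsonSubgroupAOf_eq, thompsonSubgroupAOf_eq, hfam]
    have hJUn : (Cfsg.thompsonSubgroupAOf U).Normal :=
      Cfsg.Agent.Helper10.iF_normal_of_normal (isCharPFunctor_thompsonA (p := p)) hUp hUn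
    have hJn : normalizer (Cfsg.thompsonSubgroupAOf (P : Subgroup Y) : Set Y) = ⊤ := by
      rw [hJU]; exact Subgroup.normalizer_eq_top_iff.mpr hJUn
    exact hnpc (Cfsg.Agent.Lead.TNC.npc_of_top (Cfsg.Agent.Lead.TNC.npc_of_eq hJn hJ))
  · push Not at hall
    obtain ⟨A0, hA0, hVA0⟩ := hall
    have hPV1 : (P : Subgroup Y) ≤ normalizer (V1 : Set Y) := by
      rw [Subgroup.normalizer_eq_top_iff.mpr hV1n]; exact le_top
    have hV1comm : ⁅V1, V1⁆ ≤ A0 := by
      have : ⁅V1, V1⁆ = ⊥ := by
        rw [Subgroup.commutator_eq_bot_iff_le_centralizer]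
        intro x hx
        rw [mem_centralizer_iff]
        intro y hy
        exact hV1c y hy x hx
      rw [this]; exact bot_le
    obtain ⟨A', hA', -, hVA', hVNA'⟩ := Cfsg.Agent.Helper9.Repl2.famEl_repl2 0 (Or.inl rfl)
      (P : Subgroup Y) V1 P.2 hV1P hPV1 (fun _ => hV1c) A0 hA0 hV1comm hVA0
    have hA'U : ¬ A' ≤ U := by
      intro h
      apply hVA'
      intro v hv
      refine mem_famEl_of_commute hA' (hV1P hv) (pow_zero v) (fun a ha => ?_)
      exact (mem_centralizer_iff.mp (hUC1 (h ha)) v hv).symm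
    have hquad : ∀ a ∈ A', ∀ v ∈ V1, a * v * a⁻¹ * v⁻¹ ∈ A' := by
      intro a haA v hv
      have h1 : v * a⁻¹ * v⁻¹ ∈ A' := (mem_normalizer_iff.mp (hVNA' hv) a⁻¹).mp (inv_mem haA)
      have h3 : a * v * a⁻¹ * v⁻¹ = a * (v * a⁻¹ * v⁻¹) := by group
      rw [h3]
      exact mul_mem haA h1
    by_cases hp2 : p = 2
    · -- `p = 2`: an `S₄`-section
      have hnot : ¬ Cfsg.Involves (Equiv.Perm (Fin 4)) Y := by
        rcases h𝒞 with h | h
        · exact absurd hp2 h
        · exact h
      apply hnot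
      have hV1sq : ∀ v ∈ V1, v * v = 1 := by
        intro v hv
        have := hV1p v hv
        rw [hp2, pow_two] at this
        exact this
      have hU2 : IsPGroup 2 U := hp2 ▸ hUp
      have hodd : Odd (U.relIndex L) := by
        rw [hp2] at hLcop
        exact Nat.coprime_two_right.mp hLcop
      have hfaith : ∀ a ∈ A', (∀ x ∈ L, a * x * a⁻¹ * x⁻¹ ∈ U) → a ∈ U := by
        intro a ha h
        exact mem_pCore_of_commutator P L hLP a (hA'.1 ha) h
      -- the offender inequality
      have hoff : Nat.card V1 * Nat.card (A' ⊓ U : Subgroup Y) ≤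
          Nat.card A' * Nat.card (A' ⊓ V1 : Subgroup Y) := by
        have hXc : Cfsg.IsElementaryAbelian 0 (closure ((V1 : Set Y) ∪ ((A' ⊓ U : Subgroup Y) : Set Y))) := by
          apply isElementaryAbelian_closure
          · rintro a (ha | ha) b (hb | hb)
            · exact hV1c a ha b hb
            · exact (mem_centralizer_iff.mp (hUC1 hb.2) a ha)
            · exact (mem_centralizer_iff.mp (hUC1 ha.2) b hb).symm
            · exact hA'.2.1.1 a ha.1 b hb.1
          · intro a _
            exact pow_zero a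
        rw [← Subgroup.sup_eq_closure] at hXc
        have hXP : V1 ⊔ (A' ⊓ U) ≤ (P : Subgroup Y) := sup_le hV1P (inf_le_right.trans hUP)
        have h1 := hA'.2.2 _ hXP (isElementaryAbelian_iff_forall.mp hXc)
        have h2 := Cfsg.Agent.Helper17.card_sup_mul_card_inf_of_normal V1 (A' ⊓ U)
        have h3 : V1 ⊓ (A' ⊓ U) = A' ⊓ V1 := by
          ext x
          simp only [Subgroup.mem_inf]
          constructor
          · rintro ⟨h1, h2, _⟩; exact ⟨h2, h1⟩
          · rintro ⟨h1, h2⟩; exact ⟨h2, h1, hV1U h2⟩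
        rw [h3] at h2
        rw [← h2]
        exact Nat.mul_le_mul_right _ h1
      have hUeq : U = centralizer (V1 : Set Y) := le_antisymm hUC1 hC1U
      exact Cfsg.Agent.Helper9.S4End.involves_S4_of_offender V1 hV1sq U hUeq hU2 L hodd hLL A'
        hA'.2.1.1 hVNA' hfaith hA'U hoff
    · -- `p` odd
      obtain ⟨a, haA, haU⟩ := SetLike.not_le_iff_exists.mp hA'U
      have haP : a ∈ (P : Subgroup Y) := hA'.1 haA
      have hq : ∀ v ∈ V1, a * (a * v * a⁻¹ * v⁻¹) = (a * v * a⁻¹ * v⁻¹) * a := by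
        intro v hv
        exact hA'.2.1.1 a haA _ (hquad a haA v hv)
      have hcomm := commutator_mem_centralizer_of_quadratic hp2 V1 hV1c hV1p L U hUC1 hLcop hLL
        a hq
      exact haU (mem_pCore_of_commutator P L hLP a haP (fun x hx => hC1U (hcomm x hx)))

/-- `N_G(S) ≤ C_G(Z(S))` when `N_G(S)` has a normal `p`-complement -/
theorem normalizer_le_centralizer_center {G : Type*} [Group G] [Finite G] (S : Sylow p G)
    (hNS : Cfsg.HasNormalPComplement p ↥(normalizer ((S : Subgroup G) : Set G))) :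
    normalizer ((S : Subgroup G) : Set G) ≤
      centralizer (((S : Subgroup G) ⊓ centralizer ((S : Subgroup G) : Set G) : Subgroup G) : Set G) := by
  set NS := normalizer ((S : Subgroup G) : Set G) with hNSdef
  have hle : (S : Subgroup G) ≤ NS := le_normalizer
  obtain ⟨M, hMn, hMc⟩ := (Cfsg.Agent.Helper9.hasNormalPComplement_iff (S.subtype hle)).mp hNS
  have hS'n : ((S.subtype hle : Sylow p NS) : Subgroup NS).Normal := by
    rw [Sylow.coe_subtype]
    exact Subgroup.normal_in_normalizer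
  set H' : Subgroup NS := (centralizer (((S : Subgroup G) ⊓
    centralizer ((S : Subgroup G) : Set G) : Subgroup G) : Set G)).subgroupOf NS with hH'
  have h1 : ((S.subtype hle : Sylow p NS) : Subgroup NS) ≤ H' := by
    intro x hx
    rw [Sylow.coe_subtype, mem_subgroupOf] at hx
    rw [hH', mem_subgroupOf, mem_centralizer_iff]
    intro z hz
    exact (mem_centralizer_iff.mp hz.2 x hx).symm
  have h2 : M ≤ H' := by
    intro k hk
    rw [hH', mem_subgroupOf, mem_centralizer_iff]
    intro z hz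
    have hz' : (⟨z, hle hz.1⟩ : NS) ∈ ((S.subtype hle : Sylow p NS) : Subgroup NS) := by
      rw [Sylow.coe_subtype, mem_subgroupOf]; exact hz.1
    have hcomm := Subgroup.commute_of_normal_of_disjoint M _ hMn hS'n hMc.disjoint k ⟨z, hle hz.1⟩
      hk hz'
    have := congrArg Subtype.val hcomm.eq
    exact this.symm
  have h3 : M ⊔ ((S.subtype hle : Sylow p NS) : Subgroup NS) = ⊤ := hMc.sup_eq_top
  have h4 : H' = ⊤ := by
    rw [eq_top_iff, ← h3]; exact sup_le h2 h1
  intro x hx
  have : (⟨x, hx⟩ : NS) ∈ H' := by rw [h4]; exact mem_top _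
  rw [hH', mem_subgroupOf] at this
  exact this

open Cfsg.Agent.Helper14 in
/-- `N_G(Z(S)) ≤ C_G(Z(S))` when `N_G(S)` has a normal `p`-complement -/
theorem normalizer_center_le_centralizer {G : Type*} [Group G] [Finite G] (S : Sylow p G)
    (hNS : Cfsg.HasNormalPComplement p ↥(normalizer ((S : Subgroup G) : Set G))) :
    normalizer (((S : Subgroup G) ⊓ centralizer ((S : Subgroup G) : Set G) : Subgroup G) : Set G) ≤
      centralizer (((S : Subgroup G) ⊓ centralizer ((S : Subgroup G) : Set G) : Subgroup G) : Set G) := by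
  set Z : Subgroup G := (S : Subgroup G) ⊓ centralizer ((S : Subgroup G) : Set G) with hZ
  set C := centralizer (Z : Set G) with hC
  have hSC : (S : Subgroup G) ≤ C := by
    intro x hx
    rw [hC, mem_centralizer_iff]
    intro z hz
    exact (mem_centralizer_iff.mp hz.2 x hx).symm
  have hS1 : IsSylowIn p (S : Subgroup G) C := by
    refine ⟨hSC, S.2, ?_⟩
    intro Q _ hQ hle
    exact S.is_maximal' hQ hle
  intro n hn
  have hZn : Z.map (cj n) = Z := mem_normalizer_iff_map_cj.mp hn
  have hCn : C.map (cj n) = C := by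
    rw [hC, map_cj_centralizer, hZn]
  have hS2 : IsSylowIn p ((S : Subgroup G).map (cj n)) C := by
    have := hS1.map_cj n
    rwa [hCn] at this
  obtain ⟨g, hgC, hg⟩ := hS2.exists_conj hS1
  rw [map_cj_mul] at hg
  have h1 : g * n ∈ normalizer ((S : Subgroup G) : Set G) := mem_normalizer_iff_map_cj.mpr hg.symm
  have h2 : g * n ∈ C := normalizer_le_centralizer_center S hNS h1
  have h3 : n = g⁻¹ * (g * n) := by group
  rw [h3]
  exact C.mul_mem (C.inv_mem hgC) h2

end Cfsg.Agent.Helper9.TS4
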