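import Cfsg.Agent.Helper22.S1589Basic

/-! S1589 piece SIX: the pointwise stabiliser in `M24` of six points of an octad has order
at most 32. -/

set_option autoImplicit false

namespace Cfsg.Agent.S1589P

open Cfsg Cfsg.Agent.Helper27 Cfsg.Agent.Helper17.M23Idx
open scoped Pointwise

/-- SIX -/
theorem card_fixG_six_le {o : Finset GolayPt} (ho : o ∈ octads) {F : Finset GolayPt} (hF : F ⊆ o)
    (hc : F.card = 6) : Nat.card (fixG F) ≤ 32 := by
  classical
  have hoc : o.card = 8 := ho.2
  have hstab : ∀ g ∈ fixH M24 F, g • o = o := by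
    intro g hg
    rw [mem_fixH] at hg
    apply octad_fixed hg.1 ho hg.2
    rw [Finset.inter_eq_right.mpr hF, hc]
    norm_num
  have hinv : ∀ g ∈ fixH M24 F, ∀ q ∈ o \ F, g q ∈ o \ F := by
    intro g hg q hq
    rw [Finset.mem_sdiff] at hq ⊢
    refine ⟨?_, apply_not_mem_of_fixH hg hq.2⟩
    rw [← hstab g hg]
    exact (mem_smul_finset_perm g o q).mpr hq.1
  have hdc : (o \ F).card = 2 := by
    rw [Finset.card_sdiff_of_subset hF, hoc, hc]
  obtain ⟨p, hp⟩ : (o \ F).Nonempty := by
    rw [← Finset.card_pos, hdc]; norm_num
  have h1 := card_fixH_le M24 F (o \ F) p hp hinv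
  rw [hdc] at h1
  have hle : fixH M24 (insert p F) ≤ fixG o := by
    intro g hg
    have hg' := (mem_fixH _ _ g).mp hg
    rw [mem_fixG]
    refine ⟨hg'.1, ?_⟩
    have hgF : g ∈ fixH M24 F := by
      rw [mem_fixH]
      exact ⟨hg'.1, fun q hq => hg'.2 q (Finset.mem_insert_of_mem hq)⟩
    have hgo := hstab g hgF
    intro q hq
    by_cases hqI : q ∈ insert p F
    · exact hg'.2 q hqI
    · -- `q` is the eighth point of the octad
      have hgq : g q ∈ o := by
        rw [← hgo]
        exact (mem_smul_finset_perm g o q).mpr hq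
      by_contra hne
      -- then g q is one of the seven fixed points
      have hgqI : g q ∈ insert p F := by
        by_contra hgqI
        -- both q and g q lie in o \ insert p F, which has one element
        have hsub : insert p F ⊆ o := by
          intro x hx
          rw [Finset.mem_insert] at hx
          rcases hx with rfl | hx
          · exact (Finset.mem_sdiff.mp hp).1
          · exact hF hx
        have hc7 : (insert p F).card = 7 := by
          rw [Finset.card_insert_of_notMem (Finset.mem_sdiff.mp hp).2, hc]
        have hc1 : (o \ insert p F).card = 1 := by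
          rw [Finset.card_sdiff_of_subset hsub, hoc, hc7]
        obtain ⟨w, hw⟩ := Finset.card_eq_one.mp hc1
        have h1 : q ∈ o \ insert p F := Finset.mem_sdiff.mpr ⟨hq, hqI⟩
        have h2 : g q ∈ o \ insert p F := Finset.mem_sdiff.mpr ⟨hgq, hgqI⟩
        rw [hw, Finset.mem_singleton] at h1 h2
        exact hne (h2.trans h1.symm)
      have := hg'.2 (g q) hgqI
      have hq' : g q = q := g.injective this
      exact hne hq'
  have h2 := Subgroup.card_le_of_le hle
  rw [card_fixG_octad ho] at h2
  calc Nat.card (fixG F) ≤ 2 * Nat.card (fixH M24 (insert p F)) := h1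
    _ ≤ 2 * 16 := Nat.mul_le_mul_left _ h2
    _ = 32 := by norm_num

end Cfsg.Agent.S1589P
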