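import Mathlib
import Cfsg.Agent.Helper26.S5320.Defs
import Cfsg.Agent.Helper2.SL2Sylow
import Cfsg.Agent.Helper18.S5320Q8MEM

/-! # S5320 piece Q8SYL (helper9): `Q₈` is a Sylow `2`-subgroup of `SL₂(q)` when `16 ∤ q² - 1`. -/

set_option autoImplicit false
set_option linter.unusedSectionVars false
set_option linter.unusedVariables false

namespace Cfsg.Agent.S5320P

open Matrix

variable {F : Type*} [Field F]

namespace Q8SYL

/-- the `2`-part of `2 ^ k * t`, `t` odd -/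
theorem factorization_two {N t k : ℕ} (h : N = 2 ^ k * t) (ht : ¬ 2 ∣ t) :
    N.factorization 2 = k := by
  have ht0 : t ≠ 0 := by
    rintro rfl
    exact ht (dvd_zero _)
  rw [h, Nat.factorization_mul (pow_ne_zero _ (by norm_num)) ht0, Finsupp.add_apply,
    Nat.Prime.factorization_pow Nat.prime_two, Finsupp.single_eq_same,
    Nat.factorization_eq_zero_of_not_dvd ht, add_zero]

/-- `2 ≠ 0` in a finite field of odd order -/
theorem two_ne_zero_of_odd [Fintype F] (hodd : Fintype.card F % 2 = 1) : (2 : F) ≠ 0 := by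
  intro h2
  have hchar : CharP F 2 := CharTwo.of_one_ne_zero_of_two_eq_zero one_ne_zero h2
  have : 2 ∣ Fintype.card F := by
    have h := FiniteField.card F 2
    obtain ⟨n, _, hn⟩ := h
    rw [hn]
    exact dvd_pow_self 2 (PNat.ne_zero n)
  omega

/-- `q² - 1 = 8 k` for odd `q` -/
theorem eight_dvd {q : ℕ} (hq : q % 2 = 1) : 8 ∣ q ^ 2 - 1 := by
  obtain ⟨k, rfl⟩ : ∃ k, q = 2 * k + 1 := ⟨q / 2, by omega⟩
  have h : (2 * k + 1) ^ 2 - 1 = 4 * (k * (k + 1)) := by
    have : (2 * k + 1) ^ 2 = 4 * (k * (k + 1)) + 1 := by ring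
    omega
  rw [h]
  have h2 : 2 ∣ k * (k + 1) := Nat.even_mul_succ_self k |>.two_dvd
  obtain ⟨j, hj⟩ := h2
  exact ⟨j, by rw [hj]; ring⟩

end Q8SYL

/-- Q8SYL (S-M; uses Q8MEM.card): `|L| = q (q² - 1)`, `8 ∣ q² - 1`, `16 ∤ q² - 1`, `q` odd ⇒ the `2`-part is `8`; `Sylow.ofCard`. -/
theorem Q8SYL.exists_sylow [Fintype F] (hodd : Fintype.card F % 2 = 1)
    (h16 : ¬ 16 ∣ Fintype.card F ^ 2 - 1) {a b : F} (hab : a ^ 2 + b ^ 2 = -1) :
    ∃ Q : Sylow 2 (L F), (Q : Subgroup (L F)) = Q8 a b hab := by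
  classical
  have h2 : (2 : F) ≠ 0 := Q8SYL.two_ne_zero_of_odd hodd
  have hcard8 : Nat.card (Q8 a b hab) = 8 := Q8MEM.card h2 hab
  have hL : Nat.card (L F) = Fintype.card F * (Fintype.card F ^ 2 - 1) :=
    Cfsg.Agent.Helper2.SL2.card_SL2
  obtain ⟨k, hk⟩ := Q8SYL.eight_dvd hodd
  have hkodd : ¬ 2 ∣ k := by
    rintro ⟨j, rfl⟩
    exact h16 ⟨j, by rw [hk]; ring⟩
  have hqodd : ¬ 2 ∣ Fintype.card F := by omega
  have hfac : (Nat.card (L F)).factorization 2 = 3 := by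
    apply Q8SYL.factorization_two (t := Fintype.card F * k)
    · rw [hL, hk]; ring
    · intro h
      rcases (Nat.Prime.dvd_mul Nat.prime_two).1 h with h | h
      · exact hqodd h
      · exact hkodd h
  have : Fact (Nat.Prime 2) := ⟨Nat.prime_two⟩
  have : Finite (L F) := Nat.finite_of_card_ne_zero (by
    rw [hL, hk]
    have : 0 < Fintype.card F := Fintype.card_pos
    have hk0 : k ≠ 0 := by rintro rfl; exact hkodd (dvd_zero _)
    positivity)
  refine ⟨Sylow.ofCard (Q8 a b hab) ?_, rfl⟩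
  rw [hcard8, hfac]
  norm_num

end Cfsg.Agent.S5320P
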