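import Mathlib
import Cfsg.Agent.Helper7.S5655.Defs3
import Cfsg.Agent.Helper7.S5655.MonoLib

/-! S5655 (k = 1), chapter SEC (helper7), piece SECBLOCK (helper9): an isometry whose column `o` is a multiple of `e_o`
has row `o` a multiple of `e_oᵀ` and commutes with `d1m o ε`. -/

set_option autoImplicit false
set_option linter.unusedSectionVars false
set_option linter.unusedVariables false

namespace Cfsg.Agent.S5655K1

open Matrix
open Cfsg.Agent.S2644 Cfsg.Agent.Helper2.SUGen Cfsg.Agent.Helper28.SimMax Cfsg.Agent.MonoP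

variable {K : Type*} [Field K] {q n : ℕ}

local notation "h" => Cfsg.hermForm n K q
local notation "T" => Cfsg.unitaryTransvection n q

namespace SECBLOCK

/-- the row `o` of an isometry whose column `o` is in `⟨e_o⟩` -/
theorem row_zero (D : Frob K q) (o : Fin n) (B : Matrix (Fin n) (Fin n) K) (hB : Pres (q := q) B)
    (hcol : ∀ i, i ≠ o → B i o = 0) (j : Fin n) (hj : j ≠ o) : B o j = 0 := by
  -- `B e_o = B o o • e_o`
  have hcolv : B *ᵥ (Pi.single o (1 : K) : Fin n → K) = B o o • (Pi.single o (1 : K) : Fin n → K) := by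
    funext i
    rw [Matrix.mulVec_single_one, Pi.smul_apply, Pi.single_apply, smul_eq_mul]
    show B i o = _
    split_ifs with hi
    · rw [hi, mul_one]
    · rw [mul_zero]
      exact hcol i hi
  have h1 := hB (Pi.single o (1 : K)) (Pi.single o (1 : K))
  rw [hcolv, h_smul_left, h_smul_right D, Cfsg.Agent.S5658P.h_single_left D, Pi.single_eq_same,
    map_one, mul_one] at h1
  have hc0 : D.σ (B o o) ≠ 0 := by
    intro h0
    rw [h0, mul_zero] at h1
    exact zero_ne_one h1
  have h2 := hB (Pi.single j (1 : K)) (Pi.single o (1 : K))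
  rw [hcolv, h_smul_right D, Cfsg.Agent.S5658P.h_single_right D, Cfsg.Agent.S5658P.h_single_right D,
    Pi.single_eq_of_ne hj.symm, Matrix.mulVec_single_one] at h2
  have h3 : D.σ (B o o) * B o j = 0 := h2
  rcases mul_eq_zero.mp h3 with h4 | h4
  · exact absurd h4 hc0
  · exact h4

end SECBLOCK

/-- SECBLOCK (S-M) -/
theorem SECBLOCK.comm (D : Frob K q) (o : Fin n) (B : Matrix (Fin n) (Fin n) K) (hB : Pres (q := q) B)
    (hcol : ∀ i, i ≠ o → B i o = 0) (ε : K) :
    (∀ j, j ≠ o → B o j = 0) ∧ B * d1m o ε = d1m o ε * B := by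
  have hrow := SECBLOCK.row_zero D o B hB hcol
  refine ⟨hrow, ?_⟩
  ext i j
  unfold d1m
  rw [Matrix.mul_diagonal, Matrix.diagonal_mul]
  by_cases hi : i = o
  · by_cases hj : j = o
    · rw [hi, hj, mul_comm]
    · rw [hi, hrow j hj, zero_mul, mul_zero]
  · by_cases hj : j = o
    · rw [hj, hcol i hi, zero_mul, mul_zero]
    · rw [Function.update_of_ne hi, Function.update_of_ne hj, mul_one, one_mul]

end Cfsg.Agent.S5655K1
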