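import Mathlib
import Cfsg.Agent.Lead.Coprime3

set_option autoImplicit false

/-! Piece MINR of S3797 (driver helper25): a minimal `W`-invariant subgroup of an odd-order group `O`
not centralized by the 2-group `A` is an `r`-group with `R = [R, A]`. -/

namespace Cfsg.Agent.Helper9.Th

open Subgroup
open scoped commutatorElement

variable {X : Type*} [Group X]

/-- `A` centralizes `K`, elementwise. -/
def CentBy (A K : Subgroup X) : Prop := ∀ x ∈ K, ∀ a ∈ A, a * x = x * a

/-- `K` is invariant under conjugation by `W`. -/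
def InvBy (W K : Subgroup X) : Prop := ∀ w ∈ W, ∀ x ∈ K, w * x * w⁻¹ ∈ K

theorem centBy_iff (A K : Subgroup X) : CentBy A K ↔ ⁅K, A⁆ = ⊥ := by
  rw [Subgroup.commutator_eq_bot_iff_le_centralizer]
  constructor
  · intro h x hx
    rw [Subgroup.mem_centralizer_iff]
    intro a ha
    exact h x hx a ha
  · intro h x hx a ha
    exact (Subgroup.mem_centralizer_iff.mp (h hx)) a ha

theorem InvBy.le_normalizer {W K : Subgroup X} (h : InvBy W K) :
    W ≤ normalizer (K : Set X) := by
  intro w hw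
  rw [mem_normalizer_iff]
  intro x
  constructor
  · exact h w hw x
  · intro hx
    have := h w⁻¹ (W.inv_mem hw) _ hx
    have e : w⁻¹ * (w * x * w⁻¹) * w⁻¹⁻¹ = x := by group
    rwa [e] at this

theorem InvBy.commutator {W K L : Subgroup X} (hK : InvBy W K) (hL : InvBy W L) :
    InvBy W ⁅K, L⁆ := by
  intro w hw x hx
  set c : X →* X := (MulAut.conj w).toMonoidHom with hc
  have hKc : K.map c ≤ K := by
    rintro _ ⟨y, hy, rfl⟩
    exact hK w hw y hy
  have hLc : L.map c ≤ L := by
    rintro _ ⟨y, hy, rfl⟩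
    exact hL w hw y hy
  have h1 : (⁅K, L⁆).map c ≤ ⁅K, L⁆ := by
    rw [Subgroup.map_commutator]
    exact Subgroup.commutator_mono hKc hLc
  exact h1 ⟨x, hx, rfl⟩

theorem InvBy.map_characteristic {W R : Subgroup X} (hR : InvBy W R) (C : Subgroup R)
    [hC : C.Characteristic] : InvBy W (C.map R.subtype) := by
  intro w hw x hx
  obtain ⟨y, hy, rfl⟩ := hx
  have hwN : w ∈ normalizer (R : Set X) := hR.le_normalizer hw
  let φ : MulAut R := R.normalizerMonoidHom ⟨w, hwN⟩
  have h1 : φ y ∈ C := by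
    have := (Subgroup.characteristic_iff_map_eq.mp hC) φ
    rw [← this]
    exact ⟨y, hy, rfl⟩
  exact ⟨φ y, h1, rfl⟩

theorem map_subtype_commutator (R : Subgroup X) :
    (_root_.commutator R).map R.subtype = ⁅R, R⁆ := by
  rw [commutator_def, Subgroup.map_commutator, ← MonoidHom.range_eq_map, Subgroup.range_subtype]

theorem exists_minimal_rgroup {X : Type*} [Group X] [Finite X] (hsol : Group.IsSolvable X)
    (O A W : Subgroup X) (hOodd : Odd (Nat.card O)) (hA : IsPGroup 2 A) (hAW : A ≤ W)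
    (hWA : ∀ w ∈ W, ∀ a ∈ A, w * a * w⁻¹ ∈ A) (hWO : ∀ w ∈ W, ∀ x ∈ O, w * x * w⁻¹ ∈ O)
    (hnt : ∃ x ∈ O, ∃ a ∈ A, a * x ≠ x * a) :
    ∃ (r : ℕ) (R : Subgroup X), r.Prime ∧ r ≠ 2 ∧ R ≤ O ∧ IsPGroup r R ∧
      (∀ w ∈ W, ∀ x ∈ R, w * x * w⁻¹ ∈ R) ∧
      (∀ K : Subgroup X, K ≤ R → K ≠ R → (∀ w ∈ W, ∀ x ∈ K, w * x * w⁻¹ ∈ K) →
        ∀ x ∈ K, ∀ a ∈ A, a * x = x * a) ∧
      (∃ x ∈ R, ∃ a ∈ A, a * x ≠ x * a) ∧
      (∀ M : Subgroup X, M.Normal → A ≤ M → R ≤ M) := by
  classical
  have := hsol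
  -- the family of candidates
  let 𝒮 : Set (Subgroup X) := {R | R ≤ O ∧ InvBy W R ∧ ¬ CentBy A R}
  have hO𝒮 : O ∈ 𝒮 := by
    refine ⟨le_rfl, hWO, fun h => ?_⟩
    obtain ⟨x, hx, a, ha, hne⟩ := hnt
    exact hne (h x hx a ha)
  obtain ⟨R, hR𝒮, hRmin⟩ := wellFounded_lt.has_min 𝒮 ⟨O, hO𝒮⟩
  obtain ⟨hRO, hRW, hRA⟩ := hR𝒮
  have hmin : ∀ K : Subgroup X, K ≤ R → K ≠ R → InvBy W K → CentBy A K := by
    intro K hKR hne hKW
    by_contra hcon
    exact hRmin K ⟨hKR.trans hRO, hKW, hcon⟩ (lt_of_le_of_ne hKR hne)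
  -- coprimality
  have hRodd : Odd (Nat.card R) := hOodd.of_dvd_nat (Subgroup.card_dvd_of_le hRO)
  have hcop : (Nat.card A).Coprime (Nat.card R) := by
    obtain ⟨k, hk⟩ := IsPGroup.iff_card.mp hA
    rw [hk]
    exact (Nat.coprime_two_left.mpr hRodd).pow_left k
  have hAN : A ≤ normalizer (R : Set X) := hAW.trans hRW.le_normalizer
  have hsolvA : Group.IsSolvable A ∨ Group.IsSolvable R := Or.inr inferInstance
  -- (1) `R = [R, A]`
  have hRA' : ⁅R, A⁆ = R := by
    have hle : ⁅R, A⁆ ≤ R := Cfsg.Agent.Lead.commutator_le_of_le_normalizer hAN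
    by_contra hne
    have hinv : InvBy W ⁅R, A⁆ := hRW.commutator hWA
    have hc := hmin _ hle hne hinv
    rw [centBy_iff, Cfsg.Agent.Lead.coprime_commutator_commutator A R hAN hcop hsolvA] at hc
    exact hRA ((centBy_iff A R).mpr hc)
  -- (2) the derived subgroup is central
  set D := ⁅R, R⁆ with hD
  have hDR : D ≤ R := Cfsg.Agent.Lead.commutator_le_of_le_normalizer Subgroup.le_normalizer
  have hRne : R ≠ ⊥ := by
    rintro rfl
    apply hRA
    intro x hx a _
    rw [Subgroup.mem_bot] at hx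
    rw [hx, mul_one, one_mul]
  have hDne : D ≠ R := by
    have hnt' : Nontrivial R := (Subgroup.nontrivial_iff_ne_bot R).mpr hRne
    have hlt := Group.IsSolvable.commutator_lt_top_of_nontrivial R
    intro h
    have h2 : (_root_.commutator R).map R.subtype = (⊤ : Subgroup R).map R.subtype := by
      rw [map_subtype_commutator, ← MonoidHom.range_eq_map, Subgroup.range_subtype]
      exact h
    exact (ne_of_lt hlt) (Subgroup.map_injective R.subtype_injective h2)
  have hDW : InvBy W D := hRW.commutator hRW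
  have hDA : ⁅D, A⁆ = ⊥ := (centBy_iff A D).mp (hmin D hDR hDne hDW)
  have hRD : ⁅R, D⁆ = ⊥ := by
    have h1 : ⁅⁅A, D⁆, R⁆ = ⊥ := by
      rw [Subgroup.commutator_comm A D, hDA, Subgroup.commutator_bot_left]
    have h2 : ⁅⁅D, R⁆, A⁆ = ⊥ := by
      have h3 : ⁅D, R⁆ ≤ D := Subgroup.commutator_mono hDR le_rfl
      exact le_bot_iff.mp (hDA ▸ Subgroup.commutator_mono h3 (le_refl A))
    have h3 := Subgroup.commutator_commutator_eq_bot_of_rotate h1 h2
    rwa [hRA'] at h3
  -- `R` is nilpotent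
  have hnil : Group.IsNilpotent R := by
    have hker : (Abelianization.of : R →* Abelianization R).ker ≤ center R := by
      rw [Abelianization.ker_of]
      intro z hz
      rw [Subgroup.mem_center_iff]
      intro g
      have hzD : (z : X) ∈ D := by
        rw [hD, ← map_subtype_commutator]
        exact ⟨z, hz, rfl⟩
      have hg := (Subgroup.commutator_eq_bot_iff_le_centralizer.mp hRD) g.2
      apply Subtype.ext
      exact ((Subgroup.mem_centralizer_iff.mp hg) z hzD).symm
    exact Subgroup.isNilpotent_of_ker_le_center _ hker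
  -- some Sylow subgroup of `R` is not centralized by `A`
  have hsyl : ∃ (r : ℕ) (_ : Fact r.Prime) (P : Sylow r R),
      ¬ CentBy A ((P : Subgroup R).map R.subtype) := by
    by_contra hcon
    push Not at hcon
    apply hRA
    set C := R ⊓ centralizer (A : Set X) with hC
    have hdvd : Nat.card R ∣ Nat.card C := by
      rw [← Nat.factorization_prime_le_iff_dvd Nat.card_pos.ne' Nat.card_pos.ne']
      intro r hr
      have : Fact r.Prime := ⟨hr⟩
      obtain ⟨P⟩ : Nonempty (Sylow r R) := inferInstance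
      have hP := hcon r ⟨hr⟩ P
      have hPC : (P : Subgroup R).map R.subtype ≤ C := by
        rintro _ ⟨y, hy, rfl⟩
        refine mem_inf.mpr ⟨y.2, ?_⟩
        rw [mem_centralizer_iff]
        intro a ha
        exact hP _ ⟨y, hy, rfl⟩ a ha
      have h1 : Nat.card ((P : Subgroup R).map R.subtype) ∣ Nat.card C :=
        Subgroup.card_dvd_of_le hPC
      rw [Subgroup.card_map_of_injective R.subtype_injective, Sylow.card_eq_multiplicity] at h1
      exact (hr.pow_dvd_iff_le_factorization Nat.card_pos.ne').mp h1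
    have hCR : C = R :=
      Subgroup.eq_of_le_of_card_ge inf_le_left (Nat.le_of_dvd Nat.card_pos hdvd)
    intro x hx a ha
    have hxC : x ∈ C := hCR ▸ hx
    exact (mem_centralizer_iff.mp (mem_inf.mp hxC).2) a ha
  obtain ⟨r, hrfact, P, hP⟩ := hsyl
  have hr : r.Prime := hrfact.out
  have hPnormal : (P : Subgroup R).Normal := inferInstance
  have hPchar : (P : Subgroup R).Characteristic := P.characteristic_of_normal hPnormal
  have hPW : InvBy W ((P : Subgroup R).map R.subtype) := hRW.map_characteristic _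
  have hPR : (P : Subgroup R).map R.subtype = R := by
    by_contra hne
    exact hP (hmin _ (Subgroup.map_subtype_le _) hne hPW)
  have hRr : IsPGroup r R := by
    have h1 : IsPGroup r ((P : Subgroup R).map R.subtype) := P.2.map _
    exact hPR ▸ h1
  refine ⟨r, R, hr, ?_, hRO, hRr, hRW, ?_, ?_, ?_⟩
  · rintro rfl
    obtain ⟨k, hk⟩ := IsPGroup.iff_card.mp hRr
    rw [hk] at hRodd
    have hk0 : k = 0 := by
      by_contra hk0
      exact (Nat.not_even_iff_odd.mpr hRodd) (Nat.even_pow.mpr ⟨even_two, hk0⟩)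
    rw [hk0, pow_zero] at hk
    exact hRne (Subgroup.card_eq_one.mp hk)
  · intro K hKR hne hKW
    exact hmin K hKR hne hKW
  · by_contra hcon
    push Not at hcon
    exact hRA hcon
  · intro M hM hAM
    rw [← hRA']
    exact (Subgroup.commutator_mono le_rfl hAM).trans (Subgroup.commutator_le_right R M)

end Cfsg.Agent.Helper9.Th
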