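import Mathlib
import Cfsg.Prelude.Def_CaseTheorems
import Cfsg.Agent.Helper26.S1237Defs

/-!
# S1237 board, piece INV: the involutions are central and form a four-group
-/

set_option autoImplicit false
set_option linter.unusedSectionVars false
set_option linter.style.haveILetI false

namespace Cfsg.Agent.S1237P

/-- automorphisms preserve the centre. -/
theorem INV_aux_center {T : Type*} [Group T] (α : MulAut T) {z : T}
    (hz : z ∈ Subgroup.center T) : α z ∈ Subgroup.center T := by
  rw [Subgroup.mem_center_iff] at hz ⊢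
  intro g
  have h1 : g = α (α⁻¹ g) := by simp
  rw [h1, ← map_mul, ← map_mul, hz]

theorem INV {T : Type*} [Group T] [Finite T] (hT : IsPGroup 2 T) (h2 : Cfsg.PRankLE 2 2 T)
    (h1 : ¬ Cfsg.PRankLE 2 1 T) (φ : MulAut T)
    (htrans : ∀ s t : T, orderOf s = 2 → orderOf t = 2 → ∃ k : ℕ, (φ ^ k) s = t) :
    ∃ V : Subgroup T, Ctx V φ := by
  classical
  haveI : Fact (Nat.Prime 2) := ⟨Nat.prime_two⟩
  -- the witness of rank ≥ 2
  unfold Cfsg.PRankLE at h1
  push Not at h1
  obtain ⟨A, hAc, hAe, hAcard⟩ := h1
  have hord : ∀ x : T, x ≠ 1 → x * x = 1 → orderOf x = 2 := by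
    intro x hx1 hx2
    exact orderOf_eq_prime (by rw [pow_two]; exact hx2) hx1
  -- T is non-trivial
  haveI : Nontrivial T := by
    by_contra h
    rw [not_nontrivial_iff_subsingleton] at h
    have : Nat.card A ≤ 1 := by
      haveI : Subsingleton A := inferInstance
      exact Finite.card_le_one_iff_subsingleton.mpr inferInstance
    omega
  -- a central involution
  haveI := hT.center_nontrivial
  have hZ : Subgroup.center T ≠ ⊥ := by
    intro h
    have : Subsingleton (Subgroup.center T) := by rw [h]; infer_instance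
    exact not_subsingleton _ this
  obtain ⟨z, hzc, hz1, hz2⟩ : ∃ z ∈ Subgroup.center T, z ≠ 1 ∧ z * z = 1 := by
    have hNp : IsPGroup 2 (Subgroup.center T) := hT.to_subgroup _
    obtain ⟨n, hn⟩ := IsPGroup.iff_card.mp hNp
    have hn0 : n ≠ 0 := by
      intro h
      rw [h, pow_zero] at hn
      exact hZ (Subgroup.card_eq_one.mp hn)
    have hdvd : 2 ∣ Nat.card (Subgroup.center T) := by rw [hn]; exact dvd_pow_self 2 hn0
    obtain ⟨z, hz⟩ := exists_prime_orderOf_dvd_card' 2 hdvd
    refine ⟨(z : T), z.2, ?_, ?_⟩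
    · intro h
      have : z = 1 := Subtype.ext h
      rw [this, orderOf_one] at hz
      norm_num at hz
    · have h2 : z ^ 2 = 1 := by rw [← hz]; exact pow_orderOf_eq_one z
      have := congrArg (fun y : Subgroup.center T => (y : T)) h2
      simpa [pow_two] using this
  -- every involution is central
  have hcent : ∀ x : T, x * x = 1 → x ∈ Subgroup.center T := by
    intro x hx
    by_cases hx1 : x = 1
    · rw [hx1]; exact one_mem _
    · obtain ⟨k, hk⟩ := htrans z x (hord z hz1 hz2) (hord x hx1 hx)
      rw [← hk]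
      exact INV_aux_center _ hzc
  let V : Subgroup T :=
    { carrier := {x | x * x = 1}
      one_mem' := by simp
      mul_mem' := by
        intro a b ha hb
        have hac : a ∈ Subgroup.center T := hcent a ha
        have h3 : b * a = a * b := Subgroup.mem_center_iff.mp hac b
        show a * b * (a * b) = 1
        calc a * b * (a * b) = a * (b * a) * b := by group
          _ = a * (a * b) * b := by rw [h3]
          _ = (a * a) * (b * b) := by group
          _ = 1 := by rw [ha, hb, one_mul]
      inv_mem' := by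
        intro a ha
        show a⁻¹ * a⁻¹ = 1
        have : a⁻¹ * a⁻¹ = (a * a)⁻¹ := by group
        rw [this, ha, inv_one] }
  have hVmem : ∀ x : T, x ∈ V ↔ x * x = 1 := fun x => Iff.rfl
  have hVc : V ≤ Subgroup.center T := fun x hx => hcent x ((hVmem x).mp hx)
  have hAV : A ≤ V := by
    intro a ha
    rw [hVmem, ← pow_two]
    exact hAe a ha
  haveI : IsMulCommutative V := ⟨⟨by
    intro a b
    apply Subtype.ext
    show (a : T) * (b : T) = (b : T) * (a : T)
    exact (Subgroup.mem_center_iff.mp (hVc a.2) (b : T)).symm⟩⟩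
  have hle : Nat.card V ≤ 2 ^ 2 := h2 V inferInstance (by
    intro a ha
    rw [pow_two]; exact (hVmem a).mp ha)
  have hge : 2 ^ 1 < Nat.card V := lt_of_lt_of_le hAcard (Subgroup.card_le_of_le hAV)
  have hcard : Nat.card V = 4 := by
    obtain ⟨n, hn⟩ := IsPGroup.iff_card.mp (hT.to_subgroup V)
    rw [hn] at hle hge ⊢
    have hn2 : n ≤ 2 := (Nat.pow_le_pow_iff_right (by norm_num)).mp hle
    have hn1 : 1 < n := (Nat.pow_lt_pow_iff_right (by norm_num)).mp hge
    have : n = 2 := by omega
    rw [this]; norm_num
  refine ⟨V, hVmem, hVc, hcard, ?_⟩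
  intro s hs t ht hs1 ht1
  exact htrans s t (hord s hs1 ((hVmem s).mp hs)) (hord t ht1 ((hVmem t).mp ht))

end Cfsg.Agent.S1237P
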