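import Mathlib
import Cfsg.Agent.Helper26.S3050Defs

set_option autoImplicit false

namespace Cfsg.Agent.S3050P

open Cfsg.Agent.Helper18.NatMod Cfsg.Agent.S3050P

section groups

variable {G : Type*} [Group G] (Q : Subgroup G) [Q.Normal]

/-- a nontrivial finite 2-group has a central involution -/
theorem D7a_aux_central_invol [Finite G] (hQ : IsPGroup 2 ↥Q) (hne : Q ≠ ⊥) :
    ∃ z : G, z ∈ omz Q ∧ z ≠ 1 := by
  have : Fact (Nat.Prime 2) := ⟨Nat.prime_two⟩
  have hnt : Nontrivial ↥Q := (Subgroup.nontrivial_iff_ne_bot Q).mpr hne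
  have hcn : Nontrivial ↥(Subgroup.center ↥Q) := hQ.center_nontrivial
  have hcp : IsPGroup 2 ↥(Subgroup.center ↥Q) := hQ.to_subgroup _
  have hcard : 2 ∣ Nat.card ↥(Subgroup.center ↥Q) := by
    obtain ⟨n, hn⟩ := hcp.exists_card_eq
    rcases Nat.eq_zero_or_pos n with h0 | hpos
    · rw [h0, pow_zero] at hn
      have := (Nat.card_eq_one_iff_unique.mp hn).1
      exact absurd hcn (not_nontrivial _)
    · rw [hn]; exact dvd_pow_self 2 hpos.ne'
  obtain ⟨z, hz⟩ := exists_prime_orderOf_dvd_card' 2 hcard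
  refine ⟨((z : ↥Q) : G), ⟨(z : ↥Q).2, ?_, ?_⟩, ?_⟩
  · intro q hq
    have := Subgroup.mem_center_iff.mp z.2 ⟨q, hq⟩
    have h2 := congrArg (Subtype.val) this
    simpa using h2.symm
  · have h1 : z ^ 2 = 1 := by rw [← hz]; exact pow_orderOf_eq_one z
    have h2 : (((z ^ 2 : ↥(Subgroup.center ↥Q)) : ↥Q) : G) = 1 := by rw [h1]; rfl
    simpa [pow_two] using h2
  · intro h
    have h1 : z = 1 := by
      apply Subtype.ext; apply Subtype.ext; simpa using h
    rw [h1, orderOf_one] at hz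
    omega

/-- D7a -/
theorem omz_props [Finite G] (hQ : IsPGroup 2 ↥Q) :
    omz Q ≤ Q ∧ (omz Q).Normal ∧ (∀ a ∈ omz Q, ∀ b ∈ omz Q, a * b = b * a) ∧
      Q ≤ Subgroup.centralizer (omz Q : Set G) ∧ (∀ m ∈ omz Q, m * m = 1) ∧
      (Q ≠ ⊥ → omz Q ≠ ⊥) := by
  refine ⟨fun z hz => hz.1, ⟨?_⟩, ?_, ?_, fun m hm => hm.2.2, ?_⟩
  · rintro z ⟨hzQ, hzc, hz2⟩ g
    have hN : Q.Normal := inferInstance
    refine ⟨hN.conj_mem z hzQ g, ?_, ?_⟩
    · intro q hq
      have hq' : g⁻¹ * q * g ∈ Q := by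
        have := hN.conj_mem q hq g⁻¹
        simpa using this
      have h := hzc _ hq'
      calc g * z * g⁻¹ * q = g * (z * (g⁻¹ * q * g)) * g⁻¹ := by group
        _ = g * ((g⁻¹ * q * g) * z) * g⁻¹ := by rw [h]
        _ = q * (g * z * g⁻¹) := by group
    · calc g * z * g⁻¹ * (g * z * g⁻¹) = g * (z * z) * g⁻¹ := by group
        _ = 1 := by rw [hz2]; group
  · intro a ha b hb
    exact ha.2.1 b hb.1
  · intro q hq
    rw [Subgroup.mem_centralizer_iff]
    intro z hz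
    exact hz.2.1 q hq
  · intro hne hbot
    obtain ⟨z, hz, hz1⟩ := D7a_aux_central_invol Q hQ hne
    rw [hbot, Subgroup.mem_bot] at hz
    exact hz1 hz

end groups

end Cfsg.Agent.S3050P
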