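import Mathlib
import Cfsg.Agent.Helper26.S5320.Defs
import Cfsg.Agent.Helper2.SL2Sylow
import Cfsg.Agent.Helper2.SpCard
import Cfsg.Agent.Helper17.S5320SWCARD

/-! # S5320 piece SYL (helper9): `Q ≀ 2` is a Sylow `2`-subgroup of `Sp₄(q)`, `q` odd. -/

set_option autoImplicit false
set_option linter.unusedSectionVars false
set_option linter.unusedVariables false

namespace Cfsg.Agent.S5320P

open Matrix

variable {F : Type*} [Field F]

namespace SYL

/-- the `2`-part of `2 ^ k * t`, `t` odd -/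
theorem factorization_two {N t k : ℕ} (h : N = 2 ^ k * t) (ht : ¬ 2 ∣ t) :
    N.factorization 2 = k := by
  have ht0 : t ≠ 0 := by
    rintro rfl
    exact ht (dvd_zero _)
  rw [h, Nat.factorization_mul (pow_ne_zero _ (by norm_num)) ht0, Finsupp.add_apply,
    Nat.Prime.factorization_pow Nat.prime_two, Finsupp.single_eq_same,
    Nat.factorization_eq_zero_of_not_dvd ht, add_zero]

/-- `q² + 1 = 2 w`, `w` odd, for odd `q` -/
theorem sq_add_one {q : ℕ} (hq : q % 2 = 1) : ∃ w, q ^ 2 + 1 = 2 * w ∧ ¬ 2 ∣ w := by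
  obtain ⟨k, rfl⟩ : ∃ k, q = 2 * k + 1 := ⟨q / 2, by omega⟩
  refine ⟨2 * (k * (k + 1)) + 1, by ring, by omega⟩

/-- `q⁴ - 1 = (q² - 1)(q² + 1)` -/
theorem pow_four_sub_one (q : ℕ) (hq : 1 ≤ q) : q ^ 4 - 1 = (q ^ 2 - 1) * (q ^ 2 + 1) := by
  have h1 : 1 ≤ q ^ 2 := Nat.one_le_pow _ _ hq
  have h2 : 1 ≤ q ^ 4 := Nat.one_le_pow _ _ hq
  zify [h1, h2]
  ring

end SYL

/-- SYL (M; uses SWCARD): `Q ≀ 2` is a Sylow `2`-subgroup of `Sp₄(q)`. -/
theorem SYL.exists_sylow [Fintype F] (hodd : Fintype.card F % 2 = 1) (Q : Sylow 2 (L F)) :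
    ∃ St : Sylow 2 (Gt F), (St : Subgroup (Gt F)) = SW (Q : Subgroup (L F)) := by
  classical
  have : Fact (Nat.Prime 2) := ⟨Nat.prime_two⟩
  set q := Fintype.card F with hq
  have hq1 : 1 ≤ q := Fintype.card_pos
  have hq3 : 3 ≤ q := by
    have : 1 < q := Fintype.one_lt_card
    omega
  have hL : Nat.card (L F) = q * (q ^ 2 - 1) := Cfsg.Agent.Helper2.SL2.card_SL2
  have hG : Nat.card (Gt F) = q ^ 4 * ((q ^ 2 - 1) * (q ^ 4 - 1)) := by
    have h := Cfsg.Agent.Helper2.Sp.card_symplectic_fin (F := F) 2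
    rw [h, Finset.prod_range_succ, Finset.prod_range_one]
    norm_num
    rfl
  have hA0 : q ^ 2 - 1 ≠ 0 := by
    have : 9 ≤ q ^ 2 := by nlinarith
    omega
  -- `q² - 1 = 2^m s`, `s` odd
  set m := (q ^ 2 - 1).factorization 2 with hm
  set s := (q ^ 2 - 1) / 2 ^ m with hs
  have hAs : q ^ 2 - 1 = 2 ^ m * s := (Nat.ordProj_mul_ordCompl_eq_self (q ^ 2 - 1) 2).symm
  have hsodd : ¬ 2 ∣ s := Nat.not_dvd_ordCompl Nat.prime_two hA0
  have hqodd : ¬ 2 ∣ q := by omega
  have : Finite (L F) := Nat.finite_of_card_ne_zero (by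
    rw [hL]; exact Nat.mul_ne_zero (by omega) hA0)
  have hLfac : (Nat.card (L F)).factorization 2 = m := by
    apply SYL.factorization_two (t := q * s)
    · rw [hL, hAs]; ring
    · intro h
      rcases (Nat.Prime.dvd_mul Nat.prime_two).1 h with h | h
      · exact hqodd h
      · exact hsodd h
  have hQcard : Nat.card (Q : Subgroup (L F)) = 2 ^ m := by
    have := Q.card_eq_multiplicity
    rw [hLfac] at this
    exact this
  have : Finite (Q : Subgroup (L F)) := inferInstance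
  have hSW : Nat.card (SW (Q : Subgroup (L F))) = 2 ^ (2 * m + 1) := by
    rw [card_SW, hQcard]
    ring
  obtain ⟨w, hw, hwodd⟩ := SYL.sq_add_one (q := q) hodd
  have hGfac : (Nat.card (Gt F)).factorization 2 = 2 * m + 1 := by
    apply SYL.factorization_two (t := q ^ 4 * (s * s * w))
    · rw [hG, SYL.pow_four_sub_one q hq1, hw, hAs]; ring
    · intro h
      rcases (Nat.Prime.dvd_mul Nat.prime_two).1 h with h | h
      · exact hqodd (Nat.Prime.dvd_of_dvd_pow Nat.prime_two h)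
      · rcases (Nat.Prime.dvd_mul Nat.prime_two).1 h with h | h
        · rcases (Nat.Prime.dvd_mul Nat.prime_two).1 h with h | h
          · exact hsodd h
          · exact hsodd h
        · exact hwodd h
  have : Finite (Gt F) := Nat.finite_of_card_ne_zero (by
    rw [hG]
    have h4 : q ^ 4 - 1 ≠ 0 := by
      rw [SYL.pow_four_sub_one q hq1]
      exact Nat.mul_ne_zero hA0 (by omega)
    exact Nat.mul_ne_zero (by positivity) (Nat.mul_ne_zero hA0 h4))
  refine ⟨Sylow.ofCard (SW (Q : Subgroup (L F))) ?_, rfl⟩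
  rw [hSW, hGfac]

end Cfsg.Agent.S5320P
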