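import Cfsg.Agent.Helper27.S0745Defs
import Cfsg.Agent.Helper9.S0745CARDSS

/-!
# S0745 board row COSETLE (helper9): the elements of `G` agreeing with a map on a `t`-set lie in
one coset of the pointwise stabiliser
-/

set_option autoImplicit false

namespace Cfsg.Agent.S0745P

open Equiv

variable {α : Type*} [Fintype α] [DecidableEq α]

open Classical in
/-- COSETLE -/
theorem card_agree_le {G : Subgroup (Perm α)} {t c r : ℕ} (h : Hyp G t c r) (Γ : Finset α)
    (hΓ : Γ.card = t) (φ : α → α) :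
    (Finset.univ.filter fun g : Perm α => g ∈ G ∧ ∀ x ∈ Γ, g x = φ x).card ≤ c := by
  obtain ⟨HF, hHF, hcardH⟩ := card_SS_aux_finset (PS G Γ)
  rw [h.cardH Γ hΓ] at hcardH
  rw [hcardH]
  rcases Finset.eq_empty_or_nonempty
      (Finset.univ.filter fun g : Perm α => g ∈ G ∧ ∀ x ∈ Γ, g x = φ x) with he | ⟨g₀, hg₀⟩
  · rw [he]
    exact Nat.zero_le _
  · rw [Finset.mem_filter] at hg₀
    obtain ⟨-, hg₀G, hg₀φ⟩ := hg₀
    refine Finset.card_le_card_of_injOn (fun g => g₀⁻¹ * g) ?_ ?_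
    · intro g hg
      rw [Finset.mem_coe, Finset.mem_filter] at hg
      obtain ⟨-, hgG, hgφ⟩ := hg
      rw [Finset.mem_coe, hHF]
      refine ⟨G.mul_mem (G.inv_mem hg₀G) hgG, fun x hx => ?_⟩
      rw [Perm.mul_apply, hgφ x hx, ← hg₀φ x hx]
      simp
    · intro g _ g' _ hgg
      exact mul_left_cancel hgg

end Cfsg.Agent.S0745P
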