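import Cfsg.Agent.Helper28.S2258Defs
import Cfsg.Agent.Helper18.Dickson45
import Cfsg.Agent.Helper20.S2258DICT

/-! S2258 piece UNIP: an element of order `3` of `PSL₂(F)` lifts to a conjugate of `± uM s`. -/

set_option autoImplicit false

namespace Cfsg.Agent.S2258P

open Cfsg.Agent.Helper18.Dickson

variable {F : Type*} [Field F] [Fintype F] {p : ℕ}

local notation "SF" => Matrix.SpecialLinearGroup (Fin 2) F
local notation "MF" => Matrix (Fin 2) (Fin 2) F
local notation "PF" => Matrix.ProjectiveSpecialLinearGroup (Fin 2) F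
local notation "π" => QuotientGroup.mk' (Subgroup.center SF)
local notation "q" => Fintype.card F

/-- UNIP (M). -/
theorem exists_conj_uM (h : Hyp F p) (X : SF) (hx : orderOf (π X : PF) = 3) :
    ∃ (g : SF) (s : F), s ≠ 0 ∧ (g * X * g⁻¹ = uM s ∨ g * X * g⁻¹ = -uM s) := by
  have h3 : (3 : F) = 0 := h.three_eq_zero
  have h2 : (2 : F) ≠ 0 := h.two_ne_zero
  have hcube : (π X : PF) ^ 3 = 1 := by rw [← hx]; exact pow_orderOf_eq_one _
  have htr : tr X ^ 2 = 1 := (mk_cube_eq_one_iff h3 X).mp hcube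
  have htr4 : tr X ^ 2 = 4 := by rw [htr]; linear_combination -h3
  have hne1 : (π X : PF) ≠ 1 := by
    intro h1
    rw [h1, orderOf_one] at hx
    omega
  have hnotPM : ¬ IsPM X := by
    rintro (h1 | h1)
    · apply hne1
      rw [mk_eq_one_iff]
      left
      exact Subtype.ext h1
    · apply hne1
      rw [mk_eq_one_iff]
      right
      apply Subtype.ext
      rw [h1]
      simp
  have hμ : (tr X / 2) ^ 2 - tr X * (tr X / 2) + 1 = 0 := by
    field_simp
    linear_combination -htr4
  obtain ⟨g, hg⟩ := exists_conj_borel X _ hμ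
  obtain ⟨X', hX'⟩ : ∃ X' : SF, X' = g * X * g⁻¹ := ⟨_, rfl⟩
  rw [← hX'] at hg
  have ht' : tr X' ^ 2 = 4 := by rw [hX', tr_conj]; exact htr4
  have ha := (tr_sq_borel _ hg).1 ht'
  have hb : (X' : MF) 0 1 ≠ 0 := by
    intro hb
    have := isPM_of_borel _ hg ha hb
    rw [hX'] at this
    exact hnotPM ((isPM_conj_iff X g).1 this)
  have hent := borel_entries X' hg
  have ha0 : (X' : MF) 0 0 ≠ 0 := by
    intro h0; rw [h0] at hent; simp at hent
  have hd : (X' : MF) 1 1 = (X' : MF) 0 0 := by
    apply mul_left_cancel₀ ha0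
    rw [hent]; linear_combination -ha
  have h4 : ((X' : MF) 0 0 - 1) * ((X' : MF) 0 0 + 1) = 0 := by linear_combination ha
  rcases mul_eq_zero.1 h4 with h5 | h5
  · have h6 : (X' : MF) 0 0 = 1 := by linear_combination h5
    refine ⟨g, (X' : MF) 0 1, hb, Or.inl ?_⟩
    rw [← hX']
    apply Subtype.ext
    rw [uM_coe]
    ext i j
    fin_cases i <;> fin_cases j
    · exact h6
    · rfl
    · exact hg
    · exact hd.trans h6
  · have h6 : (X' : MF) 0 0 = -1 := by linear_combination h5
    refine ⟨g, -(X' : MF) 0 1, neg_ne_zero.mpr hb, Or.inr ?_⟩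
    rw [← hX']
    apply Subtype.ext
    rw [Matrix.SpecialLinearGroup.coe_neg, uM_coe]
    ext i j
    fin_cases i <;> fin_cases j
    · simpa using h6
    · simp
    · simpa using hg
    · simpa using hd.trans h6

end Cfsg.Agent.S2258P
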