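import Cfsg.Agent.Helper28.S2258Defs
import Cfsg.Agent.Helper18.Dickson45

/-! S2258 piece CNT2: `π : SL₂(F) → PSL₂(F)` is two-to-one (char ≠ 2). -/

set_option autoImplicit false

namespace Cfsg.Agent.S2258P

open Cfsg.Agent.Helper18.Dickson

variable {F : Type*} [Field F] [Fintype F] {p : ℕ}

local notation "SF" => Matrix.SpecialLinearGroup (Fin 2) F
local notation "MF" => Matrix (Fin 2) (Fin 2) F
local notation "PF" => Matrix.ProjectiveSpecialLinearGroup (Fin 2) F
local notation "π" => QuotientGroup.mk' (Subgroup.center SF)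
local notation "q" => Fintype.card F

namespace CNT2

omit [Fintype F] in
theorem mk_eq_mk_iff' (A B : SF) : (π A : PF) = π B ↔ A = B ∨ A = -B := by
  have h1 : (π A : PF) = π B ↔ (π (B⁻¹ * A) : PF) = 1 := by
    rw [map_mul, map_inv]
    constructor
    · intro h; rw [h, inv_mul_cancel]
    · intro h
      have := congrArg (fun z => (π B : PF) * z) h
      simpa [mul_assoc] using this
  rw [h1, mk_eq_one_iff]
  constructor
  · rintro (h | h)
    · left
      have := congrArg (fun z => B * z) h
      simpa [mul_assoc] using this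
    · right
      have := congrArg (fun z => B * z) h
      simpa [mul_assoc] using this
  · rintro (h | h)
    · left; rw [h, inv_mul_cancel]
    · right; rw [h]; simp

omit [Fintype F] in
theorem ne_neg (h2 : (2 : F) ≠ 0) (Y : SF) : Y ≠ -Y := by
  intro h
  have h00 : (Y : MF) 0 0 = -(Y : MF) 0 0 := by
    have := congrArg (fun Z : SF => (Z : MF) 0 0) h
    simpa using this
  have h01 : (Y : MF) 0 1 = -(Y : MF) 0 1 := by
    have := congrArg (fun Z : SF => (Z : MF) 0 1) h
    simpa using this
  have a0 : (Y : MF) 0 0 = 0 := by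
    have : (2 : F) * (Y : MF) 0 0 = 0 := by linear_combination h00
    rcases mul_eq_zero.mp this with h | h
    · exact absurd h h2
    · exact h
  have b0 : (Y : MF) 0 1 = 0 := by
    have : (2 : F) * (Y : MF) 0 1 = 0 := by linear_combination h01
    rcases mul_eq_zero.mp this with h | h
    · exact absurd h h2
    · exact h
  have hdet := Y.det_coe
  rw [Matrix.det_fin_two, a0, b0] at hdet
  simp at hdet

end CNT2

/-- CNT2 (M): `π : SL₂ → PSL₂` is two-to-one. -/
theorem card_image_pi (h2 : (2 : F) ≠ 0) (P : SF → Prop) (hP : ∀ Y, P (-Y) ↔ P Y) :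
    2 * Nat.card {y : PF // ∃ Y : SF, π Y = y ∧ P Y} = Nat.card {Y : SF // P Y} := by
  classical
  let rep : {y : PF // ∃ Y : SF, π Y = y ∧ P Y} → SF := fun y => Classical.choose y.2
  have hrep : ∀ y, (π (rep y) : PF) = y.1 ∧ P (rep y) := fun y => Classical.choose_spec y.2
  let e : {y : PF // ∃ Y : SF, π Y = y ∧ P Y} × Bool → {Y : SF // P Y} := fun yb =>
    if yb.2 then ⟨rep yb.1, (hrep yb.1).2⟩ else ⟨-rep yb.1, (hP _).mpr (hrep yb.1).2⟩
  have hpi : ∀ yb, (π (e yb).1 : PF) = yb.1.1 := by
    intro yb
    rcases yb with ⟨y, b⟩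
    cases b
    · show (π (-rep y) : PF) = y.1
      rw [mk_neg]; exact (hrep y).1
    · exact (hrep y).1
  have hinj : Function.Injective e := by
    rintro ⟨y, b⟩ ⟨y', b'⟩ h
    have hy : y = y' := by
      apply Subtype.ext
      have h1 := hpi (y, b)
      have h2 := hpi (y', b')
      rw [h] at h1
      exact h1.symm.trans h2
    subst hy
    have hb : b = b' := by
      cases b <;> cases b'
      · rfl
      · exfalso
        have : (-rep y : SF) = rep y := congrArg Subtype.val h
        exact CNT2.ne_neg h2 (rep y) this.symm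
      · exfalso
        have : (rep y : SF) = -rep y := congrArg Subtype.val h
        exact CNT2.ne_neg h2 (rep y) this
      · rfl
    rw [hb]
  have hsurj : Function.Surjective e := by
    rintro ⟨Y, hY⟩
    let y : {y : PF // ∃ Y : SF, π Y = y ∧ P Y} := ⟨π Y, Y, rfl, hY⟩
    have h1 : (π (rep y) : PF) = π Y := (hrep y).1
    rcases (CNT2.mk_eq_mk_iff' _ _).mp h1 with h | h
    · refine ⟨(y, true), ?_⟩
      apply Subtype.ext
      exact h
    · refine ⟨(y, false), ?_⟩
      apply Subtype.ext
      show -rep y = Y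
      rw [h, neg_neg]
  have := Nat.card_congr (Equiv.ofBijective e ⟨hinj, hsurj⟩)
  rw [Nat.card_prod, Nat.card_eq_fintype_card (α := Bool), Fintype.card_bool] at this
  rw [← this, mul_comm]

end Cfsg.Agent.S2258P
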