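import Mathlib
import Cfsg.Prelude.Def_PLocal
import Cfsg.Agent.Helper28.S2768Defs
import Cfsg.Agent.Helper28.S2768AF
import Cfsg.Agent.Helper14.PCore
import Cfsg.Agent.Helper1.S2768VF1
import Cfsg.Agent.Helper28.S2768UQ
import Cfsg.Agent.Helper28.S2768SJQ
import Cfsg.Agent.Helper28.S2768DWV

set_option autoImplicit false
set_option linter.unusedSectionVars false

/-! S2768 board, piece CENTA (blueprint 5.12 (a),(b)): `[Q₁, G₁] ≤ R`. -/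

namespace Cfsg.Agent.S2768P

open Subgroup
open scoped commutatorElement

variable {G : Type*} [Group G] [Finite G] {p : ℕ} [Fact p.Prime]

/-- conjugation formula: `c(h d h⁻¹, h x h⁻¹) = h c(d, x) h⁻¹`, where `c(d,x) = d⁻¹ x⁻¹ d x`. -/
theorem CENTA_aux_conj (h d x : G) :
    (h * d * h⁻¹)⁻¹ * (h * x * h⁻¹)⁻¹ * (h * d * h⁻¹) * (h * x * h⁻¹) =
      h * (d⁻¹ * x⁻¹ * d * x) * h⁻¹ := by
  group

/-- `c(w v, y) = v⁻¹ c(w, y) v` when `y` commutes with `v`. -/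
theorem CENTA_aux_mul (w v y : G) (hvy : v * y = y * v) :
    (w * v)⁻¹ * y⁻¹ * (w * v) * y = v⁻¹ * (w⁻¹ * y⁻¹ * w * y) * v := by
  have h1 : y⁻¹ * v * y = v := by rw [mul_assoc, hvy, ← mul_assoc, inv_mul_cancel, one_mul]
  calc (w * v)⁻¹ * y⁻¹ * (w * v) * y = v⁻¹ * (w⁻¹ * y⁻¹ * w * y) * (y⁻¹ * v * y) := by group
    _ = v⁻¹ * (w⁻¹ * y⁻¹ * w * y) * v := by rw [h1]

/-- Step 2: for `y ∈ Q₁`, all `c(d, y)`, `d ∈ D`, lie in `Z(S)`. -/
theorem CENTA_aux_step2 (S : Sylow p G) (M : Subgroup G) (hc : Ctx p S M) (y : G)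
    (hy : y ∈ Cfsg.pCore p G)
    (hyD : ∀ d ∈ W (S : Subgroup G) ⊔ V (S : Subgroup G), d⁻¹ * y⁻¹ * d * y ∈ V (S : Subgroup G))
    (d : G) (hd : d ∈ W (S : Subgroup G) ⊔ V (S : Subgroup G)) :
    d⁻¹ * y⁻¹ * d * y ∈ Z (S : Subgroup G) := by
  obtain ⟨hVQ, hQV, -, -⟩ := VF1 S M hc.basic
  obtain ⟨-, -, -, hWV, -⟩ := SJQ S M hc
  have hVn : (V (S : Subgroup G)).Normal := by
    unfold V; exact Subgroup.normalClosure_normal
  obtain ⟨w, hw, v, hv, rfl⟩ := Subgroup.mem_sup_of_normal_right.1 hd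
  -- `y` commutes with `v`
  have hyv : ∀ u ∈ V (S : Subgroup G), u * y = y * u := by
    intro u hu
    have := hQV hy
    rw [Subgroup.mem_centralizer_iff] at this
    exact this u hu
  -- `V` is abelian
  have hVab : ∀ u ∈ V (S : Subgroup G), ∀ u' ∈ V (S : Subgroup G), u * u' = u' * u := by
    intro u hu u' hu'
    have := hQV (hVQ hu')
    rw [Subgroup.mem_centralizer_iff] at this
    exact this u hu
  rw [CENTA_aux_mul w v y (hyv v hv)]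
  have hcw : w⁻¹ * y⁻¹ * w * y ∈ V (S : Subgroup G) := hyD w (Subgroup.mem_sup_left hw)
  have hcomm : v⁻¹ * (w⁻¹ * y⁻¹ * w * y) * v = w⁻¹ * y⁻¹ * w * y := by
    have hcv := hVab _ hcw v hv
    calc v⁻¹ * (w⁻¹ * y⁻¹ * w * y) * v = v⁻¹ * ((w⁻¹ * y⁻¹ * w * y) * v) := by group
      _ = v⁻¹ * (v * (w⁻¹ * y⁻¹ * w * y)) := by rw [hcv]
      _ = w⁻¹ * y⁻¹ * w * y := by group
  rw [hcomm, ← hWV]
  refine Subgroup.mem_inf.2 ⟨?_, hcw⟩
  -- `y ∈ S` normalises `W`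
  have hyS : y ∈ (S : Subgroup G) := Cfsg.Agent.Helper14.pCore_le_sylow p S hy
  obtain ⟨-, -, -, -, hJS, -, -⟩ := AF2 (S : Subgroup G)
  have hcjS : cj y⁻¹ (S : Subgroup G) = (S : Subgroup G) := by
    ext z
    rw [AF1_aux_mem_cj]
    constructor
    · intro hz
      have := mul_mem (mul_mem (inv_mem hyS) hz) hyS
      simpa [mul_assoc] using this
    · intro hz
      exact mul_mem (mul_mem (inv_mem (inv_mem hyS)) hz) (inv_mem hyS)
  have hW := (AF3 (S : Subgroup G) (S : Subgroup G) hJS le_rfl y⁻¹ hcjS).2.1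
  have hyw : y⁻¹ * w * y ∈ W (S : Subgroup G) := by
    have : y⁻¹ * w * y ∈ cj y⁻¹ (W (S : Subgroup G)) := by
      rw [AF1_aux_mem_cj]
      simpa [mul_assoc] using hw
    rwa [hW] at this
  have : w⁻¹ * y⁻¹ * w * y = w⁻¹ * (y⁻¹ * w * y) := by group
  rw [this]
  exact mul_mem (inv_mem hw) hyw

/-- CENTA (M): 5.12 (a),(b): `[Q₁, G₁] ≤ R`. -/
theorem CENTA (S : Sylow p G) (M : Subgroup G) (hc : Ctx p S M) (x : G)
    (hx : x ∈ Cfsg.pCore p G)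
    (hxD : ∀ d ∈ W (S : Subgroup G) ⊔ V (S : Subgroup G), d⁻¹ * x⁻¹ * d * x ∈ V (S : Subgroup G))
    (g : G) (hg : g ∈ G₁ (S : Subgroup G)) :
    x⁻¹ * (g⁻¹ * x * g) ∈ R p (S : Subgroup G) := by
  obtain ⟨hVQ, hQV, -, hZZ⟩ := VF1 S M hc.basic
  obtain ⟨hDeq, hReq, -, -, -, -⟩ := DWV S M hc
  obtain ⟨-, hUG, -⟩ := UQB S M hc.basic hc.hZ
  obtain ⟨-, hUQn, -, -, -, hVU, hWU, -⟩ := UQA S M hc.basic hc.hZ
  have hVn : (V (S : Subgroup G)).Normal := by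
    unfold V; exact Subgroup.normalClosure_normal
  have hQn : (Cfsg.pCore p G).Normal := Cfsg.Agent.Helper14.pCore_normal p
  -- `D = W ⊔ V` is normal
  have hDn : (W (S : Subgroup G) ⊔ V (S : Subgroup G)).Normal := by
    rw [← hDeq]; exact Subgroup.normalClosure_normal
  set D := W (S : Subgroup G) ⊔ V (S : Subgroup G) with hD
  have hDU : D ≤ UQ p (S : Subgroup G) := sup_le hWU hVU
  -- Step 1: conjugates of `x` again satisfy the hypothesis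
  have hstep1 : ∀ h : G, (h * x * h⁻¹ ∈ Cfsg.pCore p G) ∧
      ∀ d ∈ D, d⁻¹ * (h * x * h⁻¹)⁻¹ * d * (h * x * h⁻¹) ∈ V (S : Subgroup G) := by
    intro h
    refine ⟨hQn.conj_mem x hx h, ?_⟩
    intro d hd
    have hd' : h⁻¹ * d * h ∈ D := by
      have := hDn.conj_mem d hd h⁻¹
      simpa using this
    have h1 := hxD _ hd'
    have h2 := hVn.conj_mem _ h1 h
    have h3 := CENTA_aux_conj h (h⁻¹ * d * h) x
    have h4 : h * (h⁻¹ * d * h) * h⁻¹ = d := by group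
    rw [h4] at h3
    rw [h3]
    exact h2
  -- Step 3: `c(d, x)` is central in `G`
  obtain ⟨g₀, hg₀⟩ : ∃ g₀ : G, g₀ ∉ M := by
    by_contra hcon
    push Not at hcon
    exact hc.basic.M_ne_top (eq_top_iff.2 fun z _ => hcon z)
  have hcentral : ∀ d ∈ D, d⁻¹ * x⁻¹ * d * x ∈ center G := by
    intro d hd
    refine hZZ g₀ hg₀ (Subgroup.mem_inf.2 ⟨CENTA_aux_step2 S M hc x hx hxD d hd, ?_⟩)
    rw [AF1_aux_mem_cj]
    -- apply step 2 to `y = g₀⁻¹ x g₀` and `d' = g₀⁻¹ d g₀`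
    have hy := hstep1 g₀⁻¹
    rw [inv_inv] at hy
    have hd' : g₀⁻¹ * d * g₀ ∈ D := by
      have := hDn.conj_mem d hd g₀⁻¹
      simpa using this
    have h1 := CENTA_aux_step2 S M hc (g₀⁻¹ * x * g₀) hy.1 hy.2 (g₀⁻¹ * d * g₀) hd'
    have h3 := CENTA_aux_conj g₀⁻¹ d x
    rw [inv_inv] at h3
    rw [h3] at h1
    exact h1
  -- `x` commutes with `V`
  have hxv : ∀ u ∈ V (S : Subgroup G), u * x = x * u := by
    intro u hu
    have := hQV hx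
    rw [Subgroup.mem_centralizer_iff] at this
    exact this u hu
  -- Step 4: `c(d, g⁻¹ x g) = c(d, x)`
  have hstep4 : ∀ d ∈ D, d⁻¹ * (g⁻¹ * x * g)⁻¹ * d * (g⁻¹ * x * g) = d⁻¹ * x⁻¹ * d * x := by
    intro d hd
    -- `g d g⁻¹ = d u`, `u ∈ V`
    have huV : d⁻¹ * (g * d * g⁻¹) ∈ V (S : Subgroup G) := by
      have h1 : ⁅d⁻¹, g⁆ ∈ ⁅UQ p (S : Subgroup G), G₁ (S : Subgroup G)⁆ :=
        Subgroup.commutator_mem_commutator (hDU (inv_mem hd)) hg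
      have h2 := hUG h1
      have h3 : ⁅d⁻¹, g⁆ = d⁻¹ * (g * d * g⁻¹) := by
        rw [commutatorElement_def]; group
      rwa [h3] at h2
    set u := d⁻¹ * (g * d * g⁻¹) with hu
    have hgd : g * d * g⁻¹ = d * u := by rw [hu]; group
    have hc1 := hcentral d hd
    rw [Subgroup.mem_center_iff] at hc1
    -- `c(d u, x) = c(d, x)`
    have h5 : (d * u)⁻¹ * x⁻¹ * (d * u) * x = d⁻¹ * x⁻¹ * d * x := by
      rw [CENTA_aux_mul d u x (hxv u huV)]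
      calc u⁻¹ * (d⁻¹ * x⁻¹ * d * x) * u = u⁻¹ * ((d⁻¹ * x⁻¹ * d * x) * u) := by group
        _ = u⁻¹ * (u * (d⁻¹ * x⁻¹ * d * x)) := by rw [hc1 u]
        _ = d⁻¹ * x⁻¹ * d * x := by group
    have h6 := CENTA_aux_conj g⁻¹ (g * d * g⁻¹) x
    rw [inv_inv] at h6
    have h7 : g⁻¹ * (g * d * g⁻¹) * g = d := by group
    rw [h7, hgd, h5] at h6
    rw [h6]
    calc g⁻¹ * (d⁻¹ * x⁻¹ * d * x) * g = g⁻¹ * ((d⁻¹ * x⁻¹ * d * x) * g) := by group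
      _ = g⁻¹ * (g * (d⁻¹ * x⁻¹ * d * x)) := by rw [hc1 g]
      _ = d⁻¹ * x⁻¹ * d * x := by group
  -- Step 5
  rw [hReq]
  refine Subgroup.mem_inf.2 ⟨?_, ?_⟩
  · refine mul_mem (inv_mem hx) ?_
    have := hQn.conj_mem x hx g⁻¹
    simpa using this
  · rw [Subgroup.mem_centralizer_iff]
    intro d hd
    have hd' : x * d * x⁻¹ ∈ D := hDn.conj_mem d hd x
    have h8 := hstep4 _ hd'
    -- cancel `d'⁻¹` on the left
    have h9 : (g⁻¹ * x * g)⁻¹ * (x * d * x⁻¹) * (g⁻¹ * x * g) = x⁻¹ * (x * d * x⁻¹) * x := by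
      have := congrArg (fun z => (x * d * x⁻¹) * z) h8
      beta_reduce at this
      calc (g⁻¹ * x * g)⁻¹ * (x * d * x⁻¹) * (g⁻¹ * x * g)
          = (x * d * x⁻¹) * ((x * d * x⁻¹)⁻¹ * (g⁻¹ * x * g)⁻¹ * (x * d * x⁻¹) * (g⁻¹ * x * g)) := by
            group
        _ = (x * d * x⁻¹) * ((x * d * x⁻¹)⁻¹ * x⁻¹ * (x * d * x⁻¹) * x) := this
        _ = x⁻¹ * (x * d * x⁻¹) * x := by group
    have h10 : x⁻¹ * (x * d * x⁻¹) * x = d := by group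
    rw [h10] at h9
    -- `d * t = t * d`
    calc d * (x⁻¹ * (g⁻¹ * x * g))
        = (x⁻¹ * (g⁻¹ * x * g)) * ((g⁻¹ * x * g)⁻¹ * (x * d * x⁻¹) * (g⁻¹ * x * g)) := by group
      _ = (x⁻¹ * (g⁻¹ * x * g)) * d := by rw [h9]

end Cfsg.Agent.S2768P
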