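import Mathlib

set_option autoImplicit false
set_option linter.unusedSectionVars false

/-! # S3501, piece SHARP: core (helper9).  Mathlib only: `SHARP.core` takes the conclusions of the pieces REG and
SEMIREG as hypotheses; `SHARP.aux_reg` is REG itself (an abelian transitive subgroup of a faithful action is semiregular). -/

namespace Cfsg.Agent.S3501P

open MulAction

section
variable {G : Type*} [Group G] [Finite G] {Ω : Type*} [Fintype Ω] [MulAction G Ω] [FaithfulSMul G Ω]

/-- an abelian transitive subgroup of a faithful action is semiregular (same statement as the piece REG) -/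
theorem SHARP.aux_reg (N : Subgroup G) (hab : ∀ x ∈ N, ∀ y ∈ N, x * y = y * x) [IsPretransitive N Ω]
    (a : Ω) (n : G) (hn : n ∈ N) (hfix : n • a = a) : n = 1 := by
  apply FaithfulSMul.eq_of_smul_eq_smul (α := Ω)
  intro ω
  obtain ⟨m, hm⟩ := MulAction.exists_smul_eq N a ω
  have hmω : (m : G) • a = ω := hm
  rw [one_smul, ← hmω, ← mul_smul, hab n hn (m : G) m.2, mul_smul, hfix]

/-- SHARP, core: takes the conclusions of REG and SEMIREG as hypotheses. -/
theorem SHARP.core (N : Subgroup G) [N.Normal] [IsPretransitive N Ω]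
    (hreg : ∀ (a : Ω) (n : G), n ∈ N → n • a = a → n = 1)
    (hsemi : ∀ (a : Ω) (h : G), h • a = a → h ≠ 1 → ∀ w : G, w ∈ N → w ≠ 1 → h * w = w * h → False) :
    ∀ g : G, g ≠ 1 → ∀ a b : Ω, a ≠ b → g • a = a → g • b ≠ b := by
  intro g hg1 a b hab hga hgb
  obtain ⟨n, hn⟩ := MulAction.exists_smul_eq N a b
  have hnb : (n : G) • a = b := hn
  have hn1 : (n : G) ≠ 1 := by
    intro h1
    rw [h1, one_smul] at hnb
    exact hab hnb
  have hginv : g⁻¹ • a = a := by
    rw [inv_smul_eq_iff, hga]
  have hconj : g * (n : G) * g⁻¹ ∈ N := ‹N.Normal›.conj_mem _ n.2 g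
  have hmem : (n : G)⁻¹ * (g * (n : G) * g⁻¹) ∈ N := N.mul_mem (N.inv_mem n.2) hconj
  have hfix : ((n : G)⁻¹ * (g * (n : G) * g⁻¹)) • a = a := by
    rw [mul_smul, mul_smul, mul_smul, hginv, hnb, hgb, inv_smul_eq_iff, hnb]
  have h1 := hreg a _ hmem hfix
  have hcomm : g * (n : G) = (n : G) * g := by
    have h2 : g * (n : G) * g⁻¹ = (n : G) := by
      have := congrArg (fun z => (n : G) * z) h1
      simpa [mul_assoc] using this
    calc g * (n : G) = g * (n : G) * g⁻¹ * g := by group
      _ = (n : G) * g := by rw [h2]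
  exact hsemi a g hga hg1 (n : G) n.2 hn1 hcomm

end

end Cfsg.Agent.S3501P
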