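import Mathlib
import Cfsg.Agent.Helper9.S3501SHARPCore
import Cfsg.Agent.Helper4.S3501SEMIREG

set_option autoImplicit false
set_option linter.unusedSectionVars false

/-! # S3501, piece SHARP (helper9): no non-identity element fixes two points.  `SHARP.core` (Helper9.S3501SHARPCore) with REG
(`SHARP.aux_reg`) and helper4's SEMIREG. -/

namespace Cfsg.Agent.S3501P

open MulAction

section
variable {G : Type*} [Group G] [Finite G] {Ω : Type*} [Fintype Ω] [MulAction G Ω] [FaithfulSMul G Ω]

/-- SHARP: hence no non-identity element fixes two points. -/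
theorem SHARP (N : Subgroup G) [N.Normal] (hab : ∀ x ∈ N, ∀ y ∈ N, x * y = y * x) [IsPretransitive N Ω]
    (hder : ∀ g : G, (∀ ω : Ω, g • ω ≠ ω) → g ∈ N) :
    ∀ g : G, g ≠ 1 → ∀ a b : Ω, a ≠ b → g • a = a → g • b ≠ b :=
  SHARP.core N (fun a n hn hfix => SHARP.aux_reg N hab a n hn hfix)
    (fun a h hha hh1 w hw hw1 hcomm => SEMIREG N hab hder a h hha hh1 w hw hw1 hcomm)

end

end Cfsg.Agent.S3501P
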