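import Mathlib
import Cfsg.Prelude.Def_GeometricClasses
import Cfsg.Agent.Helper7.S5655.Defs
import Cfsg.Agent.Helper28.S5655GDefs

/-! S5655 (k = 1), chapter GEN + TRANSPORT (helper28), piece PROPERSTD (helper9): a non-monomial element of `SU_n(q)`,
`n ≥ 4`: the transvection with centre `e_0 + ζ e_1 + e_2 + ζ e_3`, `ζ` of norm `-1`. -/

set_option autoImplicit false
set_option linter.unusedSectionVars false
set_option linter.unusedVariables false

namespace Cfsg.Agent.S5655K1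

open Matrix
open Cfsg.Agent.S2644 Cfsg.Agent.Helper2.SUGen Cfsg.Agent.Helper28.SimMax Cfsg.Agent.MonoP

variable {K : Type*} [Field K] {q n : ℕ}

local notation "h" => Cfsg.hermForm n K q
local notation "T" => Cfsg.unitaryTransvection n q

namespace PROPERSTD

/-- the isotropic vector -/
def uvec (i0 i1 i2 i3 : Fin n) (ζ : K) : Fin n → K :=
  (Pi.single i0 (1 : K) : Fin n → K) + ζ • (Pi.single i1 (1 : K) : Fin n → K) +
    (Pi.single i2 (1 : K) : Fin n → K) + ζ • (Pi.single i3 (1 : K) : Fin n → K)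

theorem uvec_apply (i0 i1 i2 i3 : Fin n) (ζ : K) (j : Fin n) :
    uvec i0 i1 i2 i3 ζ j = (if j = i0 then 1 else 0) + ζ * (if j = i1 then 1 else 0) +
      (if j = i2 then 1 else 0) + ζ * (if j = i3 then 1 else 0) := by
  unfold uvec
  simp only [Pi.add_apply, Pi.smul_apply, Pi.single_apply, smul_eq_mul]

theorem h_left (D : Frob K q) (i0 i1 i2 i3 : Fin n) (ζ : K) (z : Fin n → K) :
    h (uvec i0 i1 i2 i3 ζ) z = D.σ (z i0) + ζ * D.σ (z i1) + D.σ (z i2) + ζ * D.σ (z i3) := by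
  unfold uvec
  rw [h_add_left, h_add_left, h_add_left, h_smul_left, h_smul_left,
    Cfsg.Agent.S5658P.h_single_left D, Cfsg.Agent.S5658P.h_single_left D,
    Cfsg.Agent.S5658P.h_single_left D, Cfsg.Agent.S5658P.h_single_left D]

theorem h_self (D : Frob K q) (i0 i1 i2 i3 : Fin n) (h01 : i0 ≠ i1) (h02 : i0 ≠ i2) (h03 : i0 ≠ i3)
    (h12 : i1 ≠ i2) (h13 : i1 ≠ i3) (h23 : i2 ≠ i3) (ζ : K) (hζ : ζ * D.σ ζ = -1) :
    h (uvec i0 i1 i2 i3 ζ) (uvec i0 i1 i2 i3 ζ) = 0 := by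
  rw [h_left D]
  simp only [uvec_apply, if_true, if_neg h01, if_neg h02, if_neg h03, if_neg h12, if_neg h13,
    if_neg h23, if_neg h01.symm, if_neg h02.symm, if_neg h03.symm, if_neg h12.symm, if_neg h13.symm,
    if_neg h23.symm, mul_zero, add_zero, zero_add, mul_one, map_one]
  linear_combination 2 * hζ

end PROPERSTD

/-- PROPERSTD (S-M): the monomial group is a proper subgroup of `SU_n(q)`. -/
theorem PROPERSTD.exists [Finite K] (D : Frob K q) (hn : 4 ≤ n) :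
    ∃ A : Matrix (Fin n) (Fin n) K, Pres (q := q) A ∧ A.det = 1 ∧ ¬ IsMono A := by
  obtain ⟨ζ, hζ⟩ := exists_norm D (-1 : K) (neg_ne_zero.mpr one_ne_zero) (by rw [map_neg, map_one])
  obtain ⟨s, hs0, hs⟩ := exists_skew D
  have hζ0 : ζ ≠ 0 := by
    rintro rfl
    rw [zero_mul] at hζ
    exact one_ne_zero (neg_eq_zero.mp hζ.symm)
  set i0 : Fin n := ⟨0, by omega⟩ with hi0
  set i1 : Fin n := ⟨1, by omega⟩ with hi1
  set i2 : Fin n := ⟨2, by omega⟩ with hi2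
  set i3 : Fin n := ⟨3, by omega⟩ with hi3
  have h01 : i0 ≠ i1 := by simp [hi0, hi1]
  have h02 : i0 ≠ i2 := by simp [hi0, hi2]
  have h03 : i0 ≠ i3 := by simp [hi0, hi3]
  have h12 : i1 ≠ i2 := by simp [hi1, hi2]
  have h13 : i1 ≠ i3 := by simp [hi1, hi3]
  have h23 : i2 ≠ i3 := by simp [hi2, hi3]
  have hvv := PROPERSTD.h_self D i0 i1 i2 i3 h01 h02 h03 h12 h13 h23 ζ hζ
  refine ⟨T (PROPERSTD.uvec i0 i1 i2 i3 ζ) s, Cfsg.Agent.S5658P.pres_T D hvv hs,
    Cfsg.Agent.S5658P.det_T D hvv s, ?_⟩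
  rintro ⟨σ, hσ⟩
  -- column `i0`
  have hcol : ∀ i : Fin n, (T (PROPERSTD.uvec i0 i1 i2 i3 ζ) s) i i0 =
      (Pi.single i0 (1 : K) : Fin n → K) i + s * PROPERSTD.uvec i0 i1 i2 i3 ζ i := by
    intro i
    have := congrFun (T_mulVec (q := q) (PROPERSTD.uvec i0 i1 i2 i3 ζ) s (Pi.single i0 (1 : K))) i
    rw [Matrix.mulVec_single_one] at this
    have h2 : h (Pi.single i0 (1 : K) : Fin n → K) (PROPERSTD.uvec i0 i1 i2 i3 ζ) = 1 := by
      rw [Cfsg.Agent.S5658P.h_single_left D, PROPERSTD.uvec_apply]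
      simp [h01, h02, h03]
    rw [h2, mul_one] at this
    simpa using this
  have e1 : (T (PROPERSTD.uvec i0 i1 i2 i3 ζ) s) i1 i0 ≠ 0 := by
    rw [hcol, PROPERSTD.uvec_apply]
    simp [h01.symm, h12, h13, hs0, hζ0]
  have e2 : (T (PROPERSTD.uvec i0 i1 i2 i3 ζ) s) i2 i0 ≠ 0 := by
    rw [hcol, PROPERSTD.uvec_apply]
    simp [h02.symm, h12.symm, h23, hs0]
  have a1 : i1 = σ i0 := by
    by_contra hne
    exact e1 (hσ i1 i0 hne)
  have a2 : i2 = σ i0 := by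
    by_contra hne
    exact e2 (hσ i2 i0 hne)
  exact h12 (a1.trans a2.symm)

end Cfsg.Agent.S5655K1
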