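import Mathlib
import Cfsg.Prelude.Def_GeometricClasses
import Cfsg.Agent.Helper7.S5655.Defs
import Cfsg.Agent.Helper28.S5655GDefs

/-! S5655 (k = 1), chapter GEN + TRANSPORT (helper28), piece STDSTAB (helper9): the stabiliser of the standard frame
consists of the monomial matrices. -/

set_option autoImplicit false
set_option linter.unusedSectionVars false
set_option linter.unusedVariables false

namespace Cfsg.Agent.S5655K1

open Matrix
open Cfsg.Agent.S2644 Cfsg.Agent.Helper2.SUGen Cfsg.Agent.Helper28.SimMax Cfsg.Agent.MonoP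

variable {K : Type*} [Field K] {q n : ℕ}

local notation "h" => Cfsg.hermForm n K q
local notation "T" => Cfsg.unitaryTransvection n q

namespace STDSTAB

theorem mulVec_single (A : Matrix (Fin n) (Fin n) K) (j i : Fin n) :
    (A *ᵥ (Pi.single j (1 : K) : Fin n → K)) i = A i j := by
  rw [Matrix.mulVec_single_one]
  rfl

/-- the image of a frame line under a monomial matrix -/
theorem mulVec_single_of_mono (A : Matrix (Fin n) (Fin n) K) (σ : Equiv.Perm (Fin n))
    (hσ : ∀ i j, i ≠ σ j → A i j = 0) (j : Fin n) :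
    A *ᵥ (Pi.single j (1 : K) : Fin n → K) = A (σ j) j • (Pi.single (σ j) (1 : K) : Fin n → K) := by
  funext i
  rw [mulVec_single, Pi.smul_apply, Pi.single_apply, smul_eq_mul]
  split_ifs with hi
  · rw [hi, mul_one]
  · rw [mul_zero]
    exact hσ i j hi

end STDSTAB

/-- STDSTAB (M): the stabiliser of the standard frame consists of the monomial matrices. -/
theorem STDSTAB.mem_iff (g : Matrix.GeneralLinearGroup (Fin n) K) :
    g ∈ Cfsg.Geo.decompositionStabilizer (gStdFrame n K) ↔ IsMono (g : Matrix (Fin n) (Fin n) K) := by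
  constructor
  · rintro ⟨σ, hσ⟩
    refine ⟨σ, ?_⟩
    intro i j hij
    have hmem : Matrix.toLin' (g : Matrix (Fin n) (Fin n) K) (Pi.single j (1 : K)) ∈
        (gStdFrame n K j).map (Matrix.toLin' (g : Matrix (Fin n) (Fin n) K)) :=
      Submodule.mem_map_of_mem (Submodule.mem_span_singleton_self _)
    rw [hσ j] at hmem
    unfold gStdFrame at hmem
    rw [Submodule.mem_span_singleton] at hmem
    obtain ⟨c, hc⟩ := hmem
    have := congrFun hc i
    rw [Matrix.toLin'_apply, STDSTAB.mulVec_single, Pi.smul_apply, Pi.single_apply, if_neg hij,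
      smul_eq_mul, mul_zero] at this
    exact this.symm
  · rintro ⟨σ, hσ⟩
    refine ⟨σ, ?_⟩
    intro j
    have hcol := STDSTAB.mulVec_single_of_mono (g : Matrix (Fin n) (Fin n) K) σ hσ j
    have hne : (g : Matrix (Fin n) (Fin n) K) (σ j) j ≠ 0 := by
      intro h0
      rw [h0, zero_smul] at hcol
      have h1 : ((g⁻¹ : Matrix.GeneralLinearGroup (Fin n) K) : Matrix (Fin n) (Fin n) K) *ᵥ
          ((g : Matrix (Fin n) (Fin n) K) *ᵥ (Pi.single j (1 : K) : Fin n → K)) =
          (Pi.single j (1 : K) : Fin n → K) := by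
        rw [Matrix.mulVec_mulVec, ← Units.val_mul, inv_mul_cancel, Units.val_one, Matrix.one_mulVec]
      rw [hcol, Matrix.mulVec_zero] at h1
      have := congrFun h1 j
      rw [Pi.zero_apply, Pi.single_eq_same] at this
      exact zero_ne_one this
    unfold gStdFrame
    rw [Submodule.map_span, Set.image_singleton, Matrix.toLin'_apply, hcol]
    exact Submodule.span_singleton_smul_eq (IsUnit.mk0 _ hne) _

end Cfsg.Agent.S5655K1
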