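import Mathlib
import Cfsg.Agent.Helper9.GrossB
import Cfsg.Agent.Helper13.GrossLines

/-!
# Gross (p = 2), part C: the level next to the module cannot be exceptional under an odd-order
group of automorphisms centralising the centre
-/

set_option autoImplicit false
set_option linter.style.haveILetI false
set_option linter.unusedSectionVars false
set_option maxHeartbeats 1600000

namespace Cfsg.Agent.Helper9.Gross

open Module Subgroup Cfsg.Agent.Helper9.Ward Cfsg.Agent.Helper5.HHMod Cfsg.Agent.Helper5.HHT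
open Cfsg.Agent.Helper5.FrobMod Cfsg.Agent.Helper29.S3f Cfsg.Agent.Helper9.Shult

theorem mersenne_pow {l j f : ℕ} (hl : l.Prime) (hj : 2 ≤ j) (hf : 1 ≤ f) (h : 2 ^ j - 1 = l ^ f) :
    f = 1 := by
  have h2j : 4 ∣ 2 ^ j := by
    obtain ⟨c, rfl⟩ := Nat.exists_eq_add_of_le hj
    exact ⟨2 ^ c, by rw [pow_add]; norm_num⟩
  have hpos : 1 ≤ 2 ^ j := Nat.one_le_two_pow
  have hsum : l ^ f + 1 = 2 ^ j := by omega
  -- `l` is odd
  have hlodd : Odd l := by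
    rcases hl.eq_two_or_odd' with h2 | h2
    · exfalso
      subst h2
      have : 2 ∣ 2 ^ f := dvd_pow_self 2 (by omega)
      omega
    · exact h2
  rcases Nat.even_or_odd f with hfe | hfo
  · -- `f` even: a square is `1 mod 4`
    exfalso
    obtain ⟨c, hc⟩ := hfe
    have hsq : l ^ f = (l ^ c) * (l ^ c) := by rw [hc, pow_add]
    have hodd : Odd (l ^ c) := hlodd.pow
    obtain ⟨u, hu⟩ := hodd
    have : l ^ f % 4 = 1 := by
      rw [hsq, hu]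
      ring_nf
      omega
    omega
  · -- `f` odd
    have hdvd : l + 1 ∣ l ^ f + 1 := by
      have := hfo.nat_add_dvd_pow_add_pow l 1
      simpa using this
    -- the cofactor is odd
    by_contra hf1
    have hf3 : 3 ≤ f := by
      obtain ⟨c, hc⟩ := hfo
      omega
    -- `l + 1 = 2 ^ i`
    rw [hsum] at hdvd
    obtain ⟨i, hij, hi⟩ := (Nat.dvd_prime_pow Nat.prime_two).mp hdvd
    set G : ℤ := ∑ k ∈ Finset.range f, (-(l : ℤ)) ^ k with hGdef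
    have hG : ((l : ℤ) + 1) * G = (l : ℤ) ^ f + 1 := by
      have := mul_geom_sum (-(l : ℤ)) f
      rw [hfo.neg_pow] at this
      linear_combination (-1 : ℤ) * this
    have hGodd : Odd G := by
      rw [← ZMod.intCast_eq_one_iff_odd, hGdef, Int.cast_sum]
      have hl1 : ((-(l : ℤ) : ℤ) : ZMod 2) = 1 := by
        rw [ZMod.intCast_eq_one_iff_odd]
        exact hlodd.natCast.neg
      simp only [Int.cast_pow, hl1, one_pow, Finset.sum_const, Finset.card_range, nsmul_eq_mul, mul_one]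
      have := (ZMod.natCast_eq_one_iff_odd (n := f)).mpr hfo
      exact this
    have hGpos : 0 < G := by
      have h1 : (0 : ℤ) < ((l : ℤ) + 1) * G := by rw [hG]; positivity
      have h2 : (0 : ℤ) < (l : ℤ) + 1 := by positivity
      exact (mul_pos_iff_of_pos_left h2).mp h1
    -- pass to ℕ
    obtain ⟨g, hg⟩ : ∃ g : ℕ, (g : ℤ) = G := ⟨G.toNat, Int.toNat_of_nonneg hGpos.le⟩
    have hgodd : Odd g := by
      rw [← hg] at hGodd
      exact_mod_cast hGodd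
    have hgmul : (l + 1) * g = 2 ^ j := by
      rw [← hsum]
      have : (((l + 1) * g : ℕ) : ℤ) = ((l ^ f + 1 : ℕ) : ℤ) := by
        push_cast
        rw [hg, hG]
      exact_mod_cast this
    have hgdvd : g ∣ 2 ^ j := ⟨l + 1, by rw [← hgmul, mul_comm]⟩
    obtain ⟨a, _, hga⟩ := (Nat.dvd_prime_pow Nat.prime_two).mp hgdvd
    have ha0 : a = 0 := by
      rcases Nat.eq_zero_or_pos a with h0 | h0
      · exact h0
      · exfalso
        have : Even g := by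
          rw [hga]
          exact (Nat.even_pow.mpr ⟨even_two, by omega⟩)
        exact (Nat.not_even_iff_odd.mpr hgodd) this
    rw [ha0, pow_zero] at hga
    rw [hga, mul_one] at hgmul
    have hlf : l ^ f = l := by omega
    have : l ^ f = l ^ 1 := by rw [hlf, pow_one]
    have := Nat.pow_right_injective hl.two_le this
    exact hf1 this

/-- conjugation as a homomorphism from a normalising subgroup to the automorphism group -/
def conjHom {Γ : Type*} [Group Γ] (Q D : Subgroup Γ) (hDQ : D ≤ normalizer (Q : Set Γ)) :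
    ↥D →* MulAut ↥Q where
  toFun d := conjAut Q d (hDQ d.2)
  map_one' := by
    ext g
    rw [conjAut_apply]
    simp
  map_mul' a b := by
    ext g
    rw [MulAut.mul_apply, conjAut_apply, conjAut_apply, conjAut_apply]
    simp only [Subgroup.coe_mul]
    group

theorem conjHom_apply {Γ : Type*} [Group Γ] (Q D : Subgroup Γ) (hDQ : D ≤ normalizer (Q : Set Γ))
    (d : D) (g : Q) : ((conjHom Q D hDQ d g : Q) : Γ) = d * g * (d : Γ)⁻¹ := rfl

variable {Γ : Type*} [Group Γ] [Finite Γ] {K : Type*} [Field K] [IsAlgClosed K]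
  {M : Type*} [AddCommGroup M] [Module K M] [FiniteDimensional K M]

theorem gross_alg {l q n : ℕ} (hl : l.Prime) (hl2 : l ≠ 2) (hq : q.Prime) (hq2 : q ≠ 2)
    (hql : q ≠ l) (hn : 0 < n)
    (ρ : Representation K Γ M) (h2K : (2 : K) ≠ 0) (hlK : (l : K) ≠ 0)
    (Q Z D : Subgroup Γ) (hQ : IsPGroup l Q) (hD : IsPGroup q D) (hZQ : Z ≤ Q)
    (s : Γ) (hs : s ^ (2 ^ n) = 1)
    (hsQ : s ∈ normalizer (Q : Set Γ)) (hsZ : s ∈ normalizer (Z : Set Γ))
    (hsD : s ∈ normalizer (D : Set Γ))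
    (hDQ : D ≤ normalizer (Q : Set Γ)) (hDZ : ∀ d ∈ D, ∀ z ∈ Z, d * z = z * d)
    (hZc : ∀ z ∈ Z, ∀ g ∈ Q, z * g = g * z)
    (hcomm : ∀ g ∈ Q, ∀ h ∈ Q, g * h * g⁻¹ * h⁻¹ ∈ Z)
    (htZ : ∀ z ∈ Z, s ^ (2 ^ (n - 1)) * z = z * s ^ (2 ^ (n - 1)))
    (hinv : ∀ g ∈ Q, s ^ (2 ^ (n - 1)) * g * (s ^ (2 ^ (n - 1)))⁻¹ * g ∈ Z)
    (hne : ∃ d ∈ D, ∃ x ∈ Q, ∃ y ∈ Q, (d * x * d⁻¹ * x⁻¹) * y ≠ y * (d * x * d⁻¹ * x⁻¹))
    (hfaith : ∀ g ∈ Q, ρ g = 1 → g = 1) :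
    ∃ m : M, m ≠ 0 ∧ ρ s m = m := by
  classical
  have C : ICfg 2 l n Q Z s := ICfg.of_inverted hl hl2 hn hQ hZQ hsQ hsZ hs htZ hcomm hZc hinv
  obtain ⟨d₀, hd₀, x₀, hx₀, y₀, hy₀, hne⟩ := hne
  set a := d₀ * x₀ * d₀⁻¹ * x₀⁻¹ with ha
  have haQ : a ∈ Q := Q.mul_mem ((mem_normalizer_iff.mp (hDQ hd₀) x₀).mp hx₀) (Q.inv_mem hx₀)
  have h2K' : ((2 : ℕ) : K) ≠ 0 := by exact_mod_cast h2K
  rcases C.level_one ρ h2K' hlK hfaith a y₀ haQ hy₀ hne with h | ⟨lam, d, N₂, R, E, hlam⟩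
  · exact h
  exfalso
  haveI : Fact l.Prime := ⟨hl⟩
  have hQR : Q ≤ normalizer (R : Set Γ) := by
    apply le_normalizer_of_conj_mem
    intro b hb r hr
    have : b * r * b⁻¹ = (b * r * b⁻¹ * r⁻¹) * r := by group
    rw [this]
    exact R.mul_mem (E.hZR (hcomm b hb r (E.hRQ hr))) hr
  set R' : Subgroup Q := R.subgroupOf Q with hR'
  haveI hR'n : R'.Normal := (normal_subgroupOf_iff_le_normalizer E.hRQ).mpr hQR
  have hidx0 : R'.index = (N₂ - 1) ^ 2 := E.hidx.symm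
  -- `d = 2 ^ k`
  obtain ⟨k, hk, hdk⟩ := (Nat.dvd_prime_pow Nat.prime_two).mp E.hd
  have hkn : k < n := by omega
  set m := n - k with hm
  have hdm : d * 2 ^ m = 2 ^ n := by rw [hdk, hm, ← pow_add, Nat.add_sub_cancel' hkn.le]
  have hdiv : 2 ^ n / d = 2 ^ m := by
    rw [hdk, Nat.pow_div hkn.le (by norm_num)]
  obtain ⟨j, hjm, hN₂j⟩ := (Nat.dvd_prime_pow Nat.prime_two).mp (hdiv ▸ E.hN₂)
  -- the index is a power of `l`
  obtain ⟨e, he⟩ := hQ.index R'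
  have hR'top : R' ≠ ⊤ := by
    intro h
    apply E.hRne
    apply le_antisymm E.hRQ
    intro g hg
    have : (⟨g, hg⟩ : Q) ∈ R' := by rw [h]; trivial
    exact mem_subgroupOf.mp this
  have hidx1 : R'.index ≠ 1 := fun h => hR'top (index_eq_one.mp h)
  have hdvd : N₂ - 1 ∣ l ^ e := by
    rw [← he, hidx0]
    exact dvd_pow_self _ (by norm_num)
  obtain ⟨f, hfe, hf⟩ := (Nat.dvd_prime_pow hl).mp hdvd
  have hf1 : 1 ≤ f := by
    rcases Nat.eq_zero_or_pos f with h0 | h0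
    · exfalso
      apply hidx1
      rw [hidx0, hf, h0]
      simp
    · exact h0
  have hj2 : 2 ≤ j := by
    rcases Nat.lt_or_ge j 2 with h | h
    · exfalso
      have hN₂1 := E.hN₂1
      interval_cases j
      · rw [hN₂j] at hN₂1; simp at hN₂1
      · apply hidx1
        rw [hidx0, hN₂j]
        simp
    · exact h
  have hf' : f = 1 := mersenne_pow hl hj2 hf1 (by rw [← hN₂j, hf])
  rw [hf', pow_one] at hf
  have hlj : l + 1 = 2 ^ j := by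
    rw [← hN₂j]
    have := E.hN₂1
    omega
  have hidx : R'.index = l ^ 2 := by rw [hidx0, hf]
  -- the automorphism induced by `s ^ d`
  set s₁ := s ^ d with hs₁
  have hs₁Q : s₁ ∈ normalizer (Q : Set Γ) := pow_mem hsQ d
  set σ : MulAut Q := conjAut Q s₁ hs₁Q with hσ
  have hσm : σ ^ (2 ^ m) = 1 := by
    ext g
    rw [conjAut_pow_apply, hs₁, ← pow_mul, hdm, hs]
    simp
  have hlm : l + 1 ≤ 2 ^ m := by
    rw [hlj]
    exact Nat.pow_le_pow_right (by norm_num) hjm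
  have hs₁R : ∀ i : ℕ, s₁ ^ i ∈ normalizer (R : Set Γ) := fun i => pow_mem E.hsR i
  have hσR : ∀ x, σ x ∈ R' ↔ x ∈ R' := by
    intro x
    rw [hR', mem_subgroupOf, mem_subgroupOf, conjAut_apply]
    exact (mem_normalizer_iff.mp E.hsR (x : Γ)).symm
  have hσfpf : ∀ i, 0 < i → i < 2 ^ m → ∀ x, (σ ^ i) x * x⁻¹ ∈ R' → x ∈ R' := by
    intro i hi0 hiN x hx
    rw [hR', mem_subgroupOf] at hx ⊢
    rw [Subgroup.coe_mul, conjAut_pow_apply, Subgroup.coe_inv] at hx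
    have h3 : s₁ ^ i = s ^ (d * i) := by rw [hs₁, ← pow_mul]
    rw [h3] at hx
    exact C.semireg R E.hZR E.hRQ hQR (d * i) (Nat.mul_pos E.hd0 hi0)
      (by rw [← hdm]; exact Nat.mul_lt_mul_of_pos_left hiN E.hd0)
      (by rw [← h3]; exact hs₁R i) x x.2 hx
  -- the form
  set β : Q → Q → Kˣ := fun x y =>
    lam ⟨(x : Γ) * y * (x : Γ)⁻¹ * (y : Γ)⁻¹, hcomm x x.2 y y.2⟩ with hβ
  have hβl : ∀ x x' y, β (x * x') y = β x y * β x' y := by
    intro x x' y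
    simp only [hβ]
    rw [← map_mul]
    congr 1
    apply Subtype.ext
    simp only [Subgroup.coe_mul]
    have hc := hZc _ (hcomm x' x'.2 y y.2) x x.2
    calc (x : Γ) * x' * y * ((x : Γ) * x')⁻¹ * (y : Γ)⁻¹
        = x * ((x' : Γ) * y * (x' : Γ)⁻¹ * (y : Γ)⁻¹) * y * (x : Γ)⁻¹ * (y : Γ)⁻¹ := by group
      _ = ((x' : Γ) * y * (x' : Γ)⁻¹ * (y : Γ)⁻¹) * x * y * (x : Γ)⁻¹ * (y : Γ)⁻¹ := by rw [hc]
      _ = ((x' : Γ) * y * (x' : Γ)⁻¹ * (y : Γ)⁻¹) * ((x : Γ) * y * (x : Γ)⁻¹ * (y : Γ)⁻¹) := by group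
      _ = ((x : Γ) * y * (x : Γ)⁻¹ * (y : Γ)⁻¹) * ((x' : Γ) * y * (x' : Γ)⁻¹ * (y : Γ)⁻¹) :=
          C.z_comm _ (hcomm x' x'.2 y y.2) _ (hcomm x x.2 y y.2)
  have hβr : ∀ x y y', β x (y * y') = β x y * β x y' := by
    intro x y y'
    simp only [hβ]
    rw [← map_mul]
    congr 1
    apply Subtype.ext
    simp only [Subgroup.coe_mul]
    have hc := hZc _ (hcomm x x.2 y' y'.2) y y.2
    calc (x : Γ) * ((y : Γ) * y') * (x : Γ)⁻¹ * ((y : Γ) * y')⁻¹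
        = ((x : Γ) * y * (x : Γ)⁻¹ * (y : Γ)⁻¹) * (y * ((x : Γ) * y' * (x : Γ)⁻¹ * (y' : Γ)⁻¹)) * (y : Γ)⁻¹ := by
          group
      _ = ((x : Γ) * y * (x : Γ)⁻¹ * (y : Γ)⁻¹) * (((x : Γ) * y' * (x : Γ)⁻¹ * (y' : Γ)⁻¹) * y) * (y : Γ)⁻¹ := by
          rw [hc]
      _ = ((x : Γ) * y * (x : Γ)⁻¹ * (y : Γ)⁻¹) * ((x : Γ) * y' * (x : Γ)⁻¹ * (y' : Γ)⁻¹) := by group
  have hβalt : ∀ x, β x x = 1 := by
    intro x
    simp only [hβ]
    have : (⟨(x : Γ) * x * (x : Γ)⁻¹ * (x : Γ)⁻¹, hcomm x x.2 x x.2⟩ : Z) = 1 := by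
      apply Subtype.ext
      simp
    rw [this, map_one]
  have hβR : ∀ x, x ∈ R' ↔ ∀ y, β x y = 1 := by
    intro x
    constructor
    · intro hx y
      exact E.hR4 x (mem_subgroupOf.mp hx) y y.2 _
    · intro h
      by_contra hx
      obtain ⟨y, hy, hm', hne'⟩ := E.hR3 x x.2 (fun hxR => hx (mem_subgroupOf.mpr hxR))
      exact hne' (h ⟨y, hy⟩)
  -- the group of automorphisms
  set ψ := conjHom Q D hDQ with hψ
  set 𝒟 : Subgroup (MulAut Q) := ψ.range with h𝒟def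
  have h𝒟 : IsPGroup q 𝒟 := IsPGroup.of_surjective hD ψ.rangeRestrict ψ.rangeRestrict_surjective
  have h𝒟β : ∀ δ ∈ 𝒟, ∀ x y, β (δ x) (δ y) = β x y := by
    rintro _ ⟨d', rfl⟩ x y
    simp only [hβ]
    congr 1
    apply Subtype.ext
    simp only [hψ, conjHom_apply]
    have hz := hcomm x x.2 y y.2
    have hc := hDZ d' d'.2 _ hz
    calc (d' : Γ) * x * (d' : Γ)⁻¹ * ((d' : Γ) * y * (d' : Γ)⁻¹) * ((d' : Γ) * x * (d' : Γ)⁻¹)⁻¹ *
          ((d' : Γ) * y * (d' : Γ)⁻¹)⁻¹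
        = ((d' : Γ) * ((x : Γ) * y * (x : Γ)⁻¹ * (y : Γ)⁻¹)) * (d' : Γ)⁻¹ := by group
      _ = (x : Γ) * y * (x : Γ)⁻¹ * (y : Γ)⁻¹ := by rw [hc]; group
  have hs₁D : s₁ ∈ normalizer (D : Set Γ) := pow_mem hsD d
  have hσ𝒟 : ∀ δ ∈ 𝒟, σ * δ * σ⁻¹ ∈ 𝒟 := by
    rintro _ ⟨d', rfl⟩
    refine ⟨⟨s₁ * d' * s₁⁻¹, (mem_normalizer_iff.mp hs₁D d').mp d'.2⟩, ?_⟩
    ext g
    rw [MulAut.mul_apply, MulAut.mul_apply]
    simp only [hψ, conjHom_apply, hσ, conjAut_apply]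
    have hinv' : ((conjAut Q s₁ hs₁Q)⁻¹ g : Γ) = s₁⁻¹ * g * s₁ := by
      have h1 : conjAut Q s₁ hs₁Q ((conjAut Q s₁ hs₁Q)⁻¹ g) = g := by
        rw [← MulAut.mul_apply, mul_inv_cancel, MulAut.one_apply]
      have h2 := congrArg Subtype.val h1
      rw [conjAut_apply] at h2
      rw [← h2]
      group
    rw [hinv']
    group
  have key := Cfsg.Agent.Helper13.GrossLines.lines_lemma R' l j q m hl hj2 hlj hq hq2 hql hidx β hβl hβr hβalt hβR σ hσm hlm hσR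
    hσfpf 𝒟 h𝒟 h𝒟β hσ𝒟 (ψ ⟨d₀, hd₀⟩) ⟨⟨d₀, hd₀⟩, rfl⟩ ⟨x₀, hx₀⟩
  have haR : a ∈ R := by
    have := mem_subgroupOf.mp key
    simpa [hψ, conjHom_apply] using this
  exact hlam (E.hR4 a haR y₀ hy₀ _)

end Cfsg.Agent.Helper9.Gross
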