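import Mathlib
import Cfsg.Agent.Helper9.WardA
import Cfsg.Agent.Helper5.HHModG
import Cfsg.Agent.Lead.Coprime2
import Cfsg.Agent.Lead.CoprimeAbelian

/-!
# Gross (p = 2), part D: group-theoretic lemmas for the two-level configuration
(class-two commutator calculus, coprime stability, the module `Q / Z`)
-/

set_option autoImplicit false
set_option linter.style.haveILetI false
set_option linter.unusedSectionVars false

namespace Cfsg.Agent.Helper9.Gross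

open Subgroup Cfsg.Agent.Helper9.Ward Cfsg.Agent.Helper5.HHMod

section calculus

variable {Γ : Type*} [Group Γ]

/-- coprime stability, element form -/
theorem stab_pow (c g z : Γ) (hz : c * g * c⁻¹ = z * g) (hcz : c * z = z * c) (N : ℕ) :
    c ^ N * g * (c ^ N)⁻¹ = z ^ N * g := by
  induction N with
  | zero => simp
  | succ N ih =>
    have hc : Commute c (z ^ N) := (show Commute c z from hcz).pow_right N
    calc c ^ (N + 1) * g * (c ^ (N + 1))⁻¹ = c * (c ^ N * g * (c ^ N)⁻¹) * c⁻¹ := by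
          rw [pow_succ']; group
      _ = c * (z ^ N * g) * c⁻¹ := by rw [ih]
      _ = (c * z ^ N) * g * c⁻¹ := by group
      _ = (z ^ N * c) * g * c⁻¹ := by rw [hc.eq]
      _ = z ^ N * (c * g * c⁻¹) := by group
      _ = z ^ N * (z * g) := by rw [hz]
      _ = z ^ (N + 1) * g := by rw [pow_succ]; group

theorem stab_eq_one (c g z : Γ) (hz : c * g * c⁻¹ = z * g) (hcz : c * z = z * c) (N N' : ℕ)
    (hcN : c ^ N = 1) (hzN : z ^ N' = 1) (hcop : N.Coprime N') : z = 1 := by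
  have h1 := stab_pow c g z hz hcz N
  rw [hcN] at h1
  have h2 : z ^ N = 1 := by
    have : g = z ^ N * g := by simpa using h1
    exact (mul_eq_right.mp this.symm)
  have h3 : orderOf z ∣ N := orderOf_dvd_of_pow_eq_one h2
  have h4 : orderOf z ∣ N' := orderOf_dvd_of_pow_eq_one hzN
  have h5 : orderOf z ∣ 1 := by
    have := Nat.dvd_gcd h3 h4
    rwa [hcop] at this
  exact orderOf_eq_one_iff.mp (Nat.dvd_one.mp h5)

variable (Q Z : Subgroup Γ) (hZc : ∀ z ∈ Z, ∀ g ∈ Q, z * g = g * z)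
  (hcomm : ∀ g ∈ Q, ∀ h ∈ Q, g * h * g⁻¹ * h⁻¹ ∈ Z)

include hZc hcomm

theorem comm_mul_left {x x' y : Γ} (hx : x ∈ Q) (hx' : x' ∈ Q) (hy : y ∈ Q) :
    (x * x') * y * (x * x')⁻¹ * y⁻¹ = (x * y * x⁻¹ * y⁻¹) * (x' * y * x'⁻¹ * y⁻¹) := by
  have hc := hZc _ (hcomm x' hx' y hy) x hx
  have hxy : x * y * x⁻¹ * y⁻¹ ∈ Q := Q.mul_mem (Q.mul_mem (Q.mul_mem hx hy) (Q.inv_mem hx)) (Q.inv_mem hy)
  have hc2 := hZc _ (hcomm x' hx' y hy) _ hxy
  calc x * x' * y * (x * x')⁻¹ * y⁻¹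
      = x * (x' * y * x'⁻¹ * y⁻¹) * y * x⁻¹ * y⁻¹ := by group
    _ = (x' * y * x'⁻¹ * y⁻¹) * x * y * x⁻¹ * y⁻¹ := by rw [hc]
    _ = (x' * y * x'⁻¹ * y⁻¹) * (x * y * x⁻¹ * y⁻¹) := by group
    _ = (x * y * x⁻¹ * y⁻¹) * (x' * y * x'⁻¹ * y⁻¹) := hc2

theorem comm_mul_right {x y y' : Γ} (hx : x ∈ Q) (hy : y ∈ Q) (hy' : y' ∈ Q) :
    x * (y * y') * x⁻¹ * (y * y')⁻¹ = (x * y * x⁻¹ * y⁻¹) * (x * y' * x⁻¹ * y'⁻¹) := by
  have hc := hZc _ (hcomm x hx y' hy') y hy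
  calc x * (y * y') * x⁻¹ * (y * y')⁻¹
      = (x * y * x⁻¹ * y⁻¹) * (y * (x * y' * x⁻¹ * y'⁻¹)) * y⁻¹ := by group
    _ = (x * y * x⁻¹ * y⁻¹) * ((x * y' * x⁻¹ * y'⁻¹) * y) * y⁻¹ := by rw [hc]
    _ = (x * y * x⁻¹ * y⁻¹) * (x * y' * x⁻¹ * y'⁻¹) := by group

theorem comm_inv_right {x y : Γ} (hx : x ∈ Q) (hy : y ∈ Q) :
    x * y⁻¹ * x⁻¹ * y⁻¹⁻¹ = (x * y * x⁻¹ * y⁻¹)⁻¹ := by
  have h := comm_mul_right Q Z hZc hcomm hx hy (Q.inv_mem hy)
  have h1 : x * (y * y⁻¹) * x⁻¹ * (y * y⁻¹)⁻¹ = 1 := by group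
  rw [h1] at h
  exact (inv_eq_of_mul_eq_one_right h.symm).symm

theorem comm_inv_left {x y : Γ} (hx : x ∈ Q) (hy : y ∈ Q) :
    x⁻¹ * y * x⁻¹⁻¹ * y⁻¹ = (x * y * x⁻¹ * y⁻¹)⁻¹ := by
  have h := comm_mul_left Q Z hZc hcomm hx (Q.inv_mem hx) hy
  have h1 : (x * x⁻¹) * y * (x * x⁻¹)⁻¹ * y⁻¹ = 1 := by group
  rw [h1] at h
  exact (inv_eq_of_mul_eq_one_right h.symm).symm

theorem comm_central_left {z x y : Γ} (hz : z ∈ Z) (hzQ : z ∈ Q) (hx : x ∈ Q) (hy : y ∈ Q) :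
    (z * x) * y * (z * x)⁻¹ * y⁻¹ = x * y * x⁻¹ * y⁻¹ := by
  rw [comm_mul_left Q Z hZc hcomm hzQ hx hy]
  have : z * y * z⁻¹ * y⁻¹ = 1 := by
    rw [hZc z hz y hy]; group
  rw [this, one_mul]

end calculus

section commstab

variable {Γ : Type*} [Group Γ]

/-- the elements `y` normalising `R` with `[y, g] ∈ R` form a subgroup -/
def commStab (R : Subgroup Γ) (g : Γ) : Subgroup Γ where
  carrier := {y | y ∈ normalizer (R : Set Γ) ∧ y * g * y⁻¹ * g⁻¹ ∈ R}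
  one_mem' := ⟨one_mem _, by simp [R.one_mem]⟩
  mul_mem' := by
    rintro a b ⟨ha, ha'⟩ ⟨hb, hb'⟩
    refine ⟨mul_mem ha hb, ?_⟩
    have h1 : a * (b * g * b⁻¹ * g⁻¹) * a⁻¹ ∈ R := (mem_normalizer_iff.mp ha _).mp hb'
    have h2 : a * b * g * (a * b)⁻¹ * g⁻¹ = (a * (b * g * b⁻¹ * g⁻¹) * a⁻¹) * (a * g * a⁻¹ * g⁻¹) := by
      group
    rw [h2]
    exact R.mul_mem h1 ha'
  inv_mem' := by
    rintro a ⟨ha, ha'⟩
    refine ⟨inv_mem ha, ?_⟩
    have h1 : a⁻¹ * (a * g * a⁻¹ * g⁻¹)⁻¹ * a⁻¹⁻¹ ∈ R :=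
      (mem_normalizer_iff.mp (inv_mem ha) _).mp (R.inv_mem ha')
    have h2 : a⁻¹ * g * a⁻¹⁻¹ * g⁻¹ = a⁻¹ * (a * g * a⁻¹ * g⁻¹)⁻¹ * a⁻¹⁻¹ := by group
    rw [h2]
    exact h1

theorem mem_commStab {R : Subgroup Γ} {g y : Γ} :
    y ∈ commStab R g ↔ y ∈ normalizer (R : Set Γ) ∧ y * g * y⁻¹ * g⁻¹ ∈ R := Iff.rfl

/-- fixed points of `s` on `Q / Z` lift (coprime action) -/
theorem mem_of_fixed_mod [Finite Γ] {Q Z : Subgroup Γ} {s : Γ} {N : ℕ}
    (hsN : s ^ N = 1) (hcop : N.Coprime (Nat.card Q))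
    (hsQ : s ∈ normalizer (Q : Set Γ)) (hsZ : s ∈ normalizer (Z : Set Γ)) (hZQ : Z ≤ Q)
    (hQZ : Q ≤ normalizer (Z : Set Γ))
    (hfpf : ∀ g ∈ Q, s * g * s⁻¹ = g → g = 1) {g : Γ} (hg : g ∈ Q)
    (h : s * g * s⁻¹ * g⁻¹ ∈ Z) : g ∈ Z := by
  have hle : zpowers s ≤ commStab Z g := zpowers_le.mpr ⟨hsZ, h⟩
  have hcard : Nat.card (zpowers s) ∣ N := by
    rw [Nat.card_zpowers]
    exact orderOf_dvd_of_pow_eq_one hsN
  have hcop' : (Nat.card (zpowers s)).Coprime (Nat.card Q) := Nat.Coprime.coprime_dvd_left hcard hcop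
  obtain ⟨c, hc, hgc⟩ := Cfsg.Agent.Lead.coprime_fixed_points_quotient (zpowers s) Q
    (zpowers_le.mpr hsQ) hcop' (Or.inl (Cfsg.Agent.Lead.isSolvable_of_isMulCommutative (zpowers s))) Z hZQ hQZ
    (fun a ha => (hle ha).1) g hg (fun a ha => (hle ha).2)
  have hc1 : c = 1 := by
    apply hfpf c hc.1
    have := mem_centralizer_iff.mp hc.2 s (mem_zpowers s)
    rw [this]; group
  rw [hc1, mul_one] at hgc
  have := Z.inv_mem hgc
  rwa [inv_inv] at this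

end commstab

section quotmod

variable {Γ : Type*} [Group Γ] (Q Z : Subgroup Γ)

/-- elements normalising both `Q` and `Z` -/
def pairNorm : Subgroup Γ := normalizer (Q : Set Γ) ⊓ normalizer (Z : Set Γ)

variable [hZn : (Z.subgroupOf Q).Normal]

theorem map_conjAut_subgroupOf (a : Γ) (ha : a ∈ pairNorm Q Z) :
    (Z.subgroupOf Q).map ((conjAut Q a ha.1 : ↥Q ≃* ↥Q) : ↥Q →* ↥Q) = Z.subgroupOf Q := by
  ext x
  rw [Subgroup.mem_map]
  constructor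
  · rintro ⟨z, hz, rfl⟩
    rw [mem_subgroupOf] at hz ⊢
    show a * z * a⁻¹ ∈ Z
    exact (mem_normalizer_iff.mp ha.2 z).mp hz
  · intro hx
    refine ⟨(conjAut Q a ha.1).symm x, ?_, ?_⟩
    · rw [mem_subgroupOf] at hx ⊢
      show a⁻¹ * x * a ∈ Z
      have := (mem_normalizer_iff.mp (inv_mem ha.2) x).mp hx
      rwa [inv_inv] at this
    · exact (conjAut Q a ha.1).apply_symm_apply x

/-- the automorphism of `Q / Z` induced by conjugation -/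
noncomputable def quotAut (a : Γ) (ha : a ∈ pairNorm Q Z) : MulAut (↥Q ⧸ Z.subgroupOf Q) :=
  QuotientGroup.congr (Z.subgroupOf Q) (Z.subgroupOf Q) (conjAut Q a ha.1)
    (map_conjAut_subgroupOf Q Z a ha)

theorem quotAut_mk (a : Γ) (ha : a ∈ pairNorm Q Z) (g : Q) :
    quotAut Q Z a ha (QuotientGroup.mk g) = QuotientGroup.mk (conjAut Q a ha.1 g) :=
  QuotientGroup.congr_mk _ _ _ _ g

/-- the action of the normaliser of the pair on `Q / Z` -/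
noncomputable def quotHom : ↥(pairNorm Q Z) →* MulAut (↥Q ⧸ Z.subgroupOf Q) where
  toFun a := quotAut Q Z a a.2
  map_one' := by
    ext v
    induction v using QuotientGroup.induction_on with
    | H g =>
      rw [quotAut_mk, MulAut.one_apply]
      congr 1
      apply Subtype.ext
      rw [conjAut_apply]
      simp
  map_mul' a b := by
    ext v
    induction v using QuotientGroup.induction_on with
    | H g =>
      rw [MulAut.mul_apply, quotAut_mk, quotAut_mk, quotAut_mk]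
      congr 1
      apply Subtype.ext
      rw [conjAut_apply, conjAut_apply, conjAut_apply]
      simp only [Subgroup.coe_mul]
      group

theorem quotHom_mk (a : ↥(pairNorm Q Z)) (g : Q) :
    quotHom Q Z a (QuotientGroup.mk g) = QuotientGroup.mk (conjAut Q a a.2.1 g) :=
  quotAut_mk Q Z a a.2 g

end quotmod

end Cfsg.Agent.Helper9.Gross
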