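import Mathlib
import Cfsg.Agent.Helper9.GrossD
import Cfsg.Agent.Helper8.GrossBC2

/-!
# Gross (p = 2), part E: the core of the two-level theorem
-/

set_option autoImplicit false
set_option linter.style.haveILetI false
set_option linter.unusedSectionVars false
set_option maxHeartbeats 800000

namespace Cfsg.Agent.Helper9.Gross

open Subgroup Cfsg.Agent.Helper9.Ward Cfsg.Agent.Helper5.HHMod
open scoped commutatorElement

variable {Γ : Type*} [Group Γ]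

/-- the two-level configuration after the Hall–Higman type reductions: `S` an `s0`-group, `Q` a
`q`-group of class two with centre `Z`, `b = s ^ (2 ^ (n - 1))`. -/
structure Core (s0 q n : ℕ) (S Q Z : Subgroup Γ) (s : Γ) : Prop where
  hs0 : s0.Prime
  hq : q.Prime
  hs02 : s0 ≠ 2
  hq2 : q ≠ 2
  hqs0 : q ≠ s0
  hn : 0 < n
  hS : IsPGroup s0 S
  hQ : IsPGroup q Q
  hsS : s ∈ normalizer (S : Set Γ)
  hsQ : s ∈ normalizer (Q : Set Γ)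
  hSQ : S ≤ normalizer (Q : Set Γ)
  hs : s ^ (2 ^ n) = 1
  hfpfQ : ∀ g ∈ Q, s * g * s⁻¹ = g → g = 1
  hgen : closure {c | ∃ x ∈ S, c = s ^ (2 ^ (n - 1)) * x * (s ^ (2 ^ (n - 1)))⁻¹ * x⁻¹} = S
  hnt : ∃ x ∈ S, ∃ g ∈ Q, x * g * x⁻¹ ≠ g
  hminS : ∀ S₁ : Subgroup Γ, S₁ ≤ S → s ∈ normalizer (S₁ : Set Γ) → S₁ ≠ S → ∀ x ∈ S₁, ∀ g ∈ Q,
    (s ^ (2 ^ (n - 1)) * x * (s ^ (2 ^ (n - 1)))⁻¹ * x⁻¹) * g *
      (s ^ (2 ^ (n - 1)) * x * (s ^ (2 ^ (n - 1)))⁻¹ * x⁻¹)⁻¹ = g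
  hZQ : Z ≤ Q
  hZc : ∀ z ∈ Z, ∀ g ∈ Q, z * g = g * z
  hcenter : ∀ g ∈ Q, (∀ h ∈ Q, g * h = h * g) → g ∈ Z
  hcomm : ∀ g ∈ Q, ∀ h ∈ Q, g * h * g⁻¹ * h⁻¹ ∈ Z
  hSZ : ∀ x ∈ S, ∀ z ∈ Z, x * z = z * x
  hbZ : ∀ z ∈ Z, s ^ (2 ^ (n - 1)) * z = z * s ^ (2 ^ (n - 1))
  hexp : ∀ g ∈ Q, g ^ q ∈ Z
  hP : ∀ M : Subgroup Γ, M ≤ Q → s ∈ normalizer (M : Set Γ) → S ≤ normalizer (M : Set Γ) →
    Q ≤ normalizer (M : Set Γ) → M ≠ Q → M ≤ Z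

/-- the part of `Q` inverted by `b` modulo `Z` -/
def Q2 (Q Z : Subgroup Γ) (b : Γ) (hZc : ∀ z ∈ Z, ∀ g ∈ Q, z * g = g * z)
    (hcomm : ∀ g ∈ Q, ∀ h ∈ Q, g * h * g⁻¹ * h⁻¹ ∈ Z) : Subgroup Γ where
  carrier := {g | g ∈ Q ∧ b * g * b⁻¹ * g ∈ Z}
  one_mem' := ⟨Q.one_mem, by simp [Z.one_mem]⟩
  mul_mem' := by
    rintro g h ⟨hg, hu⟩ ⟨hh, hv⟩
    refine ⟨Q.mul_mem hg hh, ?_⟩
    have h1 : b * (g * h) * b⁻¹ * (g * h) =
        (b * g * b⁻¹ * g) * (g⁻¹ * (b * h * b⁻¹ * h) * (h⁻¹ * g * h)) := by group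
    have h2 : g⁻¹ * (b * h * b⁻¹ * h) = (b * h * b⁻¹ * h) * g⁻¹ := (hZc _ hv _ (Q.inv_mem hg)).symm
    have h3 : g⁻¹ * h⁻¹ * g⁻¹⁻¹ * h⁻¹⁻¹ ∈ Z := hcomm _ (Q.inv_mem hg) _ (Q.inv_mem hh)
    have h4 : b * (g * h) * b⁻¹ * (g * h) =
        (b * g * b⁻¹ * g) * ((b * h * b⁻¹ * h) * (g⁻¹ * h⁻¹ * g⁻¹⁻¹ * h⁻¹⁻¹)) := by
      rw [h1, h2]; group
    rw [h4]
    exact Z.mul_mem hu (Z.mul_mem hv h3)
  inv_mem' := by
    rintro g ⟨hg, hu⟩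
    refine ⟨Q.inv_mem hg, ?_⟩
    have h1 : g * (b * g * b⁻¹ * g) = (b * g * b⁻¹ * g) * g := (hZc _ hu _ hg).symm
    have h2 : b * g⁻¹ * b⁻¹ * g⁻¹ = (b * g * b⁻¹ * g)⁻¹ := by
      have : b * g⁻¹ * b⁻¹ * g⁻¹ = (g * (b * g * b⁻¹ * g) * g⁻¹)⁻¹ := by group
      rw [this, h1]; group
    rw [h2]
    exact Z.inv_mem hu

theorem mem_Q2 {Q Z : Subgroup Γ} {b : Γ} {hZc : ∀ z ∈ Z, ∀ g ∈ Q, z * g = g * z}
    {hcomm : ∀ g ∈ Q, ∀ h ∈ Q, g * h * g⁻¹ * h⁻¹ ∈ Z} {g : Γ} :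
    g ∈ Q2 Q Z b hZc hcomm ↔ g ∈ Q ∧ b * g * b⁻¹ * g ∈ Z := Iff.rfl

/-- an element normalising `S` normalises the derived subgroup -/
theorem mem_normalizer_commutator [Finite Γ] {S : Subgroup Γ} {a : Γ}
    (ha : a ∈ normalizer (S : Set Γ)) : a ∈ normalizer ((⁅S, S⁆ : Subgroup Γ) : Set Γ) := by
  apply mem_normalizer_of_conj_mem
  have hle : ⁅S, S⁆ ≤ (⁅S, S⁆ : Subgroup Γ).comap (MulAut.conj a).toMonoidHom := by
    rw [Subgroup.commutator_le]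
    intro g₁ hg₁ g₂ hg₂
    rw [Subgroup.mem_comap]
    have h1 : (MulAut.conj a).toMonoidHom ⁅g₁, g₂⁆ = ⁅a * g₁ * a⁻¹, a * g₂ * a⁻¹⁆ := by
      simp only [MulEquiv.toMonoidHom_eq_coe, MonoidHom.coe_coe, MulAut.conj_apply,
        commutatorElement_def]
      group
    rw [h1]
    exact Subgroup.commutator_mem_commutator ((mem_normalizer_iff.mp ha g₁).mp hg₁)
      ((mem_normalizer_iff.mp ha g₂).mp hg₂)
  intro d hd
  have := hle hd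
  rw [Subgroup.mem_comap] at this
  simpa [MulAut.conj_apply] using this

theorem commutator_self_le (S : Subgroup Γ) : ⁅S, S⁆ ≤ S := by
  rw [Subgroup.commutator_le]
  intro g₁ hg₁ g₂ hg₂
  rw [commutatorElement_def]
  exact S.mul_mem (S.mul_mem (S.mul_mem hg₁ hg₂) (S.inv_mem hg₁)) (S.inv_mem hg₂)

theorem commutator_self_ne [Finite Γ] {p : ℕ} (hp : p.Prime) {S : Subgroup Γ} (hS : IsPGroup p S)
    (hne : S ≠ ⊥) : ⁅S, S⁆ ≠ S := by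
  intro h
  haveI : Fact p.Prime := ⟨hp⟩
  haveI : Group.IsNilpotent S := hS.isNilpotent
  haveI : Nontrivial S := (Subgroup.nontrivial_iff_ne_bot S).mpr hne
  have h1 := Group.IsSolvable.commutator_lt_top_of_nontrivial (G := S)
  apply h1.ne
  apply Subgroup.map_injective S.subtype_injective
  rw [commutator_def, Subgroup.map_commutator, ← MonoidHom.range_eq_map, Subgroup.range_subtype, h]

/-- the elements of `Q` centralised by `D` modulo `Z` -/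
def MD (Q Z D : Subgroup Γ) (hZc : ∀ z ∈ Z, ∀ g ∈ Q, z * g = g * z) : Subgroup Γ where
  carrier := {g | g ∈ Q ∧ ∀ d ∈ D, d * g * d⁻¹ * g⁻¹ ∈ Z}
  one_mem' := ⟨Q.one_mem, fun d _ => by simp [Z.one_mem]⟩
  mul_mem' := by
    rintro g h ⟨hg, hu⟩ ⟨hh, hv⟩
    refine ⟨Q.mul_mem hg hh, fun d hd => ?_⟩
    have h1 : d * (g * h) * d⁻¹ * (g * h)⁻¹ = (d * g * d⁻¹ * g⁻¹) * (g * (d * h * d⁻¹ * h⁻¹) * g⁻¹) := by
      group
    have h2 : g * (d * h * d⁻¹ * h⁻¹) * g⁻¹ = d * h * d⁻¹ * h⁻¹ := by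
      rw [← hZc _ (hv d hd) g hg, mul_inv_cancel_right]
    rw [h1, h2]
    exact Z.mul_mem (hu d hd) (hv d hd)
  inv_mem' := by
    rintro g ⟨hg, hu⟩
    refine ⟨Q.inv_mem hg, fun d hd => ?_⟩
    have h1 : d * g⁻¹ * d⁻¹ * g⁻¹⁻¹ = g⁻¹ * (d * g * d⁻¹ * g⁻¹)⁻¹ * g := by group
    have h2 : g⁻¹ * (d * g * d⁻¹ * g⁻¹)⁻¹ * g = (d * g * d⁻¹ * g⁻¹)⁻¹ := by
      have := hZc _ (Z.inv_mem (hu d hd)) g hg
      rw [mul_assoc, this, ← mul_assoc, inv_mul_cancel, one_mul]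
    rw [h1, h2]
    exact Z.inv_mem (hu d hd)

theorem mem_MD {Q Z D : Subgroup Γ} {hZc : ∀ z ∈ Z, ∀ g ∈ Q, z * g = g * z} {g : Γ} :
    g ∈ MD Q Z D hZc ↔ g ∈ Q ∧ ∀ d ∈ D, d * g * d⁻¹ * g⁻¹ ∈ Z := Iff.rfl

namespace Core

variable {s0 q n : ℕ} {S Q Z : Subgroup Γ} {s : Γ}

theorem b_sq (C : Core s0 q n S Q Z s) : s ^ (2 ^ (n - 1)) * s ^ (2 ^ (n - 1)) = 1 := by
  rw [← pow_add, ← two_mul, ← pow_succ', Nat.sub_add_cancel C.hn, C.hs]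

theorem b_inv (C : Core s0 q n S Q Z s) : (s ^ (2 ^ (n - 1)))⁻¹ = s ^ (2 ^ (n - 1)) :=
  inv_eq_of_mul_eq_one_right C.b_sq

theorem b_comm_s (C : Core s0 q n S Q Z s) : s * s ^ (2 ^ (n - 1)) = s ^ (2 ^ (n - 1)) * s :=
  ((Commute.refl s).pow_right _).eq

theorem bQ (C : Core s0 q n S Q Z s) : s ^ (2 ^ (n - 1)) ∈ normalizer (Q : Set Γ) := pow_mem C.hsQ _

theorem bS (C : Core s0 q n S Q Z s) : s ^ (2 ^ (n - 1)) ∈ normalizer (S : Set Γ) := pow_mem C.hsS _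

/-- elements of `Q` have odd order -/
theorem odd (C : Core s0 q n S Q Z s) {g : Γ} (hg : g ∈ Q) (h : g * g = 1) : g = 1 := by
  obtain ⟨k, hk⟩ := C.hQ ⟨g, hg⟩
  have hk' : g ^ (q ^ k) = 1 := by
    have := congrArg Subtype.val hk
    simpa using this
  have h2 : g ^ 2 = 1 := by rw [pow_two]; exact h
  have h3 : orderOf g ∣ 2 := orderOf_dvd_of_pow_eq_one h2
  have h4 : orderOf g ∣ q ^ k := orderOf_dvd_of_pow_eq_one hk'
  have hcop : Nat.Coprime 2 (q ^ k) :=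
    Nat.Coprime.pow_right k ((Nat.coprime_primes Nat.prime_two C.hq).mpr (Ne.symm C.hq2))
  have h5 : orderOf g ∣ 1 := by
    have := Nat.dvd_gcd h3 h4
    rwa [hcop] at this
  exact orderOf_eq_one_iff.mp (Nat.dvd_one.mp h5)

/-- `s` normalises `Z` -/
theorem sZ [Finite Γ] (C : Core s0 q n S Q Z s) : s ∈ normalizer (Z : Set Γ) := by
  apply mem_normalizer_of_conj_mem
  intro z hz
  have hzQ : s * z * s⁻¹ ∈ Q := (mem_normalizer_iff.mp C.hsQ z).mp (C.hZQ hz)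
  apply C.hcenter _ hzQ
  intro h hh
  have hh' : s⁻¹ * h * s ∈ Q := by
    have := (mem_normalizer_iff.mp (inv_mem C.hsQ) h).mp hh
    rwa [inv_inv] at this
  have h1 := C.hZc z hz _ hh'
  calc s * z * s⁻¹ * h = s * (z * (s⁻¹ * h * s)) * s⁻¹ := by group
    _ = s * ((s⁻¹ * h * s) * z) * s⁻¹ := by rw [h1]
    _ = h * (s * z * s⁻¹) := by group

/-- if all the generators `[b, x]` of `S` centralise `Q` we have a contradiction -/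
theorem false_of_gens (C : Core s0 q n S Q Z s)
    (h : ∀ x ∈ S, ∀ g ∈ Q, (s ^ (2 ^ (n - 1)) * x * (s ^ (2 ^ (n - 1)))⁻¹ * x⁻¹) * g =
      g * (s ^ (2 ^ (n - 1)) * x * (s ^ (2 ^ (n - 1)))⁻¹ * x⁻¹)) : False := by
  obtain ⟨x, hx, g, hg, hne⟩ := C.hnt
  have hle : S ≤ centralizer (Q : Set Γ) := by
    rw [← C.hgen, closure_le]
    rintro _ ⟨y, hy, rfl⟩
    rw [SetLike.mem_coe, mem_centralizer_iff]
    intro g' hg'
    exact (h y hy g' hg').symm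
  have := mem_centralizer_iff.mp (hle hx) g hg
  apply hne
  rw [← this]
  group

/-- if `b` centralises `Q` we have a contradiction -/
theorem false_of_b (C : Core s0 q n S Q Z s)
    (h : ∀ g ∈ Q, s ^ (2 ^ (n - 1)) * g = g * s ^ (2 ^ (n - 1))) : False := by
  apply C.false_of_gens
  intro x hx g hg
  set b := s ^ (2 ^ (n - 1)) with hb
  have hxg : x⁻¹ * g * x ∈ Q := by
    have := (mem_normalizer_iff.mp (inv_mem (C.hSQ hx)) g).mp hg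
    rwa [inv_inv] at this
  have h1 := h _ hxg
  have h2 := h g hg
  have h3 : b⁻¹ * (x⁻¹ * g * x) = (x⁻¹ * g * x) * b⁻¹ := by
    have : (x⁻¹ * g * x) = b * ((x⁻¹ * g * x) * b⁻¹) := by
      rw [← mul_assoc, h1]; group
    rw [inv_mul_eq_iff_eq_mul]
    exact this
  calc b * x * b⁻¹ * x⁻¹ * g = b * x * (b⁻¹ * (x⁻¹ * g * x)) * x⁻¹ := by group
    _ = b * x * ((x⁻¹ * g * x) * b⁻¹) * x⁻¹ := by rw [h3]
    _ = (b * g) * b⁻¹ * (b * x * b⁻¹ * x⁻¹) := by group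
    _ = (g * b) * b⁻¹ * (b * x * b⁻¹ * x⁻¹) := by rw [h2]
    _ = g * (b * x * b⁻¹ * x⁻¹) := by group

/-- the part of `Q` inverted by `b` modulo `Z` -/
def Q₂ (C : Core s0 q n S Q Z s) : Subgroup Γ := Q2 Q Z (s ^ (2 ^ (n - 1))) C.hZc C.hcomm

theorem Q₂_le (C : Core s0 q n S Q Z s) : C.Q₂ ≤ Q := fun _ hg => hg.1

theorem Z_le_Q₂ (C : Core s0 q n S Q Z s) : Z ≤ C.Q₂ := by
  intro z hz
  refine ⟨C.hZQ hz, ?_⟩
  rw [C.hbZ z hz, mul_inv_cancel_right]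
  exact Z.mul_mem hz hz

theorem sQ₂ [Finite Γ] (C : Core s0 q n S Q Z s) : s ∈ normalizer (C.Q₂ : Set Γ) := by
  apply mem_normalizer_of_conj_mem
  rintro g ⟨hg, hu⟩
  refine ⟨(mem_normalizer_iff.mp C.hsQ g).mp hg, ?_⟩
  set b := s ^ (2 ^ (n - 1)) with hb
  have hsb : s * b = b * s := C.b_comm_s
  have hsb' : s⁻¹ * b⁻¹ = b⁻¹ * s⁻¹ := by
    rw [← mul_inv_rev, ← mul_inv_rev, hsb]
  have h1 : b * (s * g * s⁻¹) * b⁻¹ * (s * g * s⁻¹) = s * (b * g * b⁻¹ * g) * s⁻¹ := by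
    calc b * (s * g * s⁻¹) * b⁻¹ * (s * g * s⁻¹) = (b * s) * g * (s⁻¹ * b⁻¹) * (s * g * s⁻¹) := by group
      _ = (s * b) * g * (b⁻¹ * s⁻¹) * (s * g * s⁻¹) := by rw [hsb, hsb']
      _ = s * (b * g * b⁻¹ * g) * s⁻¹ := by group
  rw [h1]
  exact (mem_normalizer_iff.mp C.sZ _).mp hu

/-- the derived subgroup of `S` -/
def D (_ : Core s0 q n S Q Z s) : Subgroup Γ := ⁅S, S⁆

theorem D_le (C : Core s0 q n S Q Z s) : C.D ≤ S := commutator_self_le S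

theorem S_ne_bot (C : Core s0 q n S Q Z s) : S ≠ ⊥ := by
  intro h
  obtain ⟨x, hx, g, hg, hne⟩ := C.hnt
  rw [h, mem_bot] at hx
  apply hne
  rw [hx]; group

theorem D_ne [Finite Γ] (C : Core s0 q n S Q Z s) : C.D ≠ S :=
  commutator_self_ne C.hs0 C.hS C.S_ne_bot

theorem sD [Finite Γ] (C : Core s0 q n S Q Z s) : s ∈ normalizer (C.D : Set Γ) :=
  mem_normalizer_commutator C.hsS

theorem SD [Finite Γ] (C : Core s0 q n S Q Z s) : S ≤ normalizer (C.D : Set Γ) :=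
  fun _ hx => mem_normalizer_commutator (le_normalizer hx)

/-- `[b, d]` centralises `Q` for `d ∈ D` -/
theorem comm_b_D [Finite Γ] (C : Core s0 q n S Q Z s) {d : Γ} (hd : d ∈ C.D) {g : Γ} (hg : g ∈ Q) :
    (s ^ (2 ^ (n - 1)) * d * (s ^ (2 ^ (n - 1)))⁻¹ * d⁻¹) * g *
      (s ^ (2 ^ (n - 1)) * d * (s ^ (2 ^ (n - 1)))⁻¹ * d⁻¹)⁻¹ = g :=
  C.hminS C.D C.D_le C.sD C.D_ne d hd g hg

theorem D_Z (C : Core s0 q n S Q Z s) {d : Γ} (hd : d ∈ C.D) {z : Γ} (hz : z ∈ Z) : d * z = z * d :=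
  C.hSZ d (C.D_le hd) z hz

theorem DQ (C : Core s0 q n S Q Z s) : C.D ≤ normalizer (Q : Set Γ) := C.D_le.trans C.hSQ

theorem DQ₂ [Finite Γ] (C : Core s0 q n S Q Z s) : C.D ≤ normalizer (C.Q₂ : Set Γ) := by
  apply le_normalizer_of_conj_mem
  rintro d hd g ⟨hg, hu⟩
  have hdg : d * g * d⁻¹ ∈ Q := (mem_normalizer_iff.mp (C.DQ hd) g).mp hg
  refine ⟨hdg, ?_⟩
  set b := s ^ (2 ^ (n - 1)) with hb
  have hbg : b * g * b⁻¹ ∈ Q := (mem_normalizer_iff.mp C.bQ g).mp hg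
  have hdbg : d * (b * g * b⁻¹) * d⁻¹ ∈ Q := (mem_normalizer_iff.mp (C.DQ hd) _).mp hbg
  have h1 := C.comm_b_D hd hdbg
  have h2 : b * (d * g * d⁻¹) * b⁻¹ = d * (b * g * b⁻¹) * d⁻¹ := by
    calc b * (d * g * d⁻¹) * b⁻¹
        = (b * d * b⁻¹ * d⁻¹) * (d * (b * g * b⁻¹) * d⁻¹) * (b * d * b⁻¹ * d⁻¹)⁻¹ := by group
      _ = d * (b * g * b⁻¹) * d⁻¹ := h1
  have h3 : b * (d * g * d⁻¹) * b⁻¹ * (d * g * d⁻¹) = d * (b * g * b⁻¹ * g) * d⁻¹ := by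
    rw [h2]; group
  rw [h3, C.D_Z hd hu, mul_inv_cancel_right]
  exact hu

theorem QZ (C : Core s0 q n S Q Z s) : Q ≤ normalizer (Z : Set Γ) := by
  apply le_normalizer_of_conj_mem
  intro g hg z hz
  rw [← C.hZc z hz g hg, mul_inv_cancel_right]
  exact hz

theorem SZ (C : Core s0 q n S Q Z s) : S ≤ normalizer (Z : Set Γ) := by
  apply le_normalizer_of_conj_mem
  intro x hx z hz
  rw [C.hSZ x hx z hz, mul_inv_cancel_right]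
  exact hz

theorem card_coprime [Finite Γ] (C : Core s0 q n S Q Z s) (k : ℕ) : (2 ^ k).Coprime (Nat.card Q) := by
  haveI : Fact q.Prime := ⟨C.hq⟩
  obtain ⟨m, hm⟩ := C.hQ.exists_card_eq
  rw [hm]
  exact Nat.Coprime.pow _ _ ((Nat.coprime_primes Nat.prime_two C.hq).mpr (Ne.symm C.hq2))

/-- an element of `S` acting trivially on `Q / Z` centralises `Q` -/
theorem centralizes_of_mod [Finite Γ] (C : Core s0 q n S Q Z s) {c : Γ} (hc : c ∈ S) {g : Γ}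
    (hg : g ∈ Q) (h : c * g * c⁻¹ * g⁻¹ ∈ Z) : c * g = g * c := by
  set z := c * g * c⁻¹ * g⁻¹ with hz
  have hz1 : c * g * c⁻¹ = z * g := by rw [hz]; group
  obtain ⟨k, hk⟩ := C.hS ⟨c, hc⟩
  have hk' : c ^ (s0 ^ k) = 1 := by
    have := congrArg Subtype.val hk
    simpa using this
  obtain ⟨j, hj⟩ := C.hQ ⟨z, C.hZQ h⟩
  have hj' : z ^ (q ^ j) = 1 := by
    have := congrArg Subtype.val hj
    simpa using this
  have hcop : (s0 ^ k).Coprime (q ^ j) :=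
    Nat.Coprime.pow _ _ ((Nat.coprime_primes C.hs0 C.hq).mpr (Ne.symm C.hqs0))
  have h1 : z = 1 := stab_eq_one c g z hz1 (C.hSZ c hc z h) _ _ hk' hj' hcop
  rw [h1, one_mul] at hz1
  calc c * g = (c * g * c⁻¹) * c := by group
    _ = g * c := by rw [hz1]

/-- (f) the derived subgroup of `S` does not centralise `Q` -/
theorem D_not_central [Finite Γ] (C : Core s0 q n S Q Z s) :
    ¬ ∀ d ∈ C.D, ∀ g ∈ Q, d * g = g * d := by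
  intro hcen
  classical
  haveI hZn : (Z.subgroupOf Q).Normal := (normal_subgroupOf_iff_le_normalizer C.hZQ).mpr C.QZ
  set N := pairNorm Q Z with hN
  have hSN : S ≤ N := fun x hx => ⟨C.hSQ hx, C.SZ hx⟩
  have hsN : s ∈ N := ⟨C.hsQ, C.sZ⟩
  letI : CommGroup (↥Q ⧸ Z.subgroupOf Q) :=
    { (inferInstance : Group (↥Q ⧸ Z.subgroupOf Q)) with
      mul_comm := by
        intro a b
        induction a using QuotientGroup.induction_on with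
        | H g =>
          induction b using QuotientGroup.induction_on with
          | H h =>
            rw [← QuotientGroup.mk_mul, ← QuotientGroup.mk_mul, QuotientGroup.eq, mem_subgroupOf]
            have := C.hcomm _ (Q.inv_mem h.2) _ (Q.inv_mem g.2)
            have e : (((g * h)⁻¹ * (h * g) : Q) : Γ) = (h : Γ)⁻¹ * (g : Γ)⁻¹ * (h : Γ)⁻¹⁻¹ * (g : Γ)⁻¹⁻¹ := by
              simp only [Subgroup.coe_mul, Subgroup.coe_inv]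
              group
            rw [e]
            exact this }
  have hV' : ∀ v : ↥Q ⧸ Z.subgroupOf Q, v ^ q = 1 := by
    intro v
    induction v using QuotientGroup.induction_on with
    | H g =>
      rw [← QuotientGroup.mk_pow, QuotientGroup.eq_one_iff, mem_subgroupOf]
      simpa using C.hexp g g.2
  set φ' := quotHom Q Z with hφ'
  set A' : Subgroup ↥N := S.subgroupOf N with hA'
  have hA'p : IsPGroup s0 A' := C.hS.comap_subtype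
  set s' : ↥N := ⟨s, hsN⟩ with hs'
  have hab : ∀ a ∈ A', ∀ b ∈ A', φ' (a * b) = φ' (b * a) := by
    intro a ha b hb
    rw [hA', mem_subgroupOf] at ha hb
    ext v
    induction v using QuotientGroup.induction_on with
    | H g =>
      rw [hφ', quotHom_mk, quotHom_mk]
      congr 1
      apply Subtype.ext
      rw [conjAut_apply, conjAut_apply]
      simp only [Subgroup.coe_mul]
      have hd : (a : Γ) * b * (a : Γ)⁻¹ * (b : Γ)⁻¹ ∈ C.D :=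
        Subgroup.commutator_mem_commutator ha hb
      have hbaN : (b : Γ) * a ∈ normalizer (Q : Set Γ) := mul_mem (C.hSQ hb) (C.hSQ ha)
      have hh : (b : Γ) * a * g * ((b : Γ) * a)⁻¹ ∈ Q := (mem_normalizer_iff.mp hbaN g).mp g.2
      have h1 := hcen _ hd _ hh
      calc (a : Γ) * b * g * ((a : Γ) * b)⁻¹
          = ((a : Γ) * b * (a : Γ)⁻¹ * (b : Γ)⁻¹) * ((b : Γ) * a * g * ((b : Γ) * a)⁻¹) *
              ((a : Γ) * b * (a : Γ)⁻¹ * (b : Γ)⁻¹)⁻¹ := by group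
        _ = ((b : Γ) * a * g * ((b : Γ) * a)⁻¹) * ((a : Γ) * b * (a : Γ)⁻¹ * (b : Γ)⁻¹) *
              ((a : Γ) * b * (a : Γ)⁻¹ * (b : Γ)⁻¹)⁻¹ := by rw [h1]
        _ = (b : Γ) * a * g * ((b : Γ) * a)⁻¹ := by group
  have hsA' : s' ∈ normalizer (A' : Set ↥N) := by
    rw [mem_normalizer_iff]
    intro x
    rw [hA', mem_subgroupOf, mem_subgroupOf]
    exact mem_normalizer_iff.mp C.hsS (x : Γ)
  have hs'N : s' ^ (2 ^ n) = 1 := Subtype.ext (by simpa using C.hs)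
  have hfpfV' : ∀ v : ↥Q ⧸ Z.subgroupOf Q, φ' s' v = v → v = 1 := by
    intro v
    induction v using QuotientGroup.induction_on with
    | H g =>
      intro hv
      rw [hφ', quotHom_mk, QuotientGroup.eq, mem_subgroupOf] at hv
      rw [QuotientGroup.eq_one_iff, mem_subgroupOf]
      have hsg : s * g * s⁻¹ ∈ Q := (mem_normalizer_iff.mp C.hsQ g).mp g.2
      have e : (((conjAut Q (s' : Γ) s'.2.1 g)⁻¹ * g : Q) : Γ) = (s * g * s⁻¹)⁻¹ * g := by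
        simp only [Subgroup.coe_mul, Subgroup.coe_inv, conjAut_apply, hs']
      rw [e] at hv
      -- `(s g s⁻¹)⁻¹ g ∈ Z`, hence `s g s⁻¹ g⁻¹ ∈ Z`
      have h1 : s * g * s⁻¹ * (g : Γ)⁻¹ ∈ Z := by
        have h2 : s * g * s⁻¹ * (g : Γ)⁻¹ = (s * g * s⁻¹) * ((s * g * s⁻¹)⁻¹ * g)⁻¹ * (s * g * s⁻¹)⁻¹ := by
          group
        rw [h2]
        exact (mem_normalizer_iff.mp (C.QZ hsg) _).mp (Z.inv_mem hv)
      exact mem_of_fixed_mod C.hs (C.card_coprime n) C.hsQ C.sZ C.hZQ C.QZ C.hfpfQ g.2 h1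
  have key := Cfsg.Agent.Helper8.GrossBC.abelian_group' (p := 2) (q := s0) (r := q) (n := n)
    Nat.prime_two C.hs0 C.hq C.hq2 C.hqs0 C.hn hV' A' hA'p φ' hab s' hsA' hs'N hfpfV'
  apply C.false_of_gens
  intro x hx g hg
  set b := s ^ (2 ^ (n - 1)) with hb
  have hcS : b * x * b⁻¹ * x⁻¹ ∈ S := S.mul_mem ((mem_normalizer_iff.mp C.bS x).mp hx) (S.inv_mem hx)
  apply C.centralizes_of_mod hcS hg
  -- apply `key` to the class of `x⁻¹ g x`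
  have hxg : x⁻¹ * g * x ∈ Q := by
    have := (mem_normalizer_iff.mp (inv_mem (C.hSQ hx)) g).mp hg
    rwa [inv_inv] at this
  have h1 := key ⟨x, hSN hx⟩ (mem_subgroupOf.mpr hx)
  have h2 : φ' (s' ^ (2 ^ (n - 1)) * ⟨x, hSN hx⟩ * (s' ^ (2 ^ (n - 1)))⁻¹)
      (QuotientGroup.mk (⟨x⁻¹ * g * x, hxg⟩ : Q)) =
      φ' ⟨x, hSN hx⟩ (QuotientGroup.mk (⟨x⁻¹ * g * x, hxg⟩ : Q)) := by rw [h1]
  rw [hφ', quotHom_mk, quotHom_mk, QuotientGroup.eq, mem_subgroupOf] at h2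
  have e : ((s' ^ (2 ^ (n - 1)) * ⟨x, hSN hx⟩ * (s' ^ (2 ^ (n - 1)))⁻¹ : ↥N) : Γ) = b * x * b⁻¹ := by
    simp [hs', hb]
  have h3 : (b * x * b⁻¹ * (x⁻¹ * g * x) * (b * x * b⁻¹)⁻¹)⁻¹ * (x * (x⁻¹ * g * x) * x⁻¹) ∈ Z := by
    simpa only [Subgroup.coe_mul, Subgroup.coe_inv, conjAut_apply, e] using h2
  -- rewrite
  set c := b * x * b⁻¹ * x⁻¹ with hc
  have h4 : (c * g * c⁻¹)⁻¹ * g ∈ Z := by
    have : (b * x * b⁻¹ * (x⁻¹ * g * x) * (b * x * b⁻¹)⁻¹)⁻¹ * (x * (x⁻¹ * g * x) * x⁻¹) =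
        (c * g * c⁻¹)⁻¹ * g := by rw [hc]; group
    rwa [this] at h3
  have hcg : c * g * c⁻¹ ∈ Q := (mem_normalizer_iff.mp (C.hSQ hcS) g).mp hg
  have h5 : c * g * c⁻¹ * g⁻¹ = (c * g * c⁻¹) * ((c * g * c⁻¹)⁻¹ * g)⁻¹ * (c * g * c⁻¹)⁻¹ := by group
  rw [h5]
  exact (mem_normalizer_iff.mp (C.QZ hcg) _).mp (Z.inv_mem h4)

/-- (g) the preimage of `C_{Q/Z}(D)` -/
def M (C : Core s0 q n S Q Z s) : Subgroup Γ := MD Q Z C.D C.hZc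

theorem M_le (C : Core s0 q n S Q Z s) : C.M ≤ Q := fun _ hg => hg.1

theorem Z_le_M (C : Core s0 q n S Q Z s) : Z ≤ C.M := by
  intro z hz
  refine ⟨C.hZQ hz, fun d hd => ?_⟩
  rw [C.D_Z hd hz, mul_inv_cancel_right, mul_inv_cancel]
  exact Z.one_mem

theorem QM (C : Core s0 q n S Q Z s) : Q ≤ normalizer (C.M : Set Γ) := by
  apply le_normalizer_of_conj_mem
  intro h hh g hg
  have : h * g * h⁻¹ = (h * g * h⁻¹ * g⁻¹) * g := by group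
  rw [this]
  exact C.M.mul_mem (C.Z_le_M (C.hcomm h hh g hg.1)) hg

theorem mem_normalizer_M [Finite Γ] (C : Core s0 q n S Q Z s) {a : Γ}
    (haQ : a ∈ normalizer (Q : Set Γ)) (haZ : a ∈ normalizer (Z : Set Γ))
    (haD : a ∈ normalizer (C.D : Set Γ)) : a ∈ normalizer (C.M : Set Γ) := by
  apply mem_normalizer_of_conj_mem
  rintro g ⟨hg, hu⟩
  refine ⟨(mem_normalizer_iff.mp haQ g).mp hg, fun d hd => ?_⟩
  have hd' : a⁻¹ * d * a ∈ C.D := by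
    have := (mem_normalizer_iff.mp (inv_mem haD) d).mp hd
    rwa [inv_inv] at this
  have h1 : d * (a * g * a⁻¹) * d⁻¹ * (a * g * a⁻¹)⁻¹ =
      a * ((a⁻¹ * d * a) * g * (a⁻¹ * d * a)⁻¹ * g⁻¹) * a⁻¹ := by group
  rw [h1]
  exact (mem_normalizer_iff.mp haZ _).mp (hu _ hd')

theorem M_ne [Finite Γ] (C : Core s0 q n S Q Z s) : C.M ≠ Q := by
  intro h
  apply C.D_not_central
  intro d hd g hg
  have hgM : g ∈ C.M := by rw [h]; exact hg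
  exact C.centralizes_of_mod (C.D_le hd) hg (hgM.2 d hd)

theorem M_le_Z [Finite Γ] (C : Core s0 q n S Q Z s) : C.M ≤ Z :=
  C.hP C.M C.M_le (C.mem_normalizer_M C.hsQ C.sZ C.sD)
    (fun _ hx => C.mem_normalizer_M (C.hSQ hx) (C.SZ hx) (C.SD hx)) C.QM C.M_ne

/-- (h) the inverted part is not inside the centre -/
theorem exists_Q₂_not_mem [Finite Γ] (C : Core s0 q n S Q Z s) : ∃ x ∈ C.Q₂, x ∉ Z := by
  by_contra hcon
  push Not at hcon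
  apply C.false_of_b
  intro g hg
  set b := s ^ (2 ^ (n - 1)) with hb
  have hb2 : b * b = 1 := C.b_sq
  have hbi : b⁻¹ = b := C.b_inv
  have hbg : b * g⁻¹ * b⁻¹ ∈ Q := (mem_normalizer_iff.mp C.bQ _).mp (Q.inv_mem hg)
  set y := g * (b * g⁻¹ * b⁻¹) with hy
  have hyQ : y ∈ Q := Q.mul_mem hg hbg
  have hyQ₂ : y ∈ C.Q₂ := by
    refine ⟨hyQ, ?_⟩
    have : b * y * b⁻¹ * y = 1 := by
      rw [hy]
      have e1 : b * (g * (b * g⁻¹ * b⁻¹)) * b⁻¹ * (g * (b * g⁻¹ * b⁻¹)) =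
          (b * g * b * g⁻¹) * (b * b)⁻¹ * (g * b * g⁻¹ * b⁻¹) := by group
      rw [e1, hb2, inv_one, mul_one]
      have e2 : b * g * b * g⁻¹ * (g * b * g⁻¹ * b⁻¹) = b * g * (b * b) * g⁻¹ * b⁻¹ := by group
      rw [e2, hb2]
      group
    rw [this]
    exact Z.one_mem
  have hyZ : y ∈ Z := hcon y hyQ₂
  set z := b * g * b⁻¹ * g⁻¹ with hz
  have hzy : z = y⁻¹ := by rw [hz, hy]; group
  have hzZ : z ∈ Z := by rw [hzy]; exact Z.inv_mem hyZ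
  have hz1 : b * g * b⁻¹ = z * g := by rw [hz]; group
  obtain ⟨j, hj⟩ := C.hQ ⟨z, C.hZQ hzZ⟩
  have hj' : z ^ (q ^ j) = 1 := by
    have := congrArg Subtype.val hj
    simpa using this
  have hcop : Nat.Coprime 2 (q ^ j) :=
    Nat.Coprime.pow_right j ((Nat.coprime_primes Nat.prime_two C.hq).mpr (Ne.symm C.hq2))
  have hb2' : b ^ 2 = 1 := by rw [pow_two]; exact hb2
  have h1 : z = 1 := stab_eq_one b g z hz1 (C.hbZ z hzZ) 2 (q ^ j) hb2' hj' hcop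
  rw [h1, one_mul] at hz1
  calc b * g = (b * g * b⁻¹) * b := by group
    _ = g * b := by rw [hz1]

/-- (i) a non-trivial double commutator inside the inverted part -/
theorem exists_hne [Finite Γ] (C : Core s0 q n S Q Z s) :
    ∃ d ∈ C.D, ∃ x ∈ C.Q₂, ∃ y ∈ C.Q₂,
      (d * x * d⁻¹ * x⁻¹) * y ≠ y * (d * x * d⁻¹ * x⁻¹) := by
  obtain ⟨x, hx, hxZ⟩ := C.exists_Q₂_not_mem
  have hxM : x ∉ C.M := fun h => hxZ (C.M_le_Z h)
  have h1 : ∃ d ∈ C.D, d * x * d⁻¹ * x⁻¹ ∉ Z := by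
    by_contra hcon
    push Not at hcon
    exact hxM ⟨C.Q₂_le hx, hcon⟩
  obtain ⟨d, hd, hdx⟩ := h1
  set g₀ := d * x * d⁻¹ * x⁻¹ with hg₀
  have hg₀Q₂ : g₀ ∈ C.Q₂ :=
    C.Q₂.mul_mem ((mem_normalizer_iff.mp (C.DQ₂ hd) x).mp hx) (C.Q₂.inv_mem hx)
  have hg₀Q : g₀ ∈ Q := C.Q₂_le hg₀Q₂
  have h2 : ∃ y' ∈ Q, g₀ * y' ≠ y' * g₀ := by
    by_contra hcon
    push Not at hcon
    exact hdx (C.hcenter g₀ hg₀Q hcon)
  obtain ⟨y', hy', hne⟩ := h2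
  set b := s ^ (2 ^ (n - 1)) with hb
  have hb2 : b * b = 1 := C.b_sq
  have hbi : b⁻¹ = b := C.b_inv
  set w := b * y' * b⁻¹ with hw
  have hwQ : w ∈ Q := (mem_normalizer_iff.mp C.bQ y').mp hy'
  set y := y' * w⁻¹ with hy
  have hyQ : y ∈ Q := Q.mul_mem hy' (Q.inv_mem hwQ)
  have hyQ₂ : y ∈ C.Q₂ := by
    refine ⟨hyQ, ?_⟩
    have : b * y * b⁻¹ * y = 1 := by
      rw [hy, hw]
      have e1 : b * (y' * (b * y' * b⁻¹)⁻¹) * b⁻¹ * (y' * (b * y' * b⁻¹)⁻¹) =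
          b * y' * b * y'⁻¹ * (b * b)⁻¹ * y' * b * y'⁻¹ * b⁻¹ := by group
      rw [e1, hb2, inv_one, mul_one]
      have e2 : b * y' * b * y'⁻¹ * y' * b * y'⁻¹ * b⁻¹ = b * y' * (b * b) * y'⁻¹ * b⁻¹ := by group
      rw [e2, hb2]
      group
    rw [this]
    exact Z.one_mem
  refine ⟨d, hd, x, hx, y, hyQ₂, ?_⟩
  intro hcy
  apply hne
  -- the commutator `k = [g₀, y']`
  set k := g₀ * y' * g₀⁻¹ * y'⁻¹ with hk
  have hkZ : k ∈ Z := C.hcomm g₀ hg₀Q y' hy'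
  -- `[g₀, w] = k⁻¹`
  have hu : b * g₀ * b⁻¹ * g₀ ∈ Z := hg₀Q₂.2
  set u := b * g₀ * b⁻¹ * g₀ with hudef
  have hg₁ : b⁻¹ * g₀ * b = u * g₀⁻¹ := by
    rw [hudef]
    have : b⁻¹ * g₀ * b = b * g₀ * b⁻¹ := by
      nth_rewrite 2 [← hbi]
      nth_rewrite 1 [hbi]
      rfl
    rw [this]; group
  have hgw : g₀ * w * g₀⁻¹ * w⁻¹ = k⁻¹ := by
    have e1 : g₀ * w * g₀⁻¹ * w⁻¹ =
        b * ((b⁻¹ * g₀ * b) * y' * (b⁻¹ * g₀ * b)⁻¹ * y'⁻¹) * b⁻¹ := by rw [hw]; group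
    rw [e1, hg₁, comm_central_left Q Z C.hZc C.hcomm hu (C.hZQ hu) (Q.inv_mem hg₀Q) hy',
      comm_inv_left Q Z C.hZc C.hcomm hg₀Q hy', ← hk]
    rw [C.hbZ _ (Z.inv_mem hkZ), mul_inv_cancel_right]
  have hgy : g₀ * y * g₀⁻¹ * y⁻¹ = k * k := by
    rw [hy, comm_mul_right Q Z C.hZc C.hcomm hg₀Q hy' (Q.inv_mem hwQ),
      comm_inv_right Q Z C.hZc C.hcomm hg₀Q hwQ, hgw, inv_inv]
  have hcy' : g₀ * y = y * g₀ := hcy
  have hgy1 : g₀ * y * g₀⁻¹ * y⁻¹ = 1 := by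
    rw [hcy']; group
  rw [hgy] at hgy1
  have hk1 : k = 1 := C.odd (C.hZQ hkZ) hgy1
  calc g₀ * y' = (g₀ * y' * g₀⁻¹ * y'⁻¹) * (y' * g₀) := by group
    _ = y' * g₀ := by rw [← hk, hk1, one_mul]

end Core

/-- **the core of the two-level theorem**: steps (d)-(j). -/
theorem two_level_core {Γ : Type*} [Group Γ] [Finite Γ] {V : Type*} [CommGroup V] [Finite V]
    {s0 q r n : ℕ} (hs0 : s0.Prime) (hq : q.Prime) (hr : r.Prime) (hs02 : s0 ≠ 2) (hq2 : q ≠ 2)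
    (hr2 : r ≠ 2) (hqs0 : q ≠ s0) (hqr : q ≠ r) (hn : 0 < n)
    (S Q Z : Subgroup Γ) (s : Γ) (hS : IsPGroup s0 S) (hQ : IsPGroup q Q)
    (hsS : s ∈ normalizer (S : Set Γ)) (hsQ : s ∈ normalizer (Q : Set Γ))
    (hSQ : S ≤ normalizer (Q : Set Γ)) (hs : s ^ (2 ^ n) = 1)
    (hfpfQ : ∀ g ∈ Q, s * g * s⁻¹ = g → g = 1)
    (hgen : closure {c | ∃ x ∈ S, c = s ^ (2 ^ (n - 1)) * x * (s ^ (2 ^ (n - 1)))⁻¹ * x⁻¹} = S)
    (hnt : ∃ x ∈ S, ∃ g ∈ Q, x * g * x⁻¹ ≠ g)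
    (hminS : ∀ S₁ : Subgroup Γ, S₁ ≤ S → s ∈ normalizer (S₁ : Set Γ) → S₁ ≠ S → ∀ x ∈ S₁, ∀ g ∈ Q,
      (s ^ (2 ^ (n - 1)) * x * (s ^ (2 ^ (n - 1)))⁻¹ * x⁻¹) * g *
        (s ^ (2 ^ (n - 1)) * x * (s ^ (2 ^ (n - 1)))⁻¹ * x⁻¹)⁻¹ = g)
    (hZQ : Z ≤ Q) (hZc : ∀ z ∈ Z, ∀ g ∈ Q, z * g = g * z)
    (hcenter : ∀ g ∈ Q, (∀ h ∈ Q, g * h = h * g) → g ∈ Z)
    (hcomm : ∀ g ∈ Q, ∀ h ∈ Q, g * h * g⁻¹ * h⁻¹ ∈ Z)
    (hSZ : ∀ x ∈ S, ∀ z ∈ Z, x * z = z * x)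
    (hbZ : ∀ z ∈ Z, s ^ (2 ^ (n - 1)) * z = z * s ^ (2 ^ (n - 1)))
    (hexp : ∀ g ∈ Q, g ^ q ∈ Z)
    (hP : ∀ M : Subgroup Γ, M ≤ Q → s ∈ normalizer (M : Set Γ) → S ≤ normalizer (M : Set Γ) →
      Q ≤ normalizer (M : Set Γ) → M ≠ Q → M ≤ Z)
    (hV : ∀ v : V, v ^ r = 1) (φ : Γ →* MulAut V) (hfaith : ∀ g ∈ Q, φ g = 1 → g = 1)
    (hfpfV : ∀ v : V, φ s v = v → v = 1) : False := by
  have C : Core s0 q n S Q Z s :=
    ⟨hs0, hq, hs02, hq2, hqs0, hn, hS, hQ, hsS, hsQ, hSQ, hs, hfpfQ, hgen, hnt, hminS, hZQ, hZc,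
      hcenter, hcomm, hSZ, hbZ, hexp, hP⟩
  obtain ⟨v, hv1, hv⟩ := Cfsg.Agent.Helper8.GrossBC.gross_group (l := q) (q := s0) (r := r) (n := n)
    hq hq2 hs0 hs02 (Ne.symm hqs0) hr hr2 (Ne.symm hqr) hn hV C.Q₂ Z C.D (hQ.to_le C.Q₂_le)
    (hS.to_le C.D_le) C.Z_le_Q₂ s hs C.sQ₂ C.sZ C.sD C.DQ₂ (fun d hd z hz => C.D_Z hd hz)
    (fun z hz g hg => hZc z hz g (C.Q₂_le hg))
    (fun g hg h hh => hcomm g (C.Q₂_le hg) h (C.Q₂_le hh)) hbZ (fun g hg => hg.2) C.exists_hne φ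
    (fun g hg => hfaith g (C.Q₂_le hg))
  exact hv1 (hfpfV v hv)

end Cfsg.Agent.Helper9.Gross
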