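import Mathlib
import Cfsg.Prelude.Def_GeometricClasses
import Cfsg.Agent.Helper29.S5655.Defs
import Cfsg.Agent.Helper29.S5655BCOMP
import Cfsg.Agent.Helper14.S5655BFRM
import Cfsg.Agent.Helper17.S5655CT

/-! S5655 (half k ≥ 2, helper29), piece SWAP (helper9): an element of `H` exchanging two blocks. -/

set_option autoImplicit false
set_option linter.unusedSectionVars false
set_option linter.unusedVariables false

namespace Cfsg.Agent.S5655P

open Matrix Module
open Cfsg.Agent.S2644 Cfsg.Agent.Helper2.SUGen Cfsg.Agent.Helper28.SimMax Cfsg.Agent.S5658P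

variable {K : Type*} [Field K] {q n t k : ℕ}

local notation "h" => Cfsg.hermForm n K q
local notation "T" => Cfsg.unitaryTransvection n q

namespace SWAP

/-- the product of the reflections in the pairwise orthogonal vectors `w j`: `z ↦ z - ∑ j, h z (w j) • w j` -/
def RR (q : ℕ) (w : Fin k → Fin n → K) : Matrix (Fin n) (Fin n) K :=
  1 - ∑ j, vecMulVec (w j) (cj (q := q) (w j))

theorem RR_mulVec (w : Fin k → Fin n → K) (z : Fin n → K) :
    RR q w *ᵥ z = z - ∑ j, h z (w j) • w j := by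
  unfold RR
  rw [Matrix.sub_mulVec, Matrix.one_mulVec, Matrix.sum_mulVec]
  congr 1
  apply Finset.sum_congr rfl
  intro j _
  rw [vmv_mulVec]

theorem RR_pres (D : Frob K q) (w : Fin k → Fin n → K)
    (hw : ∀ i j, h (w i) (w j) = if i = j then 2 else 0) : Pres (q := q) (RR q w) := by
  intro z z'
  rw [RR_mulVec, RR_mulVec, h_sub_left, h_sub_right D, h_sub_right D, h_sum_right D, h_sum_left,
    h_sum_left]
  have e1 : ∀ l, h z (h z' (w l) • w l) = D.σ (h z' (w l)) * h z (w l) := by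
    intro l
    rw [h_smul_right D]
  have e2 : ∀ j, h (h z (w j) • w j) z' = h z (w j) * D.σ (h z' (w j)) := by
    intro j
    rw [h_smul_left, h_conj D]
  have e3 : ∀ j, h (h z (w j) • w j) (∑ l, h z' (w l) • w l) =
      h z (w j) * (D.σ (h z' (w j)) * 2) := by
    intro j
    rw [h_smul_left, h_sum_right D]
    congr 1
    rw [Finset.sum_eq_single j]
    · rw [h_smul_right D, hw, if_pos rfl]
    · intro l _ hl
      rw [h_smul_right D, hw, if_neg (Ne.symm hl), mul_zero]
    · intro hj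
      exact absurd (Finset.mem_univ j) hj
  simp only [e1, e2, e3]
  rw [← Finset.sum_sub_distrib, sub_sub, ← Finset.sum_add_distrib]
  have : ∑ x, (D.σ (h z' (w x)) * h z (w x) +
      (h z (w x) * D.σ (h z' (w x)) - h z (w x) * (D.σ (h z' (w x)) * 2))) = 0 := by
    apply Finset.sum_eq_zero
    intro x _
    ring
  rw [this, sub_zero]

/-- the determinant of an isometry has norm one -/
theorem det_norm (D : Frob K q) (A : Matrix (Fin n) (Fin n) K) (hA : Pres (q := q) A) :
    A.det * D.σ A.det = 1 := by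
  have h1 := (Cfsg.Agent.S5655K1.CT.mul_self D hA).2
  have h2 := congrArg Matrix.det h1
  rw [Matrix.det_mul, Matrix.det_one] at h2
  have h3 : (Cfsg.Agent.S5655K1.ct D A).det = D.σ A.det := by
    unfold Cfsg.Agent.S5655K1.ct
    rw [Matrix.det_transpose]
    exact (RingHom.map_det D.σ A).symm
  rw [h3] at h2
  exact h2

end SWAP

/-- piece SWAP (L): an element of `H` exchanging two blocks. -/
theorem SWAP.exists [Fintype K] (D : Frob K q) (hK : Fintype.card K = q ^ 2)
    {B : Fin t → Submodule K (Fin n → K)} (hB : UD q k B) {a b : Fin t} (hab : a ≠ b) :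
    ∃ A ∈ HH q B, (∀ x ∈ B a, A *ᵥ x ∈ B b) ∧ (∀ x ∈ B b, A *ᵥ x ∈ B a) ∧
      ∀ j, j ≠ a → j ≠ b → ∀ x ∈ B j, A *ᵥ x ∈ B j := by
  obtain ⟨x, hxa, hxx, hxe⟩ := FRM.exists D hK (hB.nd a) (hB.finrank_eq a)
  obtain ⟨x', hxb, hxx', hxe'⟩ := FRM.exists D hK (hB.nd b) (hB.finrank_eq b)
  -- the vectors `w j = x j - x' j`
  have hw : ∀ i j, h (x i - x' i) (x j - x' j) = if i = j then 2 else 0 := by
    intro i j
    rw [h_sub_left, h_sub_right D, h_sub_right D, hxx, hxx', hB.orth a b hab _ (hxa i) _ (hxb j),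
      hB.orth b a hab.symm _ (hxb i) _ (hxa j)]
    split_ifs <;> ring
  have hP0 := SWAP.RR_pres D (fun j => x j - x' j) hw
  -- the action on the blocks
  have hact_a : ∀ y ∈ B a, SWAP.RR q (fun j => x j - x' j) *ᵥ y = ∑ j, h y (x j) • x' j := by
    intro y hy
    rw [SWAP.RR_mulVec]
    have e : ∀ j, h y (x j - x' j) • (x j - x' j) = h y (x j) • x j - h y (x j) • x' j := by
      intro j
      rw [h_sub_right D, hB.orth a b hab _ hy _ (hxb j), sub_zero, smul_sub]
    simp only [e]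
    rw [Finset.sum_sub_distrib, ← hxe y hy]
    abel
  have hact_b : ∀ y ∈ B b, SWAP.RR q (fun j => x j - x' j) *ᵥ y = ∑ j, h y (x' j) • x j := by
    intro y hy
    rw [SWAP.RR_mulVec]
    have e : ∀ j, h y (x j - x' j) • (x j - x' j) = h y (x' j) • x' j - h y (x' j) • x j := by
      intro j
      rw [h_sub_right D, hB.orth b a hab.symm _ hy _ (hxa j), zero_sub, smul_sub, neg_smul, neg_smul]
      abel
    simp only [e]
    rw [Finset.sum_sub_distrib, ← hxe' y hy]
    abel
  have hact_c : ∀ j, j ≠ a → j ≠ b → ∀ y ∈ B j, SWAP.RR q (fun j => x j - x' j) *ᵥ y = y := by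
    intro j hja hjb y hy
    rw [SWAP.RR_mulVec]
    have e : ∀ l, h y (x l - x' l) • (x l - x' l) = 0 := by
      intro l
      rw [h_sub_right D, hB.orth j a hja _ hy _ (hxa l), hB.orth j b hjb _ hy _ (hxb l), sub_zero,
        zero_smul]
    simp only [e]
    rw [Finset.sum_const_zero, sub_zero]
  -- compensation of the determinant
  have hδ := SWAP.det_norm D _ hP0
  have hδ0 : (SWAP.RR q (fun j => x j - x' j)).det ≠ 0 := by
    intro h0
    rw [h0, zero_mul] at hδ
    exact zero_ne_one hδ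
  have hδi : (SWAP.RR q (fun j => x j - x' j)).det⁻¹ *
      D.σ ((SWAP.RR q (fun j => x j - x' j)).det⁻¹) = 1 := by
    rw [map_inv₀, ← mul_inv, hδ, inv_one]
  have hk1 : 1 ≤ finrank K (B a) := by
    rw [hB.finrank_eq a]
    exact le_trans (by norm_num) hB.two_le_k
  obtain ⟨C, hCP, hCdet, hCa, hCfix⟩ := COMP.exists D hK (hB.nd a) hk1 _ hδi
  have hCfix' : ∀ j, j ≠ a → ∀ y ∈ B j, C *ᵥ y = y := by
    intro j hja y hy
    apply hCfix
    intro y' hy'
    exact hB.orth j a hja _ hy _ hy'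
  have hAa : ∀ y ∈ B a, (SWAP.RR q (fun j => x j - x' j) * C) *ᵥ y ∈ B b := by
    intro y hy
    rw [← Matrix.mulVec_mulVec, hact_a _ (hCa y hy)]
    exact Submodule.sum_mem _ (fun j _ => Submodule.smul_mem _ _ (hxb j))
  have hAb : ∀ y ∈ B b, (SWAP.RR q (fun j => x j - x' j) * C) *ᵥ y ∈ B a := by
    intro y hy
    rw [← Matrix.mulVec_mulVec, hCfix' b hab.symm y hy, hact_b y hy]
    exact Submodule.sum_mem _ (fun j _ => Submodule.smul_mem _ _ (hxa j))
  have hAc : ∀ j, j ≠ a → j ≠ b → ∀ y ∈ B j, (SWAP.RR q (fun j => x j - x' j) * C) *ᵥ y ∈ B j := by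
    intro j hja hjb y hy
    rw [← Matrix.mulVec_mulVec, hCfix' j hja y hy, hact_c j hja hjb y hy]
    exact hy
  refine ⟨SWAP.RR q (fun j => x j - x' j) * C, ⟨?_, ?_, ?_⟩, hAa, hAb, hAc⟩
  · intro z z'
    rw [← Matrix.mulVec_mulVec, ← Matrix.mulVec_mulVec, hP0, hCP]
  · rw [Matrix.det_mul, hCdet, mul_inv_cancel₀ hδ0]
  · refine ⟨Equiv.swap a b, ?_⟩
    intro i y hy
    by_cases hia : i = a
    · subst hia
      rw [Equiv.swap_apply_left]
      exact hAa y hy
    · by_cases hib : i = b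
      · subst hib
        rw [Equiv.swap_apply_right]
        exact hAb y hy
      · rw [Equiv.swap_apply_of_ne_of_ne hia hib]
        exact hAc i hia hib y hy

end Cfsg.Agent.S5655P
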