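import Mathlib
import Cfsg.Prelude.Def_GeometricClasses
import Cfsg.Agent.Helper29.S5655.Defs
import Cfsg.Agent.Helper23.S5655BSSB
import Cfsg.Agent.Helper9.S5655BSWAP

/-! S5655 (half k ≥ 2, helper29), piece CONJ (helper9): `AllPair` for one pair of blocks gives it for all pairs. -/

set_option autoImplicit false
set_option linter.unusedSectionVars false
set_option linter.unusedVariables false

namespace Cfsg.Agent.S5655P

open Matrix Module
open Cfsg.Agent.S2644 Cfsg.Agent.Helper2.SUGen Cfsg.Agent.Helper28.SimMax Cfsg.Agent.S5658P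

variable {K : Type*} [Field K] {q n t k : ℕ}

local notation "h" => Cfsg.hermForm n K q
local notation "T" => Cfsg.unitaryTransvection n q

namespace CONJ

theorem symm (D : Frob K q) {B : Fin t → Submodule K (Fin n → K)}
    {M : Subgroup (Matrix.GeneralLinearGroup (Fin n) K)} {a b : Fin t}
    (hP : AllPair D B M a b) : AllPair D B M b a := by
  intro x hx y hy hN
  rw [add_comm]
  apply hP y hy x hx
  rw [add_comm]
  exact hN

theorem step [Fintype K] (D : Frob K q) (hK : Fintype.card K = q ^ 2)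
    {B : Fin t → Submodule K (Fin n → K)} (hB : UD q k B)
    {M : Subgroup (Matrix.GeneralLinearGroup (Fin n) K)} (hM : Over q B M) {a b c : Fin t}
    (hab : a ≠ b) (hca : c ≠ a) (hcb : c ≠ b) (hP : AllPair D B M a b) : AllPair D B M c b := by
  obtain ⟨A, hAH, hAa, hAc, hAo⟩ := SWAP.exists D hK hB (Ne.symm hca)
  intro x hx y hy hN
  have hAP : Pres (q := q) A := hAH.1
  have hAM : A ∈ MS M := hM.ge hAH
  have h1 : A *ᵥ x ∈ B a := hAc x hx
  have h2 : A *ᵥ y ∈ B b := hAo b (Ne.symm hab) (Ne.symm hcb) y hy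
  have h3 : A *ᵥ x + A *ᵥ y ∈ SS D M := by
    apply hP _ h1 _ h2
    rw [hAP, hAP]
    exact hN
  rw [← Matrix.mulVec_add] at h3
  obtain ⟨g, hg, hgA⟩ := hAM
  have h4 := SSB.map D hM h3 (⟨g⁻¹, M.inv_mem hg, rfl⟩ :
    ((g⁻¹ : Matrix.GeneralLinearGroup (Fin n) K) : Matrix (Fin n) (Fin n) K) ∈ MS M)
  rw [← hgA, Matrix.mulVec_mulVec, inv_mul_coe, Matrix.one_mulVec] at h4
  exact h4

end CONJ

/-- piece CONJ (M): all pairs of blocks from one pair. -/
theorem CONJ.all [Fintype K] (D : Frob K q) (hK : Fintype.card K = q ^ 2)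
    {B : Fin t → Submodule K (Fin n → K)} (hB : UD q k B)
    {M : Subgroup (Matrix.GeneralLinearGroup (Fin n) K)} (hM : Over q B M) {a b : Fin t}
    (hab : a ≠ b) (hP : AllPair D B M a b) : ∀ a' b' : Fin t, a' ≠ b' → AllPair D B M a' b' := by
  -- first: every `a' ≠ b` is paired with `b`
  have h1 : ∀ a' : Fin t, a' ≠ b → AllPair D B M a' b := by
    intro a' ha'
    by_cases haa : a' = a
    · rw [haa]
      exact hP
    · exact CONJ.step D hK hB hM hab haa ha' hP
  intro a' b' hne
  by_cases ha'b : a' = b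
  · -- `a' = b`, `b' ≠ b`
    have hb'b : b' ≠ b := fun hh => hne (ha'b.trans hh.symm)
    rw [ha'b]
    exact CONJ.symm D (h1 b' hb'b)
  · have h2 := h1 a' ha'b
    by_cases hb'b : b' = b
    · rw [hb'b]
      exact h2
    · have h3 := CONJ.symm D h2
      -- `AllPair b a'`; `b' ∉ {b, a'}`
      have h4 := CONJ.step D hK hB hM (Ne.symm ha'b) hb'b (Ne.symm hne) h3
      exact CONJ.symm D h4

end Cfsg.Agent.S5655P
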