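import Mathlib
import Cfsg.Agent.Helper18.S0679BR

set_option autoImplicit false
set_option linter.unusedSectionVars false
set_option linter.unusedVariables false

/-! # S0679 chapter (4), piece 4-WITT (helper9): Witt lemma for an element of type 3^2 in a 3-transitive group of order 95040 on 11 points. -/

namespace Cfsg.Agent.S0679P

open Equiv MulAction
open scoped Pointwise

variable {α : Type*} [Fintype α] [DecidableEq α] {G : Subgroup (Equiv.Perm α)}

/-- abstract Sylow step: in a group of order 96 two elements of order 3 generate conjugate subgroups -/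
theorem FOUR.WITT.aux_sylow {K : Type*} [Group K] [Finite K] (hK : Nat.card K = 96) {a b : K}
    (ha : orderOf a = 3) (hb : orderOf b = 3) : ∃ h : K, h * b * h⁻¹ = a ∨ h * b * h⁻¹ = a⁻¹ := by
  have : Fact (Nat.Prime 3) := ⟨by norm_num⟩
  have key : ∀ c : K, orderOf c = 3 → ∃ Q : Sylow 3 K, (Q : Subgroup K) = Subgroup.zpowers c := by
    intro c hc
    have hP : IsPGroup 3 (Subgroup.zpowers c) :=
      IsPGroup.of_card (n := 1) (by rw [Nat.card_zpowers, hc]; rfl)
    obtain ⟨Q, hQ⟩ := hP.exists_le_sylow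
    refine ⟨Q, ?_⟩
    symm
    apply Subgroup.eq_of_le_of_card_ge hQ
    obtain ⟨k, hk⟩ := IsPGroup.iff_card.mp Q.isPGroup'
    have hdvd : Nat.card (Q : Subgroup K) ∣ 96 := hK ▸ Subgroup.card_subgroup_dvd_card _
    rw [Nat.card_zpowers, hc]
    have hk' : Nat.card (Q : Subgroup K) = 3 ^ k := hk
    rw [hk'] at hdvd ⊢
    by_contra hlt
    push Not at hlt
    have h2 : 2 ≤ k := by
      by_contra h2
      push Not at h2
      interval_cases k <;> omega
    have h9 : 9 ∣ 96 := dvd_trans (pow_dvd_pow 3 h2) hdvd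
    omega
  obtain ⟨Q1, hQ1⟩ := key a ha
  obtain ⟨Q2, hQ2⟩ := key b hb
  obtain ⟨h, hh⟩ := MulAction.exists_smul_eq K Q2 Q1
  have hbQ2 : b ∈ (Q2 : Subgroup K) := by rw [hQ2]; exact Subgroup.mem_zpowers b
  have h1 : MulAut.conj h • b ∈ MulAut.conj h • (Q2 : Subgroup K) :=
    Subgroup.smul_mem_pointwise_smul _ _ _ hbQ2
  rw [← Sylow.coe_subgroup_smul, hh, hQ1, MulAut.smul_def, MulAut.conj_apply] at h1
  refine ⟨h, ?_⟩
  obtain ⟨k, hk⟩ := Subgroup.mem_zpowers_iff.mp h1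
  have hk3 : a ^ (k % 3) = h * b * h⁻¹ := by
    rw [← hk]
    have := zpow_mod_orderOf a k
    rw [ha] at this
    exact this
  have ha3 : a ^ 3 = 1 := by rw [← ha]; exact pow_orderOf_eq_one a
  have hcases : k % 3 = 0 ∨ k % 3 = 1 ∨ k % 3 = 2 := by omega
  rcases hcases with h0 | h0 | h0
  · exfalso
    rw [h0, zpow_zero] at hk3
    have hb1 : b = 1 := by
      have : h * b * h⁻¹ = 1 := hk3.symm
      have h2 : h * b = h := by
        have := congrArg (· * h) this
        simpa using this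
      exact mul_eq_left.mp h2
    rw [hb1, orderOf_one] at hb
    omega
  · left
    rw [← hk3, h0, zpow_one]
  · right
    rw [← hk3, h0]
    have : a ^ (2 : ℤ) * a = 1 := by
      have : a ^ (2 : ℤ) = a ^ 2 := by exact_mod_cast zpow_natCast a 2
      rw [this, ← pow_succ]; exact ha3
    exact eq_inv_of_mul_eq_one_left this

theorem FOUR.WITT.aux_emb (a b c : α) (hab : a ≠ b) (hac : a ≠ c) (hbc : b ≠ c) :
    ∃ t : Fin 3 ↪ α, t 0 = a ∧ t 1 = b ∧ t 2 = c := by
  refine ⟨⟨![a, b, c], ?_⟩, rfl, rfl, rfl⟩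
  intro i j hij
  fin_cases i <;> fin_cases j <;> simp_all

/-- 4-WITT -/
theorem FOUR.WITT (h11 : Fintype.card α = 11) (h3 : IsMultiplyPretransitive G α 3)
    (hord : Nat.card G = 95040) {x : Perm α} (hx : x ∈ G) (hct : x.cycleType = {3, 3}) {w w' : α}
    (hw : x w = w) (hw' : x w' = w') :
    ∃ n ∈ G, n w = w' ∧ (n * x * n⁻¹ = x ∨ n * x * n⁻¹ = x⁻¹) := by
  by_cases hww : w = w'
  · exact ⟨1, G.one_mem, by simpa using hww, Or.inl (by simp)⟩
  have hox : ∀ y : Perm α, y.cycleType = {3, 3} → orderOf y = 3 := by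
    intro y hy
    rw [← Perm.lcm_cycleType, hy]; rfl
  have hsupp : x.support.card = 6 := by
    rw [← Perm.sum_cycleType, hct]; rfl
  have hwS : w ∈ x.supportᶜ := by
    rw [Finset.mem_compl, Perm.notMem_support]; exact hw
  have hw'S : w' ∈ (x.supportᶜ).erase w := by
    refine Finset.mem_erase.mpr ⟨Ne.symm hww, ?_⟩
    rw [Finset.mem_compl, Perm.notMem_support]; exact hw'
  have hS : (((x.supportᶜ).erase w).erase w').card = 3 := by
    rw [Finset.card_erase_of_mem hw'S, Finset.card_erase_of_mem hwS, Finset.card_compl, h11, hsupp]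
  obtain ⟨u, hu, v, hv, huv⟩ := Finset.one_lt_card.mp
    (by rw [hS]; norm_num : 1 < (((x.supportᶜ).erase w).erase w').card)
  have hu' : u ≠ w' ∧ u ≠ w ∧ x u = u := by
    simp only [Finset.mem_erase, Finset.mem_compl, Perm.notMem_support] at hu
    exact ⟨hu.1, hu.2.1, hu.2.2⟩
  have hv' : v ≠ w' ∧ v ≠ w ∧ x v = v := by
    simp only [Finset.mem_erase, Finset.mem_compl, Perm.notMem_support] at hv
    exact ⟨hv.1, hv.2.1, hv.2.2⟩
  obtain ⟨τ, hτ0, hτ1, hτ2⟩ := FOUR.WITT.aux_emb u v w huv hu'.2.1 hv'.2.1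
  obtain ⟨τ', hτ'0, hτ'1, hτ'2⟩ := FOUR.WITT.aux_emb u v w' huv hu'.1 hv'.1
  obtain ⟨g, hgG, hg⟩ := BR.ex_pt h3 τ τ'
  have hcard : Nat.card (stabilizer G τ') = 96 := by
    have := BR.card_stab h3 τ'
    rw [h11, hord] at this
    have h990 : (11).descFactorial 3 = 990 := by decide
    rw [h990] at this; omega
  have hxτ : ∀ i, x (τ i) = τ i := by
    intro i; fin_cases i
    · show x (τ 0) = τ 0
      rw [hτ0]; exact hu'.2.2
    · show x (τ 1) = τ 1
      rw [hτ1]; exact hv'.2.2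
    · show x (τ 2) = τ 2
      rw [hτ2]; exact hw
  have hxτ' : ∀ i, x (τ' i) = τ' i := by
    intro i; fin_cases i
    · show x (τ' 0) = τ' 0
      rw [hτ'0]; exact hu'.2.2
    · show x (τ' 1) = τ' 1
      rw [hτ'1]; exact hv'.2.2
    · show x (τ' 2) = τ' 2
      rw [hτ'2]; exact hw'
  have hxK : (⟨x, hx⟩ : G) ∈ stabilizer G τ' := (BR.mem_stab _ _).mpr hxτ'
  have hgx : g * x * g⁻¹ ∈ G := G.mul_mem (G.mul_mem hgG hx) (G.inv_mem hgG)
  have hgxK : (⟨g * x * g⁻¹, hgx⟩ : G) ∈ stabilizer G τ' := by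
    rw [BR.mem_stab]; intro i
    show (g * x * g⁻¹) (τ' i) = τ' i
    rw [← hg i]
    simp [Perm.mul_apply, hxτ i]
  have hoa : orderOf (⟨⟨x, hx⟩, hxK⟩ : stabilizer G τ') = 3 := by
    rw [Subgroup.orderOf_mk, Subgroup.orderOf_mk]; exact hox x hct
  have hob : orderOf (⟨⟨g * x * g⁻¹, hgx⟩, hgxK⟩ : stabilizer G τ') = 3 := by
    rw [Subgroup.orderOf_mk, Subgroup.orderOf_mk]
    exact hox _ (by rw [Perm.cycleType_conj]; exact hct)
  obtain ⟨h, hh⟩ := FOUR.WITT.aux_sylow (K := stabilizer G τ') hcard hoa hob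
  have hhK : ∀ i, ((h : G) : Perm α) (τ' i) = τ' i := (BR.mem_stab _ _).mp h.2
  refine ⟨((h : G) : Perm α) * g, G.mul_mem (h : G).2 hgG, ?_, ?_⟩
  · rw [Perm.mul_apply]
    have := hg 2
    rw [hτ2, hτ'2] at this
    rw [this]
    have := hhK 2
    rw [hτ'2] at this
    exact this
  · have e : ((h : G) : Perm α) * g * x * (((h : G) : Perm α) * g)⁻¹
        = (((h * ⟨⟨g * x * g⁻¹, hgx⟩, hgxK⟩ * h⁻¹ : stabilizer G τ') : G) : Perm α) := by
      show _ = ((h : G) : Perm α) * (g * x * g⁻¹) * ((h : G) : Perm α)⁻¹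
      rw [mul_inv_rev]; simp only [mul_assoc]
    rw [e]
    rcases hh with hh | hh
    · left; rw [hh]
    · right; rw [hh]; rfl

end Cfsg.Agent.S0679P
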