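import Mathlib

set_option autoImplicit false
set_option linter.unusedSectionVars false
set_option linter.unusedVariables false

/-! # S3390 piece FIX3 (helper9): fixity at most 2 in pointwise form. -/

namespace Cfsg.Agent.S3390P

open MulAction

variable {G : Type*} [Group G] [Finite G] {Ω : Type*} [Fintype Ω] [MulAction G Ω]

/-- FIX3: fixity at most 2 in pointwise form. -/
theorem FIX3 (hfix : ∀ g : G, g ≠ 1 → Nat.card (MulAction.fixedBy Ω g) ≤ 2)
    (g : G) (hg : g ≠ 1) (a b c : Ω) (hab : a ≠ b) (hac : a ≠ c) (hbc : b ≠ c)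
    (ha : g • a = a) (hb : g • b = b) : g • c ≠ c := by
  classical
  intro hc
  have h2 := hfix g hg
  have h3 : 2 < Fintype.card (MulAction.fixedBy Ω g) := by
    refine Fintype.two_lt_card_iff.mpr ⟨⟨a, ha⟩, ⟨b, hb⟩, ⟨c, hc⟩, ?_, ?_, ?_⟩
    · intro h; exact hab (congrArg Subtype.val h)
    · intro h; exact hac (congrArg Subtype.val h)
    · intro h; exact hbc (congrArg Subtype.val h)
  rw [← Nat.card_eq_fintype_card] at h3
  omega

end Cfsg.Agent.S3390P
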