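import Mathlib
import Cfsg.Agent.Helper9.S3390FIX3

set_option autoImplicit false
set_option linter.unusedSectionVars false
set_option linter.unusedVariables false

/-! # S3390 piece BASIC (helper9): for a 2-group `S` with `1 < S_α < S` some `x ∈ S` swaps `α` with a second
point fixed by all of `S_α` (normalizer condition in `S` + FIX3). -/

namespace Cfsg.Agent.S3390P

open MulAction

variable {G : Type*} [Group G] [Finite G] {Ω : Type*} [Fintype Ω] [MulAction G Ω]

/-- BASIC: `1 < T = S_α < S` for a 2-group `S`: some `x ∈ S` swaps `α` with a second point `β = x α`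
fixed by all of `T`. -/
theorem BASIC (hfix : ∀ g : G, g ≠ 1 → Nat.card (MulAction.fixedBy Ω g) ≤ 2)
    (S : Subgroup G) (hS : IsPGroup 2 S) (α : Ω)
    (hT1 : S ⊓ stabilizer G α ≠ ⊥) (hTS : ¬ S ≤ stabilizer G α) :
    ∃ x ∈ S, x • α ≠ α ∧ x • (x • α) = α ∧ ∀ t ∈ S ⊓ stabilizer G α, t • (x • α) = x • α := by
  classical
  have : Fact (Nat.Prime 2) := ⟨Nat.prime_two⟩
  have : Group.IsNilpotent ↥S := hS.isNilpotent
  -- the proper subgroup `T' = T ∩ S` of `S`
  have hlt : (S ⊓ stabilizer G α).subgroupOf S < ⊤ := by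
    rw [lt_top_iff_ne_top]
    intro h
    rw [Subgroup.subgroupOf_eq_top] at h
    exact hTS (fun s hs => (h hs).2)
  have hnc := Group.normalizerCondition_of_isNilpotent (G := ↥S) _ hlt
  obtain ⟨x', hx'N, hx'T⟩ := SetLike.exists_of_lt hnc
  -- `x'` normalises `T'`, is not in it
  have hxS : (x' : G) ∈ S := x'.2
  have hxα : (x' : G) • α ≠ α := by
    intro h
    apply hx'T
    rw [Subgroup.mem_subgroupOf]
    exact ⟨hxS, h⟩
  -- conjugation by powers of x' preserves T
  have hconj : ∀ t ∈ S ⊓ stabilizer G α, (x' : G)⁻¹ * t * (x' : G) ∈ S ⊓ stabilizer G α := by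
    intro t ht
    have htS : t ∈ S := ht.1
    have h1 : (⟨t, htS⟩ : ↥S) ∈ (S ⊓ stabilizer G α).subgroupOf S := by
      rw [Subgroup.mem_subgroupOf]; exact ht
    have h2 := (Subgroup.mem_normalizer_iff''.mp hx'N ⟨t, htS⟩).mp h1
    rw [Subgroup.mem_subgroupOf] at h2
    simpa using h2
  have hfixβ : ∀ t ∈ S ⊓ stabilizer G α, t • ((x' : G) • α) = (x' : G) • α := by
    intro t ht
    have h : ((x' : G)⁻¹ * t * (x' : G)) • α = α := (hconj t ht).2
    calc t • ((x' : G) • α) = (x' : G) • (((x' : G)⁻¹ * t * (x' : G)) • α) := by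
            simp only [← mul_smul]; congr 1; group
      _ = (x' : G) • α := by rw [h]
  refine ⟨(x' : G), hxS, hxα, ?_, hfixβ⟩
  -- a non-identity element of T
  obtain ⟨t, ht, ht1⟩ : ∃ t ∈ S ⊓ stabilizer G α, t ≠ 1 := by
    obtain ⟨t', ht'⟩ := (Subgroup.ne_bot_iff_exists_ne_one).mp hT1
    exact ⟨(t' : G), t'.2, fun h => ht' (Subtype.ext h)⟩
  have htα : t • α = α := ht.2
  have htβ : t • ((x' : G) • α) = (x' : G) • α := hfixβ t ht
  -- t also fixes x (x α)
  have htγ : t • ((x' : G) • ((x' : G) • α)) = (x' : G) • ((x' : G) • α) := by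
    have h1 := hconj t ht
    have h2 := hfixβ _ h1
    calc t • ((x' : G) • ((x' : G) • α))
        = (x' : G) • (((x' : G)⁻¹ * t * (x' : G)) • ((x' : G) • α)) := by
            simp only [← mul_smul]; congr 1; group
      _ = (x' : G) • ((x' : G) • α) := by rw [h2]
  by_contra hne
  have hne2 : (x' : G) • α ≠ (x' : G) • ((x' : G) • α) := by
    intro h
    exact hxα ((MulAction.injective (x' : G)) h).symm
  exact FIX3 hfix t ht1 α ((x' : G) • α) ((x' : G) • ((x' : G) • α)) (Ne.symm hxα) (Ne.symm hne) hne2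
    htα htβ htγ

end Cfsg.Agent.S3390P
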