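import Mathlib
import Cfsg.Agent.Helper4.S2522.Defs

/-! S2522 piece CARD4 (helper9): a field with at least four elements satisfies `HK4`. -/

set_option autoImplicit false

namespace Cfsg.Agent.S2522P

open Module

namespace CARD4

theorem hk4_of_card {K : Type*} [Field K] (hK : 4 ≤ Cardinal.mk K) : HK4 K := by
  classical
  intro a b c
  by_contra hcon
  push Not at hcon
  have hcov : (Set.univ : Set K) ⊆ (({a, b, c} : Finset K) : Set K) := by
    intro x _
    by_cases h1 : x = a
    · simp [h1]
    by_cases h2 : x = b
    · simp [h2]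
    have h3 := hcon x h1 h2
    simp [h3]
  have hle : Cardinal.mk K ≤ (({a, b, c} : Finset K).card : Cardinal) := by
    calc Cardinal.mk K = Cardinal.mk (Set.univ : Set K) := Cardinal.mk_univ.symm
      _ ≤ Cardinal.mk ((({a, b, c} : Finset K) : Set K)) := Cardinal.mk_le_mk_of_subset hcov
      _ = (({a, b, c} : Finset K).card : Cardinal) := Cardinal.mk_coe_finset
  have hcard : ({a, b, c} : Finset K).card ≤ 3 := Finset.card_le_three
  have h3 : (({a, b, c} : Finset K).card : Cardinal) ≤ 3 := by exact_mod_cast hcard
  have h43 := hK.trans (hle.trans h3)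
  have h43' : (4 : ℕ) ≤ 3 := by exact_mod_cast h43
  omega

end CARD4

end Cfsg.Agent.S2522P
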