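import Mathlib
import Cfsg.Agent.Helper4.S4404Defs

set_option autoImplicit false

namespace Cfsg.Agent.S4404P

open Subgroup

variable {S : Type*} [Group S] [Finite S]

/-- EAMAP : conjugates of elementary abelian subgroups. -/
theorem isElementaryAbelian_map_conj (r : ℕ) (A : Subgroup S) (hA : Cfsg.IsElementaryAbelian r A) (h : S) :
    Cfsg.IsElementaryAbelian r (A.map (MulAut.conj h).toMonoidHom) ∧
      Nat.card ↥(A.map (MulAut.conj h).toMonoidHom) = Nat.card ↥A := by
  obtain ⟨hc, he⟩ := hA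
  refine ⟨⟨?_, ?_⟩, ?_⟩
  · refine ⟨⟨?_⟩⟩
    rintro ⟨a, ha⟩ ⟨b, hb⟩
    obtain ⟨a', ha', rfl⟩ := ha
    obtain ⟨b', hb', rfl⟩ := hb
    have := hc.is_comm.comm ⟨a', ha'⟩ ⟨b', hb'⟩
    have h2 : a' * b' = b' * a' := congrArg Subtype.val this
    apply Subtype.ext
    show (MulAut.conj h).toMonoidHom a' * (MulAut.conj h).toMonoidHom b' =
      (MulAut.conj h).toMonoidHom b' * (MulAut.conj h).toMonoidHom a'
    rw [← map_mul, ← map_mul, h2]
  · rintro a ⟨a', ha', rfl⟩
    rw [← map_pow, he a' ha', map_one]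
  · exact Nat.card_congr (A.equivMapOfInjective _ (MulAut.conj h).injective).symm.toEquiv

end Cfsg.Agent.S4404P
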