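import Mathlib
import Cfsg.Agent.Helper4.S4404Defs

set_option autoImplicit false

namespace Cfsg.Agent.S4404P

open Subgroup

variable {S : Type*} [Group S] [Finite S]

/-- EAP : an elementary abelian `r`-subgroup is an `r`-group. -/
theorem isPGroup_of_isElementaryAbelian (r : ℕ) [Fact r.Prime] (A : Subgroup S) (hA : Cfsg.IsElementaryAbelian r A) :
    IsPGroup r ↥A := by
  intro a
  refine ⟨1, ?_⟩
  apply Subtype.ext
  simpa using hA.2 a.1 a.2

end Cfsg.Agent.S4404P
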