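import Mathlib
import Cfsg.Agent.Helper4.S4404Defs
import Cfsg.Agent.Helper4.S4404W
import Cfsg.Agent.Helper4.S4404TR
import Cfsg.Agent.Helper17.S4404AUTW

set_option autoImplicit false

namespace Cfsg.Agent.S4404P

open Subgroup

variable {S : Type*} [Group S] [Finite S]

/-- IIA : if every `[x, g]`, `g ∈ P`, centralises `M` then `P` normalises `[M,x]` (WSAME, WCONJ), hence centralises it (AUTW5). -/
theorem two_a (M : Subgroup S) [M.Normal] (x : S) (hW : Nat.card ↥(Wc M x) = 4) (p : ℕ) [Fact p.Prime] (hp5 : 5 ≤ p)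
    (P : Subgroup S) (hP : IsPGroup p ↥P)
    (hall : ∀ g ∈ P, x⁻¹ * (g⁻¹ * x * g) ∈ centralizer (M : Set S)) :
    P ≤ centralizer ((Wc M x : Subgroup S) : Set S) := by
  apply le_centralizer_of_card_four p hp5 P (Wc M x) hP hW
  intro g hg
  have hginv : g⁻¹ ∈ normalizer ((Wc M x : Subgroup S) : Set S) := by
    apply TR_aux_mem_normalizer_of_map_eq
    rw [← Wc_conj M x g]
    apply Wc_congr
    intro m hm
    have hc := hall g hg
    rw [mem_centralizer_iff] at hc
    have hcm : m * (x⁻¹ * (g⁻¹ * x * g)) = x⁻¹ * (g⁻¹ * x * g) * m := hc m hm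
    have e : g⁻¹ * x * g = x * (x⁻¹ * (g⁻¹ * x * g)) := by group
    rw [e]
    generalize x⁻¹ * (g⁻¹ * x * g) = c at hcm
    have : c * m * c⁻¹ = m := by rw [← hcm]; group
    calc x * c * m * (x * c)⁻¹ = x * (c * m * c⁻¹) * x⁻¹ := by group
      _ = x * m * x⁻¹ := by rw [this]
  have := inv_mem hginv
  simpa using this

end Cfsg.Agent.S4404P
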