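import Mathlib
import Cfsg.Agent.Helper4.S4404Defs
import Cfsg.Agent.Helper4.S4404W
import Cfsg.Agent.Helper15.S4404CNT
import Cfsg.Agent.Helper9.S4404WLE

set_option autoImplicit false

namespace Cfsg.Agent.S4404P

open Subgroup

variable {S : Type*} [Group S] [Finite S]

/-- IIB7 : a `7`-element `u` acting nontrivially on `M` with `[M,u]` inside a group `U` of order `8` has `[M,u] = U`
(`|[M,u]| ≡ 1` mod `7` by CNT and WCOP). -/
theorem two_b_seven (M : Subgroup S) [M.Normal] (hM : Cfsg.IsElementaryAbelian 2 M) (u : S)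
    (hu7 : ∃ k : ℕ, u ^ 7 ^ k = 1) (hunt : u ∉ centralizer (M : Set S)) (U : Subgroup S)
    (hU8 : Nat.card ↥U = 8) (hle : Wc M u ≤ U) : Wc M u = U := by
  haveI : Fact (Nat.Prime 7) := ⟨by norm_num⟩
  obtain ⟨k, hk⟩ := hu7
  have hdvd : orderOf u ∣ 7 ^ k := orderOf_dvd_of_pow_eq_one hk
  obtain ⟨j, -, hj⟩ := (Nat.dvd_prime_pow (by norm_num : Nat.Prime 7)).1 hdvd
  have hodd : Odd (orderOf u) := by
    rw [hj]; exact Odd.pow (by decide)
  have h1 := (Wc_coprime M hM u hodd).1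
  have hG₀ : IsPGroup 7 ↥(zpowers u) := by
    apply IsPGroup.of_card (n := j)
    rw [Nat.card_zpowers, hj]
  have hN : zpowers u ≤ normalizer ((Wc M u : Subgroup S) : Set S) := by
    rw [zpowers_le]
    exact mem_normalizer_of_Wc_le M u (Wc M u) (Wc_le M u) le_rfl
  have hmod := card_modEq_card_cent 7 (zpowers u) (Wc M u) hG₀ hN
  rw [h1] at hmod
  have hbot : Nat.card ↥(⊥ : Subgroup S) = 1 := Subgroup.card_bot
  rw [hbot] at hmod
  have hdvd8 : Nat.card ↥(Wc M u) ∣ 8 := hU8 ▸ Subgroup.card_dvd_of_le hle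
  have hcases : Nat.card ↥(Wc M u) = 1 ∨ Nat.card ↥(Wc M u) = 8 := by
    have hle8 : Nat.card ↥(Wc M u) ≤ 8 := Nat.le_of_dvd (by norm_num) hdvd8
    have hm : Nat.card ↥(Wc M u) % 7 = 1 := hmod
    interval_cases h : Nat.card ↥(Wc M u) <;> simp_all
  rcases hcases with h | h
  · exfalso
    apply hunt
    rw [← Wc_eq_bot_iff]
    exact Subgroup.card_eq_one.1 h
  · exact Subgroup.eq_of_le_of_card_ge hle (by omega)

end Cfsg.Agent.S4404P
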