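import Mathlib
import Cfsg.Agent.Helper4.S4404Defs

set_option autoImplicit false

namespace Cfsg.Agent.S4404P

open Subgroup

variable {S : Type*} [Group S] [Finite S]

/-- NCYC : a subgroup of order `≥ r²` of an elementary abelian `r`-group is not cyclic. -/
theorem not_isCyclic_of_sq_le (r : ℕ) [Fact r.Prime] (F D : Subgroup S) (hF : Cfsg.IsElementaryAbelian r F)
    (hDF : D ≤ F) (h : r ^ 2 ≤ Nat.card ↥D) : ¬ IsCyclic ↥D := by
  intro hcyc
  obtain ⟨g, hg⟩ := hcyc.exists_generator
  have hgr : g ^ r = 1 := by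
    apply Subtype.ext
    simpa using hF.2 g.1 (hDF g.2)
  have hord : orderOf g ≤ r := Nat.le_of_dvd (Fact.out : r.Prime).pos (orderOf_dvd_of_pow_eq_one hgr)
  have hcard : Nat.card ↥D = orderOf g := by
    rw [← Nat.card_zpowers g]
    have : zpowers g = ⊤ := by
      rw [eq_top_iff]; intro x _; exact hg x
    rw [this]
    exact (Nat.card_congr (Subgroup.topEquiv).toEquiv).symm
  have : r ^ 2 ≤ r := by omega
  have h1 : 1 < r := (Fact.out : r.Prime).one_lt
  nlinarith

end Cfsg.Agent.S4404P
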