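import Mathlib
import Cfsg.Agent.Helper4.S4404Defs

set_option autoImplicit false

namespace Cfsg.Agent.S4404P

open Subgroup

variable {S : Type*} [Group S] [Finite S]

/-- PGMIN -/
theorem exists_minAct (T : Subgroup S) (a : S) (ha : a ∈ normalizer (T : Set S)) (hne : a ∉ centralizer (T : Set S)) :
    ∃ T₀ : Subgroup S, T₀ ≤ T ∧ MinAct T₀ a := by
  classical
  let P : Set (Subgroup S) := {X | X ≤ T ∧ a ∈ normalizer (X : Set S) ∧ a ∉ centralizer (X : Set S)}
  have hne' : P.Nonempty := ⟨T, le_refl _, ha, hne⟩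
  have hwf : WellFounded ((· < ·) : Subgroup S → Subgroup S → Prop) := wellFounded_lt
  obtain ⟨T₀, hT₀, hmin⟩ := hwf.has_min P hne'
  refine ⟨T₀, hT₀.1, hT₀.2.1, hT₀.2.2, ?_⟩
  intro T' hle hne2 hn
  by_contra hc
  exact hmin T' ⟨hle.trans hT₀.1, hn, hc⟩ (lt_of_le_of_ne hle hne2)

end Cfsg.Agent.S4404P
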