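import Mathlib
import Cfsg.Agent.Helper4.S4404Defs
import Cfsg.Agent.Helper9.S4404EAMAP
import Cfsg.Agent.Helper9.S4404EAP

set_option autoImplicit false

namespace Cfsg.Agent.S4404P

open Subgroup
open scoped Pointwise

variable {S : Type*} [Group S] [Finite S]

/-- SYLX (Sylow): a Sylow `3`-subgroup of `H` through the `3`-element `x`; it contains an `E_27` if `H` does. -/
theorem exists_sylow_three (H : Subgroup S) (x : S) (hx : x ∈ H) (hx3 : ∃ k : ℕ, x ^ 3 ^ k = 1) (h : HasE3 3 H) :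
    ∃ T₀ : Subgroup S, T₀ ≤ H ∧ IsPGroup 3 ↥T₀ ∧ x ∈ T₀ ∧ HasE3 3 T₀ := by
  have : Fact (Nat.Prime 3) := ⟨by norm_num⟩
  obtain ⟨k, hk⟩ := hx3
  have hdvd : orderOf x ∣ 3 ^ k := orderOf_dvd_of_pow_eq_one hk
  obtain ⟨j, -, hj⟩ := (Nat.dvd_prime_pow (by norm_num : Nat.Prime 3)).1 hdvd
  have hX' : IsPGroup 3 ↥(zpowers (⟨x, hx⟩ : ↥H)) := by
    apply IsPGroup.of_card (n := j)
    rw [Nat.card_zpowers, Subgroup.orderOf_mk, hj]
  obtain ⟨T', hXT⟩ := hX'.exists_le_sylow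
  obtain ⟨B, hBH, hBea, hBc⟩ := h
  have hB3 : IsPGroup 3 ↥B := isPGroup_of_isElementaryAbelian 3 B hBea
  have hB' : IsPGroup 3 ↥(B.subgroupOf H) := hB3.comap_subtype
  obtain ⟨Q', hBQ⟩ := hB'.exists_le_sylow
  obtain ⟨g, hg⟩ := MulAction.exists_smul_eq ↥H Q' T'
  refine ⟨(T' : Subgroup ↥H).map H.subtype, ?_, ?_, ?_, ?_⟩
  · exact Subgroup.map_subtype_le _
  · exact T'.isPGroup'.map _
  · exact ⟨⟨x, hx⟩, hXT (mem_zpowers _), rfl⟩
  · refine ⟨B.map (MulAut.conj (g : S)).toMonoidHom, ?_, (isElementaryAbelian_map_conj 3 B hBea g).1, ?_⟩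
    · rintro _ ⟨b, hb, rfl⟩
      have hb' : (⟨b, hBH hb⟩ : ↥H) ∈ B.subgroupOf H := by
        rw [Subgroup.mem_subgroupOf]; exact hb
      have hbQ : (⟨b, hBH hb⟩ : ↥H) ∈ (Q' : Subgroup ↥H) := hBQ hb'
      have h1 : MulAut.conj g • (⟨b, hBH hb⟩ : ↥H) ∈ MulAut.conj g • (Q' : Subgroup ↥H) :=
        Subgroup.smul_mem_pointwise_smul _ _ _ hbQ
      have h2 : (MulAut.conj g • (Q' : Subgroup ↥H)) = ((g • Q' : Sylow 3 ↥H) : Subgroup ↥H) := rfl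
      rw [h2, hg] at h1
      refine ⟨_, h1, ?_⟩
      simp [MulAut.smul_def]
    · rw [(isElementaryAbelian_map_conj 3 B hBea g).2, hBc]

end Cfsg.Agent.S4404P
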