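import Mathlib
import Cfsg.Agent.Helper6.S4414Defs
import Cfsg.Agent.Helper19.S4414LAT1
import Cfsg.Agent.Helper17.S4414LAT2

/-! Board `s4414pieces`, row UPPER: an `H`-fixed vector supported on a finite set `Q` containing no `H`-stable nonempty
subset vanishes. -/

set_option autoImplicit false
set_option linter.unusedSectionVars false
set_option linter.unusedVariables false

namespace Cfsg.Agent.S4414P

open Module TensorProduct Cfsg.Agent.Helper5.FrobMod Cfsg.Agent.S4414P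

variable {K : Type*} [Field K] {W : Type*} [AddCommGroup W] [Module K W]
variable {G : Type*} [Group G] (σ : Representation K G W)

variable {I : Type*}

/-- UPPER (M): a vector of `W_Q` (`Q` finite) fixed by `H` vanishes if `Q` contains no `H`-stable nonempty subset.
(Take `Q* ⊆ Q` minimal with `f ∈ W_{Q*}`; `f = σ h f ∈ W_{h Q*}`, so `f ∈ W_{Q* ∩ h Q*}` by `WQ_inf`, `WQ_map`; minimality
gives `Q* ⊆ h Q*`, hence `h Q* = Q*` for all `h ∈ H`; `Q* ≠ ∅` contradicts `hQ`.) -/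
theorem UPPER [MulAction G I] {Wf : I → Submodule K W} (hG : Graded σ Wf) (H : Subgroup G) (Q : Set I) (hQfin : Q.Finite)
    (hQ : ∀ j ∈ Q, ∃ h ∈ H, h • j ∉ Q) {f : W} (hf : f ∈ WQ Wf Q) (hfix : f ∈ fixOf σ H) : f = 0 := by
  classical
  let 𝒮 : Set (Set I) := {Q' | Q' ⊆ Q ∧ f ∈ WQ Wf Q'}
  have hne : 𝒮.Nonempty := ⟨Q, subset_rfl, hf⟩
  have hwf : WellFounded (fun A B : Set I => A.ncard < B.ncard) := (measure (fun A : Set I => A.ncard)).wf
  obtain ⟨Qs, ⟨hQsQ, hfQs⟩, hmin⟩ := hwf.has_min 𝒮 hne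
  have hQsfin : Qs.Finite := hQfin.subset hQsQ
  -- every `h ∈ H` stabilises `Qs`
  have hstab : ∀ h ∈ H, (fun i => h • i) '' Qs = Qs := by
    intro h hh
    have h1 : f ∈ (WQ Wf Qs).map (σ h) := ⟨f, hfQs, hfix h hh⟩
    rw [WQ_map σ hG h Qs] at h1
    have h2 : f ∈ WQ Wf (Qs ∩ (fun i => h • i) '' Qs) := by
      rw [← WQ_inf hG.ind]
      exact ⟨hfQs, h1⟩
    have h3 : Qs ∩ (fun i => h • i) '' Qs ∈ 𝒮 := ⟨Set.inter_subset_left.trans hQsQ, h2⟩
    have h4 : ¬ (Qs ∩ (fun i => h • i) '' Qs).ncard < Qs.ncard := hmin _ h3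
    have h5 : Qs ∩ (fun i => h • i) '' Qs = Qs :=
      Set.eq_of_subset_of_ncard_le Set.inter_subset_left (not_lt.mp h4) hQsfin
    have h6 : Qs ⊆ (fun i => h • i) '' Qs := by
      intro j hj
      have : j ∈ Qs ∩ (fun i => h • i) '' Qs := by rw [h5]; exact hj
      exact this.2
    have himgfin : ((fun i => h • i) '' Qs).Finite := hQsfin.image _
    have hcard : ((fun i => h • i) '' Qs).ncard = Qs.ncard :=
      Set.ncard_image_of_injective Qs (MulAction.injective h)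
    exact (Set.eq_of_subset_of_ncard_le h6 hcard.le himgfin).symm
  by_cases hemp : Qs = ∅
  · rw [hemp] at hfQs
    have : WQ Wf (∅ : Set I) = ⊥ := by
      unfold WQ
      simp
    rw [this] at hfQs
    exact (Submodule.mem_bot K).mp hfQs
  · exfalso
    obtain ⟨j, hj⟩ := Set.nonempty_iff_ne_empty.mpr hemp
    obtain ⟨h, hh, hnot⟩ := hQ j (hQsQ hj)
    apply hnot
    apply hQsQ
    rw [← hstab h hh]
    exact ⟨j, hj, rfl⟩

end Cfsg.Agent.S4414P
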