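import Mathlib
import Cfsg.Agent.Helper7.S5655.Defs3
import Cfsg.Agent.Helper7.S5655.MonoLib

/-! S5655 (k = 1), chapter SEC (helper7), piece SECNORM (helper9): a counterexample to (B) can be moved to `k = k' = o`. -/

set_option autoImplicit false
set_option linter.unusedSectionVars false
set_option linter.unusedVariables false

namespace Cfsg.Agent.S5655K1

open Matrix
open Cfsg.Agent.S2644 Cfsg.Agent.Helper2.SUGen Cfsg.Agent.Helper28.SimMax Cfsg.Agent.MonoP

variable {K : Type*} [Field K] {q n : ℕ}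

local notation "h" => Cfsg.hermForm n K q
local notation "T" => Cfsg.unitaryTransvection n q

namespace SECNORM

theorem isMono_mul' {g g' : Matrix (Fin n) (Fin n) K} (hg : IsMono g) (hg' : IsMono g') :
    IsMono (g * g') := by
  obtain ⟨σ, hσ⟩ := hg
  obtain ⟨τ, hτ⟩ := hg'
  refine ⟨τ.trans σ, fun i j hij => ?_⟩
  rw [Matrix.mul_apply]
  apply Finset.sum_eq_zero
  intro r _
  by_cases hr : r = τ j
  · subst hr
    rw [hσ i (τ j) (by simpa using hij), zero_mul]
  · rw [hτ r j hr, mul_zero]

/-- the sign-corrected swap -/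
def dd (k : Fin n) : Fin n → K := Function.update (fun _ => (1 : K)) k (-1)

theorem dd_ne_zero (k j : Fin n) : (dd k j : K) ≠ 0 := by
  unfold dd
  by_cases hj : j = k
  · rw [hj, Function.update_self]
    exact neg_ne_zero.mpr one_ne_zero
  · rw [Function.update_of_ne hj]
    exact one_ne_zero

theorem dd_isU (D : Frob K q) (k j : Fin n) : IsU D (dd k j : K) := by
  unfold dd
  by_cases hj : j = k
  · rw [hj, Function.update_self]
    exact IsU.neg D (IsU.one D)
  · rw [Function.update_of_ne hj]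
    exact IsU.one D

theorem dd_prod (k : Fin n) : ∏ j, (dd k j : K) = -1 := by
  unfold dd
  rw [Finset.prod_update_of_mem (Finset.mem_univ k)]
  simp

/-- a left inverse of the sign-corrected swap -/
theorem inv_mul (k k' : Fin n) :
    mono (Equiv.swap k k') (fun j => ((dd k (Equiv.swap k k' j) : K))⁻¹) * mono (Equiv.swap k k') (dd k) =
      (1 : Matrix (Fin n) (Fin n) K) := by
  rw [mono_mul, Equiv.swap_mul_self]
  rw [← mono_one]
  congr 1
  funext j
  rw [Equiv.swap_apply_self]
  exact inv_mul_cancel₀ (dd_ne_zero k j)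

end SECNORM

/-- SECNORM (M) -/
theorem SECNORM.exists (D : Frob K q) (hn : 3 ≤ n) (M : Subgroup (Matrix.GeneralLinearGroup (Fin n) K))
    (hM : M ≤ SUG n K q) (hN : HasN q M) (hnB : ¬ PropB M) :
    ∃ (o : Fin n) (A₁ : Matrix (Fin n) (Fin n) K), A₁ ∈ MS M ∧ ¬ IsMono A₁ ∧ ∀ i, i ≠ o → A₁ i o = 0 := by
  unfold PropB at hnB
  push Not at hnB
  obtain ⟨A₀, hA₀, ⟨k, k', hcol⟩, hnm⟩ := hnB
  by_cases hkk : k = k'
  · subst hkk
    exact ⟨k, A₀, hA₀, hnm, hcol⟩
  · have hP : mono (Equiv.swap k k') (SECNORM.dd k) ∈ MS M := by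
      apply HasN.mono_mem D hN _ _ (SECNORM.dd_isU D k)
      rw [SECNORM.dd_prod, Equiv.Perm.sign_swap hkk]
      simp
    refine ⟨k, mono (Equiv.swap k k') (SECNORM.dd k) * A₀, MS_mul hP hA₀, ?_, ?_⟩
    · intro hmono
      apply hnm
      have := SECNORM.isMono_mul' (mono_isMono (Equiv.swap k k')
        (fun j => ((SECNORM.dd k (Equiv.swap k k' j) : K))⁻¹)) hmono
      rwa [← Matrix.mul_assoc, SECNORM.inv_mul, Matrix.one_mul] at this
    · intro i hi
      rw [Matrix.mul_apply]
      apply Finset.sum_eq_zero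
      intro j _
      by_cases hj : j = k'
      · subst hj
        rw [mono_apply, if_neg, zero_mul]
        rw [Equiv.swap_apply_right]
        exact hi
      · rw [hcol j hj, mul_zero]

end Cfsg.Agent.S5655K1
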