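import Mathlib
import Cfsg.Agent.Helper9.LieGr

/-! # Basic API for graded families in a Lie ring (S3779 project) -/

namespace Cfsg.Agent.Helper9.LieGr

variable {L : Type*} [LieRing L] {n : ℕ}

theorem mem_brk_of_mem {M N : ZMod n → AddSubgroup L} {i j : ZMod n} {x y : L}
    (hx : x ∈ M i) (hy : y ∈ N j) : ⁅x, y⁆ ∈ brk M N (i + j) :=
  AddSubgroup.subset_closure ⟨i, j, rfl, x, hx, y, hy, rfl⟩

theorem mem_brk_of_mem' {M N : ZMod n → AddSubgroup L} {i j k : ZMod n} (hk : i + j = k) {x y : L}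
    (hx : x ∈ M i) (hy : y ∈ N j) : ⁅x, y⁆ ∈ brk M N k := by
  subst hk; exact mem_brk_of_mem hx hy

theorem brk_le {M N : ZMod n → AddSubgroup L} {k : ZMod n} {S : AddSubgroup L}
    (h : ∀ i j, i + j = k → ∀ x ∈ M i, ∀ y ∈ N j, ⁅x, y⁆ ∈ S) : brk M N k ≤ S := by
  unfold brk
  rw [AddSubgroup.closure_le]
  rintro z ⟨i, j, hij, x, hx, y, hy, rfl⟩
  exact h i j hij x hx y hy

theorem brk_mono {M M' N N' : ZMod n → AddSubgroup L} (hM : ∀ i, M i ≤ M' i)
    (hN : ∀ i, N i ≤ N' i) (k : ZMod n) : brk M N k ≤ brk M' N' k :=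
  brk_le fun _ _ hij _ hx _ hy => mem_brk_of_mem' hij (hM _ hx) (hN _ hy)

/-- induction principle for `brk` -/
theorem brk_induction {M N : ZMod n → AddSubgroup L} {k : ZMod n} {P : L → Prop}
    (h0 : P 0) (hadd : ∀ a b, P a → P b → P (a + b)) (hneg : ∀ a, P a → P (-a))
    (hgen : ∀ i j, i + j = k → ∀ x ∈ M i, ∀ y ∈ N j, P ⁅x, y⁆) :
    ∀ z ∈ brk M N k, P z := by
  intro z hz
  unfold brk at hz
  induction hz using AddSubgroup.closure_induction with
  | mem z hz =>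
    obtain ⟨i, j, hij, x, hx, y, hy, rfl⟩ := hz
    exact hgen i j hij x hx y hy
  | zero => exact h0
  | add a b _ _ ha hb => exact hadd a b ha hb
  | neg a _ ha => exact hneg a ha

/-- Jacobi identity in derivation form: `⁅⁅u,v⁆,y⁆ = ⁅⁅u,y⁆,v⁆ + ⁅u,⁅v,y⁆⁆`. -/
theorem jacobi_right (u v y : L) : ⁅⁅u, v⁆, y⁆ = ⁅⁅u, y⁆, v⁆ + ⁅u, ⁅v, y⁆⁆ := by
  have h := leibniz_lie u v y
  have h2 : ⁅v, ⁅u, y⁆⁆ = -⁅⁅u, y⁆, v⁆ := (lie_skew v ⁅u, y⁆).symm
  rw [h2] at h
  rw [h]; abel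

section der

variable {N : ZMod n → AddSubgroup L}

@[simp] theorem der_zero' (N : ZMod n → AddSubgroup L) : der N 0 = N := rfl

theorem der_succ' (N : ZMod n → AddSubgroup L) (m : ℕ) :
    der N (m + 1) = brk (der N m) (der N m) := rfl

theorem der_le (hN : IsGrading N) (m : ℕ) (k : ZMod n) : der N m k ≤ N k := by
  induction m generalizing k with
  | zero => exact le_rfl
  | succ m ih =>
    rw [der_succ']
    exact brk_le fun i j hij x hx y hy => hij ▸ hN.lie_mem i j x (ih i hx) y (ih j hy)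

theorem lie_mem_der_succ {m : ℕ} {i j : ZMod n} {x y : L} (hx : x ∈ der N m i)
    (hy : y ∈ der N m j) : ⁅x, y⁆ ∈ der N (m + 1) (i + j) :=
  mem_brk_of_mem hx hy

theorem der_succ_le (hN : IsGrading N) (m : ℕ) (k : ZMod n) : der N (m + 1) k ≤ der N m k := by
  induction m generalizing k with
  | zero =>
    exact der_le hN 1 k
  | succ m ih =>
    rw [der_succ' N (m + 1), der_succ' N m]
    exact brk_mono ih ih k

theorem der_anti (hN : IsGrading N) {m m' : ℕ} (h : m ≤ m') (k : ZMod n) :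
    der N m' k ≤ der N m k := by
  induction h with
  | refl => exact le_rfl
  | step _ ih => exact (der_succ_le hN _ k).trans ih

theorem isGrading_der (hN : IsGrading N) (m : ℕ) : IsGrading (der N m) where
  lie_mem i j x hx y hy := der_succ_le hN m (i + j) (lie_mem_der_succ hx hy)
  zero := le_bot_iff.mp (hN.zero ▸ der_le hN m 0)

theorem der_der (N : ZMod n → AddSubgroup L) (m m' : ℕ) : der (der N m) m' = der N (m + m') := by
  induction m' with
  | zero => rfl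
  | succ m' ih => rw [der_succ', ih, ← Nat.add_assoc, der_succ']

/-- the derived families are "ideals" -/
theorem lie_mem_der_right (hN : IsGrading N) {m : ℕ} {i j : ZMod n} {x y : L}
    (hx : x ∈ der N m i) (hy : y ∈ N j) : ⁅x, y⁆ ∈ der N m (i + j) := by
  induction m generalizing i j x y with
  | zero => exact hN.lie_mem i j x hx y hy
  | succ m ih =>
    rw [der_succ'] at hx
    revert hx
    refine brk_induction (P := fun x => ⁅x, y⁆ ∈ der N (m + 1) (i + j)) ?_ ?_ ?_ ?_ x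
    · simp
    · intro a b ha hb; rw [add_lie]; exact add_mem ha hb
    · intro a ha; rw [neg_lie]; exact neg_mem ha
    · intro i' j' hij u hu v hv
      -- ⁅⁅u,v⁆,y⁆ = ⁅⁅u,y⁆,v⁆ + ⁅u,⁅v,y⁆⁆
      rw [jacobi_right u v y]
      have h1 : ⁅⁅u, y⁆, v⁆ ∈ der N (m + 1) (i' + j + j') := lie_mem_der_succ (ih hu hy) hv
      have h2 : ⁅u, ⁅v, y⁆⁆ ∈ der N (m + 1) (i' + (j' + j)) := lie_mem_der_succ hu (ih hv hy)
      have e1 : i' + j + j' = i + j := by rw [← hij]; ring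
      have e2 : i' + (j' + j) = i + j := by rw [← hij]; ring
      rw [e1] at h1; rw [e2] at h2
      exact add_mem h1 h2

theorem lie_mem_der_left (hN : IsGrading N) {m : ℕ} {i j : ZMod n} {x y : L}
    (hx : x ∈ N i) (hy : y ∈ der N m j) : ⁅x, y⁆ ∈ der N m (i + j) := by
  rw [← lie_skew, add_comm]
  exact neg_mem (lie_mem_der_right hN hy hx)

theorem der_zero_comp (hN : IsGrading N) (m : ℕ) : der N m 0 = ⊥ :=
  (isGrading_der hN m).zero

end der

section lcf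

variable {N : ZMod n → AddSubgroup L}

@[simp] theorem lcf_zero' (N : ZMod n → AddSubgroup L) : lcf N 0 = N := rfl

theorem lcf_succ' (N : ZMod n → AddSubgroup L) (w : ℕ) : lcf N (w + 1) = brk (lcf N w) N := rfl

theorem lcf_le (hN : IsGrading N) (w : ℕ) (k : ZMod n) : lcf N w k ≤ N k := by
  induction w generalizing k with
  | zero => exact le_rfl
  | succ w ih =>
    rw [lcf_succ']
    exact brk_le fun i j hij x hx y hy => hij ▸ hN.lie_mem i j x (ih i hx) y hy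

theorem lie_mem_lcf_succ {w : ℕ} {i j : ZMod n} {x y : L} (hx : x ∈ lcf N w i) (hy : y ∈ N j) :
    ⁅x, y⁆ ∈ lcf N (w + 1) (i + j) :=
  mem_brk_of_mem hx hy

theorem lcf_succ_le (hN : IsGrading N) (w : ℕ) (k : ZMod n) : lcf N (w + 1) k ≤ lcf N w k := by
  induction w generalizing k with
  | zero => exact lcf_le hN 1 k
  | succ w ih =>
    rw [lcf_succ' N (w + 1), lcf_succ' N w]
    exact brk_mono ih (fun _ => le_rfl) k

theorem lcf_anti (hN : IsGrading N) {w w' : ℕ} (h : w ≤ w') (k : ZMod n) :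
    lcf N w' k ≤ lcf N w k := by
  induction h with
  | refl => exact le_rfl
  | step _ ih => exact (lcf_succ_le hN _ k).trans ih

/-- `⁅γ_{w+1}, γ_{w'+1}⁆ ≤ γ_{w+w'+2}` -/
theorem lie_lcf_lcf (_hN : IsGrading N) {w w' : ℕ} {i j : ZMod n} {x y : L}
    (hx : x ∈ lcf N w i) (hy : y ∈ lcf N w' j) : ⁅x, y⁆ ∈ lcf N (w + w' + 1) (i + j) := by
  induction w' generalizing w i j x y with
  | zero => exact lie_mem_lcf_succ hx hy
  | succ w' ih =>
    rw [lcf_succ'] at hy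
    revert hy
    refine brk_induction (P := fun y => ⁅x, y⁆ ∈ lcf N (w + (w' + 1) + 1) (i + j)) ?_ ?_ ?_ ?_ y
    · simp
    · intro a b ha hb; rw [lie_add]; exact add_mem ha hb
    · intro a ha; rw [lie_neg]; exact neg_mem ha
    · intro i' j' hij u hu v hv
      -- ⁅x,⁅u,v⁆⁆ = ⁅⁅x,u⁆,v⁆ + ⁅u,⁅x,v⁆⁆ = ⁅⁅x,u⁆,v⁆ - ⁅⁅x,v⁆,u⁆
      have e : ⁅x, ⁅u, v⁆⁆ = ⁅⁅x, u⁆, v⁆ - ⁅⁅x, v⁆, u⁆ := by
        rw [leibniz_lie x u v, ← lie_skew u ⁅x, v⁆]; abel
      rw [e]
      have h1 : ⁅⁅x, u⁆, v⁆ ∈ lcf N (w + w' + 1 + 1) (i + i' + j') :=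
        lie_mem_lcf_succ (ih hx hu) hv
      have h2 : ⁅⁅x, v⁆, u⁆ ∈ lcf N (w + 1 + w' + 1) (i + j' + i') :=
        ih (lie_mem_lcf_succ hx hv) hu
      have e1 : i + i' + j' = i + j := by rw [← hij]; ring
      have e2 : i + j' + i' = i + j := by rw [← hij]; ring
      have e3 : w + w' + 1 + 1 = w + (w' + 1) + 1 := by ring
      have e4 : w + 1 + w' + 1 = w + (w' + 1) + 1 := by ring
      rw [e1, e3] at h1; rw [e2, e4] at h2
      exact sub_mem h1 h2

end lcf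

end Cfsg.Agent.Helper9.LieGr
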