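import Mathlib
import Cfsg.Agent.Helper8.S3154Defs

set_option autoImplicit false
set_option linter.unusedVariables false
set_option linter.unusedSimpArgs false
set_option linter.unusedTactic false
set_option linter.unreachableTactic false

/-! # S3154 piece PHOM1 (helper9): the Levi quotient map `P1 → SL₂(F)`, `|F| = 4`. -/

namespace Cfsg.Agent.S3154P

open Matrix

variable {F : Type*} [Field F]

/-- the scaled lower-right block -/
noncomputable def PHOM1.aux_mat (g : Matrix.SpecialLinearGroup (Fin 3) F) : Matrix (Fin 2) (Fin 2) F :=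
  !![(g.1 0 0)⁻¹ * g.1 1 1, (g.1 0 0)⁻¹ * g.1 1 2; (g.1 0 0)⁻¹ * g.1 2 1, (g.1 0 0)⁻¹ * g.1 2 2]

theorem PHOM1.aux_det_eq (g : Matrix.SpecialLinearGroup (Fin 3) F) (hg : g ∈ (P1 : Subgroup _)) :
    g.1 0 0 * (g.1 1 1 * g.1 2 2 - g.1 1 2 * g.1 2 1) = 1 := by
  have h := g.2
  rw [Matrix.det_fin_three] at h
  obtain ⟨h1, h2⟩ := mem_P1.mp hg
  rw [h1, h2] at h
  linear_combination h

theorem PHOM1.aux_ne_zero (g : Matrix.SpecialLinearGroup (Fin 3) F) (hg : g ∈ (P1 : Subgroup _)) :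
    g.1 0 0 ≠ 0 := by
  intro h0
  have h := PHOM1.aux_det_eq g hg
  rw [h0, zero_mul] at h
  exact zero_ne_one h

theorem PHOM1.aux_cube [Fintype F] (hF : Fintype.card F = 4) (x : F) (hx : x ≠ 0) : x ^ 3 = 1 := by
  have := FiniteField.pow_card_sub_one_eq_one x hx
  rwa [hF] at this

theorem PHOM1.aux_det [Fintype F] (hF : Fintype.card F = 4) (g : Matrix.SpecialLinearGroup (Fin 3) F)
    (hg : g ∈ (P1 : Subgroup _)) : (PHOM1.aux_mat g).det = 1 := by
  have h0 := PHOM1.aux_ne_zero g hg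
  have hd := PHOM1.aux_det_eq g hg
  have hc := PHOM1.aux_cube hF (g.1 0 0) h0
  rw [PHOM1.aux_mat, Matrix.det_fin_two_of]
  have hinv : (g.1 0 0)⁻¹ ^ 3 = 1 := by rw [inv_pow, hc, inv_one]
  have e : g.1 1 1 * g.1 2 2 - g.1 1 2 * g.1 2 1 = (g.1 0 0)⁻¹ := by
    field_simp
    linear_combination hd
  calc (g.1 0 0)⁻¹ * g.1 1 1 * ((g.1 0 0)⁻¹ * g.1 2 2) - (g.1 0 0)⁻¹ * g.1 1 2 * ((g.1 0 0)⁻¹ * g.1 2 1)
      = (g.1 0 0)⁻¹ ^ 2 * (g.1 1 1 * g.1 2 2 - g.1 1 2 * g.1 2 1) := by ring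
    _ = (g.1 0 0)⁻¹ ^ 3 := by rw [e]; ring
    _ = 1 := hinv

theorem PHOM1.aux_mul (g h : Matrix.SpecialLinearGroup (Fin 3) F) (hg : g ∈ (P1 : Subgroup _))
    (hh : h ∈ (P1 : Subgroup _)) :
    PHOM1.aux_mat (g * h) = PHOM1.aux_mat g * PHOM1.aux_mat h := by
  obtain ⟨g1, g2⟩ := mem_P1.mp hg
  obtain ⟨h1, h2⟩ := mem_P1.mp hh
  have hg0 := PHOM1.aux_ne_zero g hg
  have hh0 := PHOM1.aux_ne_zero h hh
  ext i j
  fin_cases i <;> fin_cases j <;>
    simp [PHOM1.aux_mat, Matrix.mul_apply, Fin.sum_univ_three, Fin.sum_univ_two, g1, g2, h1, h2] <;>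
    field_simp

/-- PHOM1 -/
theorem PHOM1 [Fintype F] (hF : Fintype.card F = 4) :
    ∃ ψ : (P1 : Subgroup (Matrix.SpecialLinearGroup (Fin 3) F)) →* Matrix.SpecialLinearGroup (Fin 2) F,
      Function.Surjective ψ ∧ ∀ g : (P1 : Subgroup (Matrix.SpecialLinearGroup (Fin 3) F)),
        ψ g = 1 ↔ mkL (g : Matrix.SpecialLinearGroup (Fin 3) F) ∈ (A1bar : Subgroup _) := by
  classical
  let ψ : (P1 : Subgroup (Matrix.SpecialLinearGroup (Fin 3) F)) →* Matrix.SpecialLinearGroup (Fin 2) F :=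
    MonoidHom.mk' (fun g => ⟨PHOM1.aux_mat g.1, PHOM1.aux_det hF g.1 g.2⟩)
      (fun g h => Subtype.ext (PHOM1.aux_mul g.1 h.1 g.2 h.2))
  have hψ : ∀ g : (P1 : Subgroup (Matrix.SpecialLinearGroup (Fin 3) F)),
      (ψ g).1 = PHOM1.aux_mat g.1 := fun g => rfl
  refine ⟨ψ, ?_, ?_⟩
  · -- surjective: block diagonal lift
    intro s
    have hs : s.1 0 0 * s.1 1 1 - s.1 0 1 * s.1 1 0 = 1 := by
      have := s.2
      rwa [Matrix.det_fin_two] at this
    let M : Matrix (Fin 3) (Fin 3) F := !![1, 0, 0; 0, s.1 0 0, s.1 0 1; 0, s.1 1 0, s.1 1 1]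
    have hM : M.det = 1 := by
      rw [Matrix.det_fin_three]
      simp [M]
      linear_combination hs
    have hmem : (⟨M, hM⟩ : Matrix.SpecialLinearGroup (Fin 3) F) ∈ (P1 : Subgroup _) := by
      refine mem_P1.mpr ⟨?_, ?_⟩ <;> simp [M]
    refine ⟨⟨⟨M, hM⟩, hmem⟩, ?_⟩
    apply Subtype.ext
    rw [hψ]
    ext i j
    fin_cases i <;> fin_cases j <;> simp [PHOM1.aux_mat, M]
  · intro g
    obtain ⟨g, hg⟩ := g
    obtain ⟨g1, g2⟩ := mem_P1.mp hg
    have hg0 := PHOM1.aux_ne_zero g hg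
    have hc := PHOM1.aux_cube hF (g.1 0 0) hg0
    constructor
    · intro h1
      have hmat : PHOM1.aux_mat g = 1 := by
        have := congrArg Subtype.val h1
        rw [hψ] at this
        exact this
      have e11 : g.1 1 1 = g.1 0 0 := by
        have := congrFun (congrFun hmat 0) 0
        simp [PHOM1.aux_mat] at this
        field_simp at this
        exact this
      have e12 : g.1 1 2 = 0 := by
        have := congrFun (congrFun hmat 0) 1
        simp [PHOM1.aux_mat] at this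
        rcases this with h | h
        · exact absurd h hg0
        · exact h
      have e21 : g.1 2 1 = 0 := by
        have := congrFun (congrFun hmat 1) 0
        simp [PHOM1.aux_mat] at this
        rcases this with h | h
        · exact absurd h hg0
        · exact h
      have e22 : g.1 2 2 = g.1 0 0 := by
        have := congrFun (congrFun hmat 1) 1
        simp [PHOM1.aux_mat] at this
        field_simp at this
        exact this
      -- g = λ • U(a, 0, c)
      show mkL g ∈ (A1.map mkL : Subgroup _)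
      refine ⟨U ((g.1 0 0)⁻¹ * g.1 0 1) 0 ((g.1 0 0)⁻¹ * g.1 0 2), mem_A1.mpr ⟨_, _, rfl⟩, ?_⟩
      show mkL (U ((g.1 0 0)⁻¹ * g.1 0 1) 0 ((g.1 0 0)⁻¹ * g.1 0 2)) = mkL g
      rw [mkL]
      apply (QuotientGroup.eq).mpr
      rw [Matrix.SpecialLinearGroup.mem_center_iff]
      refine ⟨g.1 0 0, by simpa using hc, ?_⟩
      rw [U_inv]
      ext i j
      fin_cases i <;> fin_cases j <;>
        simp [uMat, Matrix.mul_apply, Fin.sum_univ_three, Matrix.scalar, Matrix.diagonal, g1, g2,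
          e11, e12, e21, e22] <;> field_simp <;> ring
    · intro h1
      obtain ⟨u, hu, hug⟩ : ∃ u ∈ (A1 : Subgroup (Matrix.SpecialLinearGroup (Fin 3) F)), mkL u = mkL g :=
        h1
      obtain ⟨a, c, rfl⟩ := mem_A1.mp hu
      have hker : (U a 0 c)⁻¹ * g ∈ Subgroup.center (Matrix.SpecialLinearGroup (Fin 3) F) := by
        rw [mkL] at hug
        exact (QuotientGroup.eq).mp hug
      obtain ⟨r, -, hr⟩ := Matrix.SpecialLinearGroup.mem_center_iff.mp hker
      -- g = U a 0 c * scalar r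
      have hgU : g.1 = uMat a 0 c * Matrix.scalar (Fin 3) r := by
        rw [hr]
        have : g = U a 0 c * ((U a 0 c)⁻¹ * g) := by group
        conv_lhs => rw [this]
        rfl
      have e00 : g.1 0 0 = r := by
        rw [hgU]; simp [uMat, Matrix.mul_apply, Fin.sum_univ_three, Matrix.scalar, Matrix.diagonal]
      have e11 : g.1 1 1 = r := by
        rw [hgU]; simp [uMat, Matrix.mul_apply, Fin.sum_univ_three, Matrix.scalar, Matrix.diagonal]
      have e22 : g.1 2 2 = r := by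
        rw [hgU]; simp [uMat, Matrix.mul_apply, Fin.sum_univ_three, Matrix.scalar, Matrix.diagonal]
      have e12 : g.1 1 2 = 0 := by
        rw [hgU]; simp [uMat, Matrix.mul_apply, Fin.sum_univ_three, Matrix.scalar, Matrix.diagonal]
      have e21 : g.1 2 1 = 0 := by
        rw [hgU]; simp [uMat, Matrix.mul_apply, Fin.sum_univ_three, Matrix.scalar, Matrix.diagonal]
      have hr0 : r ≠ 0 := by rw [← e00]; exact hg0
      apply Subtype.ext
      rw [hψ]
      ext i j
      fin_cases i <;> fin_cases j <;> simp [PHOM1.aux_mat, e00, e11, e22, e12, e21, hr0]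

end Cfsg.Agent.S3154P
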