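import Cfsg.Agent.Helper9.LieGrpAut
import Cfsg.Agent.Helper4.LieGrpConcl

/-!
# Piece A4 of S3782: exponent of a layer of `LG G` from torsion of left-normed products
-/

namespace Cfsg.Agent.Helper9.Alp

open Cfsg.Agent.Helper9.LieGr Cfsg.Agent.LieGrp Cfsg.Agent.LieGrp.Aux4

universe u

theorem layer_exponent {G : Type u} [Group G] (c e : ℕ)
    (h : ∀ l : List (LG G), l.length = c + 1 → e • lnProd l = 0) (a : A G c) : e • a = 0 := by
  obtain ⟨x, hx, rfl⟩ := cls_surjective c a
  have h1 := ι_cls_mem_lnSpan c x hx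
  have h2 : ∀ z ∈ lnSpan (LG G) c, e • z = 0 := by
    intro z hz
    unfold lnSpan at hz
    induction hz using AddSubgroup.closure_induction with
    | mem z hz =>
      obtain ⟨l, hl, rfl⟩ := hz
      exact h l hl
    | zero => exact smul_zero _
    | add a b _ _ ha hb => rw [smul_add, ha, hb, add_zero]
    | neg a _ ha => rw [smul_neg, ha, neg_zero]
  have h3 := h2 _ h1
  have hinj : Function.Injective (ι G c) := DirectSum.of_injective (β := A G) c
  apply hinj
  rw [map_nsmul, h3, map_zero]

end Cfsg.Agent.Helper9.Alp
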