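import Cfsg.Agent.Helper9.LieGrFin2
import Cfsg.Agent.Helper20.SC

/-!
# Torsion form of the Higman–Kreknin–Kostrikin theorem (piece A3 of S3782)

If `α` is an automorphism of a Lie ring `L` with `α ^ p = 1` whose fixed points are killed by `p ^ n`,
then `p ^ ((n+1)(h+1))` kills every left-normed product of length `h + 1`, `h = xi p (2^(p-1)-1)`.
-/

namespace Cfsg.Agent.Helper9.Alp

open scoped TensorProduct
open Cfsg.Agent.Helper9.LieGr Cfsg.Agent.Helper20.SC Polynomial

universe u

set_option linter.unusedSectionVars false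

section coords
variable (p : ℕ) [hp : Fact p.Prime]

/-- the power basis `1, ζ, …, ζ^(p-2)` of `ℤ[ζ_p]`. -/
noncomputable def zbasis :
    Module.Basis (Fin (AdjoinRoot.powerBasis' (cyclotomic.monic p ℤ)).dim) ℤ (A p) :=
  (AdjoinRoot.powerBasis' (cyclotomic.monic p ℤ)).basis

variable {L : Type u} [LieRing L]

/-- the `i`-th coordinate map `ℤ[ζ_p] ⊗ L → L`. -/
noncomputable def coordT (i : Fin (AdjoinRoot.powerBasis' (cyclotomic.monic p ℤ)).dim)
    (v : A p ⊗[ℤ] L) : L :=
  TensorProduct.lid ℤ L (((zbasis p).coord i).rTensor L v)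

lemma coordT_zero (i : Fin (AdjoinRoot.powerBasis' (cyclotomic.monic p ℤ)).dim) :
    coordT p i (0 : A p ⊗[ℤ] L) = 0 := by
  unfold coordT; rw [map_zero, map_zero]

lemma coordT_add (i : Fin (AdjoinRoot.powerBasis' (cyclotomic.monic p ℤ)).dim)
    (v w : A p ⊗[ℤ] L) : coordT p i (v + w) = coordT p i v + coordT p i w := by
  unfold coordT; rw [map_add, map_add]

lemma coordT_tmul (i : Fin (AdjoinRoot.powerBasis' (cyclotomic.monic p ℤ)).dim) (a : A p) (x : L) :
    coordT p i (a ⊗ₜ[ℤ] x) = ((zbasis p).repr a i) • x := by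
  unfold coordT
  rw [LinearMap.rTensor_tmul, TensorProduct.lid_tmul]
  rfl

lemma sum_coordT (v : A p ⊗[ℤ] L) :
    ∑ i, (zbasis p i) • emb p (coordT p i v) = v := by
  induction v using TensorProduct.induction_on with
  | zero => simp [coordT_zero]
  | tmul a x =>
    have h : ∀ i, (zbasis p i) • emb p (coordT p i (a ⊗ₜ[ℤ] x))
        = (((zbasis p).repr a i) • zbasis p i) ⊗ₜ[ℤ] x := by
      intro i
      rw [coordT_tmul]
      show (zbasis p i) • ((1 : A p) ⊗ₜ[ℤ] (((zbasis p).repr a i) • x)) = _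
      rw [TensorProduct.smul_tmul', smul_eq_mul, mul_one, TensorProduct.tmul_smul,
        TensorProduct.smul_tmul']
    simp only [h]
    rw [← TensorProduct.sum_tmul, (zbasis p).sum_repr]
  | add v w hv hw =>
    simp only [coordT_add, map_add, smul_add, Finset.sum_add_distrib]
    rw [hv, hw]

variable (α : L ≃+ L) (hα : ∀ x y, α ⁅x, y⁆ = ⁅α x, α y⁆)

lemma coordT_alphaT (i : Fin (AdjoinRoot.powerBasis' (cyclotomic.monic p ℤ)).dim)
    (v : A p ⊗[ℤ] L) : coordT p i (alphaT p α hα v) = α (coordT p i v) := by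
  induction v using TensorProduct.induction_on with
  | zero => rw [map_zero, coordT_zero, map_zero]
  | tmul a x => rw [alphaT_tmul, coordT_tmul, coordT_tmul, map_zsmul]
  | add v w hv hw => rw [map_add, coordT_add, coordT_add, hv, hw, map_add]

/-- fixed points of the extended automorphism are killed by `m` if those of `α` are. -/
lemma nsmul_fixed_eq_zero (m : ℕ) (hfix : ∀ x, α x = x → m • x = 0) (v : A p ⊗[ℤ] L)
    (hv : alphaT p α hα v = v) : m • v = 0 := by
  have h1 : ∀ i, m • coordT p i v = 0 := by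
    intro i
    apply hfix
    rw [← coordT_alphaT p α hα, hv]
  rw [← sum_coordT p v, Finset.smul_sum]
  refine Finset.sum_eq_zero fun i _ => ?_
  rw [smul_comm, ← map_nsmul, h1, map_zero, smul_zero]

end coords

section main
variable {L : Type u} [LieRing L] (p : ℕ) [hp : Fact p.Prime]
variable (α : L ≃+ L) (hα : ∀ x y, α ⁅x, y⁆ = ⁅α x, α y⁆)

/-- the shrunken grading `p^n • gr j`. -/
noncomputable def grn (n : ℕ) (j : ZMod p) : AddSubgroup (A p ⊗[ℤ] L) :=
  (gr p α hα j).map (nsmulAddMonoidHom (p ^ n))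

lemma mem_grn {n : ℕ} {j : ZMod p} {v : A p ⊗[ℤ] L} :
    v ∈ grn p α hα n j ↔ ∃ w ∈ gr p α hα j, (p ^ n) • w = v := by
  unfold grn
  rw [AddSubgroup.mem_map]
  rfl

lemma isGrading_grn (n : ℕ) (hfix : ∀ x, α x = x → (p ^ n) • x = 0) :
    IsGrading (grn p α hα n) where
  lie_mem := by
    intro i j x hx y hy
    obtain ⟨v, hv, rfl⟩ := (mem_grn p α hα).mp hx
    obtain ⟨w, hw, rfl⟩ := (mem_grn p α hα).mp hy
    refine (mem_grn p α hα).mpr ⟨(p ^ n) • ⁅v, w⁆, ?_, ?_⟩
    · exact AddSubgroup.nsmul_mem _ (gr_lie_mem p α hα i j v hv w hw) _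
    · rw [nsmul_lie, lie_nsmul]
  zero := by
    rw [eq_bot_iff]
    intro x hx
    obtain ⟨v, hv, rfl⟩ := (mem_grn p α hα).mp hx
    rw [mem_gr, za_zero, one_smul] at hv
    rw [AddSubgroup.mem_bot]
    exact nsmul_fixed_eq_zero p α hα (p ^ n) hfix v hv

lemma nsmul_mem_iSup_grn (hαp : ∀ x, (α^[p]) x = x) (n : ℕ) (v : A p ⊗[ℤ] L) :
    (p ^ (n + 1)) • v ∈ ⨆ j, grn p α hα n j := by
  rw [pow_succ, mul_smul, ← sum_proj p α hα v, Finset.smul_sum]
  refine sum_mem fun j _ => ?_
  exact (le_iSup (grn p α hα n) j)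
    ((mem_grn p α hα).mpr ⟨proj p α hα j v, proj_mem p α hα hαp j v, rfl⟩)

end main

/-- left-normed products are multilinear: scaling all entries by `m`. -/
lemma lnProd_map_nsmul {L : Type*} [LieRing L] (m : ℕ) (l : List L) :
    lnProd (l.map (fun x => m • x)) = (m ^ l.length) • lnProd l := by
  induction l using List.reverseRecOn with
  | nil => simp [lnProd]
  | append_singleton l y ih =>
    cases l with
    | nil => simp [lnProd]
    | cons x l =>
      rw [List.map_append, List.map_cons, List.map_cons, List.map_nil] at *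
      rw [List.cons_append, List.cons_append, lnProd_cons_append_singleton,
        lnProd_cons_append_singleton, ih, nsmul_lie, lie_nsmul, ← mul_smul]
      congr 1
      simp only [List.length_cons, List.length_append, List.length_nil]
      ring

/-- **Piece A3** of S3782: the torsion form of the Higman–Kreknin–Kostrikin theorem. -/
theorem torsion_higman {L : Type u} [LieRing L] {p : ℕ} [Fact p.Prime] (α : L ≃+ L)
    (hα : ∀ x y, α ⁅x, y⁆ = ⁅α x, α y⁆) (hαp : ∀ x, (α^[p]) x = x) (n : ℕ)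
    (hfix : ∀ x, α x = x → (p ^ n) • x = 0) (l : List L)
    (hl : l.length = xi p (2 ^ (p - 1) - 1) + 1) :
    (p ^ ((n + 1) * (xi p (2 ^ (p - 1) - 1) + 1))) • lnProd l = 0 := by
  have hN := isGrading_grn p α hα n hfix
  have h := graded_main' (grn p α hα n) hN ((l.map (emb p)).map (fun x => (p ^ (n + 1)) • x))
    (by rw [List.length_map, List.length_map, hl]) ?_
  · rw [lnProd_map_nsmul, emb_lnProd, List.length_map, hl, ← pow_mul, ← map_nsmul] at h
    exact emb_injective p (h.trans (map_zero _).symm)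
  · intro y hy
    obtain ⟨v, _, rfl⟩ := List.mem_map.mp hy
    exact nsmul_mem_iSup_grn p α hα hαp n v

end Cfsg.Agent.Helper9.Alp
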