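import Cfsg.Agent.Helper20.AlpA12
import Cfsg.Agent.Helper23.AlpA5
import Cfsg.Agent.Helper9.AlpTors
import Cfsg.Agent.Helper9.AlpExpo
import Cfsg.Agent.S3781

/-!
# Piece A6 of S3782: Alperin's theorem for `p`-groups
A finite `p`-group with an automorphism `φ`, `φ ^ p = 1`, with at most `p ^ n` fixed points has
derived length at most `lP p n`.
-/

namespace Cfsg.Agent.Helper9.Alp

open Cfsg.Agent.Helper9.LieGr Cfsg.Agent.LieGrp Cfsg.Agent.LieGrp.Aux9

universe u

/-- the Higman–Kreknin–Kostrikin number -/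
abbrev hkk (p : ℕ) : ℕ := xi p (2 ^ (p - 1) - 1)

theorem one_le_hkk {p : ℕ} (hp : p.Prime) : 1 ≤ hkk p := by
  unfold hkk xi
  have h2 : 1 ≤ 2 ^ (p - 1) - 1 := by
    have : 2 ^ 1 ≤ 2 ^ (p - 1) := Nat.pow_le_pow_right (by norm_num) (by have := hp.two_le; omega)
    omega
  obtain ⟨m, hm⟩ : ∃ m, 2 ^ (p - 1) - 1 = m + 1 := ⟨2 ^ (p - 1) - 1 - 1, by omega⟩
  rw [hm, Finset.sum_range_succ']
  simp

/-- the bound for `p`-groups -/
def lP (p n : ℕ) : ℕ := ((n + 1) * (hkk p + 1)) * (p * n) + 1 + (hkk p + 1)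

section restrict
variable {G : Type u} [Group G]

/-- restriction of an automorphism to an invariant subgroup -/
def restrictAut (φ : MulAut G) (K : Subgroup G) (hK : ∀ ψ : MulAut G, ∀ x ∈ K, ψ x ∈ K) :
    MulAut ↥K where
  toFun x := ⟨φ x, hK φ x x.2⟩
  invFun x := ⟨φ⁻¹ x, hK φ⁻¹ x x.2⟩
  left_inv x := by
    apply Subtype.ext
    show φ⁻¹ (φ x) = x
    rw [← MulAut.mul_apply, inv_mul_cancel]; rfl
  right_inv x := by
    apply Subtype.ext
    show φ (φ⁻¹ x) = x
    rw [← MulAut.mul_apply, mul_inv_cancel]; rfl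
  map_mul' x y := by
    apply Subtype.ext
    show φ (x * y) = φ x * φ y
    exact map_mul φ _ _

theorem restrictAut_apply (φ : MulAut G) (K : Subgroup G)
    (hK : ∀ ψ : MulAut G, ∀ x ∈ K, ψ x ∈ K) (x : K) :
    ((restrictAut φ K hK x : K) : G) = φ x := rfl

theorem restrictAut_pow_apply (φ : MulAut G) (K : Subgroup G)
    (hK : ∀ ψ : MulAut G, ∀ x ∈ K, ψ x ∈ K) (m : ℕ) (x : K) :
    (((restrictAut φ K hK) ^ m) x : G) = (φ ^ m) x := by
  induction m generalizing x with
  | zero => rfl
  | succ m ih =>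
    rw [pow_succ, pow_succ, MulAut.mul_apply, MulAut.mul_apply, ih, restrictAut_apply]

theorem restrictAut_pow_eq_one (φ : MulAut G) (K : Subgroup G)
    (hK : ∀ ψ : MulAut G, ∀ x ∈ K, ψ x ∈ K) (m : ℕ) (h : φ ^ m = 1) :
    (restrictAut φ K hK) ^ m = 1 := by
  ext x
  rw [restrictAut_pow_apply, h]
  rfl

theorem card_fixed_restrictAut_le [Finite G] (φ : MulAut G) (K : Subgroup G)
    (hK : ∀ ψ : MulAut G, ∀ x ∈ K, ψ x ∈ K) :
    Nat.card {x : K // restrictAut φ K hK x = x} ≤ Nat.card {g : G // φ g = g} := by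
  refine Nat.card_le_card_of_injective
    (fun x => ⟨(x.1 : G), by
      have := congrArg Subtype.val x.2
      rwa [restrictAut_apply] at this⟩) ?_
  intro x y hxy
  have h : ((x.1 : K) : G) = ((y.1 : K) : G) := by
    simpa using congrArg Subtype.val hxy
  exact Subtype.ext (Subtype.ext h)

end restrict

section layer
variable {G : Type u} [Group G]

theorem layerHom_mul (φ ψ : MulAut G) (i : ℕ) (a : A G i) :
    layerHom φ i (layerHom ψ i a) = layerHom (φ * ψ) i a := by
  obtain ⟨x, hx, rfl⟩ := cls_surjective i a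
  rw [layerHom_cls, layerHom_cls, layerHom_cls]
  rfl

theorem layerHom_one (i : ℕ) (a : A G i) : layerHom (1 : MulAut G) i a = a := by
  obtain ⟨x, hx, rfl⟩ := cls_surjective i a
  rw [layerHom_cls]
  rfl

theorem layerHom_iterate (φ : MulAut G) (i m : ℕ) (a : A G i) :
    (layerHom φ i)^[m] a = layerHom (φ ^ m) i a := by
  induction m with
  | zero => rw [Function.iterate_zero, id, pow_zero, layerHom_one]
  | succ m ih => rw [Function.iterate_succ_apply', ih, layerHom_mul, ← pow_succ']

theorem card_layer (i : ℕ) : Nat.card (A G i) = (H G (i + 1)).relIndex (H G i) := rfl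

end layer

/-- if `D a ≤ K` then `D (a + b) ≤ K.lowerCentralSeries b`. -/
theorem derivedSeries_add_le_lowerCentralSeries {G : Type*} [Group G] (K : Subgroup G) (a : ℕ)
    (h : derivedSeries G a ≤ K) (b : ℕ) : derivedSeries G (a + b) ≤ K.lowerCentralSeries b := by
  induction b with
  | zero => exact h
  | succ b ih =>
    rw [← add_assoc, derivedSeries_succ, Subgroup.lowerCentralSeries_succ]
    exact Subgroup.commutator_mono ih
      ((derivedSeries_antitone G (Nat.le_add_right a b)).trans h)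

/-- **Piece A6** of S3782. -/
theorem pgroup_bound {G : Type u} [Group G] [Finite G] {p : ℕ} [Fact p.Prime] (hG : IsPGroup p G)
    (φ : MulAut G) (hφ : φ ^ p = 1) (n : ℕ) (hfix : Nat.card {g : G // φ g = g} ≤ p ^ n) :
    derivedSeries G (lP p n) = ⊥ := by
  have hp : p.Prime := Fact.out
  set h := hkk p with hh
  set e := (n + 1) * (h + 1) with he
  set K : Subgroup G := (⊤ : Subgroup G).lowerCentralSeries (e * (p * n)) with hKdef
  have hKchar : K.Characteristic := inferInstance
  have hK : ∀ ψ : MulAut G, ∀ x ∈ K, ψ x ∈ K := by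
    intro ψ x hx
    have := Subgroup.characteristic_iff_map_eq.mp hKchar ψ
    rw [← this]
    exact Subgroup.mem_map_of_mem _ hx
  set ψ : MulAut ↥K := restrictAut φ K hK with hψ
  have hψp : ψ ^ p = 1 := restrictAut_pow_eq_one φ K hK p hφ
  have hψfix : Nat.card {x : K // ψ x = x} ≤ p ^ n :=
    (card_fixed_restrictAut_le φ K hK).trans hfix
  have hKp : IsPGroup p ↥K := hG.to_subgroup K
  -- the Lie ring
  have hlie : ∀ l : List (LG ↥K), l.length = h + 1 → (p ^ e) • lnProd l = 0 := by
    intro l hl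
    refine torsion_higman (autLG ψ) (autLG_lie ψ) ?_ n ?_ l hl
    · intro x
      rw [autLG_iterate, hψp, autLG_one]
    · intro x hx
      exact Cfsg.Agent.Helper20.Alp.nsmul_eq_zero_of_autLG_fixed hKp ψ n hψfix x hx
  have hexp : ∀ a : A ↥K h, (p ^ e) • a = 0 := layer_exponent h (p ^ e) hlie
  have hfin : Finite (A ↥K h) := by unfold A; infer_instance
  have hcard : Nat.card (A ↥K h) ≤ p ^ (e * (p * n)) := by
    refine Cfsg.Agent.Helper23.Alp.card_le_of_fixed (layerHom ψ h) ?_ n e ?_ hexp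
    · intro v
      rw [layerHom_iterate, hψp, layerHom_one]
    · exact (Cfsg.Agent.Helper20.Alp.card_layer_fixed_le ψ h).trans hψfix
  -- P. Hall
  have hbot : K.lowerCentralSeries (h + 1) = ⊥ := by
    by_contra hne
    have h1 := Cfsg.Agent.S3781.result hG (e * (p * n) + 1) (by omega) K
      (by rw [Nat.add_sub_cancel]) (h + 1) (by have := one_le_hkk hp; omega) hne
    rw [Nat.add_sub_cancel, ← Subgroup.top_subtype_lowerCentralSeries K (h + 1),
      ← Subgroup.top_subtype_lowerCentralSeries K h,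
      Subgroup.relIndex_map_map_of_injective _ _ K.subtype_injective, ← card_layer] at h1
    have h2 := h1.trans hcard
    have h3 : p ^ (e * (p * n)) < p ^ (e * (p * n) + 1) :=
      Nat.pow_lt_pow_right hp.one_lt (Nat.lt_succ_self _)
    omega
  have h4 := derivedSeries_add_le_lowerCentralSeries K (e * (p * n))
    (Subgroup.derived_le_lower_central _) (h + 1)
  rw [hbot] at h4
  rw [eq_bot_iff]
  refine (derivedSeries_antitone G ?_).trans h4
  clear_value K
  clear_value e
  clear_value h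
  unfold lP
  rw [← hh, ← he]
  omega

end Cfsg.Agent.Helper9.Alp
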