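import Mathlib

/-! Linear algebra over `𝔽₂`: elements of odd order inverted by a transvection-like involution. -/

namespace Cfsg.Agent.Helper9.Cub

variable {V : Type*} [AddCommGroup V] [Module (ZMod 2) V]

/-- `g w - w` (= `g w + w` in characteristic 2). -/
def dl (g : V ≃ₗ[ZMod 2] V) (w : V) : V := g w + w

theorem dl_add (g : V ≃ₗ[ZMod 2] V) (a b : V) : dl g (a + b) = dl g a + dl g b := by
  unfold dl; rw [map_add]; abel

theorem dl_zero (g : V ≃ₗ[ZMod 2] V) : dl g 0 = 0 := by
  unfold dl; simp

theorem apply_eq_dl_add (g : V ≃ₗ[ZMod 2] V) (w : V) : g w = dl g w + w := by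
  unfold dl; rw [add_assoc, ZModModule.add_self, add_zero]

theorem dl_eq_zero_iff (g : V ≃ₗ[ZMod 2] V) (w : V) : dl g w = 0 ↔ g w = w := by
  unfold dl
  constructor
  · intro h
    have := congrArg (· + w) h
    simp only [add_assoc, ZModModule.add_self, add_zero, zero_add] at this
    exact this
  · intro h; rw [h, ZModModule.add_self]

theorem dl_dl (g : V ≃ₗ[ZMod 2] V) (w : V) : dl g (dl g w) = g (g w) + w := by
  unfold dl
  rw [map_add]
  have : g (g w) + g w + (g w + w) = g (g w) + (g w + g w) + w := by abel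
  rw [this, ZModModule.add_self, add_zero]

theorem dl_mul (g h : V ≃ₗ[ZMod 2] V) (w : V) : dl (g * h) w = dl g (h w) + dl h w := by
  unfold dl
  rw [LinearEquiv.mul_apply]
  have : g (h w) + h w + (h w + w) = g (h w) + (h w + h w) + w := by abel
  rw [this, ZModModule.add_self, add_zero]

/-- A unipotent element (`(g-1)² = 0`) of odd order is trivial. -/
theorem unip (g : V ≃ₗ[ZMod 2] V) (hodd : Odd (orderOf g)) (h : ∀ w, dl g (dl g w) = 0) :
    g = 1 := by
  have h2 : g * g = 1 := by
    ext w
    rw [LinearEquiv.mul_apply, LinearEquiv.coe_one, id_eq]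
    have := h w
    rw [dl_dl] at this
    have h3 := congrArg (· + w) this
    simp only [add_assoc, ZModModule.add_self, add_zero, zero_add] at h3
    exact h3
  have h3 : orderOf g ∣ 2 := orderOf_dvd_of_pow_eq_one (by rw [pow_two]; exact h2)
  have h4 : orderOf g = 1 := by
    rcases (Nat.dvd_prime Nat.prime_two).mp h3 with h | h
    · exact h
    · rw [h] at hodd; exact absurd hodd (by decide)
  exact orderOf_eq_one_iff.mp h4

/-- For `y` of odd order, fixed points of `y²` are fixed points of `y`. -/
theorem fix_sq (y : V ≃ₗ[ZMod 2] V) (hodd : Odd (orderOf y)) (w : V) (h : y (y w) = w) :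
    y w = w := by
  obtain ⟨j, hj⟩ := hodd
  have h1 : ∀ k : ℕ, ((y * y) ^ k) w = w := by
    intro k
    induction k with
    | zero => simp
    | succ k ih =>
      rw [pow_succ, LinearEquiv.mul_apply, LinearEquiv.mul_apply, h, ih]
  have h2 : (y * y) ^ (j + 1) = y := by
    rw [← pow_two, ← pow_mul]
    have : 2 * (j + 1) = orderOf y + 1 := by omega
    rw [this, pow_succ, pow_orderOf_eq_one, one_mul]
  have := h1 (j + 1)
  rwa [h2] at this

end Cfsg.Agent.Helper9.Cub
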