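import Mathlib
import Cfsg.Agent.Helper9.CubA

/-! Elements of odd order inverted by a transvection over `𝔽₂` have order 3 and commutator
space of order 4. -/

namespace Cfsg.Agent.Helper9.Cub

variable {V : Type*} [AddCommGroup V] [Module (ZMod 2) V]

/-- pigeonhole: five pairwise distinct elements do not fit in a set with at most four. -/
theorem pigeon5 {α : Type*} (S : Set α) [Finite S] (h : Nat.card S ≤ 4) (a b c d e : α)
    (ha : a ∈ S) (hb : b ∈ S) (hc : c ∈ S) (hd : d ∈ S) (he : e ∈ S)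
    (hab : a ≠ b) (hac : a ≠ c) (had : a ≠ d) (hae : a ≠ e) (hbc : b ≠ c) (hbd : b ≠ d)
    (hbe : b ≠ e) (hcd : c ≠ d) (hce : c ≠ e) (hde : d ≠ e) : False := by
  classical
  have hsub : ((({a, b, c, d, e} : Finset α)) : Set α) ⊆ S := by
    intro y hy
    simp only [Finset.coe_insert, Finset.coe_singleton, Set.mem_insert_iff,
      Set.mem_singleton_iff] at hy
    rcases hy with rfl | rfl | rfl | rfl | rfl <;> assumption
  have h1 := Set.ncard_le_ncard hsub (Set.toFinite S)
  rw [Set.ncard_coe_finset, ← Nat.card_coe_set_eq] at h1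
  have h2 : ({a, b, c, d, e} : Finset α).card = 5 := by
    rw [Finset.card_insert_of_notMem, Finset.card_insert_of_notMem,
      Finset.card_insert_of_notMem, Finset.card_insert_of_notMem, Finset.card_singleton]
    · simp [hde]
    · simp [hcd, hce]
    · simp [hbc, hbd, hbe]
    · simp [hab, hac, had, hae]
  omega

theorem card_span_pair_le (a b : V) : Nat.card (Submodule.span (ZMod 2) {a, b}) ≤ 4 := by
  have hsurj : Function.Surjective (fun c : ZMod 2 × ZMod 2 =>
      (⟨c.1 • a + c.2 • b, Submodule.mem_span_pair.mpr ⟨c.1, c.2, rfl⟩⟩ :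
        Submodule.span (ZMod 2) {a, b})) := by
    rintro ⟨w, hw⟩
    obtain ⟨c, d, rfl⟩ := Submodule.mem_span_pair.mp hw
    exact ⟨(c, d), rfl⟩
  have := Nat.card_le_card_of_surjective _ hsurj
  rw [Nat.card_prod, Nat.card_zmod] at this
  exact this

instance finite_span_pair (a b : V) : Finite (Submodule.span (ZMod 2) {a, b}) := by
  have hsurj : Function.Surjective (fun c : ZMod 2 × ZMod 2 =>
      (⟨c.1 • a + c.2 • b, Submodule.mem_span_pair.mpr ⟨c.1, c.2, rfl⟩⟩ :
        Submodule.span (ZMod 2) {a, b})) := by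
    rintro ⟨w, hw⟩
    obtain ⟨c, d, rfl⟩ := Submodule.mem_span_pair.mp hw
    exact ⟨(c, d), rfl⟩
  exact Finite.of_surjective _ hsurj

section T1

variable (x t : V ≃ₗ[ZMod 2] V) (v : V)

/-- `(x² - 1) w` lies in the span of `v` and `x⁻¹ v`. -/
theorem sq_mem (ht : t * t = 1) (hinv : t * x * t = x⁻¹)
    (htv : ∀ w, dl t w = 0 ∨ dl t w = v) (w : V) :
    dl (x * x) w ∈ Submodule.span (ZMod 2) {v, x⁻¹ v} := by
  have h1 : t * x⁻¹ = x * t := by
    rw [← hinv]; simp only [← mul_assoc]; rw [ht, one_mul]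
  have hxx : x * x = t * x⁻¹ * (t * x) := by
    rw [h1, mul_assoc, ← mul_assoc t t x, ht, one_mul]
  have hv : v ∈ Submodule.span (ZMod 2) {v, x⁻¹ v} :=
    Submodule.subset_span (by simp)
  have hv' : x⁻¹ v ∈ Submodule.span (ZMod 2) {v, x⁻¹ v} :=
    Submodule.subset_span (by simp)
  -- compute
  set u := x w with hu
  have hxu : x⁻¹ u = w := by
    rw [hu, ← LinearEquiv.mul_apply, inv_mul_cancel, LinearEquiv.coe_one, id_eq]
  have e1 : t u = dl t u + u := apply_eq_dl_add t u
  set r := x⁻¹ (dl t u) with hr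
  have hrm : r ∈ Submodule.span (ZMod 2) {v, x⁻¹ v} := by
    rcases htv u with h | h
    · rw [hr, h, map_zero]; exact Submodule.zero_mem _
    · rw [hr, h]; exact hv'
  have e2 : x⁻¹ (t u) = r + w := by rw [e1, map_add, hxu]
  have e3 : t (r + w) = dl t (r + w) + (r + w) := apply_eq_dl_add t _
  have hsm : dl t (r + w) ∈ Submodule.span (ZMod 2) {v, x⁻¹ v} := by
    rcases htv (r + w) with h | h
    · rw [h]; exact Submodule.zero_mem _
    · rw [h]; exact hv
  have e4 : (x * x) w = dl t (r + w) + (r + w) := by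
    rw [hxx]
    simp only [LinearEquiv.mul_apply]
    rw [← hu, e2, e3]
  have e5 : dl (x * x) w = dl t (r + w) + r := by
    unfold dl at e4 ⊢
    rw [e4]
    have : t (r + w) + (r + w) + (r + w) + w = t (r + w) + (r + w) + r + (w + w) := by abel
    rw [this, ZModModule.add_self, add_zero]
  rw [e5]
  exact Submodule.add_mem _ hsm hrm

end T1

end Cfsg.Agent.Helper9.Cub
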