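import Mathlib
import Cfsg.Agent.Helper9.CubB

/-! Odd-order elements with commutator space inside a submodule of order at most 4. -/

namespace Cfsg.Agent.Helper9.Cub

variable {V : Type*} [AddCommGroup V] [Module (ZMod 2) V]

section Orb

variable (y : V ≃ₗ[ZMod 2] V) (Fs : Submodule (ZMod 2) V)

theorem apply_mem_of_mem (hF : ∀ w, dl y w ∈ Fs) {u : V} (hu : u ∈ Fs) : y u ∈ Fs := by
  rw [apply_eq_dl_add]
  exact Fs.add_mem (hF u) hu

theorem no_fixed (hodd : Odd (orderOf y)) (w : V) (h : y (dl y w) = dl y w) : dl y w = 0 := by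
  rw [← dl_eq_zero_iff, dl_dl] at h
  have h2 : y (y w) = w := by
    have h3 := congrArg (· + w) h
    simp only [add_assoc, ZModModule.add_self, add_zero, zero_add] at h3
    exact h3
  rw [dl_eq_zero_iff]
  exact fix_sq y hodd w h2

theorem cube_fix [Finite Fs] (hodd : Odd (orderOf y)) (hcard : Nat.card Fs ≤ 4)
    (hF : ∀ w, dl y w ∈ Fs) (w : V) : y (y (y (dl y w))) = dl y w := by
  set w1 := dl y w with hw1
  by_cases h0 : w1 = 0
  · rw [h0]; simp
  by_contra hne
  have hm1 : w1 ∈ Fs := hF w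
  have hm2 := apply_mem_of_mem y Fs hF hm1
  have hm3 := apply_mem_of_mem y Fs hF hm2
  have hm4 := apply_mem_of_mem y Fs hF hm3
  have hinj := y.injective
  have hb : w1 ≠ y w1 := fun h => h0 (no_fixed y hodd w h.symm)
  have hc : w1 ≠ y (y w1) := by
    intro h
    exact hb (fix_sq y hodd w1 h.symm).symm
  have hFin : Finite (Fs : Set V) := ‹Finite Fs›
  have hcard' : Nat.card (Fs : Set V) ≤ 4 := hcard
  exact pigeon5 (Fs : Set V) hcard' 0 w1 (y w1) (y (y w1)) (y (y (y w1)))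
    Fs.zero_mem hm1 hm2 hm3 hm4
    (Ne.symm h0)
    (fun h => h0 ((map_eq_zero_iff y hinj).mp h.symm))
    (fun h => h0 ((map_eq_zero_iff y hinj).mp ((map_eq_zero_iff y hinj).mp h.symm)))
    (fun h => h0 ((map_eq_zero_iff y hinj).mp ((map_eq_zero_iff y hinj).mp
      ((map_eq_zero_iff y hinj).mp h.symm))))
    hb hc (fun h => hne h.symm)
    (fun h => hb (hinj h))
    (fun h => hc (hinj h))
    (fun h => hb (hinj (hinj h)))

theorem cube_eq_one [Finite Fs] (hodd : Odd (orderOf y)) (hcard : Nat.card Fs ≤ 4)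
    (hF : ∀ w, dl y w ∈ Fs) : y * y * y = 1 := by
  have hodd3 : Odd (orderOf (y * y * y)) := by
    have : y * y * y = y ^ 3 := by rw [pow_succ, pow_two]
    rw [this]
    exact Odd.of_dvd_nat hodd (orderOf_pow_dvd 3)
  apply unip _ hodd3
  intro w
  rw [dl_eq_zero_iff]
  have e : dl (y * y * y) w = dl y (y (y w)) + dl y (y w) + dl y w := by
    rw [dl_mul, dl_mul]
  rw [e]
  simp only [LinearEquiv.mul_apply, map_add]
  rw [cube_fix y Fs hodd hcard hF, cube_fix y Fs hodd hcard hF, cube_fix y Fs hodd hcard hF]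

theorem mem_cases [Finite Fs] (hodd : Odd (orderOf y)) (hcard : Nat.card Fs ≤ 4)
    (hF : ∀ w, dl y w ∈ Fs) (w : V) (h0 : dl y w ≠ 0) {u : V} (hu : u ∈ Fs) :
    u = 0 ∨ u = dl y w ∨ u = y (dl y w) ∨ u = y (y (dl y w)) := by
  set w1 := dl y w with hw1
  by_contra hcon
  simp only [not_or] at hcon
  obtain ⟨hu0, hu1, hu2, hu3⟩ := hcon
  have hm1 : w1 ∈ Fs := hF w
  have hm2 := apply_mem_of_mem y Fs hF hm1
  have hm3 := apply_mem_of_mem y Fs hF hm2
  have hinj := y.injective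
  have hb : w1 ≠ y w1 := fun h => h0 (no_fixed y hodd w h.symm)
  have hc : w1 ≠ y (y w1) := by
    intro h
    exact hb (fix_sq y hodd w1 h.symm).symm
  have hFin : Finite (Fs : Set V) := ‹Finite Fs›
  have hcard' : Nat.card (Fs : Set V) ≤ 4 := hcard
  exact pigeon5 (Fs : Set V) hcard' 0 w1 (y w1) (y (y w1)) u
    Fs.zero_mem hm1 hm2 hm3 hu
    (Ne.symm h0)
    (fun h => h0 ((map_eq_zero_iff y hinj).mp h.symm))
    (fun h => h0 ((map_eq_zero_iff y hinj).mp ((map_eq_zero_iff y hinj).mp h.symm)))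
    (Ne.symm hu0)
    hb hc (Ne.symm hu1)
    (fun h => hb (hinj h))
    (Ne.symm hu2)
    (Ne.symm hu3)

end Orb

end Cfsg.Agent.Helper9.Cub
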