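import Mathlib
import Cfsg.Agent.Helper9.CubC

/-! Structure of an odd-order element inverted by a transvection-like involution over `𝔽₂`. -/

namespace Cfsg.Agent.Helper9.Cub

variable {V : Type*} [AddCommGroup V] [Module (ZMod 2) V]

section T1

variable (x t : V ≃ₗ[ZMod 2] V) (v : V)

theorem T1 (ht : t * t = 1) (hinv : t * x * t = x⁻¹)
    (htv : ∀ w, dl t w = 0 ∨ dl t w = v) (hodd : Odd (orderOf x)) :
    x * x * x = 1 ∧ ∀ w, dl x w ∈ Submodule.span (ZMod 2) {v, x⁻¹ v} := by
  have hodd2 : Odd (orderOf (x * x)) := by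
    rw [← pow_two]
    exact Odd.of_dvd_nat hodd (orderOf_pow_dvd 2)
  have hF := sq_mem x t v ht hinv htv
  have hcard := card_span_pair_le v (x⁻¹ v)
  have h6 := cube_eq_one (x * x) _ hodd2 hcard hF
  have h6' : x ^ 6 = 1 := by
    rw [← h6]; simp only [pow_succ, pow_zero, one_mul, mul_assoc]
  have hd : orderOf x ∣ 3 := by
    have h1 : orderOf x ∣ 6 := orderOf_dvd_of_pow_eq_one h6'
    have h2 : (orderOf x).Coprime 2 := Nat.Coprime.symm (Nat.coprime_two_left.mpr hodd)
    have h3 : orderOf x ∣ 2 * 3 := h1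
    exact h2.dvd_of_dvd_mul_left h3
  have h3 : x ^ 3 = 1 := orderOf_dvd_iff_pow_eq_one.mp hd
  have h3' : x * x * x = 1 := by rw [← h3, pow_succ, pow_two]
  refine ⟨h3', ?_⟩
  intro w
  have e : x = (x * x) * (x * x) := by
    have : x * x * (x * x) = (x * x * x) * x := by simp only [mul_assoc]
    rw [this, h3', one_mul]
  have e2 : dl x w = dl (x * x) ((x * x) w) + dl (x * x) w := by
    conv_lhs => rw [e]
    rw [dl_mul]
  rw [e2]
  exact Submodule.add_mem _ (hF _) (hF _)

theorem dl_apply_comm (g h : V ≃ₗ[ZMod 2] V) (hc : g * h = h * g) (w : V) :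
    g (dl h w) = dl h (g w) := by
  unfold dl
  rw [map_add, ← LinearEquiv.mul_apply, hc, LinearEquiv.mul_apply]

/-- Structure of the commutator space. -/
theorem T1_struct (ht : t * t = 1) (hinv : t * x * t = x⁻¹)
    (htv : ∀ w, dl t w = 0 ∨ dl t w = v) (hodd : Odd (orderOf x)) (hx : x ≠ 1) (hv : v ≠ 0) :
    (∃ w, dl x w = v) ∧
    (∀ u ∈ Submodule.span (ZMod 2) {v, x⁻¹ v}, u = 0 ∨ u = v ∨ u = x v ∨ u = x (x v)) ∧
    v ≠ x v ∧ v ≠ x (x v) ∧ x v ≠ x (x v) := by
  obtain ⟨h3, hF⟩ := T1 x t v ht hinv htv hodd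
  have hcard := card_span_pair_le v (x⁻¹ v)
  have hvm : v ∈ Submodule.span (ZMod 2) {v, x⁻¹ v} := Submodule.subset_span (by simp)
  -- some nonzero commutator
  have hex : ∃ w0, dl x w0 ≠ 0 := by
    by_contra hcon
    simp only [not_exists, not_not] at hcon
    apply hx
    ext w
    rw [LinearEquiv.coe_one, id_eq]
    exact (dl_eq_zero_iff x w).mp (hcon w)
  obtain ⟨w0, hw0⟩ := hex
  have hvr : ∃ w, dl x w = v := by
    rcases mem_cases x _ hodd hcard hF w0 hw0 hvm with h | h | h | h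
    · exact absurd h hv
    · exact ⟨w0, h.symm⟩
    · exact ⟨x w0, by rw [h, dl_apply_comm x x rfl]⟩
    · exact ⟨x (x w0), by rw [h, dl_apply_comm x x rfl, dl_apply_comm x x rfl]⟩
  obtain ⟨w, hw⟩ := hvr
  have hw' : dl x w ≠ 0 := by rw [hw]; exact hv
  refine ⟨⟨w, hw⟩, ?_, ?_, ?_, ?_⟩
  · intro u hu
    have := mem_cases x _ hodd hcard hF w hw' hu
    rw [hw] at this
    exact this
  · intro h
    have := no_fixed x hodd w (by rw [hw]; exact h.symm)
    exact hw' this
  · intro h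
    have h1 := fix_sq x hodd v h.symm
    have := no_fixed x hodd w (by rw [hw]; exact h1)
    exact hw' this
  · intro h
    have h1 := x.injective h
    have := no_fixed x hodd w (by rw [hw]; exact h1.symm)
    exact hw' this

end T1

end Cfsg.Agent.Helper9.Cub
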