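import Mathlib
import Cfsg.Agent.Helper9.CubD

/-! Final contradiction: a square root `P` of the transvection `t` normalizing a 3-group. -/

namespace Cfsg.Agent.Helper9.Cub

variable {V : Type*} [AddCommGroup V] [Module (ZMod 2) V]

/-- Elements acting trivially modulo a submodule `U` form a subgroup. -/
def NU (U : Submodule (ZMod 2) V) : Subgroup (V ≃ₗ[ZMod 2] V) where
  carrier := {g | ∀ w, dl g w ∈ U}
  mul_mem' := by
    intro g h hg hh w
    rw [dl_mul]
    exact U.add_mem (hg _) (hh _)
  one_mem' := by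
    intro w
    unfold dl
    rw [LinearEquiv.coe_one, id_eq, ZModModule.add_self]
    exact U.zero_mem
  inv_mem' := by
    intro g hg w
    have h1 := hg (g⁻¹ w)
    unfold dl at h1 ⊢
    rw [← LinearEquiv.mul_apply, mul_inv_cancel, LinearEquiv.coe_one, id_eq, add_comm] at h1
    exact h1

theorem mem_NU (U : Submodule (ZMod 2) V) (g : V ≃ₗ[ZMod 2] V) :
    g ∈ NU U ↔ ∀ w, dl g w ∈ U := Iff.rfl

section Final

variable (x t : V ≃ₗ[ZMod 2] V) (v : V)

/-- an element commuting with `x` and fixing `v` fixes the commutator space pointwise -/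
theorem fixes_Fs (g : V ≃ₗ[ZMod 2] V) (hgx : g * x = x * g) (hgv : g v = v)
    (hcases : ∀ u ∈ Submodule.span (ZMod 2) {v, x⁻¹ v},
      u = 0 ∨ u = v ∨ u = x v ∨ u = x (x v)) :
    ∀ u ∈ Submodule.span (ZMod 2) {v, x⁻¹ v}, g u = u := by
  have h1 : g (x v) = x v := by
    rw [← LinearEquiv.mul_apply, hgx, LinearEquiv.mul_apply, hgv]
  have h2 : g (x (x v)) = x (x v) := by
    rw [← LinearEquiv.mul_apply, hgx, LinearEquiv.mul_apply, h1]
  intro u hu
  rcases hcases u hu with h | h | h | h
  · rw [h, map_zero]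
  · rw [h, hgv]
  · rw [h, h1]
  · rw [h, h2]

theorem final [Finite V] (P : V ≃ₗ[ZMod 2] V)
    (htP : t = P * P) (ht : t * t = 1) (hinv : t * x * t = x⁻¹)
    (htv : ∀ w, dl t w = 0 ∨ dl t w = v) (hv : v ≠ 0) (hvr : ∃ w0, dl t w0 = v)
    (hodd : Odd (orderOf x)) (hx : x ≠ 1)
    (hY : IsPGroup 3 (Subgroup.closure ({x, P * x * P⁻¹} : Set (V ≃ₗ[ZMod 2] V)))) :
    False := by
  obtain ⟨h3, hF⟩ := T1 x t v ht hinv htv hodd
  obtain ⟨⟨w1, hw1⟩, hcases, hne1, hne2, hne3⟩ := T1_struct x t v ht hinv htv hodd hx hv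
  set Fs := Submodule.span (ZMod 2) {v, x⁻¹ v} with hFs
  have hvm : v ∈ Fs := Submodule.subset_span (by simp)
  have ham : x v ∈ Fs := apply_mem_of_mem x Fs hF hvm
  -- 1. t v = v
  obtain ⟨w0, hw0⟩ := hvr
  have htv_fix : t v = v := by
    rw [← hw0, dl_apply_comm t t rfl]
    unfold dl
    rw [← LinearEquiv.mul_apply, ht, LinearEquiv.coe_one, id_eq, add_comm]
  -- 2. P v = v
  have hPt : P * t = t * P := by rw [htP, mul_assoc]
  have hPv : P v = v := by
    have h1 : P v = dl t (P w0) := by rw [← hw0, dl_apply_comm P t hPt]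
    rcases htv (P w0) with h | h
    · rw [h] at h1
      exact absurd ((map_eq_zero_iff P P.injective).mp h1) hv
    · rw [h] at h1; exact h1
  -- 3. x v + v = x (x v)
  have hb : x v + v = x (x v) := by
    have hm : dl x v ∈ Fs := hF v
    rcases hcases _ hm with h | h | h | h
    · exact absurd ((dl_eq_zero_iff x v).mp h).symm hne1
    · unfold dl at h
      have h' : x v = 0 := by
        have := congrArg (· + v) h
        simp only [add_assoc, ZModModule.add_self, add_zero] at this
        exact this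
      exact absurd ((map_eq_zero_iff x x.injective).mp h') hv
    · unfold dl at h
      have h' : v = 0 := by
        have := congrArg (x v + ·) h
        simp only [← add_assoc, ZModModule.add_self, zero_add] at this
        exact this
      exact absurd h' hv
    · exact h
  -- 4. t (x v) = x (x v)
  have hxinv : x⁻¹ = x * x := (eq_inv_of_mul_eq_one_left h3).symm
  have htx : t * x = x⁻¹ * t := by
    have : t * x * t * t = x⁻¹ * t := by rw [hinv]
    rw [mul_assoc (t * x), ht, mul_one] at this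
    exact this
  have hta : t (x v) = x (x v) := by
    rw [← LinearEquiv.mul_apply, htx, LinearEquiv.mul_apply, htv_fix, hxinv,
      LinearEquiv.mul_apply]
  -- 5.
  have hPP : ∀ u, P (P u) = t u := by
    intro u; rw [htP, LinearEquiv.mul_apply]
  -- 6. P (x v) ∉ Fs
  have ha' : P (x v) ∉ Fs := by
    intro hmem
    rcases hcases _ hmem with h | h | h | h
    · have h1 := (map_eq_zero_iff P P.injective).mp h
      exact hv ((map_eq_zero_iff x x.injective).mp h1)
    · have h1 : P (x v) = P v := by rw [h, hPv]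
      exact hne1 (P.injective h1).symm
    · have h1 : P (P (x v)) = x v := by rw [h, h]
      rw [hPP, hta] at h1
      exact hne3 h1.symm
    · have h1 : P (x (x v)) = x v := by
        rw [← hb, map_add, h, hPv, ← hb]
        have : x v + v + v = x v + (v + v) := by abel
        rw [this, ZModModule.add_self, add_zero]
      have h2 : P (P (x v)) = x v := by rw [h, h1]
      rw [hPP, hta] at h2
      exact hne3 h2.symm
  -- 7. the central element
  set x' := P * x * P⁻¹ with hx'
  set Y := Subgroup.closure ({x, x'} : Set (V ≃ₗ[ZMod 2] V)) with hYdef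
  have hxY : x ∈ Y := Subgroup.subset_closure (by simp)
  have hx'Y : x' ∈ Y := Subgroup.subset_closure (by simp)
  have : Finite (V ≃ₗ[ZMod 2] V) :=
    Finite.of_injective (fun g : V ≃ₗ[ZMod 2] V => (g : V → V)) DFunLike.coe_injective
  have : Nontrivial Y := ⟨⟨⟨x, hxY⟩, 1, fun h => hx (congrArg Subtype.val h)⟩⟩
  have hcn : Nontrivial (Subgroup.center Y) := hY.center_nontrivial
  obtain ⟨z, hz⟩ := exists_ne (1 : Subgroup.center Y)
  set zz : V ≃ₗ[ZMod 2] V := ((z : Y) : V ≃ₗ[ZMod 2] V) with hzz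
  have hzz1 : zz ≠ 1 := by
    intro h
    apply hz
    apply Subtype.ext
    apply Subtype.ext
    exact h
  have hzzY : zz ∈ Y := (z : Y).2
  have hcomm : ∀ g ∈ Y, zz * g = g * zz := by
    intro g hg
    have := Subgroup.mem_center_iff.mp z.2 ⟨g, hg⟩
    have h2 := congrArg (Subtype.val) this
    simp only [Subgroup.coe_mul] at h2
    exact h2.symm
  have hzx := hcomm x hxY
  have hzx' := hcomm x' hx'Y
  -- z2 = P⁻¹ zz P commutes with x
  set z2 := P⁻¹ * zz * P with hz2
  have hz2x : z2 * x = x * z2 := by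
    have h1 : P⁻¹ * (zz * x') * P = P⁻¹ * (x' * zz) * P := by rw [hzx']
    rw [hx'] at h1
    have e1 : P⁻¹ * (zz * (P * x * P⁻¹)) * P = P⁻¹ * zz * P * x := by group
    have e2 : P⁻¹ * (P * x * P⁻¹ * zz) * P = x * (P⁻¹ * zz * P) := by group
    rw [e1, e2] at h1
    exact h1
  have hz2v : z2 v = P⁻¹ (zz v) := by
    rw [hz2]
    simp only [LinearEquiv.mul_apply]
    rw [hPv]
  -- 9. zz v = v
  have hzv_mem : zz v ∈ Fs := by
    rw [← hw1, dl_apply_comm zz x hzx]
    exact hF _
  have hz2v_mem : P⁻¹ (zz v) ∈ Fs := by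
    rw [← hz2v, ← hw1, dl_apply_comm z2 x hz2x]
    exact hF _
  have hPinv : ∀ u, P (P⁻¹ u) = u := by
    intro u
    rw [← LinearEquiv.mul_apply, mul_inv_cancel, LinearEquiv.coe_one, id_eq]
  have hzv : zz v = v := by
    rcases hcases _ hz2v_mem with h | h | h | h
    · have h1 : zz v = 0 := by rw [← hPinv (zz v), h, map_zero]
      exact absurd ((map_eq_zero_iff zz zz.injective).mp h1) hv
    · rw [← hPinv (zz v), h, hPv]
    · have h1 : zz v = P (x v) := by rw [← hPinv (zz v), h]
      rw [h1] at hzv_mem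
      exact absurd hzv_mem ha'
    · have h1 : zz v = P (x v) + v := by
        rw [← hPinv (zz v), h, ← hb, map_add, hPv]
      rw [h1] at hzv_mem
      have h2 : P (x v) ∈ Fs := by
        have := Fs.add_mem hzv_mem hvm
        rw [add_assoc, ZModModule.add_self, add_zero] at this
        exact this
      exact absurd h2 ha'
  have hz2v' : z2 v = v := by
    rw [hz2v, hzv]
    conv_lhs => rw [← hPv]
    rw [← LinearEquiv.mul_apply, inv_mul_cancel, LinearEquiv.coe_one, id_eq]
  -- 10. fixed pointwise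
  have hzF := fixes_Fs x v zz hzx hzv hcases
  have hz2F := fixes_Fs x v z2 hz2x hz2v' hcases
  have hzPF : ∀ u ∈ Fs, zz (P u) = P u := by
    intro u hu
    have h1 := hz2F u hu
    rw [hz2] at h1
    simp only [LinearEquiv.mul_apply] at h1
    have h2 := congrArg P h1
    rw [hPinv] at h2
    exact h2
  -- 11. Y acts trivially modulo U
  set U : Submodule (ZMod 2) V := Fs ⊔ Fs.map (P : V →ₗ[ZMod 2] V) with hU
  have hYU : Y ≤ NU U := by
    rw [hYdef, Subgroup.closure_le]
    intro g hg
    simp only [Set.mem_insert_iff, Set.mem_singleton_iff] at hg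
    rcases hg with rfl | rfl
    · intro w
      exact (le_sup_left : Fs ≤ U) (hF w)
    · intro w
      have e : dl x' w = P (dl x (P⁻¹ w)) := by
        unfold dl
        rw [hx']
        simp only [LinearEquiv.mul_apply, map_add]
        rw [hPinv]
      rw [e]
      apply (le_sup_right : Fs.map (P : V →ₗ[ZMod 2] V) ≤ U)
      exact Submodule.mem_map.mpr ⟨_, hF _, rfl⟩
  -- 12.
  have hunip : ∀ w, dl zz (dl zz w) = 0 := by
    intro w
    have h1 : dl zz w ∈ U := hYU hzzY w
    obtain ⟨u1, hu1, u2', hu2', hsum⟩ := Submodule.mem_sup.mp h1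
    obtain ⟨u2, hu2, rfl⟩ := Submodule.mem_map.mp hu2'
    rw [dl_eq_zero_iff, ← hsum, map_add, hzF u1 hu1]
    congr 1
    exact hzPF u2 hu2
  -- 13.
  have hoddz : Odd (orderOf zz) := by
    obtain ⟨k, hk⟩ := hY ⟨zz, hzzY⟩
    have h1 : zz ^ 3 ^ k = 1 := by
      have := congrArg Subtype.val hk
      simpa using this
    have h2 : orderOf zz ∣ 3 ^ k := orderOf_dvd_of_pow_eq_one h1
    exact Odd.of_dvd_nat (Odd.pow (by decide)) h2
  exact hzz1 (unip zz hoddz hunip)

end Final

end Cfsg.Agent.Helper9.Cub
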