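import Mathlib
import Cfsg.Agent.Helper9.CubE
import Cfsg.Agent.Helper7.FStarComm
import Cfsg.Agent.S0044
import Cfsg.Agent.S0067

/-! Solvable `S ≤ GL(V)` over `𝔽₂` with `O₂(S) = 1`: the square of an element of order 4 is
not a transvection. -/

namespace Cfsg.Agent.Helper9.Cub

open Cfsg.Agent.Helper7 Cfsg.Agent.Helper14

variable {V : Type*} [AddCommGroup V] [Module (ZMod 2) V]

theorem main [Finite V] (S : Subgroup (V ≃ₗ[ZMod 2] V)) (hS : Group.IsSolvable ↥S)
    (hO2 : Cfsg.pCore 2 ↥S = ⊥) (P : V ≃ₗ[ZMod 2] V) (hPS : P ∈ S) (hP4 : orderOf P = 4)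
    (v : V) (hv : v ≠ 0) (htv : ∀ w, dl (P * P) w = 0 ∨ dl (P * P) w = v)
    (hvr : ∃ w0, dl (P * P) w0 = v) : False := by
  have : Finite (V ≃ₗ[ZMod 2] V) :=
    Finite.of_injective (fun g : V ≃ₗ[ZMod 2] V => (g : V → V)) DFunLike.coe_injective
  have : Fact (Nat.Prime 2) := ⟨Nat.prime_two⟩
  have : Fact (Nat.Prime 3) := ⟨Nat.prime_three⟩
  have := hS
  set t := P * P with ht_def
  have hP4' : P ^ 4 = 1 := by rw [← hP4]; exact pow_orderOf_eq_one P
  have ht : t * t = 1 := by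
    rw [ht_def, ← hP4']; simp only [pow_succ, pow_zero, one_mul, mul_assoc]
  have ht1 : t ≠ 1 := by
    intro h
    have : orderOf P ∣ 2 := orderOf_dvd_of_pow_eq_one (by rw [pow_two]; exact h)
    rw [hP4] at this
    exact absurd this (by decide)
  -- elements of S
  set tS : S := ⟨t, S.mul_mem hPS hPS⟩ with htS
  set PS : S := ⟨P, hPS⟩ with hPSdef
  have htS2 : tS * tS = 1 := Subtype.ext ht
  have htS1 : tS ≠ 1 := fun h => ht1 (congrArg Subtype.val h)
  have htSinv : tS⁻¹ = tS := inv_eq_of_mul_eq_one_right htS2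
  -- the Fitting subgroup
  set F := Cfsg.fittingSubgroup ↥S with hFdef
  have hFodd : (Nat.card F).Coprime 2 := fitting_coprime_of_pCore_eq_bot hO2
  have hCF : Subgroup.centralizer (F : Set ↥S) ≤ F := Cfsg.Agent.S0044.result
  have htF : tS ∉ F := by
    intro h
    have h1 : orderOf (⟨tS, h⟩ : F) ∣ Nat.card F := orderOf_dvd_natCard _
    have h2 : orderOf (⟨tS, h⟩ : F) = 2 := by
      apply orderOf_eq_prime
      · rw [pow_two]; exact Subtype.ext htS2
      · intro h'; exact htS1 (congrArg Subtype.val h')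
    rw [h2] at h1
    have := Nat.Coprime.eq_one_of_dvd hFodd.symm h1
    omega
  have htC : tS ∉ Subgroup.centralizer (F : Set ↥S) := fun h => htF (hCF h)
  rw [Subgroup.mem_centralizer_iff] at htC
  simp only [not_forall] at htC
  obtain ⟨f, hfF, hne⟩ := htC
  have hfF' : f ∈ F := hfF
  -- the inverted element
  set c : S := f⁻¹ * (tS * f * tS⁻¹) with hc
  have hcF : c ∈ F := F.mul_mem (F.inv_mem hfF')
    ((Cfsg.Agent.Helper7.fittingSubgroup_normal ↥S).conj_mem f hfF' tS)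
  have hc1 : c ≠ 1 := by
    intro h
    apply hne
    have h1 : tS * f * tS⁻¹ = f := by
      have := congrArg (f * ·) h
      simpa [hc, mul_assoc] using this
    have h2 := congrArg (· * tS) h1
    simpa [mul_assoc] using h2.symm
  have hcinv : tS * c * tS = c⁻¹ := by
    rw [hc, htSinv]
    have e2 : (f⁻¹ * (tS * f * tS))⁻¹ = tS⁻¹ * f⁻¹ * tS⁻¹ * f := by group
    rw [e2, htSinv]
    calc tS * (f⁻¹ * (tS * f * tS)) * tS = tS * f⁻¹ * tS * f * (tS * tS) := by group
      _ = tS * f⁻¹ * tS * f := by rw [htS2, mul_one]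
  -- pass to GL
  set x : V ≃ₗ[ZMod 2] V := (c : V ≃ₗ[ZMod 2] V) with hx
  have hx1 : x ≠ 1 := fun h => hc1 (Subtype.ext h)
  have hinv : t * x * t = x⁻¹ := by
    have := congrArg Subtype.val hcinv
    simpa using this
  have hodd : Odd (orderOf x) := by
    have h1 : orderOf x = orderOf (⟨c, hcF⟩ : F) := by
      rw [hx, Subgroup.orderOf_coe c]
      exact Subgroup.orderOf_coe (⟨c, hcF⟩ : F)
    have h2 : orderOf (⟨c, hcF⟩ : F) ∣ Nat.card F := orderOf_dvd_natCard _
    rw [h1]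
    have h3 : (orderOf (⟨c, hcF⟩ : F)).Coprime 2 := Nat.Coprime.coprime_dvd_left h2 hFodd
    exact Nat.coprime_two_right.mp h3 |> fun h => h
  -- order 3
  obtain ⟨h3, _⟩ := T1 x t v ht hinv htv hodd
  have hc3 : c ^ 3 = 1 := by
    apply Subtype.ext
    have : x ^ 3 = 1 := by rw [← h3, pow_succ, pow_two]
    simpa using this
  -- c lies in O_3(S)
  have hzp : IsPGroup 3 (Subgroup.zpowers c) := by
    rw [IsPGroup]
    intro g
    refine ⟨1, ?_⟩
    obtain ⟨g, hg⟩ := g
    obtain ⟨k, rfl⟩ := Subgroup.mem_zpowers_iff.mp hg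
    apply Subtype.ext
    simp only [pow_one, Subgroup.coe_pow, Subgroup.coe_one]
    rw [← zpow_natCast, ← zpow_mul, mul_comm, zpow_mul, zpow_natCast, hc3, one_zpow]
  have hzle : Subgroup.zpowers c ≤ F := (Subgroup.zpowers_le).mpr hcF
  have hsub : (Subgroup.zpowers c).IsSubnormal := by
    have : Group.IsNilpotent F := fittingSubgroup_isNilpotent
    have h1 : ((Subgroup.zpowers c).subgroupOf F).IsSubnormal :=
      Cfsg.Agent.S0067.isSubnormal_of_isNilpotent _ _ rfl
    have h2 := Subgroup.IsSubnormal.trans' h1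
      (Cfsg.Agent.Helper7.fittingSubgroup_normal ↥S).isSubnormal
    rwa [Subgroup.map_subgroupOf_eq_of_le hzle] at h2
  have hcR : c ∈ Cfsg.pCore 3 ↥S :=
    subnormal_pGroup_le_pCore hsub hzp (Subgroup.mem_zpowers c)
  -- the 3-group
  have hR3 : IsPGroup 3 ((Cfsg.pCore 3 ↥S).map S.subtype) := (pCore_isPGroup 3).map _
  have hY : IsPGroup 3 (Subgroup.closure ({x, P * x * P⁻¹} : Set (V ≃ₗ[ZMod 2] V))) := by
    apply hR3.to_le
    rw [Subgroup.closure_le]
    intro g hg
    simp only [Set.mem_insert_iff, Set.mem_singleton_iff] at hg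
    rcases hg with rfl | rfl
    · exact ⟨c, hcR, rfl⟩
    · refine ⟨PS * c * PS⁻¹, (Cfsg.pCore_normal 3 ↥S).conj_mem c hcR PS, ?_⟩
      simp [hPSdef, hx]
  exact final x t v P rfl ht hinv htv hv hvr hodd hx1 hY

end Cfsg.Agent.Helper9.Cub
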