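import Mathlib
import Cfsg.Agent.Helper9.CubF

/-! Conversion from the `LinearMap.range` form. -/

namespace Cfsg.Agent.Helper9.Cub

variable {V : Type*} [AddCommGroup V] [Module (ZMod 2) V]

theorem pigeon4 {α : Type*} (S : Set α) [Finite S] (h : Nat.card S < 4) (a b c d : α)
    (ha : a ∈ S) (hb : b ∈ S) (hc : c ∈ S) (hd : d ∈ S)
    (hab : a ≠ b) (hac : a ≠ c) (had : a ≠ d) (hbc : b ≠ c) (hbd : b ≠ d)
    (hcd : c ≠ d) : False := by
  classical
  have hsub : ((({a, b, c, d} : Finset α)) : Set α) ⊆ S := by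
    intro y hy
    simp only [Finset.coe_insert, Finset.coe_singleton, Set.mem_insert_iff,
      Set.mem_singleton_iff] at hy
    rcases hy with rfl | rfl | rfl | rfl <;> assumption
  have h1 := Set.ncard_le_ncard hsub (Set.toFinite S)
  rw [Set.ncard_coe_finset, ← Nat.card_coe_set_eq] at h1
  have h2 : ({a, b, c, d} : Finset α).card = 4 := by
    rw [Finset.card_insert_of_notMem, Finset.card_insert_of_notMem,
      Finset.card_insert_of_notMem, Finset.card_singleton]
    · simp [hcd]
    · simp [hbc, hbd]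
    · simp [hab, hac, had]
  omega

theorem range_small (t : V ≃ₗ[ZMod 2] V) (R : Submodule (ZMod 2) V) [Finite R]
    (hlt : Nat.card R < 4) (hmem : ∀ w, dl t w ∈ R) (w0 : V) (hw0 : dl t w0 ≠ 0) :
    ∀ w, dl t w = 0 ∨ dl t w = dl t w0 := by
  intro w
  by_contra hcon
  simp only [not_or] at hcon
  obtain ⟨h1, h2⟩ := hcon
  have hFin : Finite (R : Set V) := ‹Finite R›
  have hlt' : Nat.card (R : Set V) < 4 := hlt
  refine pigeon4 (R : Set V) hlt' 0 (dl t w0) (dl t w) (dl t w + dl t w0)
    R.zero_mem (hmem w0) (hmem w) (R.add_mem (hmem w) (hmem w0))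
    (Ne.symm hw0) (Ne.symm h1) ?_ (Ne.symm h2) ?_ ?_
  · intro h
    apply h2
    have := congrArg (· + dl t w0) h
    simp only [zero_add, add_assoc, ZModModule.add_self, add_zero] at this
    exact this.symm
  · intro h
    apply h1
    have := congrArg (· + dl t w0) h
    simp only [add_assoc, ZModModule.add_self, add_zero] at this
    exact this.symm
  · intro h
    apply hw0
    have := congrArg (dl t w + ·) h
    simp only [← add_assoc, ZModModule.add_self, zero_add] at this
    exact this.symm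

theorem sq_apply (P : V ≃ₗ[ZMod 2] V) (w : V) :
    ((((P : V →ₗ[ZMod 2] V) - LinearMap.id) ^ 2 : V →ₗ[ZMod 2] V) w) = dl (P * P) w := by
  rw [pow_two, Module.End.mul_apply]
  simp only [LinearMap.sub_apply, LinearMap.id_apply, LinearEquiv.coe_coe, map_sub]
  unfold dl
  rw [LinearEquiv.mul_apply]
  simp only [ZModModule.sub_eq_add]
  have : P (P w) + P w + (P w + w) = P (P w) + (P w + P w) + w := by abel
  rw [this, ZModModule.add_self, add_zero]

theorem main_range [Finite V] (S : Subgroup (V ≃ₗ[ZMod 2] V)) (hS : Group.IsSolvable ↥S)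
    (hO2 : Cfsg.pCore 2 ↥S = ⊥) (P : V ≃ₗ[ZMod 2] V) (hPS : P ∈ S) (hP4 : orderOf P = 4) :
    4 ≤ Nat.card ↥(LinearMap.range (((P : V →ₗ[ZMod 2] V) - LinearMap.id) ^ 2)) := by
  by_contra hlt
  rw [not_le] at hlt
  have hmem : ∀ w, dl (P * P) w ∈
      LinearMap.range (((P : V →ₗ[ZMod 2] V) - LinearMap.id) ^ 2) := by
    intro w
    exact ⟨w, sq_apply P w⟩
  have ht1 : P * P ≠ 1 := by
    intro h
    have : orderOf P ∣ 2 := orderOf_dvd_of_pow_eq_one (by rw [pow_two]; exact h)
    rw [hP4] at this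
    exact absurd this (by decide)
  have hex : ∃ w0, dl (P * P) w0 ≠ 0 := by
    by_contra hcon
    simp only [not_exists, not_not] at hcon
    apply ht1
    ext w
    rw [LinearEquiv.coe_one, id_eq]
    exact (dl_eq_zero_iff (P * P) w).mp (hcon w)
  obtain ⟨w0, hw0⟩ := hex
  have htv := range_small (P * P) _ hlt hmem w0 hw0
  exact main S hS hO2 P hPS hP4 (dl (P * P) w0) hw0 htv ⟨w0, rfl⟩

end Cfsg.Agent.Helper9.Cub
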