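import Mathlib
import Cfsg.Agent.Helper9.S4Endgame

set_option autoImplicit false
set_option linter.unusedSectionVars false
set_option linter.unusedVariables false
set_option linter.style.haveILetI false

/-! # `S₄`-section from a transvection inverting an odd-order automorphism -/

namespace Cfsg.Agent.Helper9.S4End

open Subgroup
open scoped IsMulCommutative commutatorElement
open Cfsg.Agent.Helper9.Off2 Cfsg.Agent.Helper9.S4Sec Cfsg.Agent.Helper14

section main2

variable {Y : Type*} [Group Y] [Finite Y] (V1 : Subgroup Y) [hV1n : V1.Normal]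

theorem involves_S4_of_inverting_aux (hV1 : ∀ v ∈ V1, v * v = 1) [IsMulCommutative V1]
    (U : Subgroup Y) [hUn : U.Normal] (hUdef : U = centralizer (V1 : Set Y)) (hU2 : IsPGroup 2 U)
    (b l0 : Y)
    (hβ2 : (MulAut.conjNormal b : MulAut V1) * MulAut.conjNormal b = 1)
    (hβ1 : (MulAut.conjNormal b : MulAut V1) ≠ 1)
    (hβcard : Nat.card V1 ≤ 2 * Nat.card (fixSub (zpowers (MulAut.conjNormal b : MulAut V1))))
    (hμ01 : (MulAut.conjNormal l0 : MulAut V1) ≠ 1)
    (hm_odd : Odd (orderOf (MulAut.conjNormal l0 : MulAut V1)))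
    (hinv0 : (MulAut.conjNormal b : MulAut V1) * MulAut.conjNormal l0 *
      (MulAut.conjNormal b : MulAut V1)⁻¹ =
      (MulAut.conjNormal l0 : MulAut V1)⁻¹) :
    Cfsg.Involves (Equiv.Perm (Fin 4)) Y := by
  classical
  set ρ : Y →* MulAut V1 := MulAut.conjNormal with hρ
  have hρapp : ∀ (g : Y) (v : V1), ((ρ g v : V1) : Y) = g * v * g⁻¹ := fun g v =>
    MulAut.conjNormal_apply g v
  have hinvV : ∀ v ∈ V1, v⁻¹ = v := fun v hv => inv_eq_of_mul_eq_one_left (hV1 v hv)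
  have hker : ∀ g : Y, ρ g = 1 ↔ g ∈ U := by
    intro g
    rw [hUdef, mem_centralizer_iff]
    constructor
    · intro hg v hv
      have h1 := hρapp g ⟨v, hv⟩
      rw [hg] at h1
      have h2 : v = g * v * g⁻¹ := h1
      calc v * g = (g * v * g⁻¹) * g := by rw [← h2]
        _ = g * v := by group
    · intro hg
      apply MulEquiv.ext
      intro v
      apply Subtype.ext
      rw [hρapp]
      have := hg v v.2
      show g * v * g⁻¹ = v
      rw [← this]; group
  have hV : ∀ v : V1, v * v = 1 := fun v => Subtype.ext (hV1 v v.2)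
  -- choice of `y0`
  have hm_ne : orderOf (ρ l0) ≠ 1 := fun h => hμ01 (orderOf_eq_one_iff.mp h)
  set q := (orderOf (ρ l0)).minFac with hqdef
  have hq : q.Prime := Nat.minFac_prime hm_ne
  have hqm : q ∣ orderOf (ρ l0) := Nat.minFac_dvd _
  have hqodd : Odd q := Odd.of_dvd_nat hm_odd hqm
  have hq2 : q ≠ 2 := fun h => by rw [h] at hqodd; exact absurd hqodd (by decide)
  have hqn : q ∣ orderOf l0 := hqm.trans (orderOf_map_dvd ρ l0)
  have hn0 : orderOf l0 ≠ 0 := (orderOf_pos l0).ne'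
  set y0 : Y := l0 ^ (orderOf l0 / q) with hy0def
  have hy0 : orderOf y0 = q := orderOf_pow_orderOf_div hn0 hqn
  set μ : MulAut V1 := ρ y0 with hμdef
  have hμpow : μ = (ρ l0) ^ (orderOf l0 / q) := by rw [hμdef, hy0def, map_pow]
  have hinv : ρ b * μ * (ρ b)⁻¹ = μ⁻¹ := by
    rw [hμpow, ← conj_pow, hinv0, inv_pow]
  have hy0U : y0 ∉ U := by
    intro hmem
    obtain ⟨j, hj⟩ := (IsPGroup.iff_orderOf.mp hU2) ⟨y0, hmem⟩
    rw [Subgroup.orderOf_mk, hy0] at hj
    have h2q : 2 ∣ q := by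
      rcases Nat.eq_zero_or_pos j with h0 | h0
      · rw [h0, pow_zero] at hj
        exact absurd hj hq.one_lt.ne'
      · rw [hj]; exact dvd_pow_self 2 (by omega)
    exact hq2 ((Nat.prime_dvd_prime_iff_eq Nat.prime_two hq).mp h2q).symm
  have hμ1 : μ ≠ 1 := fun h => hy0U ((hker y0).mp h)
  have hμord : orderOf μ = q := by
    have h1 : μ ^ q = 1 := by
      rw [hμdef, ← map_pow, ← hy0, pow_orderOf_eq_one, map_one]
    rcases (Nat.dvd_prime hq).mp (orderOf_dvd_of_pow_eq_one h1) with h | h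
    · exact absurd (orderOf_eq_one_iff.mp h) hμ1
    · exact h
  -- Lemma B
  obtain ⟨hcard4, -⟩ := card_fix_of_transvection hV hβ2 hβ1 hβcard hμ1 (hμord ▸ hqodd) hinv
  -- the subgroup `M = U ⟨y0⟩`
  set M : Subgroup Y := U ⊔ zpowers y0 with hMdef
  have hUM : U ≤ M := le_sup_left
  have hZM : zpowers y0 ≤ M := le_sup_right
  have hUcard : ∃ a : ℕ, Nat.card U = 2 ^ a := IsPGroup.iff_card.mp hU2
  obtain ⟨a, ha⟩ := hUcard
  have hZcard : Nat.card (zpowers y0) = q := by rw [Nat.card_zpowers, hy0]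
  have hcop : (Nat.card U).Coprime (Nat.card (zpowers y0)) := by
    rw [ha, hZcard]
    apply Nat.Coprime.pow_left
    rw [Nat.coprime_primes Nat.prime_two hq]; exact fun h => hq2 h.symm
  have hMcard : Nat.card M = 2 ^ a * q := by
    have h1 := Cfsg.Agent.Helper17.card_sup_mul_card_inf_of_normal U (zpowers y0)
    rw [(Subgroup.disjoint_of_coprime_natCard hcop).eq_bot, Subgroup.card_bot, mul_one, ha, hZcard] at h1
    exact h1
  have hMq : ¬ q ^ 2 ∣ Nat.card M := by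
    rw [hMcard]
    intro hdvd
    have h1 : (q ^ 2).Coprime (2 ^ a) := by
      apply Nat.Coprime.pow
      rw [Nat.coprime_primes hq Nat.prime_two]; exact hq2
    have h2 : q ^ 2 ∣ q := h1.dvd_of_dvd_mul_left hdvd
    have h3 := Nat.le_of_dvd hq.pos h2
    have h4 : q * 2 ≤ q ^ 2 := by rw [pow_two]; exact Nat.mul_le_mul_left q hq.two_le
    have := hq.pos
    omega
  -- `b` conjugates `y0` into `M`
  have hby0 : b * y0 * b⁻¹ ∈ M := by
    have h1 : b * y0 * b⁻¹ * y0 ∈ U := by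
      rw [← hker, map_mul, map_mul, map_mul, map_inv, hinv, inv_mul_cancel]
    have h2 : b * y0 * b⁻¹ = (b * y0 * b⁻¹ * y0) * y0⁻¹ := by group
    rw [h2]
    exact M.mul_mem (hUM h1) (M.inv_mem (hZM (mem_zpowers y0)))
  have hS1 : IsSylowIn q (zpowers y0) M := isSylowIn_of_card_prime hq _ M hZM hZcard hMq
  have hS2 : IsSylowIn q (zpowers (b * y0 * b⁻¹)) M := by
    apply isSylowIn_of_card_prime hq _ M _ _ hMq
    · rw [zpowers_le]; exact hby0
    · rw [Nat.card_zpowers]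
      have : b * y0 * b⁻¹ = MulAut.conj b y0 := by rw [MulAut.conj_apply]
      rw [this, MulEquiv.orderOf_eq, hy0]
  haveI : Fact q.Prime := ⟨hq⟩
  obtain ⟨g, hgM, hg⟩ := hS2.exists_conj hS1
  -- `n1 = g * b` normalizes `zpowers y0`
  set n1 : Y := g * b with hn1
  have hn1y : n1 * y0 * n1⁻¹ ∈ zpowers y0 := by
    rw [hg, mem_map_cj]
    have : g⁻¹ * (n1 * y0 * n1⁻¹) * g = b * y0 * b⁻¹ := by rw [hn1]; group
    rw [this]; exact mem_zpowers _
  have hn1N : n1 ∈ normalizer (zpowers y0 : Set Y) := by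
    apply Cfsg.Agent.Helper26.mem_normalizer_of_map_conj_le
    rintro _ ⟨z, hz, rfl⟩
    obtain ⟨i, rfl⟩ := hz
    have : (MulAut.conj n1).toMonoidHom (y0 ^ i) = (n1 * y0 * n1⁻¹) ^ i := by
      simp only [MulEquiv.coe_toMonoidHom, MulAut.conj_apply]
      rw [conj_zpow]
    rw [this]
    exact zpow_mem hn1y i
  -- `ρ g ∈ zpowers μ`
  have hρg : ρ g ∈ zpowers μ := by
    have h1 : ρ g ∈ M.map ρ := mem_map_of_mem ρ hgM
    rw [hMdef, Subgroup.map_sup] at h1
    have h2 : U.map ρ = ⊥ := by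
      rw [eq_bot_iff]
      rintro _ ⟨u, hu, rfl⟩
      rw [mem_bot, hker]; exact hu
    rw [h2, bot_sup_eq, MonoidHom.map_zpowers] at h1
    exact h1
  have hinv1 : ρ n1 * μ * (ρ n1)⁻¹ = μ⁻¹ := by
    obtain ⟨i, hi⟩ := hρg
    have hc : ρ g * μ⁻¹ * (ρ g)⁻¹ = μ⁻¹ := by
      rw [← hi]
      have : Commute (μ ^ i) μ⁻¹ := ((Commute.refl μ).zpow_left i).inv_right
      calc μ ^ i * μ⁻¹ * (μ ^ i)⁻¹ = μ⁻¹ * μ ^ i * (μ ^ i)⁻¹ := by rw [this.eq]
        _ = μ⁻¹ := by group
    calc ρ n1 * μ * (ρ n1)⁻¹ = ρ g * (ρ b * μ * (ρ b)⁻¹) * (ρ g)⁻¹ := by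
          rw [hn1, map_mul, mul_inv_rev]; simp only [mul_assoc]
      _ = μ⁻¹ := by rw [hinv, hc]
  -- the 2-part of `n1`
  obtain ⟨k, r, hr, hk⟩ := exists_two_part n1
  set b' : Y := n1 ^ r with hb'
  have hb'N : b' ∈ normalizer (zpowers y0 : Set Y) := pow_mem hn1N r
  have hinv' : ρ b' * μ * (ρ b')⁻¹ = μ⁻¹ := by
    rw [hb', map_pow]; exact inverts_pow_odd hinv1 hr
  obtain ⟨v, hv⟩ := exists_not_mem_fix_of_inverts hV hμ1 (hμord ▸ hqodd) hinv'
  -- the subgroup `F`
  set F : Subgroup Y := (fixSub (zpowers μ)).map V1.subtype with hF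
  have hFmem : ∀ x : Y, x ∈ F ↔ x ∈ V1 ∧ y0 * x * y0⁻¹ = x := by
    intro x
    constructor
    · rintro ⟨w, hw, rfl⟩
      refine ⟨w.2, ?_⟩
      have h1 := mem_fixSub_zpowers.mp hw
      have h2 := congrArg Subtype.val h1
      rw [hμdef, hρapp] at h2
      exact h2
    · rintro ⟨hx, hxy⟩
      refine ⟨⟨x, hx⟩, ?_, rfl⟩
      rw [SetLike.mem_coe, mem_fixSub_zpowers]
      apply Subtype.ext
      rw [hμdef, hρapp]
      exact hxy
  have hFcard : Nat.card F = Nat.card (fixSub (zpowers μ)) :=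
    Subgroup.card_map_of_injective V1.subtype_injective
  refine involves_S4 V1 hV1 y0 q hq hq2 hy0 F ?_ ?_ ?_ ?_ b' hb'N k hk ?_
  · intro x hx; exact ((hFmem x).mp hx).1
  · intro f hf
    have := ((hFmem f).mp hf).2
    calc f * y0 = (y0 * f * y0⁻¹) * y0 := by rw [this]
      _ = y0 * f := by group
  · intro x hx hxy
    rw [hFmem]
    refine ⟨hx, ?_⟩
    rw [← hxy]; group
  · rw [hFcard]; exact hcard4
  · refine ⟨v, v.2, ?_⟩
    intro hmem
    apply hv
    obtain ⟨w, hw, hwe⟩ := hmem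
    have : w = ρ b' v * v := by
      apply Subtype.ext
      rw [Subgroup.coe_mul, hρapp]
      have h1 : V1.subtype w = (w : Y) := rfl
      rw [← h1, hwe, hinvV v v.2]
    rw [← this]; exact hw

end main2

end Cfsg.Agent.Helper9.S4End
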