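import Mathlib

set_option autoImplicit false
set_option linter.unusedSectionVars false
set_option linter.unusedVariables false

/-! # Linear algebra of two transvections on an elementary abelian `p`-group (additive form)

`M` is an additive commutative group of exponent `p`, a group `Γ` acts through
`ρ : Γ →* AddMonoid.End M`.  -/

namespace Cfsg.Agent.Helper9.TransvLin

variable {M : Type*} [AddCommGroup M] {Γ : Type*} [Group Γ] (ρ : Γ →* AddMonoid.End M)

theorem mul_apply (g h : Γ) (x : M) : ρ (g * h) x = ρ g (ρ h x) := by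
  rw [map_mul]; rfl

theorem one_apply (x : M) : ρ 1 x = x := by
  rw [map_one]; rfl

theorem inv_apply_self (g : Γ) (x : M) : ρ g⁻¹ (ρ g x) = x := by
  rw [← mul_apply, inv_mul_cancel, one_apply]

theorem apply_inv_self (g : Γ) (x : M) : ρ g (ρ g⁻¹ x) = x := by
  rw [← mul_apply, mul_inv_cancel, one_apply]

/-- scalars congruent mod `p` act equally -/
theorem zsmul_congr {p : ℕ} (hM : ∀ x : M, p • x = 0) {k k' : ℤ} (h : k ≡ k' [ZMOD p]) (x : M) :
    k • x = k' • x := by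
  obtain ⟨t, ht⟩ := h.symm.dvd
  have h1 : k = k' + t * (p : ℤ) := by rw [mul_comm]; linarith
  have h2 : ((p : ℤ)) • x = 0 := by
    rw [natCast_zsmul]; exact hM x
  rw [h1, add_zsmul, mul_zsmul, h2, zsmul_zero, add_zero]

theorem pow_apply_transv (g : Γ) (c x : M) (n : ℤ) (hc : ρ g c = c) (hx : ρ g x = x + n • c)
    (k : ℕ) : ρ (g ^ k) x = x + ((k : ℤ) * n) • c := by
  induction k with
  | zero => simp
  | succ k ih =>
    rw [pow_succ', mul_apply, ih, map_add, map_zsmul, hx, hc]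
    push_cast
    module

theorem pow_apply_fixed (g : Γ) (x : M) (hx : ρ g x = x) (k : ℕ) : ρ (g ^ k) x = x := by
  induction k with
  | zero => simp
  | succ k ih => rw [pow_succ', mul_apply, ih, hx]

/-! ### The chain stabilizer -/

/-- elements stabilizing the chain `M ≥ M1 ≥ M2 ≥ 0` -/
def chainStab (M1 M2 : AddSubgroup M) (h21 : M2 ≤ M1) : Subgroup Γ where
  carrier := {g | (∀ x, ρ g x - x ∈ M1) ∧ (∀ x ∈ M1, ρ g x - x ∈ M2) ∧ (∀ x ∈ M2, ρ g x = x)}
  one_mem' := by
    refine ⟨fun x => ?_, fun x _ => ?_, fun x _ => one_apply ρ x⟩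
    · rw [one_apply, sub_self]; exact M1.zero_mem
    · rw [one_apply, sub_self]; exact M2.zero_mem
  mul_mem' := by
    rintro g h ⟨hg0, hg1, hg2⟩ ⟨hh0, hh1, hh2⟩
    refine ⟨fun x => ?_, fun x hx => ?_, fun x hx => ?_⟩
    · rw [mul_apply]
      have : ρ g (ρ h x) - x = (ρ g (ρ h x) - ρ h x) + (ρ h x - x) := by abel
      rw [this]; exact M1.add_mem (hg0 _) (hh0 _)
    · rw [mul_apply]
      have h1 : ρ h x ∈ M1 := by
        have : ρ h x = (ρ h x - x) + x := by abel
        rw [this]; exact M1.add_mem (h21 (hh1 x hx)) hx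
      have : ρ g (ρ h x) - x = (ρ g (ρ h x) - ρ h x) + (ρ h x - x) := by abel
      rw [this]; exact M2.add_mem (hg1 _ h1) (hh1 x hx)
    · rw [mul_apply, hh2 x hx, hg2 x hx]
  inv_mem' := by
    rintro g ⟨hg0, hg1, hg2⟩
    refine ⟨fun x => ?_, fun x hx => ?_, fun x hx => ?_⟩
    · have h1 := hg0 (ρ g⁻¹ x)
      rw [apply_inv_self] at h1
      have : ρ g⁻¹ x - x = -(x - ρ g⁻¹ x) := by abel
      rw [this]; exact M1.neg_mem h1
    · have h0 := hg0 (ρ g⁻¹ x)
      rw [apply_inv_self] at h0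
      have hy : ρ g⁻¹ x ∈ M1 := by
        have : ρ g⁻¹ x = x - (x - ρ g⁻¹ x) := by abel
        rw [this]; exact M1.sub_mem hx h0
      have h1 := hg1 _ hy
      rw [apply_inv_self] at h1
      have : ρ g⁻¹ x - x = -(x - ρ g⁻¹ x) := by abel
      rw [this]; exact M2.neg_mem h1
    · have h1 := hg2 x hx
      calc ρ g⁻¹ x = ρ g⁻¹ (ρ g x) := by rw [h1]
        _ = x := inv_apply_self ρ g x

theorem mem_chainStab {M1 M2 : AddSubgroup M} {h21 : M2 ≤ M1} {g : Γ} :
    g ∈ chainStab ρ M1 M2 h21 ↔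
      (∀ x, ρ g x - x ∈ M1) ∧ (∀ x ∈ M1, ρ g x - x ∈ M2) ∧ (∀ x ∈ M2, ρ g x = x) := Iff.rfl

/-- one step: trivial on `Ma/Mb` and `Mb/Mc` implies `p`-th power trivial on `Ma/Mc` -/
theorem pow_step {p : ℕ} (hM : ∀ x : M, p • x = 0) (g : Γ) (Ma Mb Mc : AddSubgroup M)
    (hab : ∀ x ∈ Ma, ρ g x - x ∈ Mb) (hbc : ∀ x ∈ Mb, ρ g x - x ∈ Mc)
    (hc : ∀ x ∈ Mc, ρ g x ∈ Mc) (x : M) (hx : x ∈ Ma) : ρ (g ^ p) x - x ∈ Mc := by
  have key : ∀ k : ℕ, ρ (g ^ k) x - x - k • (ρ g x - x) ∈ Mc := by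
    intro k
    induction k with
    | zero => simp
    | succ k ih =>
      rw [pow_succ', mul_apply]
      set x1 := ρ g x - x with hx1
      set v := ρ (g ^ k) x - x - k • x1 with hv
      have e1 : ρ (g ^ k) x = x + k • x1 + v := by rw [hv]; abel
      have hx1b : x1 ∈ Mb := hab x hx
      have e2 : ρ g (ρ (g ^ k) x) - x - (k + 1) • x1 = k • (ρ g x1 - x1) + ρ g v := by
        rw [e1, map_add, map_add, map_nsmul]
        have : ρ g x = x1 + x := by rw [hx1]; abel
        rw [this]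
        simp only [nsmul_sub, succ_nsmul]
        abel
      rw [e2]
      exact Mc.add_mem (Mc.nsmul_mem (hbc x1 hx1b) k) (hc v ih)
  have h1 := key p
  rw [hM, sub_zero] at h1
  exact h1

/-- elements of the chain stabilizer have `p²`-th power acting trivially -/
theorem pow_sq_apply_of_mem_chainStab {p : ℕ} (hM : ∀ x : M, p • x = 0)
    {M1 M2 : AddSubgroup M} {h21 : M2 ≤ M1} {g : Γ} (hg : g ∈ chainStab ρ M1 M2 h21) (x : M) :
    ρ (g ^ (p * p)) x = x := by
  obtain ⟨hg0, hg1, hg2⟩ := hg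
  have h1 : ∀ x, ρ (g ^ p) x - x ∈ M2 := fun x =>
    pow_step ρ hM g ⊤ M1 M2 (fun x _ => hg0 x) hg1 (fun x hx => by rw [hg2 x hx]; exact hx) x
      (AddSubgroup.mem_top x)
  have h2 : ∀ x ∈ M2, ρ (g ^ p) x = x := fun x hx => pow_apply_fixed ρ g x (hg2 x hx) p
  have h3 := pow_step ρ hM (g ^ p) ⊤ M2 ⊥ (fun x _ => h1 x)
    (fun x hx => by rw [h2 x hx, sub_self]; exact AddSubgroup.zero_mem _)
    (fun x hx => by
      rw [AddSubgroup.mem_bot] at hx
      rw [hx, map_zero]; exact AddSubgroup.zero_mem _) x (AddSubgroup.mem_top x)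
  rw [AddSubgroup.mem_bot, sub_eq_zero, ← pow_mul] at h3
  exact h3


/-! ### Two transvections -/

theorem exists_mul_modEq {p : ℕ} [hp : Fact p.Prime] (α : ℤ) (hα : ¬ (p : ℤ) ∣ α) (r : ℤ) :
    ∃ i : ℕ, (i : ℤ) * α ≡ r [ZMOD p] := by
  have h0 : ((α : ℤ) : ZMod p) ≠ 0 := by
    rw [Ne, ZMod.intCast_zmod_eq_zero_iff_dvd]; exact hα
  refine ⟨(((r : ZMod p)) * ((α : ℤ) : ZMod p)⁻¹).val, ?_⟩
  rw [← ZMod.intCast_eq_intCast_iff]
  push_cast
  rw [ZMod.natCast_zmod_val, mul_assoc, inv_mul_cancel₀ h0, mul_one]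

section two

variable {p : ℕ} (hM : ∀ x : M, p • x = 0) (a b : Γ) (c d : M)
  (hA : ∀ x, ∃ n : ℤ, ρ a x = x + n • c) (hB : ∀ x, ∃ m : ℤ, ρ b x = x + m • d)
  (hAc : ρ a c = c) (hBd : ρ b d = d)

include hM hA hB hAc hBd in
/-- degenerate position: the group generated is unipotent -/
theorem pow_sq_apply_of_fix (hAd : ρ a d = d) (g : Γ) (hg : g ∈ Subgroup.closure {a, b}) (x : M) :
    ρ (g ^ (p * p)) x = x := by
  have h21 : AddSubgroup.zmultiples d ≤ AddSubgroup.closure {c, d} :=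
    AddSubgroup.zmultiples_le_of_mem (AddSubgroup.subset_closure (by simp))
  have hcl : Subgroup.closure {a, b} ≤
      chainStab ρ (AddSubgroup.closure {c, d}) (AddSubgroup.zmultiples d) h21 := by
    rw [Subgroup.closure_le]
    have hcM : c ∈ AddSubgroup.closure {c, d} := AddSubgroup.subset_closure (by simp)
    have hdM : d ∈ AddSubgroup.closure {c, d} := AddSubgroup.subset_closure (by simp)
    rintro g (rfl | rfl)
    · refine ⟨fun x => ?_, fun x hx => ?_, fun x hx => ?_⟩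
      · obtain ⟨n, hn⟩ := hA x
        rw [hn, add_sub_cancel_left]
        exact AddSubgroup.zsmul_mem _ hcM n
      · rw [AddSubgroup.mem_closure_pair] at hx
        obtain ⟨s, t, rfl⟩ := hx
        rw [map_add, map_zsmul, map_zsmul, hAc, hAd, sub_self]
        exact AddSubgroup.zero_mem _
      · rw [AddSubgroup.mem_zmultiples_iff] at hx
        obtain ⟨t, rfl⟩ := hx
        rw [map_zsmul, hAd]
    · refine ⟨fun x => ?_, fun x hx => ?_, fun x hx => ?_⟩
      · obtain ⟨n, hn⟩ := hB x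
        rw [hn, add_sub_cancel_left]
        exact AddSubgroup.zsmul_mem _ hdM n
      · obtain ⟨n, hn⟩ := hB x
        rw [hn, add_sub_cancel_left]
        exact AddSubgroup.zsmul_mem _ (AddSubgroup.mem_zmultiples d) n
      · rw [AddSubgroup.mem_zmultiples_iff] at hx
        obtain ⟨t, rfl⟩ := hx
        rw [map_zsmul, hBd]
  exact pow_sq_apply_of_mem_chainStab ρ hM (hcl hg) x

include hM hA hB hAc hBd in
/-- general position: an element acting as `-1` on `c`, commuting with `a` -/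
theorem exists_neg_one [hp : Fact p.Prime] (hAd : ρ a d ≠ d) (hBc : ρ b c ≠ c) :
    ∃ z : Γ, ρ z c = -c ∧ ∀ x, ρ z (ρ a x) = ρ a (ρ z x) := by
  obtain ⟨α, hα⟩ := hA d
  obtain ⟨β, hβ⟩ := hB c
  have hαp : ¬ (p : ℤ) ∣ α := by
    intro hdvd
    apply hAd
    have : α ≡ 0 [ZMOD p] := (Int.modEq_zero_iff_dvd).mpr hdvd
    rw [hα, zsmul_congr hM this, zero_zsmul, add_zero]
  have hβp : ¬ (p : ℤ) ∣ β := by
    intro hdvd
    apply hBc
    have : β ≡ 0 [ZMOD p] := (Int.modEq_zero_iff_dvd).mpr hdvd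
    rw [hβ, zsmul_congr hM this, zero_zsmul, add_zero]
  obtain ⟨i, hi⟩ := exists_mul_modEq α hαp 1
  obtain ⟨j, hj⟩ := exists_mul_modEq β hβp (-1)
  set u : Γ := a ^ i with hu
  set l : Γ := b ^ j with hl
  have hU : ∀ x n, ρ a x = x + n • c → ρ u x = x + ((i : ℤ) * n) • c := fun x n hx =>
    pow_apply_transv ρ a c x n hAc hx i
  have hL : ∀ x m, ρ b x = x + m • d → ρ l x = x + ((j : ℤ) * m) • d := fun x m hx =>
    pow_apply_transv ρ b d x m hBd hx j
  have hUc : ρ u c = c := pow_apply_fixed ρ a c hAc i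
  have hLd : ρ l d = d := pow_apply_fixed ρ b d hBd j
  have hUd : ρ u d = d + c := by
    rw [hU d α hα, zsmul_congr hM hi, one_zsmul]
  have hLc : ρ l c = c - d := by
    rw [hL c β hβ, zsmul_congr hM hj, neg_one_zsmul, sub_eq_add_neg]
  set w : Γ := u * l * u with hw
  have hwc : ρ w c = -d := by
    rw [hw, mul_apply, mul_apply, hUc, hLc, map_sub, hUc, hUd]; abel
  have hwd : ρ w d = c := by
    rw [hw, mul_apply, mul_apply, hUd, map_add, hLd, hLc, map_add, map_sub, hUd, hUc]; abel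
  set z : Γ := w * w with hz
  have hzc : ρ z c = -c := by
    rw [hz, mul_apply, hwc, map_neg, hwd]
  have hzd : ρ z d = -d := by
    rw [hz, mul_apply, hwd, hwc]
  -- fixed vectors
  have hfix : ∀ y, ρ a y = y → ρ b y = y → ρ z y = y := by
    intro y hay hby
    have h1 : ρ u y = y := pow_apply_fixed ρ a y hay i
    have h2 : ρ l y = y := pow_apply_fixed ρ b y hby j
    have h3 : ρ w y = y := by rw [hw, mul_apply, mul_apply, h1, h2, h1]
    rw [hz, mul_apply, h3, h3]
  -- decomposition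
  have hdec : ∀ x, ∃ (y : M) (s t : ℤ), ρ a y = y ∧ ρ b y = y ∧ x = y + s • c + t • d := by
    intro x
    obtain ⟨n, hn⟩ := hA x
    obtain ⟨m, hm⟩ := hB x
    refine ⟨x - (-((j : ℤ) * m)) • c - ((i : ℤ) * n) • d, -((j : ℤ) * m), (i : ℤ) * n, ?_, ?_, by abel⟩
    · rw [map_sub, map_sub, map_zsmul, map_zsmul, hAc, hα, hn]
      have e1 : (n - (i : ℤ) * n * α) • c = 0 := by
        have : n - (i : ℤ) * n * α ≡ 0 [ZMOD p] := by
          have h1 : (i : ℤ) * n * α = n * ((i : ℤ) * α) := by ring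
          rw [h1]
          calc n - n * ((i : ℤ) * α) ≡ n - n * 1 [ZMOD p] := (Int.ModEq.refl n).sub ((Int.ModEq.refl n).mul hi)
            _ = 0 := by ring
        rw [zsmul_congr hM this, zero_zsmul]
      have e2 : x + n • c - (-((j : ℤ) * m)) • c - ((i : ℤ) * n) • (d + α • c) =
          (x - (-((j : ℤ) * m)) • c - ((i : ℤ) * n) • d) + (n - (i : ℤ) * n * α) • c := by
        module
      rw [e2, e1, add_zero]
    · rw [map_sub, map_sub, map_zsmul, map_zsmul, hBd, hβ, hm]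
      have e1 : (m + (j : ℤ) * m * β) • d = 0 := by
        have : m + (j : ℤ) * m * β ≡ 0 [ZMOD p] := by
          have h1 : (j : ℤ) * m * β = m * ((j : ℤ) * β) := by ring
          rw [h1]
          calc m + m * ((j : ℤ) * β) ≡ m + m * (-1) [ZMOD p] := (Int.ModEq.refl m).add ((Int.ModEq.refl m).mul hj)
            _ = 0 := by ring
        rw [zsmul_congr hM this, zero_zsmul]
      have e2 : x + m • d - (-((j : ℤ) * m)) • (c + β • d) - ((i : ℤ) * n) • d =
          (x - (-((j : ℤ) * m)) • c - ((i : ℤ) * n) • d) + (m + (j : ℤ) * m * β) • d := by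
        module
      rw [e2, e1, add_zero]
  refine ⟨z, hzc, ?_⟩
  intro x
  obtain ⟨y, s, t, hay, hby, rfl⟩ := hdec x
  have hzy := hfix y hay hby
  simp only [map_add, map_zsmul, hAc, hα, hay, hzc, hzd, hzy, map_neg]
  module

end two

end Cfsg.Agent.Helper9.TransvLin
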