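import Mathlib
import Cfsg.Agent.Helper9.TransvLin
import Cfsg.Agent.Helper9.S4Transv
import Cfsg.Agent.Helper16.BaerSuzuki
import Cfsg.Agent.Helper15.Sidki
import Cfsg.Agent.Helper21.ExpSix
import Cfsg.Agent.Lead.FrattiniFaithful
import Cfsg.Agent.Helper1.PGroup
import Cfsg.Agent.Helper14.PCore

set_option autoImplicit false
set_option linter.unusedSectionVars false
set_option linter.unusedVariables false
set_option linter.style.haveILetI false

/-! # A cyclic subgroup normalized by `O_p(K)` lies in `O_p(K)` when `C_K(O_p(K)) ≤ O_p(K)`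
(`p` odd, or `K` is `S₄`-free) -/

namespace Cfsg.Agent.Helper9.CycN

open Subgroup
open scoped IsMulCommutative commutatorElement

/-! ### The conjugation action on an abelian normal subgroup, additively -/

section bridge

variable {Y : Type*} [Group Y] (V : Subgroup Y) [hVn : V.Normal] [IsMulCommutative V]

/-- conjugation action of `Y` on the abelian normal subgroup `V`, written additively -/
noncomputable def conjEnd : Y →* AddMonoid.End (Additive V) where
  toFun g := MonoidHom.toAdditive ((MulAut.conjNormal g : MulAut V).toMonoidHom)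
  map_one' := by
    apply AddMonoidHom.ext
    intro x
    show Additive.ofMul ((MulAut.conjNormal (1 : Y) : MulAut V) x.toMul) = x
    rw [map_one]; rfl
  map_mul' g h := by
    apply AddMonoidHom.ext
    intro x
    show Additive.ofMul ((MulAut.conjNormal (g * h) : MulAut V) x.toMul) =
      Additive.ofMul ((MulAut.conjNormal g : MulAut V)
        ((MulAut.conjNormal h : MulAut V) x.toMul))
    rw [map_mul]; rfl

theorem conjEnd_apply (g : Y) (x : Additive V) :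
    conjEnd V g x = Additive.ofMul ((MulAut.conjNormal g : MulAut V) x.toMul) := rfl

theorem coe_conjEnd_apply (g : Y) (x : V) :
    (((conjEnd V g (Additive.ofMul x)).toMul : V) : Y) = g * x * g⁻¹ :=
  MulAut.conjNormal_apply g x

theorem conjEnd_eq_iff (g : Y) (x y : V) :
    conjEnd V g (Additive.ofMul x) = Additive.ofMul y ↔ g * x * g⁻¹ = y := by
  constructor
  · intro h
    rw [← coe_conjEnd_apply, h]; rfl
  · intro h
    apply Additive.toMul.injective
    apply Subtype.ext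
    rw [coe_conjEnd_apply, h]; rfl

theorem nsmul_eq_zero_of_exp {p : ℕ} (hVp : ∀ x ∈ V, x ^ p = 1) (X : Additive V) : p • X = 0 := by
  apply Additive.toMul.injective
  rw [toMul_nsmul, toMul_zero]
  apply Subtype.ext
  rw [Subgroup.coe_pow, Subgroup.coe_one]
  exact hVp _ (X.toMul).2

theorem tv_additive (a : Y) (c : V)
    (h : ∀ x ∈ V, ∃ n : ℤ, a * x * a⁻¹ = (c : Y) ^ n * x) (X : Additive V) :
    ∃ n : ℤ, conjEnd V a X = X + n • Additive.ofMul c := by
  obtain ⟨n, hn⟩ := h (X.toMul : V) (X.toMul).2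
  refine ⟨n, ?_⟩
  apply Additive.toMul.injective
  apply Subtype.ext
  rw [toMul_add, toMul_zsmul, toMul_ofMul, mul_comm, Subgroup.coe_mul, Subgroup.coe_zpow]
  rw [← hn]
  exact coe_conjEnd_apply V a X.toMul

end bridge


section grp

variable {Y : Type*} [Group Y] (V : Subgroup Y) [hVn : V.Normal] [IsMulCommutative V]
  {p : ℕ} (hVp : ∀ x ∈ V, x ^ p = 1) (a b : Y) (c d : V)
  (hTa : ∀ x ∈ V, ∃ n : ℤ, a * x * a⁻¹ = (c : Y) ^ n * x)
  (hTb : ∀ x ∈ V, ∃ n : ℤ, b * x * b⁻¹ = (d : Y) ^ n * x)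
  (hac : a * c * a⁻¹ = c) (hbd : b * d * b⁻¹ = d)

include hVp hTa hTb hac hbd in
/-- degenerate position of two transvections: the group they generate is unipotent on `V` -/
theorem pow_sq_centralizes_of_fix (hdeg : a * d * a⁻¹ = d) (g : Y) (hg : g ∈ closure {a, b})
    (x : Y) (hx : x ∈ V) : g ^ (p * p) * x * (g ^ (p * p))⁻¹ = x := by
  have := TransvLin.pow_sq_apply_of_fix (conjEnd V) (nsmul_eq_zero_of_exp V hVp) a b
    (Additive.ofMul c) (Additive.ofMul d) (tv_additive V a c hTa) (tv_additive V b d hTb)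
    ((conjEnd_eq_iff V a c c).2 hac) ((conjEnd_eq_iff V b d d).2 hbd)
    ((conjEnd_eq_iff V a d d).2 hdeg) g hg (Additive.ofMul ⟨x, hx⟩)
  exact (conjEnd_eq_iff V _ ⟨x, hx⟩ ⟨x, hx⟩).1 this

include hVp hTa hTb hac hbd in
/-- general position: an element inverting `c` and commuting with `a` modulo `C_Y(V)` -/
theorem exists_inverting [Fact p.Prime] (h1 : a * d * a⁻¹ ≠ d) (h2 : b * c * b⁻¹ ≠ c) :
    ∃ z : Y, z * c * z⁻¹ = (c : Y)⁻¹ ∧
      ∀ x ∈ V, (z * a * z⁻¹ * a⁻¹) * x * (z * a * z⁻¹ * a⁻¹)⁻¹ = x := by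
  obtain ⟨z, hz1, hz2⟩ := TransvLin.exists_neg_one (conjEnd V) (nsmul_eq_zero_of_exp V hVp) a b
    (Additive.ofMul c) (Additive.ofMul d) (tv_additive V a c hTa) (tv_additive V b d hTb)
    ((conjEnd_eq_iff V a c c).2 hac) ((conjEnd_eq_iff V b d d).2 hbd)
    (fun h => h1 ((conjEnd_eq_iff V a d d).1 h)) (fun h => h2 ((conjEnd_eq_iff V b c c).1 h))
  refine ⟨z, ?_, ?_⟩
  · rw [← ofMul_inv] at hz1
    have := (conjEnd_eq_iff V z c c⁻¹).1 hz1
    rw [this, Subgroup.coe_inv]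
  · intro x hx
    apply (conjEnd_eq_iff V _ ⟨x, hx⟩ ⟨x, hx⟩).1
    rw [TransvLin.mul_apply, TransvLin.mul_apply, TransvLin.mul_apply, hz2,
      TransvLin.apply_inv_self, TransvLin.apply_inv_self]

end grp

/-! ### The `p`-th power of `r * a` -/

section pow

variable {Y : Type*} [Group Y] (V : Subgroup Y)

theorem mul_pow_transv (hVc : ∀ x ∈ V, ∀ y ∈ V, x * y = y * x) {p : ℕ} (hpodd : Odd p)
    (hVp : ∀ x ∈ V, x ^ p = 1) (a r : Y) (hc : a ^ p ∈ V) (hr : r ∈ V) (n : ℤ)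
    (h : a * r * a⁻¹ = (a ^ p) ^ n * r) : (r * a) ^ p = a ^ p := by
  set c : Y := a ^ p with hcdef
  have hca : Commute a c := (Commute.refl a).pow_right p
  have hcz : ∀ e : ℤ, Commute a (c ^ e) := fun e => hca.zpow_right e
  have hcV : ∀ e : ℤ, c ^ e ∈ V := fun e => V.zpow_mem hc e
  -- `a^k r = c^(k n) r a^k`
  have hak : ∀ k : ℕ, a ^ k * r = c ^ ((k : ℤ) * n) * r * a ^ k := by
    intro k
    induction k with
    | zero => simp
    | succ k ih =>
      have e1 : a * r = c ^ n * r * a := by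
        calc a * r = (a * r * a⁻¹) * a := by group
          _ = c ^ n * r * a := by rw [h]
      calc a ^ (k + 1) * r = a ^ k * (a * r) := by rw [pow_succ, mul_assoc]
        _ = a ^ k * (c ^ n * r * a) := by rw [e1]
        _ = c ^ n * (a ^ k * r) * a := by
          have : Commute (a ^ k) (c ^ n) := (hcz n).pow_left k
          rw [mul_assoc (c ^ n), ← mul_assoc (a ^ k), this.eq]; simp only [mul_assoc]
        _ = c ^ n * (c ^ ((k : ℤ) * n) * r * a ^ k) * a := by rw [ih]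
        _ = c ^ (((k + 1 : ℕ) : ℤ) * n) * r * a ^ (k + 1) := by
          have : (((k + 1 : ℕ) : ℤ) * n) = n + (k : ℤ) * n := by push_cast; ring
          rw [this, zpow_add, pow_succ]; simp only [mul_assoc]
  have key : ∀ k : ℕ, ∃ e : ℤ, 2 * e = n * k * (k - 1) ∧ (r * a) ^ k = c ^ e * r ^ k * a ^ k := by
    intro k
    induction k with
    | zero => exact ⟨0, by simp, by simp⟩
    | succ k ih =>
      obtain ⟨e, he, hpow⟩ := ih
      refine ⟨e + (k : ℤ) * n, by push_cast; linarith, ?_⟩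
      have hrk : r ^ k ∈ V := V.pow_mem hr k
      have hcomm : r ^ k * c ^ ((k : ℤ) * n) = c ^ ((k : ℤ) * n) * r ^ k :=
        hVc _ hrk _ (hcV _)
      calc (r * a) ^ (k + 1) = (r * a) ^ k * (r * a) := pow_succ _ _
        _ = c ^ e * r ^ k * a ^ k * (r * a) := by rw [hpow]
        _ = c ^ e * r ^ k * (a ^ k * r) * a := by simp only [mul_assoc]
        _ = c ^ e * r ^ k * (c ^ ((k : ℤ) * n) * r * a ^ k) * a := by rw [hak]
        _ = c ^ e * (r ^ k * c ^ ((k : ℤ) * n)) * r * (a ^ k * a) := by simp only [mul_assoc]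
        _ = c ^ e * (c ^ ((k : ℤ) * n) * r ^ k) * r * (a ^ k * a) := by rw [hcomm]
        _ = c ^ (e + (k : ℤ) * n) * r ^ (k + 1) * a ^ (k + 1) := by
          rw [zpow_add, pow_succ, pow_succ]; simp only [mul_assoc]
  obtain ⟨e, he, hpow⟩ := key p
  obtain ⟨m, hm⟩ := hpodd
  have he2 : e = (p : ℤ) * (n * m) := by
    have h1 : ((p : ℤ) - 1) = 2 * m := by rw [hm]; push_cast; ring
    rw [h1] at he
    have : 2 * e = 2 * ((p : ℤ) * (n * m)) := by rw [he]; ring
    linarith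
  have hce : c ^ e = 1 := by
    rw [he2, zpow_mul, zpow_natCast, hVp c hc, one_zpow]
  rw [hpow, hce, hVp r hr, one_mul, one_mul]

end pow


/-! ### The main theorem -/

section main

universe u

variable {K : Type u} [Group K] [Finite K] {p : ℕ} [hp : Fact p.Prime]

/-- the common set-up: `Q/N` is elementary abelian and `K/Q` acts faithfully on it; `a` acts as a
transvection with centre `a^p` -/
structure Setup (p : ℕ) (Q N : Subgroup K) (a : K) : Prop where
  hQp : IsPGroup p Q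
  hcomm : ∀ x ∈ Q, ∀ y ∈ Q, x * y * (y * x)⁻¹ ∈ N
  hpow : ∀ x ∈ Q, x ^ p ∈ N
  hkey : ∀ g : K, (∀ y ∈ Q, g * y * g⁻¹ * y⁻¹ ∈ N) → g ∈ Q
  haQ : a ∉ Q
  hapQ : a ^ p ∈ Q
  hTV : ∀ x ∈ Q, ∃ n : ℤ, a * x * a⁻¹ = (a ^ p) ^ n * x

section setup

variable (Q N : Subgroup K) [hQn : Q.Normal] [hNn : N.Normal] (a : K)

theorem Setup.V_comm (hS : Setup p Q N a) :
    ∀ x ∈ Q.map (QuotientGroup.mk' N), ∀ y ∈ Q.map (QuotientGroup.mk' N), x * y = y * x := by
  rintro _ ⟨x, hx, rfl⟩ _ ⟨y, hy, rfl⟩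
  rw [← map_mul, ← map_mul]
  have h1 := hS.hcomm x hx y hy
  have h2 : (QuotientGroup.mk' N) (x * y * (y * x)⁻¹) = 1 := (QuotientGroup.eq_one_iff _).mpr h1
  rw [map_mul, map_inv] at h2
  exact mul_inv_eq_one.mp h2

theorem Setup.V_exp (hS : Setup p Q N a) :
    ∀ x ∈ Q.map (QuotientGroup.mk' N), x ^ p = 1 := by
  rintro _ ⟨x, hx, rfl⟩
  rw [← map_pow]
  exact (QuotientGroup.eq_one_iff _).mpr (hS.hpow x hx)

theorem Setup.ker (hS : Setup p Q N a) (g : K)
    (hg : ∀ x ∈ Q.map (QuotientGroup.mk' N),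
      (QuotientGroup.mk' N g) * x * (QuotientGroup.mk' N g)⁻¹ = x) : g ∈ Q := by
  apply hS.hkey
  intro y hy
  have h1 := hg _ (mem_map_of_mem (QuotientGroup.mk' N) hy)
  have h2 : (QuotientGroup.mk' N) (g * y * g⁻¹ * y⁻¹) = 1 := by
    rw [map_mul, map_mul, map_mul, map_inv, map_inv, h1, mul_inv_cancel]
  exact (QuotientGroup.eq_one_iff _).mp h2

theorem Setup.tv (hS : Setup p Q N a) :
    ∀ x ∈ Q.map (QuotientGroup.mk' N), ∃ n : ℤ,
      (QuotientGroup.mk' N a) * x * (QuotientGroup.mk' N a)⁻¹ =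
        (QuotientGroup.mk' N (a ^ p)) ^ n * x := by
  rintro _ ⟨x, hx, rfl⟩
  obtain ⟨n, hn⟩ := hS.hTV x hx
  refine ⟨n, ?_⟩
  rw [← map_inv, ← map_mul, ← map_mul, hn, map_mul, map_zpow]

end setup


section setup2

variable (Q N : Subgroup K) [hQn : Q.Normal] [hNn : N.Normal] (a : K)

theorem Setup.isPGroup_of_unipotent (hS : Setup p Q N a) (H : Subgroup K)
    (hH : ∀ g ∈ H, ∀ x ∈ Q.map (QuotientGroup.mk' N),
      (QuotientGroup.mk' N g) ^ (p * p) * x * ((QuotientGroup.mk' N g) ^ (p * p))⁻¹ = x) :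
    IsPGroup p H := by
  rintro ⟨g, hg⟩
  have h1 : g ^ (p * p) ∈ Q := by
    apply hS.ker Q N a
    intro x hx
    rw [map_pow]
    exact hH g hg x hx
  obtain ⟨j, hj⟩ := hS.hQp ⟨g ^ (p * p), h1⟩
  refine ⟨2 + j, ?_⟩
  apply Subtype.ext
  have h2 := congrArg Subtype.val hj
  rw [Subgroup.coe_pow, Subgroup.coe_one] at h2
  rw [Subgroup.coe_pow, Subgroup.coe_one]
  change g ^ (p ^ (2 + j)) = 1
  change (g ^ (p * p)) ^ (p ^ j) = 1 at h2
  rw [pow_add, pow_two, pow_mul]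
  exact h2

theorem Setup.false_of_odd (hS : Setup p Q N a) (hp2 : p ≠ 2) (k : K)
    (hk : ¬ IsPGroup p (closure ({a, k * a * k⁻¹} : Set K))) : False := by
  have hpodd : Odd p := hp.out.odd_of_ne_two hp2
  set π : K →* K ⧸ N := QuotientGroup.mk' N with hπ
  set V : Subgroup (K ⧸ N) := Q.map π with hV
  haveI hVn : V.Normal := Subgroup.Normal.map hQn π (QuotientGroup.mk'_surjective N)
  have hVc := hS.V_comm Q N a
  have hVp := hS.V_exp Q N a
  haveI : IsMulCommutative V := ⟨⟨fun x y => Subtype.ext (hVc x x.2 y y.2)⟩⟩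
  set a' : K ⧸ N := π a with ha'
  set c' : V := ⟨π (a ^ p), mem_map_of_mem π hS.hapQ⟩ with hc'
  set b' : K ⧸ N := π k * a' * (π k)⁻¹ with hb'
  set d' : V := ⟨π k * c' * (π k)⁻¹, hVn.conj_mem _ c'.2 _⟩ with hd'
  have hc'a : (c' : K ⧸ N) = a' ^ p := by rw [hc', ha', ← map_pow]
  have hTa : ∀ x ∈ V, ∃ n : ℤ, a' * x * a'⁻¹ = (c' : K ⧸ N) ^ n * x := hS.tv Q N a
  have hTb : ∀ x ∈ V, ∃ n : ℤ, b' * x * b'⁻¹ = (d' : K ⧸ N) ^ n * x := by
    intro x hx
    have hx' : (π k)⁻¹ * x * (π k) ∈ V := by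
      have := hVn.conj_mem x hx (π k)⁻¹
      rwa [inv_inv] at this
    obtain ⟨n, hn⟩ := hTa _ hx'
    refine ⟨n, ?_⟩
    have e1 : b' * x * b'⁻¹ = π k * (a' * ((π k)⁻¹ * x * (π k)) * a'⁻¹) * (π k)⁻¹ := by
      rw [hb']; group
    rw [e1, hn]
    have e2 : (d' : K ⧸ N) ^ n = π k * (c' : K ⧸ N) ^ n * (π k)⁻¹ := by
      rw [hd']; exact conj_zpow
    rw [e2]; group
  have hac : a' * c' * a'⁻¹ = c' := by
    rw [hc'a]
    have : Commute a' (a' ^ p) := (Commute.refl a').pow_right p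
    rw [this.eq, mul_inv_cancel_right]
  have hbd : b' * d' * b'⁻¹ = d' := by
    have e1 : b' * (d' : K ⧸ N) * b'⁻¹ = π k * (a' * c' * a'⁻¹) * (π k)⁻¹ := by
      rw [hb', hd']; group
    rw [e1, hac]
  have hmap : ∀ g ∈ closure ({a, k * a * k⁻¹} : Set K), π g ∈ closure ({a', b'} : Set (K ⧸ N)) := by
    intro g hg
    have h1 : π g ∈ (closure ({a, k * a * k⁻¹} : Set K)).map π := mem_map_of_mem π hg
    rw [MonoidHom.map_closure, Set.image_pair] at h1
    have h2 : π (k * a * k⁻¹) = b' := by rw [hb', map_mul, map_mul, map_inv]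
    rw [h2] at h1
    exact h1
  by_cases hd1 : a' * d' * a'⁻¹ = d'
  · apply hk
    apply hS.isPGroup_of_unipotent Q N a
    intro g hg x hx
    exact pow_sq_centralizes_of_fix V hVp a' b' c' d' hTa hTb hac hbd hd1 (π g) (hmap g hg) x hx
  by_cases hd2 : b' * c' * b'⁻¹ = c'
  · apply hk
    apply hS.isPGroup_of_unipotent Q N a
    intro g hg x hx
    have h1 := hmap g hg
    rw [Set.pair_comm] at h1
    exact pow_sq_centralizes_of_fix V hVp b' a' d' c' hTb hTa hbd hac hd2 (π g) h1 x hx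
  obtain ⟨z', hz1, hz2⟩ := exists_inverting V hVp a' b' c' d' hTa hTb hac hbd hd1 hd2
  obtain ⟨z, rfl⟩ := QuotientGroup.mk'_surjective N z'
  have hg' : z * a * z⁻¹ * a⁻¹ ∈ Q := by
    apply hS.ker Q N a
    intro x hx
    have : (QuotientGroup.mk' N) (z * a * z⁻¹ * a⁻¹) = π z * a' * (π z)⁻¹ * a'⁻¹ := by
      rw [map_mul, map_mul, map_mul, map_inv, map_inv]
    rw [this]
    exact hz2 x hx
  set r' : K ⧸ N := π (z * a * z⁻¹ * a⁻¹) with hr'
  have hr'V : r' ∈ V := mem_map_of_mem π hg'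
  have hzr : π z * a' * (π z)⁻¹ = r' * a' := by
    rw [hr', map_mul, map_mul, map_mul, map_inv, map_inv, inv_mul_cancel_right]
  obtain ⟨n, hn⟩ := hTa r' hr'V
  rw [hc'a] at hn
  have hcV : a' ^ p ∈ V := by rw [← hc'a]; exact c'.2
  have h1 : (r' * a') ^ p = a' ^ p := mul_pow_transv V hVc hpodd hVp a' r' hcV hr'V n hn
  have h2 : (r' * a') ^ p = (a' ^ p)⁻¹ := by
    rw [← hzr, conj_pow, ← hc'a]
    exact hz1
  have h3 : a' ^ p = (a' ^ p)⁻¹ := h1.symm.trans h2
  have h4 : a' ^ p * a' ^ p = 1 := by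
    nth_rewrite 1 [h3]
    exact inv_mul_cancel _
  have h5 : a' ^ p = 1 := by
    obtain ⟨m, hm⟩ := hpodd
    have h6 : (a' ^ p) ^ p = 1 := hVp _ hcV
    have h7 : (a' ^ p) ^ 2 = 1 := by rw [pow_two]; exact h4
    nth_rewrite 2 [hm] at h6
    rw [pow_succ, pow_mul, h7, one_pow, one_mul] at h6
    exact h6
  have h6 : a ^ p ∈ N := by
    rw [ha', ← map_pow] at h5
    exact (QuotientGroup.eq_one_iff _).mp h5
  apply hS.haQ
  apply hS.hkey
  intro y hy
  obtain ⟨n, hn⟩ := hS.hTV y hy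
  rw [hn, mul_inv_cancel_right]
  exact N.zpow_mem h6 n

end setup2


section setup3

variable (Q N : Subgroup K) [hQn : Q.Normal] [hNn : N.Normal] (a : K)

open Cfsg.Agent.Helper9.Off2 in
theorem Setup.involves_of_two (hS : Setup 2 Q N a) (l : K) (r : ℕ) (hr : Odd r)
    (hlr : l ^ r ∈ Q) (hlQ : l ∉ Q) (hinv : a * l * a⁻¹ * l ∈ Q) :
    Cfsg.Involves (Equiv.Perm (Fin 4)) K := by
  classical
  set π : K →* K ⧸ N := QuotientGroup.mk' N with hπ
  set V : Subgroup (K ⧸ N) := Q.map π with hV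
  haveI hVn : V.Normal := Subgroup.Normal.map hQn π (QuotientGroup.mk'_surjective N)
  have hVc := hS.V_comm Q N a
  have hVp := hS.V_exp Q N a
  haveI : IsMulCommutative V := ⟨⟨fun x y => Subtype.ext (hVc x x.2 y y.2)⟩⟩
  have hV1 : ∀ v ∈ V, v * v = 1 := by
    intro v hv; rw [← pow_two]; exact hVp v hv
  set ρ : K ⧸ N →* MulAut V := MulAut.conjNormal with hρ
  have hρapp : ∀ (g : K ⧸ N) (v : V), ((ρ g v : V) : K ⧸ N) = g * v * g⁻¹ := fun g v =>
    MulAut.conjNormal_apply g v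
  have hρV : ∀ y ∈ V, ρ y = 1 := by
    intro y hy
    apply MulEquiv.ext
    intro v
    apply Subtype.ext
    rw [hρapp, hVc y hy v v.2, mul_inv_cancel_right]
    rfl
  have hρker : ∀ g : K, ρ (π g) = 1 → g ∈ Q := by
    intro g hg
    apply hS.ker Q N a
    intro x hx
    have := hρapp (π g) ⟨x, hx⟩
    rw [hg] at this
    exact this.symm
  set U : Subgroup (K ⧸ N) := centralizer (V : Set (K ⧸ N)) with hU
  have hUV : U ≤ V := by
    intro y hy
    obtain ⟨g, rfl⟩ := QuotientGroup.mk'_surjective N y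
    apply mem_map_of_mem
    apply hS.ker Q N a
    intro x hx
    rw [hU, mem_centralizer_iff] at hy
    have := hy x hx
    rw [← this, mul_inv_cancel_right]
  have hU2 : IsPGroup 2 U := (hS.hQp.map π).to_le hUV
  set a' : K ⧸ N := π a with ha'
  have ha2Q : a * a ∈ Q := by rw [← pow_two]; exact hS.hapQ
  have hβ2 : ρ a' * ρ a' = 1 := by
    rw [← map_mul, ha', ← map_mul]
    exact hρV _ (mem_map_of_mem π ha2Q)
  have hβ1 : ρ a' ≠ 1 := fun h => hS.haQ (hρker a h)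
  have hμ01 : ρ (π l) ≠ 1 := fun h => hlQ (hρker l h)
  have hm_odd : Odd (orderOf (ρ (π l))) := by
    have h1 : (ρ (π l)) ^ r = 1 := by
      rw [← map_pow, ← map_pow]
      exact hρV _ (mem_map_of_mem π hlr)
    exact Odd.of_dvd_nat hr (orderOf_dvd_of_pow_eq_one h1)
  have hinv0 : ρ a' * ρ (π l) * (ρ a')⁻¹ = (ρ (π l))⁻¹ := by
    have h1 : ρ (π (a * l * a⁻¹ * l)) = 1 := hρV _ (mem_map_of_mem π hinv)
    rw [map_mul, map_mul, map_mul, map_inv, map_mul, map_mul, map_mul, map_inv] at h1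
    exact eq_inv_of_mul_eq_one_left h1
  -- the fixed points of `a'` have index at most 2
  have hβcard : Nat.card V ≤ 2 * Nat.card (fixSub (zpowers (ρ a'))) := by
    set c' : V := ⟨π (a ^ 2), mem_map_of_mem π hS.hapQ⟩ with hc'
    have hTa := hS.tv Q N a
    let φ : V →* V := MonoidHom.mk' (fun x => ρ a' x * x⁻¹) (by
      intro x y
      rw [map_mul, mul_inv]
      exact mul_mul_mul_comm _ _ _ _)
    have hφ : ∀ x, φ x = ρ a' x * x⁻¹ := fun x => rfl
    have hker : φ.ker = fixSub (zpowers (ρ a')) := by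
      ext x
      rw [MonoidHom.mem_ker, hφ, mem_fixSub_zpowers, mul_inv_eq_one]
    have hrange : φ.range ≤ zpowers c' := by
      rintro _ ⟨x, rfl⟩
      obtain ⟨n, hn⟩ := hTa x x.2
      refine ⟨n, ?_⟩
      apply Subtype.ext
      rw [hφ, Subgroup.coe_mul, Subgroup.coe_inv, hρapp, hn, mul_inv_cancel_right,
        Subgroup.coe_zpow]
    have hc2 : c' ^ 2 = 1 := by
      apply Subtype.ext
      rw [Subgroup.coe_pow, Subgroup.coe_one]
      exact hVp _ c'.2
    have hcard_z : Nat.card (zpowers c') ≤ 2 := by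
      rw [Nat.card_zpowers]
      exact Nat.le_of_dvd (by norm_num) (orderOf_dvd_of_pow_eq_one hc2)
    have h1 := Subgroup.card_mul_index φ.ker
    rw [Subgroup.index_ker, hker] at h1
    have h2 : Nat.card φ.range ≤ 2 := le_trans (Subgroup.card_le_of_le hrange) hcard_z
    calc Nat.card V = Nat.card (fixSub (zpowers (ρ a'))) * Nat.card φ.range := h1.symm
      _ ≤ Nat.card (fixSub (zpowers (ρ a'))) * 2 := Nat.mul_le_mul_left _ h2
      _ = 2 * Nat.card (fixSub (zpowers (ρ a'))) := mul_comm _ _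
  have hres := Cfsg.Agent.Helper9.S4End.involves_S4_of_inverting_aux V hV1 U hU hU2 a' (π l)
    hβ2 hβ1 hβcard hμ01 hm_odd hinv0
  exact Cfsg.Agent.Helper9.S4Sec.involves_of_quotient N hres

end setup3

theorem frattini_map_normal' (Q : Subgroup K) [hQn : Q.Normal] :
    ((frattini Q).map Q.subtype).Normal := by
  rw [← Subgroup.normalizer_eq_top_iff, eq_top_iff]
  have h1 : Subgroup.normalizer (Q : Set K) = ⊤ := Subgroup.normalizer_eq_top_iff.2 hQn
  rw [← h1]
  exact Lead.normalizer_le_normalizer_map_of_characteristic Q (frattini ↥Q)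

/-- if `a^s ∈ Q`, `a^p ∈ Q` and `a ∉ Q` then `a^s` is a power of `a^p` -/
theorem zpow_mem_zpowers_pow (Q : Subgroup K) (a : K) (haQ : a ∉ Q) (hapQ : a ^ p ∈ Q) (s : ℤ)
    (hs : a ^ s ∈ Q) : ∃ n : ℤ, a ^ s = (a ^ p) ^ n := by
  by_cases hdvd : (p : ℤ) ∣ s
  · obtain ⟨n, rfl⟩ := hdvd
    exact ⟨n, by rw [zpow_mul, zpow_natCast]⟩
  · exfalso
    apply haQ
    have hcop : IsCoprime s (p : ℤ) := by
      rw [Int.isCoprime_iff_gcd_eq_one]
      have h1 : ¬ p ∣ s.natAbs := fun h => hdvd (Int.natCast_dvd.mpr h)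
      have h2 := (Nat.Prime.coprime_iff_not_dvd hp.out).2 h1
      rw [Int.gcd, Int.natAbs_natCast]
      exact h2.symm
    obtain ⟨u, v, huv⟩ := hcop
    have : a = (a ^ s) ^ u * (a ^ p) ^ v := by
      rw [← zpow_mul, ← zpow_natCast a p, ← zpow_mul, ← zpow_add, mul_comm s u, mul_comm (p : ℤ) v,
        huv, zpow_one]
    rw [this]
    exact Q.mul_mem (Q.zpow_mem hs u) (Q.zpow_mem hapQ v)

theorem mem_pCore_of_normalized
    (hcent : centralizer (Cfsg.pCore p K : Set K) ≤ Cfsg.pCore p K)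
    (a0 : K) (ha0 : ∃ m : ℕ, a0 ^ (p ^ m) = 1)
    (hnorm : ∀ x ∈ Cfsg.pCore p K, x * a0 * x⁻¹ ∈ zpowers a0)
    (h : p ≠ 2 ∨ ¬ Cfsg.Involves (Equiv.Perm (Fin 4)) K) : a0 ∈ Cfsg.pCore p K := by
  classical
  set Q := Cfsg.pCore p K with hQ
  haveI hQn : Q.Normal := Cfsg.Agent.Helper14.pCore_normal p
  have hQp : IsPGroup p Q := Cfsg.Agent.Helper14.pCore_isPGroup p
  have hmax : ∀ C : Subgroup K, C.Normal → IsPGroup p C → C ≤ Q := fun C hC hCp =>
    Cfsg.Agent.Helper14.le_pCore p hC hCp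
  set Φ : Subgroup K := (frattini Q).map Q.subtype with hΦ
  haveI hΦn : Φ.Normal := frattini_map_normal' Q
  have hkey : ∀ g : K, (∀ y ∈ Q, g * y * g⁻¹ * y⁻¹ ∈ Φ) ↔ g ∈ Q := fun g =>
    Cfsg.Agent.Lead.mem_iff_trivial_on_frattini_quotient Q hQp hmax hcent g
  by_contra hna0
  -- Step 1: an element `a ∈ ⟨a0⟩ \ Q` with `a^p ∈ Q`
  have hex : ∃ m : ℕ, a0 ^ (p ^ m) ∈ Q := by
    obtain ⟨m, hm⟩ := ha0
    exact ⟨m, hm ▸ Q.one_mem⟩
  have hm0 : a0 ^ (p ^ Nat.find hex) ∈ Q := Nat.find_spec hex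
  have hm0pos : Nat.find hex ≠ 0 := by
    intro h0
    rw [h0, pow_zero, pow_one] at hm0
    exact hna0 hm0
  obtain ⟨m1, hm1⟩ := Nat.exists_eq_succ_of_ne_zero hm0pos
  set a : K := a0 ^ (p ^ m1) with ha
  have haQ : a ∉ Q := Nat.find_min hex (by omega : m1 < Nat.find hex)
  have hapQ : a ^ p ∈ Q := by
    rw [ha, ← pow_mul, ← pow_succ]
    rw [hm1] at hm0
    exact hm0
  have ha_norm : ∀ x ∈ Q, x * a * x⁻¹ ∈ zpowers a := by
    intro x hx
    obtain ⟨t, ht⟩ := hnorm x hx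
    refine ⟨t, ?_⟩
    change a ^ t = x * a * x⁻¹
    rw [ha, ← conj_pow, ← ht, ← zpow_natCast, ← zpow_natCast, ← zpow_mul, ← zpow_mul, mul_comm]
  -- Step 2: transvection property
  have hTV : ∀ x ∈ Q, ∃ n : ℤ, a * x * a⁻¹ = (a ^ p) ^ n * x := by
    intro x hx
    obtain ⟨t, ht⟩ := ha_norm x hx
    change a ^ t = x * a * x⁻¹ at ht
    have h1 : a * x * a⁻¹ * x⁻¹ = a ^ (1 - t) := by
      have : a * x * a⁻¹ * x⁻¹ = a * (x * a * x⁻¹)⁻¹ := by group
      rw [this, ← ht, zpow_sub, zpow_one]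
    have h2 : a * x * a⁻¹ * x⁻¹ ∈ Q := Q.mul_mem (hQn.conj_mem x hx a) (Q.inv_mem hx)
    rw [h1] at h2
    obtain ⟨n, hn⟩ := zpow_mem_zpowers_pow Q a haQ hapQ (1 - t) h2
    refine ⟨n, ?_⟩
    rw [← hn, ← h1, inv_mul_cancel_right]
  have hS : Setup p Q Φ a :=
    { hQp := hQp
      hcomm := by
        intro x hx y hy
        have h1 : (⟨x, hx⟩ : Q) * ⟨y, hy⟩ * (⟨y, hy⟩ * ⟨x, hx⟩)⁻¹ ∈ frattini Q := by
          apply Cfsg.Agent.Helper1.IsPGroup.commutator_le_frattini hQp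
          have : (⟨x, hx⟩ : Q) * ⟨y, hy⟩ * (⟨y, hy⟩ * ⟨x, hx⟩)⁻¹ = ⁅(⟨x, hx⟩ : Q), ⟨y, hy⟩⁆ := by
            rw [commutatorElement_def]; group
          rw [this]
          exact Subgroup.commutator_mem_commutator (mem_top _) (mem_top _)
        exact ⟨_, h1, rfl⟩
      hpow := by
        intro x hx
        exact ⟨_, Cfsg.Agent.Helper1.IsPGroup.pow_mem_frattini hQp ⟨x, hx⟩, rfl⟩
      hkey := fun g hg => (hkey g).1 hg
      haQ := haQ
      hapQ := hapQ
      hTV := hTV }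
  by_cases hp2 : p = 2
  · -- `p = 2`
    subst hp2
    have hS4 := h.resolve_left (fun h => h rfl)
    apply hS4
    -- Sidki / Baer–Suzuki in `K / Q`
    have haa : (QuotientGroup.mk' Q a) * (QuotientGroup.mk' Q a) = 1 := by
      rw [← map_mul, ← pow_two]
      exact (QuotientGroup.eq_one_iff _).mpr hapQ
    have hnot : (QuotientGroup.mk' Q a) ∉ Cfsg.pCore 2 (K ⧸ Q) := by
      rw [Cfsg.Agent.Helper21.ExpSix.pCore_quotient_pCore_eq_bot 2, mem_bot]
      intro h1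
      exact haQ ((QuotientGroup.eq_one_iff _).mp h1)
    obtain ⟨hbar, hodd, hne, hinv⟩ :=
      Cfsg.Agent.Helper15.exists_odd_inverted_of_not_mem_pCore haa hnot
    obtain ⟨l, rfl⟩ := QuotientGroup.mk'_surjective Q hbar
    have hlr : l ^ (orderOf (QuotientGroup.mk' Q l)) ∈ Q := by
      rw [← QuotientGroup.eq_one_iff, ← QuotientGroup.mk'_apply, map_pow, pow_orderOf_eq_one]
    have hlQ : l ∉ Q := by
      intro hl
      exact hne ((QuotientGroup.eq_one_iff _).mpr hl)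
    have hinvQ : a * l * a⁻¹ * l ∈ Q := by
      rw [← QuotientGroup.eq_one_iff, ← QuotientGroup.mk'_apply, map_mul, map_mul, map_mul, map_inv,
        hinv, inv_mul_cancel]
    exact hS.involves_of_two Q Φ a l _ hodd hlr hlQ hinvQ
  · -- `p` odd: Baer–Suzuki
    have hBS : ∃ k : K, ¬ IsPGroup p (closure ({a, k * a * k⁻¹} : Set K)) := by
      by_contra hno
      push Not at hno
      apply haQ
      have hle : (⨅ P : Sylow p K, (P : Subgroup K)) ≤ Q :=
        hmax _ (Cfsg.Agent.Helper16.iInf_sylow_normal p) (Cfsg.Agent.Helper16.iInf_sylow_isPGroup p)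
      exact hle (Cfsg.Agent.Helper16.baer_suzuki_elt p a hno)
    obtain ⟨k, hk⟩ := hBS
    exact hS.false_of_odd Q Φ a hp2 k hk

end main

end Cfsg.Agent.Helper9.CycN
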