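import Mathlib
import Cfsg.Agent.Helper9.DcF
import Cfsg.Prelude.Def_SporadicB

/-! `Gam n` is a non-split double cover of `A_n`; `Gam 8` has two involutions. -/

set_option autoImplicit false

open scoped commutatorElement

namespace Cfsg.Agent.Helper9.Dc

/-- a central element in the commutator subgroup obstructs complements of the centre. -/
theorem no_complement_of_mem_commutator {H : Type*} [Group H] {z : H}
    (hzc : z ∈ Subgroup.center H) (hzd : z ∈ commutator H) (hz1 : z ≠ 1) (L : Subgroup H) :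
    ¬ (Subgroup.center H).IsComplement' L := by
  intro hc
  have hsup := hc.sup_eq_top
  have hdis := hc.disjoint
  have hcomm : commutator H ≤ L := by
    rw [commutator_def, Subgroup.commutator_le]
    intro a _ b _
    have ha : a ∈ Subgroup.center H ⊔ L := by rw [hsup]; exact Subgroup.mem_top a
    have hb : b ∈ Subgroup.center H ⊔ L := by rw [hsup]; exact Subgroup.mem_top b
    rw [← SetLike.mem_coe, Subgroup.normal_mul] at ha hb
    obtain ⟨z1, hz1', l1, hl1, rfl⟩ := ha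
    obtain ⟨z2, hz2', l2, hl2, rfl⟩ := hb
    have e1 : ∀ g, g * z1 = z1 * g := fun g => (Subgroup.mem_center_iff.mp hz1' g)
    have e2 : ∀ g, g * z2 = z2 * g := fun g => (Subgroup.mem_center_iff.mp hz2' g)
    have e1' : ∀ g, g * z1⁻¹ = z1⁻¹ * g :=
      fun g => (Subgroup.mem_center_iff.mp (Subgroup.inv_mem _ hz1') g)
    have e2' : ∀ g, g * z2⁻¹ = z2⁻¹ * g :=
      fun g => (Subgroup.mem_center_iff.mp (Subgroup.inv_mem _ hz2') g)
    have : ⁅z1 * l1, z2 * l2⁆ = ⁅l1, l2⁆ := by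
      rw [commutatorElement_def, commutatorElement_def, mul_inv_rev, mul_inv_rev]
      calc z1 * l1 * (z2 * l2) * (l1⁻¹ * z1⁻¹) * (l2⁻¹ * z2⁻¹)
          = z1 * (l1 * z2) * l2 * l1⁻¹ * z1⁻¹ * l2⁻¹ * z2⁻¹ := by group
        _ = z1 * (z2 * l1) * l2 * l1⁻¹ * z1⁻¹ * l2⁻¹ * z2⁻¹ := by rw [e2 l1]
        _ = z1 * z2 * (l1 * l2 * l1⁻¹ * z1⁻¹) * l2⁻¹ * z2⁻¹ := by group
        _ = z1 * z2 * (z1⁻¹ * (l1 * l2 * l1⁻¹)) * l2⁻¹ * z2⁻¹ := by rw [e1' (l1 * l2 * l1⁻¹)]
        _ = z1 * (z2 * z1⁻¹) * (l1 * l2 * l1⁻¹ * l2⁻¹ * z2⁻¹) := by group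
        _ = z1 * (z1⁻¹ * z2) * (z2⁻¹ * (l1 * l2 * l1⁻¹ * l2⁻¹)) := by
            rw [e1' z2, e2' (l1 * l2 * l1⁻¹ * l2⁻¹)]
        _ = l1 * l2 * l1⁻¹ * l2⁻¹ := by group
    rw [this, commutatorElement_def]
    exact L.mul_mem (L.mul_mem (L.mul_mem hl1 hl2) (L.inv_mem hl1)) (L.inv_mem hl2)
  have : z ∈ Subgroup.center H ⊓ L := ⟨hzc, hcomm hzd⟩
  rw [hdis.eq_bot] at this
  exact hz1 (Subgroup.mem_bot.mp this)

variable {n : ℕ}

theorem center_Gam (hn : 4 ≤ n) : Subgroup.center (Gam n) = Subgroup.zpowers (zG hn) := by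
  apply le_antisymm
  · intro g hg
    rw [← ker_rhoG hn, ← ker_phi, MonoidHom.mem_ker]
    have h1 : phi n g ∈ Subgroup.center (alternatingGroup (Fin n)) := by
      rw [Subgroup.mem_center_iff]
      intro a
      obtain ⟨h, rfl⟩ := phi_surjective a
      rw [← map_mul, ← map_mul, Subgroup.mem_center_iff.mp hg h]
    rw [alternatingGroup.center_eq_bot (by simpa using hn)] at h1
    exact Subgroup.mem_bot.mp h1
  · rw [Subgroup.zpowers_le]
    exact zG_center hn

theorem nonsplit_Gam (hn : 4 ≤ n) :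
    Cfsg.IsNonsplitDoubleCover (Gam n) (alternatingGroup (Fin n)) := by
  refine ⟨?_, ?_, ?_⟩
  · rw [center_Gam hn, Nat.card_zpowers, orderOf_zG]
  · have hk : Subgroup.center (Gam n) = (phi n).ker := by
      rw [center_Gam hn, ker_phi, ker_rhoG hn]
    exact ⟨(QuotientGroup.quotientMulEquivOfEq hk).trans
      (QuotientGroup.quotientKerEquivOfSurjective (phi n) phi_surjective)⟩
  · exact no_complement_of_mem_commutator (zG_center hn) (zG_mem_commutator hn) (zG_ne_one hn)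

section abstract
variable {R : Type*} [Ring R]

theorem comm_of_anti4 {a b c d : R} (hac : a * c = -(c * a)) (had : a * d = -(d * a))
    (hbc : b * c = -(c * b)) (hbd : b * d = -(d * b)) : a * b * (c * d) = c * d * (a * b) := by
  calc a * b * (c * d) = a * (b * c) * d := by noncomm_ring
    _ = -(a * c * (b * d)) := by rw [hbc]; noncomm_ring
    _ = -(c * (a * d) * b) := by rw [hac, hbd]; noncomm_ring
    _ = c * d * (a * b) := by rw [had]; noncomm_ring

theorem sq_of_comm {A B : R} (hA : A * A = -1) (hB : B * B = -1) (hAB : A * B = B * A) :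
    (A * B) * (A * B) = 1 := by
  calc (A * B) * (A * B) = A * (B * A) * B := by noncomm_ring
    _ = (A * A) * (B * B) := by rw [← hAB]; noncomm_ring
    _ = 1 := by rw [hA, hB]; noncomm_ring

end abstract

theorem ne8 {a b : ℕ} (ha : a < 8) (hb : b < 8) (hab : a ≠ b) :
    (⟨a, ha⟩ : Fin 8) ≠ ⟨b, hb⟩ := by
  intro h; exact hab (congrArg Fin.val h)

/-- the lift of `(01)(23)(45)(67)`. -/
def yG : Gam 8 :=
  ⟨U (⟨0, by omega⟩ : Fin 8) ⟨1, by omega⟩ (ne8 _ _ (by omega)) *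
      U (⟨2, by omega⟩ : Fin 8) ⟨3, by omega⟩ (ne8 _ _ (by omega)), UU_mem _ _⟩ *
  ⟨U (⟨4, by omega⟩ : Fin 8) ⟨5, by omega⟩ (ne8 _ _ (by omega)) *
      U (⟨6, by omega⟩ : Fin 8) ⟨7, by omega⟩ (ne8 _ _ (by omega)), UU_mem _ _⟩

theorem yG_sq : yG * yG = 1 := by
  apply Subtype.ext
  apply Units.ext
  simp only [yG, Subgroup.coe_mul, Units.val_mul, U_val, Subgroup.coe_one, Units.val_one]
  apply sq_of_comm
  · exact cliffE.uu_sq (ne8 _ _ (by omega)) (ne8 _ _ (by omega)) (ne8 _ _ (by omega))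
      (ne8 _ _ (by omega)) (ne8 _ _ (by omega)) (ne8 _ _ (by omega))
  · exact cliffE.uu_sq (ne8 _ _ (by omega)) (ne8 _ _ (by omega)) (ne8 _ _ (by omega))
      (ne8 _ _ (by omega)) (ne8 _ _ (by omega)) (ne8 _ _ (by omega))
  · apply comm_of_anti4
    · exact cliffE.uu_anti (ne8 _ _ (by omega)) (ne8 _ _ (by omega)) (ne8 _ _ (by omega))
        (ne8 _ _ (by omega))
    · exact cliffE.uu_anti (ne8 _ _ (by omega)) (ne8 _ _ (by omega)) (ne8 _ _ (by omega))
        (ne8 _ _ (by omega))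
    · exact cliffE.uu_anti (ne8 _ _ (by omega)) (ne8 _ _ (by omega)) (ne8 _ _ (by omega))
        (ne8 _ _ (by omega))
    · exact cliffE.uu_anti (ne8 _ _ (by omega)) (ne8 _ _ (by omega)) (ne8 _ _ (by omega))
        (ne8 _ _ (by omega))

theorem rhoG_yG : rhoG 8 yG ≠ 1 := by
  intro h
  rw [yG, map_mul, rhoG_UU, rhoG_UU] at h
  have h1 := congrArg (fun σ : Equiv.Perm (Fin 8) => σ ⟨0, by omega⟩) h
  revert h1
  decide

theorem exists_two_involutions :
    ∃ x y : Gam 8, x ≠ y ∧ orderOf x = 2 ∧ orderOf y = 2 := by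
  have h8 : 4 ≤ 8 := by omega
  refine ⟨zG h8, yG, ?_, orderOf_zG h8, ?_⟩
  · intro h
    apply rhoG_yG
    rw [← h, rhoG_zG]
  · apply orderOf_eq_prime
    · rw [pow_two]; exact yG_sq
    · intro h
      apply rhoG_yG
      rw [h, map_one]

end Cfsg.Agent.Helper9.Dc
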