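import Mathlib
import Cfsg.Agent.Lead.Gaschutz
import Cfsg.Agent.Helper18.SuborbitTwo

/-! If a double cover `H → A` has a non-central involution, all involutions of `A` are conjugate
and a dihedral subgroup of odd index is generated by two involutions, then the centre splits. -/

set_option autoImplicit false

namespace Cfsg.Agent.Helper9.Dcv

theorem card_closure_pair {G : Type*} [Group G] {x y : G} (hx : x * x = 1) (hy : y * y = 1)
    (hx1 : x ≠ 1) (hy1 : y ≠ 1) :
    Nat.card (Subgroup.closure ({x, y} : Set G)) = 2 * orderOf (x * y) := by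
  let C := Subgroup.closure ({x, y} : Set G)
  have hxC : x ∈ C := Subgroup.subset_closure (by simp)
  have hyC : y ∈ C := Subgroup.subset_closure (by simp)
  have hgen : Subgroup.closure ({(⟨x, hxC⟩ : C), ⟨y, hyC⟩} : Set C) = ⊤ := by
    have h1 := Subgroup.closure_closure_coe_preimage (k := ({x, y} : Set G))
    have h2 : ((↑) : C → G) ⁻¹' ({x, y} : Set G) = {(⟨x, hxC⟩ : C), ⟨y, hyC⟩} := by
      ext g
      simp only [Set.mem_preimage, Set.mem_insert_iff, Set.mem_singleton_iff, Subtype.ext_iff]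
    rw [h2] at h1
    exact h1
  have h3 := Cfsg.Agent.Helper18.card_of_closure_eq_top
    (x := (⟨x, hxC⟩ : C)) (y := ⟨y, hyC⟩) (Subtype.ext hx) (Subtype.ext hy)
    (fun h => hx1 (congrArg Subtype.val h)) (fun h => hy1 (congrArg Subtype.val h)) hgen
  rw [h3, ← Subgroup.orderOf_coe]
  rfl

variable {H A : Type*} [Group H] [Finite H] [Group A]

theorem exists_complement_of_involution
    (π : H →* A) (hπ : Function.Surjective π) (hker : π.ker = Subgroup.center H)
    (hZ : Nat.card (Subgroup.center H) = 2)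
    (hconj : ∀ s t : A, orderOf s = 2 → orderOf t = 2 → ∃ g : A, g * s * g⁻¹ = t)
    (b c : A) (hb : orderOf b = 2) (hc : orderOf c = 2) (m' : ℕ) (hm' : 0 < m')
    (hbc : orderOf (b * c) = 2 * m')
    (k : ℕ) (hk : Odd k) (hcard : Nat.card A = k * (2 * (2 * m')))
    (x : H) (hx : orderOf x = 2) (hxZ : x ∉ Subgroup.center H) :
    ∃ L : Subgroup H, (Subgroup.center H).IsComplement' L := by
  classical
  have _ : Finite A := Finite.of_surjective π hπ
  have hZsq : ∀ ζ ∈ Subgroup.center H, ζ ^ 2 = 1 := by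
    intro ζ hζ
    have h1 : (⟨ζ, hζ⟩ : Subgroup.center H) ^ Nat.card (Subgroup.center H) = 1 := pow_card_eq_one'
    rw [hZ] at h1
    exact congrArg Subtype.val h1
  have hx2 : x ^ 2 = 1 := by rw [← hx]; exact pow_orderOf_eq_one x
  have hπx : orderOf (π x) = 2 := by
    apply orderOf_eq_prime
    · rw [← map_pow, hx2, map_one]
    · intro h
      apply hxZ
      rw [← hker]; exact h
  have hstar : ∀ s : H, (π s) ^ 2 = 1 → s ^ 2 = 1 := by
    intro s hs
    by_cases h1 : π s = 1
    · apply hZsq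
      rw [← hker]; exact h1
    · have hos : orderOf (π s) = 2 := orderOf_eq_prime hs h1
      obtain ⟨g', hg'⟩ := hconj (π x) (π s) hπx hos
      obtain ⟨g, rfl⟩ := hπ g'
      have hζ : s * (g * x * g⁻¹)⁻¹ ∈ Subgroup.center H := by
        rw [← hker, MonoidHom.mem_ker, map_mul, map_inv, map_mul, map_mul, map_inv, hg',
          mul_inv_cancel]
      have hζc := Subgroup.mem_center_iff.mp hζ
      have hs' : s = (s * (g * x * g⁻¹)⁻¹) * (g * x * g⁻¹) := by group
      have hxx : x * x = 1 := by rw [← pow_two]; exact hx2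
      have hw : (g * x * g⁻¹) * (g * x * g⁻¹) = 1 := by
        calc g * x * g⁻¹ * (g * x * g⁻¹) = g * (x * x) * g⁻¹ := by group
          _ = 1 := by rw [hxx]; group
      have hζζ : (s * (g * x * g⁻¹)⁻¹) * (s * (g * x * g⁻¹)⁻¹) = 1 := by
        rw [← pow_two]; exact hZsq _ hζ
      rw [hs', pow_two]
      calc s * (g * x * g⁻¹)⁻¹ * (g * x * g⁻¹) * (s * (g * x * g⁻¹)⁻¹ * (g * x * g⁻¹))
          = s * (g * x * g⁻¹)⁻¹ * ((g * x * g⁻¹) * (s * (g * x * g⁻¹)⁻¹)) * (g * x * g⁻¹) := by
            group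
        _ = s * (g * x * g⁻¹)⁻¹ * ((s * (g * x * g⁻¹)⁻¹) * (g * x * g⁻¹)) * (g * x * g⁻¹) := by
            rw [hζc (g * x * g⁻¹)]
        _ = ((s * (g * x * g⁻¹)⁻¹) * (s * (g * x * g⁻¹)⁻¹)) * ((g * x * g⁻¹) * (g * x * g⁻¹)) := by
            simp only [mul_assoc]
        _ = 1 := by rw [hζζ, hw, one_mul]
  have hb2 : b ^ 2 = 1 := by rw [← hb]; exact pow_orderOf_eq_one b
  have hc2 : c ^ 2 = 1 := by rw [← hc]; exact pow_orderOf_eq_one c
  have hb1 : b ≠ 1 := by
    intro h; rw [h, orderOf_one] at hb; omega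
  have hc1 : c ≠ 1 := by
    intro h; rw [h, orderOf_one] at hc; omega
  obtain ⟨b', hb'⟩ := hπ b
  obtain ⟨c', hc'⟩ := hπ c
  have hb'2 : b' * b' = 1 := by
    rw [← pow_two]; apply hstar; rw [hb', hb2]
  have hc'2 : c' * c' = 1 := by
    rw [← pow_two]; apply hstar; rw [hc', hc2]
  have hb'1 : b' ≠ 1 := by
    intro h; rw [h, map_one] at hb'; exact hb1 hb'.symm
  have hc'1 : c' ≠ 1 := by
    intro h; rw [h, map_one] at hc'; exact hc1 hc'.symm
  have hπr : π (b' * c') = b * c := by rw [map_mul, hb', hc']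
  have hr' : orderOf (b' * c') = 2 * m' := by
    apply Nat.dvd_antisymm
    · apply orderOf_dvd_of_pow_eq_one
      rw [mul_comm 2 m', pow_mul]
      apply hstar
      rw [map_pow, hπr, ← pow_mul, mul_comm m' 2, ← hbc]
      exact pow_orderOf_eq_one _
    · rw [← hbc, ← hπr]
      exact orderOf_map_dvd π (b' * c')
  let A₀ : Subgroup H := Subgroup.closure ({b', c'} : Set H)
  let D : Subgroup A := Subgroup.closure ({b, c} : Set A)
  have hA₀card : Nat.card A₀ = 2 * (2 * m') := by
    rw [← hr']; exact card_closure_pair hb'2 hc'2 hb'1 hc'1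
  have hDcard : Nat.card D = 2 * (2 * m') := by
    rw [← hbc]
    exact card_closure_pair (by rw [← pow_two]; exact hb2) (by rw [← pow_two]; exact hc2) hb1 hc1
  have hmap : A₀.map π = D := by
    show (Subgroup.closure ({b', c'} : Set H)).map π = Subgroup.closure ({b, c} : Set A)
    rw [MonoidHom.map_closure, Set.image_pair, hb', hc']
  -- injectivity on A₀
  let f : A₀ →* A := π.comp A₀.subtype
  have hfrange : f.range = D := by
    rw [← hmap]
    show (π.comp A₀.subtype).range = A₀.map π
    rw [MonoidHom.range_comp, Subgroup.range_subtype]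
  have hfker : f.ker = ⊥ := by
    have h1 := Subgroup.card_eq_card_quotient_mul_card_subgroup f.ker
    have h2 : Nat.card (A₀ ⧸ f.ker) = Nat.card f.range :=
      Nat.card_congr (QuotientGroup.quotientKerEquivRange f).toEquiv
    rw [h2, hfrange, hDcard, hA₀card] at h1
    have h3 : Nat.card f.ker = 1 := by
      have hpos : 0 < 2 * (2 * m') := by omega
      have : 2 * (2 * m') * Nat.card f.ker = 2 * (2 * m') * 1 := by rw [mul_one]; exact h1.symm
      exact Nat.eq_of_mul_eq_mul_left hpos this
    exact Subgroup.card_eq_one.mp h3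
  have hdisj : A₀ ⊓ Subgroup.center H = ⊥ := by
    rw [eq_bot_iff]
    rintro g ⟨hgA, hgZ⟩
    have h1 : (⟨g, hgA⟩ : A₀) ∈ f.ker := by
      rw [MonoidHom.mem_ker]
      show π g = 1
      rw [← MonoidHom.mem_ker, hker]; exact hgZ
    rw [hfker] at h1
    have h2 := Subgroup.mem_bot.mp h1
    exact Subgroup.mem_bot.mpr (congrArg Subtype.val h2)
  have hU : Subgroup.center H ⊔ A₀ = D.comap π := by
    apply le_antisymm
    · apply sup_le
      · intro g hg
        rw [Subgroup.mem_comap]
        have : π g = 1 := by rw [← MonoidHom.mem_ker, hker]; exact hg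
        rw [this]; exact one_mem _
      · rw [← hmap]; exact Subgroup.le_comap_map π A₀
    · intro u hu
      rw [Subgroup.mem_comap, ← hmap] at hu
      obtain ⟨a, haA, hau⟩ := hu
      have h1 : u * a⁻¹ ∈ Subgroup.center H := by
        rw [← hker, MonoidHom.mem_ker, map_mul, map_inv, hau, mul_inv_cancel]
      have h2 : u = (u * a⁻¹) * a := by group
      rw [h2]
      exact Subgroup.mul_mem _ (Subgroup.mem_sup_left h1) (Subgroup.mem_sup_right haA)
  have hidx : (D.comap π).index = k := by
    rw [Subgroup.index_comap_of_surjective D hπ]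
    have h1 := Subgroup.index_mul_card D
    rw [hDcard, hcard] at h1
    have hpos : 0 < 2 * (2 * m') := by omega
    exact Nat.eq_of_mul_eq_mul_right hpos h1
  have hcop : (Nat.card (Subgroup.center H)).Coprime (D.comap π).index := by
    rw [hZ, hidx]
    exact Nat.coprime_two_left.mpr hk
  have hle : Subgroup.center H ≤ D.comap π := by rw [← hU]; exact le_sup_left
  exact Cfsg.Agent.Lead.gaschutz_exists (Subgroup.center H) (D.comap π) hle hcop A₀ hdisj hU

end Cfsg.Agent.Helper9.Dcv
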