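import Mathlib
import Cfsg.Agent.Helper9.DcvA
import Cfsg.Prelude.Def_SporadicB

/-! Non-split double covers of `A_n`, `n ≤ 7`, have a unique involution. -/

set_option autoImplicit false

open Equiv Equiv.Perm

namespace Cfsg.Agent.Helper9.Dcv

theorem cycleType_of_invol {n : ℕ} (hn : n ≤ 7) (σ : Perm (Fin n)) (ho : orderOf σ = 2)
    (hs : sign σ = 1) : σ.cycleType = Multiset.replicate 2 2 := by
  have hall : ∀ a ∈ σ.cycleType, a = 2 := by
    intro a ha
    have h1 := dvd_of_mem_cycleType ha
    have h2 := two_le_of_mem_cycleType ha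
    rw [ho] at h1
    have := Nat.le_of_dvd (by norm_num) h1
    omega
  have hrep : σ.cycleType = Multiset.replicate (Multiset.card σ.cycleType) 2 :=
    Multiset.eq_replicate.mpr ⟨rfl, hall⟩
  have hsum := sum_cycleType_le σ
  rw [hrep, Multiset.sum_replicate, Fintype.card_fin, smul_eq_mul] at hsum
  have hsign := sign_of_cycleType σ
  rw [hs, hrep, Multiset.sum_replicate, Multiset.card_replicate, smul_eq_mul] at hsign
  have hev : Even (Multiset.card σ.cycleType) := by
    have h1 := (neg_one_pow_eq_one_iff_even (R := ℤˣ) (by decide)).mp hsign.symm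
    obtain ⟨j, hj⟩ := h1
    exact ⟨j - Multiset.card σ.cycleType, by omega⟩
  have hne : Multiset.card σ.cycleType ≠ 0 := by
    intro h
    rw [card_cycleType_eq_zero] at h
    rw [h, orderOf_one] at ho
    omega
  obtain ⟨j, hj⟩ := hev
  have : Multiset.card σ.cycleType = 2 := by omega
  rw [hrep, this]

theorem invol_conj {n : ℕ} (hn : n ≤ 7) (s t : alternatingGroup (Fin n)) (hs : orderOf s = 2)
    (ht : orderOf t = 2) : ∃ g : alternatingGroup (Fin n), g * s * g⁻¹ = t := by
  have hs' : orderOf (s : Perm (Fin n)) = 2 := by rw [Subgroup.orderOf_coe]; exact hs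
  have ht' : orderOf (t : Perm (Fin n)) = 2 := by rw [Subgroup.orderOf_coe]; exact ht
  have h1 := cycleType_of_invol hn s hs' (mem_alternatingGroup.mp s.2)
  have h2 := cycleType_of_invol hn t ht' (mem_alternatingGroup.mp t.2)
  have hconj : IsConj (s : Perm (Fin n)) (t : Perm (Fin n)) := by
    rw [isConj_iff_cycleType_eq, h1, h2]
  obtain ⟨g, hg⟩ := isConj_iff.mp hconj
  rcases Int.units_eq_one_or (sign g) with hsg | hsg
  · exact ⟨⟨g, mem_alternatingGroup.mpr hsg⟩, Subtype.ext hg⟩
  · have hs1 : (s : Perm (Fin n)) ≠ 1 := by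
      intro h; rw [h, orderOf_one] at hs'; omega
    obtain ⟨a, ha⟩ : ∃ a, (s : Perm (Fin n)) a ≠ a := by
      by_contra hcon
      apply hs1
      ext a
      by_contra hne
      exact hcon ⟨a, fun h => hne (by rw [h]; rfl)⟩
    have hss : (s : Perm (Fin n)) ((s : Perm (Fin n)) a) = a := by
      have h3 : (s : Perm (Fin n)) ^ 2 = 1 := by rw [← hs']; exact pow_orderOf_eq_one _
      have := congrArg (fun σ : Perm (Fin n) => σ a) h3
      simpa [pow_two] using this
    have hcomm : (s : Perm (Fin n)) * swap a ((s : Perm (Fin n)) a)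
        = swap a ((s : Perm (Fin n)) a) * (s : Perm (Fin n)) := by
      rw [Equiv.mul_swap_eq_swap_mul, hss, swap_comm]
    have hsg' : sign (g * swap a ((s : Perm (Fin n)) a)) = 1 := by
      rw [Perm.sign_mul, hsg, sign_swap (Ne.symm ha)]
      decide
    refine ⟨⟨g * swap a ((s : Perm (Fin n)) a), mem_alternatingGroup.mpr hsg'⟩, Subtype.ext ?_⟩
    show g * swap a ((s : Perm (Fin n)) a) * (s : Perm (Fin n)) *
      (g * swap a ((s : Perm (Fin n)) a))⁻¹ = t
    rw [mul_inv_rev, swap_inv, mul_assoc g, ← hcomm, ← hg]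
    simp only [mul_assoc, swap_mul_self_mul]

theorem card_alt (n : ℕ) (hn : 2 ≤ n) : 2 * Nat.card (alternatingGroup (Fin n)) = n.factorial := by
  have _ : Nontrivial (Fin n) := Fin.nontrivial_iff_two_le.mpr hn
  rw [Nat.card_eq_fintype_card, two_mul_card_alternatingGroup, Fintype.card_perm, Fintype.card_fin]

theorem no_invol_small : ∀ n : ℕ, n ≤ 3 → ∀ σ : alternatingGroup (Fin n), σ * σ = 1 → σ = 1 := by
  intro n hn
  interval_cases n <;> decide

end Cfsg.Agent.Helper9.Dcv
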