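import Mathlib
import Cfsg.Agent.Helper9.DcvB

/-! Non-split double covers of `A_n`, `n ≤ 7`, have a unique involution: main theorem. -/

set_option autoImplicit false

open Equiv Equiv.Perm

namespace Cfsg.Agent.Helper9.Dcv

/-- data for the dihedral Sylow 2-subgroup generated by two involutions. -/
structure DData (n m' k : ℕ) : Prop where
  ex : ∃ b c : alternatingGroup (Fin n), orderOf b = 2 ∧ orderOf c = 2 ∧ orderOf (b * c) = 2 * m'
  pos : 0 < m'
  odd : Odd k
  card : Nat.card (alternatingGroup (Fin n)) = k * (2 * (2 * m'))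

theorem orderOf_two_of {n : ℕ} (σ : Perm (Fin n)) (h : σ ∈ alternatingGroup (Fin n))
    (h2 : σ ^ 2 = 1) (h1 : σ ≠ 1) : orderOf (⟨σ, h⟩ : alternatingGroup (Fin n)) = 2 := by
  rw [← Subgroup.orderOf_coe]
  exact orderOf_eq_prime h2 h1

theorem orderOf_four_of {n : ℕ} (σ τ : Perm (Fin n)) (h : σ ∈ alternatingGroup (Fin n))
    (h' : τ ∈ alternatingGroup (Fin n))
    (h2 : ¬ (σ * τ) ^ 2 ^ 1 = 1) (h4 : (σ * τ) ^ 2 ^ (1 + 1) = 1) :
    orderOf ((⟨σ, h⟩ : alternatingGroup (Fin n)) * ⟨τ, h'⟩) = 2 * 2 := by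
  rw [← Subgroup.orderOf_coe]
  exact orderOf_eq_prime_pow h2 h4

theorem orderOf_two_of_mul {n : ℕ} (σ τ : Perm (Fin n)) (h : σ ∈ alternatingGroup (Fin n))
    (h' : τ ∈ alternatingGroup (Fin n))
    (h2 : (σ * τ) ^ 2 = 1) (h1 : σ * τ ≠ 1) :
    orderOf ((⟨σ, h⟩ : alternatingGroup (Fin n)) * ⟨τ, h'⟩) = 2 * 1 := by
  rw [← Subgroup.orderOf_coe, mul_one]
  exact orderOf_eq_prime h2 h1

theorem dswap_mem {n : ℕ} {i j k l : Fin n} (hij : i ≠ j) (hkl : k ≠ l) :
    swap i j * swap k l ∈ alternatingGroup (Fin n) := by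
  rw [mem_alternatingGroup, Perm.sign_mul, sign_swap hij, sign_swap hkl]
  decide

theorem data4 : DData 4 1 3 where
  ex := ⟨⟨swap 0 1 * swap 2 3, dswap_mem (by decide) (by decide)⟩, ⟨swap 0 2 * swap 1 3, dswap_mem (by decide) (by decide)⟩,
    orderOf_two_of _ _ (by decide) (by decide), orderOf_two_of _ _ (by decide) (by decide),
    orderOf_two_of_mul _ _ _ _ (by decide) (by decide)⟩
  pos := by norm_num
  odd := by decide
  card := by
    have := card_alt 4 (by norm_num)
    norm_num [Nat.factorial] at this ⊢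
    omega

theorem data5 : DData 5 1 15 where
  ex := ⟨⟨swap 0 1 * swap 2 3, dswap_mem (by decide) (by decide)⟩, ⟨swap 0 2 * swap 1 3, dswap_mem (by decide) (by decide)⟩,
    orderOf_two_of _ _ (by decide) (by decide), orderOf_two_of _ _ (by decide) (by decide),
    orderOf_two_of_mul _ _ _ _ (by decide) (by decide)⟩
  pos := by norm_num
  odd := by decide
  card := by
    have := card_alt 5 (by norm_num)
    norm_num [Nat.factorial] at this ⊢
    omega

theorem data6 : DData 6 2 45 where
  ex := ⟨⟨swap 0 2 * swap 1 3, dswap_mem (by decide) (by decide)⟩, ⟨swap 0 1 * swap 4 5, dswap_mem (by decide) (by decide)⟩,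
    orderOf_two_of _ _ (by decide) (by decide), orderOf_two_of _ _ (by decide) (by decide),
    orderOf_four_of _ _ _ _ (by decide) (by decide)⟩
  pos := by norm_num
  odd := by decide
  card := by
    have := card_alt 6 (by norm_num)
    norm_num [Nat.factorial] at this ⊢
    omega

theorem data7 : DData 7 2 315 where
  ex := ⟨⟨swap 0 2 * swap 1 3, dswap_mem (by decide) (by decide)⟩, ⟨swap 0 1 * swap 4 5, dswap_mem (by decide) (by decide)⟩,
    orderOf_two_of _ _ (by decide) (by decide), orderOf_two_of _ _ (by decide) (by decide),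
    orderOf_four_of _ _ _ _ (by decide) (by decide)⟩
  pos := by norm_num
  odd := by decide
  card := by
    have := card_alt 7 (by norm_num)
    norm_num [Nat.factorial] at this ⊢
    omega

theorem unique_involution (n : ℕ) (H : Type) [Group H] [Finite H] (hn : n ≤ 7)
    (hH : Cfsg.IsNonsplitDoubleCover H (alternatingGroup (Fin n))) (x y : H)
    (hx : orderOf x = 2) (hy : orderOf y = 2) : x = y := by
  obtain ⟨hZ, ⟨e⟩, hns⟩ := hH
  let π : H →* alternatingGroup (Fin n) :=
    e.toMonoidHom.comp (QuotientGroup.mk' (Subgroup.center H))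
  have hπ : Function.Surjective π := e.surjective.comp (QuotientGroup.mk'_surjective _)
  have hker : π.ker = Subgroup.center H := by
    ext g
    rw [MonoidHom.mem_ker]
    show e (QuotientGroup.mk g) = 1 ↔ g ∈ Subgroup.center H
    rw [MulEquiv.map_eq_one_iff, QuotientGroup.eq_one_iff]
  have key : ∀ w : H, orderOf w = 2 → w ∈ Subgroup.center H := by
    intro w hw
    by_contra hwZ
    have hw2 : w * w = 1 := by rw [← pow_two, ← hw]; exact pow_orderOf_eq_one w
    by_cases hn3 : n ≤ 3
    · have h1 : π w * π w = 1 := by rw [← map_mul, hw2, map_one]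
      have h2 := no_invol_small n hn3 (π w) h1
      apply hwZ
      rw [← hker]; exact h2
    · have hcompl : ∀ m' k : ℕ, DData n m' k →
          ∃ L : Subgroup H, (Subgroup.center H).IsComplement' L := by
        intro m' k hd
        obtain ⟨b, c, hb, hc, hbc⟩ := hd.ex
        exact exists_complement_of_involution π hπ hker hZ (invol_conj hn) b c hb hc m' hd.pos hbc
          k hd.odd hd.card w hw hwZ
      have : n = 4 ∨ n = 5 ∨ n = 6 ∨ n = 7 := by omega
      rcases this with rfl | rfl | rfl | rfl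
      · obtain ⟨L, hL⟩ := hcompl _ _ data4; exact hns L hL
      · obtain ⟨L, hL⟩ := hcompl _ _ data5; exact hns L hL
      · obtain ⟨L, hL⟩ := hcompl _ _ data6; exact hns L hL
      · obtain ⟨L, hL⟩ := hcompl _ _ data7; exact hns L hL
  have hx1 : x ≠ 1 := by
    intro h; rw [h, orderOf_one] at hx; omega
  have hy1 : y ≠ 1 := by
    intro h; rw [h, orderOf_one] at hy; omega
  obtain ⟨z, _, hz⟩ := (Nat.card_eq_two_iff' (1 : Subgroup.center H)).mp hZ
  have h1 := hz ⟨x, key x hx⟩ (fun h => hx1 (congrArg Subtype.val h))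
  have h2 := hz ⟨y, key y hy⟩ (fun h => hy1 (congrArg Subtype.val h))
  exact congrArg Subtype.val (h1.trans h2.symm)

end Cfsg.Agent.Helper9.Dcv
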