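import Mathlib
import Cfsg.Agent.Helper9.HomCount
import Cfsg.Agent.Helper9.Extraspecial
import Cfsg.Agent.Helper17.Basic

set_option autoImplicit false

namespace Cfsg.Agent.Helper9

open Subgroup
open scoped commutatorElement

/-- An involution `α` acting on an "extraspecial-like" `2`-subgroup `Q` with centre `Z` of order two:
the commutators `[α, q]` generate the centre of `Q₀ = {q ∈ Q | [α, q] ∈ Z}`. -/
theorem closure_commutators_eq_center {G : Type*} [Group G] [Finite G] (Q Z : Subgroup G) (z α : G)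
    (hZ2 : Nat.card Z = 2) (hzZ : z ∈ Z) (hz1 : z ≠ 1) (hZQ : Z ≤ Q)
    (hZc : ∀ t ∈ Z, ∀ q ∈ Q, t * q = q * t)
    (hZmax : ∀ x ∈ Q, (∀ q ∈ Q, q * x = x * q) → x ∈ Z)
    (hcomm : ∀ a ∈ Q, ∀ b ∈ Q, a * b * a⁻¹ * b⁻¹ ∈ Z)
    (hsq : ∀ a ∈ Q, a * a ∈ Z)
    (hα2 : α * α = 1) (hαz : α * z = z * α)
    (hαQ : ∀ q ∈ Q, α * q * α⁻¹ ∈ Q) (hαnc : ∃ q ∈ Q, α * q ≠ q * α)
    (Q₀ : Subgroup G) (hQ₀ : ∀ q : G, q ∈ Q₀ ↔ (q ∈ Q ∧ α * q * α⁻¹ * q⁻¹ ∈ Z)) :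
    Subgroup.closure ((fun q : G => α * q * α⁻¹ * q⁻¹) '' (Q : Set G)) =
      Q₀ ⊓ Subgroup.centralizer (Q₀ : Set G) := by
  classical
  have : Fact (Nat.Prime 2) := ⟨Nat.prime_two⟩
  have hαinv : α⁻¹ = α := by rw [inv_eq_iff_mul_eq_one]; exact hα2
  have hZelem : ∀ x ∈ Z, x = 1 ∨ x = z := by
    intro x hx
    by_cases h : x = 1
    · exact Or.inl h
    · exact Or.inr (eq_of_card_eq_two hZ2 hx hzZ h hz1)
  have hZα : ∀ t ∈ Z, α * t * α⁻¹ = t := by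
    intro t ht
    rcases hZelem t ht with h | h
    · rw [h]; group
    · rw [h, hαz]; group
  have hαQ' : ∀ q ∈ Q, α⁻¹ * q * α ∈ Q := by
    intro q hq
    have := hαQ q hq
    rwa [hαinv] at this ⊢
  have hconjZ : ∀ t ∈ Z, ∀ x ∈ Q, x * t * x⁻¹ = t := by
    intro t ht x hx
    rw [← hZc t ht x hx]; group
  -- bilinearity of the commutator
  have hmulL : ∀ x ∈ Q, ∀ x' ∈ Q, ∀ y ∈ Q, (x * x') * y * (x * x')⁻¹ * y⁻¹ =
      (x * y * x⁻¹ * y⁻¹) * (x' * y * x'⁻¹ * y⁻¹) := by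
    intro x hx x' hx' y hy
    have h1 := hconjZ _ (hcomm x' hx' y hy) x hx
    have h2 := hZc _ (hcomm x' hx' y hy) _ (hZQ (hcomm x hx y hy))
    calc (x * x') * y * (x * x')⁻¹ * y⁻¹
        = (x * (x' * y * x'⁻¹ * y⁻¹) * x⁻¹) * (x * y * x⁻¹ * y⁻¹) := by group
      _ = (x' * y * x'⁻¹ * y⁻¹) * (x * y * x⁻¹ * y⁻¹) := by rw [h1]
      _ = (x * y * x⁻¹ * y⁻¹) * (x' * y * x'⁻¹ * y⁻¹) := h2
  have hmulR : ∀ x ∈ Q, ∀ y ∈ Q, ∀ y' ∈ Q, x * (y * y') * x⁻¹ * (y * y')⁻¹ =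
      (x * y * x⁻¹ * y⁻¹) * (x * y' * x⁻¹ * y'⁻¹) := by
    intro x hx y hy y' hy'
    have h1 := hconjZ _ (hcomm x hx y' hy') y hy
    calc x * (y * y') * x⁻¹ * (y * y')⁻¹
        = (x * y * x⁻¹ * y⁻¹) * (y * (x * y' * x⁻¹ * y'⁻¹) * y⁻¹) := by group
      _ = (x * y * x⁻¹ * y⁻¹) * (x * y' * x⁻¹ * y'⁻¹) := by rw [h1]
  have hinvL : ∀ x ∈ Q, ∀ y ∈ Q, x⁻¹ * y * x⁻¹⁻¹ * y⁻¹ = (x * y * x⁻¹ * y⁻¹)⁻¹ := by
    intro x hx y hy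
    have h := hmulL x hx x⁻¹ (Q.inv_mem hx) y hy
    rw [mul_inv_cancel] at h
    have h' : (1 : G) = (x * y * x⁻¹ * y⁻¹) * (x⁻¹ * y * x⁻¹⁻¹ * y⁻¹) := by
      rw [← h]; group
    exact (inv_eq_of_mul_eq_one_right h'.symm).symm
  have hinvR : ∀ x ∈ Q, ∀ y ∈ Q, x * y⁻¹ * x⁻¹ * y⁻¹⁻¹ = (x * y * x⁻¹ * y⁻¹)⁻¹ := by
    intro x hx y hy
    have h := hmulR x hx y hy y⁻¹ (Q.inv_mem hy)
    rw [mul_inv_cancel] at h
    have h' : (1 : G) = (x * y * x⁻¹ * y⁻¹) * (x * y⁻¹ * x⁻¹ * y⁻¹⁻¹) := by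
      rw [← h]; group
    exact (inv_eq_of_mul_eq_one_right h'.symm).symm
  have hcentR : ∀ x ∈ Q, ∀ t ∈ Z, x * t * x⁻¹ * t⁻¹ = 1 := by
    intro x hx t ht
    rw [hconjZ t ht x hx, mul_inv_cancel]
  -- `β(α q α⁻¹, w) = β(q, α⁻¹ w α)`
  have hα_comm : ∀ q ∈ Q, ∀ w ∈ Q, (α * q * α⁻¹) * w * (α * q * α⁻¹)⁻¹ * w⁻¹ =
      q * (α⁻¹ * w * α) * q⁻¹ * (α⁻¹ * w * α)⁻¹ := by
    intro q hq w hw
    have h1 := hZα _ (hcomm q hq _ (hαQ' w hw))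
    rw [← h1]
    group
  -- the commutator `[c(q), w]`
  have hc_comm : ∀ q ∈ Q, ∀ w ∈ Q, (α * q * α⁻¹ * q⁻¹) * w * (α * q * α⁻¹ * q⁻¹)⁻¹ * w⁻¹ =
      (q * (α⁻¹ * w * α) * q⁻¹ * (α⁻¹ * w * α)⁻¹) * (q * w * q⁻¹ * w⁻¹)⁻¹ := by
    intro q hq w hw
    rw [hmulL _ (hαQ q hq) _ (Q.inv_mem hq) w hw, hα_comm q hq w hw, hinvL q hq w hw]
  have hcQ : ∀ q ∈ Q, α * q * α⁻¹ * q⁻¹ ∈ Q := fun q hq => Q.mul_mem (hαQ q hq) (Q.inv_mem hq)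
  have hQ₀Q : Q₀ ≤ Q := fun q hq => ((hQ₀ q).mp hq).1
  generalize hR : Subgroup.closure ((fun q : G => α * q * α⁻¹ * q⁻¹) '' (Q : Set G)) = R
  have hgen : ∀ q ∈ Q, α * q * α⁻¹ * q⁻¹ ∈ R := by
    intro q hq
    rw [← hR]
    exact Subgroup.subset_closure ⟨q, hq, rfl⟩
  have hRQ : R ≤ Q := by
    rw [← hR, Subgroup.closure_le]
    rintro _ ⟨q, hq, rfl⟩
    exact hcQ q hq
  -- (2) `R` centralizes `Q₀`
  have hRcent : R ≤ centralizer (Q₀ : Set G) := by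
    rw [← hR, Subgroup.closure_le]
    rintro _ ⟨q, hq, rfl⟩
    intro q₀ hq₀
    obtain ⟨hq₀Q, he⟩ := (hQ₀ q₀).mp hq₀
    -- `α⁻¹ q₀ α = e q₀`
    have he' : α⁻¹ * q₀ * α * q₀⁻¹ ∈ Z := by
      have := he
      rwa [hαinv] at this ⊢
    have hm : α⁻¹ * q₀ * α = (α⁻¹ * q₀ * α * q₀⁻¹) * q₀ := by group
    have h1 := hc_comm q hq q₀ hq₀Q
    have h2 : q * (α⁻¹ * q₀ * α) * q⁻¹ * (α⁻¹ * q₀ * α)⁻¹ = q * q₀ * q⁻¹ * q₀⁻¹ := by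
      rw [hm, hmulR q hq _ (hZQ he') q₀ hq₀Q, hcentR q hq _ he', one_mul]
    rw [h2, mul_inv_cancel] at h1
    -- `c q₀ c⁻¹ q₀⁻¹ = 1`
    have h3 : (α * q * α⁻¹ * q⁻¹) * q₀ = q₀ * (α * q * α⁻¹ * q⁻¹) := by
      have : (α * q * α⁻¹ * q⁻¹) * q₀ =
          ((α * q * α⁻¹ * q⁻¹) * q₀ * (α * q * α⁻¹ * q⁻¹)⁻¹ * q₀⁻¹) * (q₀ * (α * q * α⁻¹ * q⁻¹)) := by
        group
      rw [this, h1, one_mul]
    exact h3.symm
  -- (3) `C_Q(R) ≤ Q₀`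
  have hCR : centralizer (R : Set G) ⊓ Q ≤ Q₀ := by
    intro w hw
    obtain ⟨hwC, hwQ⟩ := mem_inf.mp hw
    rw [hQ₀]
    refine ⟨hwQ, ?_⟩
    have hmw : α⁻¹ * w * α ∈ Q := hαQ' w hwQ
    have key : ∀ q ∈ Q, q * (α⁻¹ * w * α * w⁻¹) = (α⁻¹ * w * α * w⁻¹) * q := by
      intro q hq
      have h1 := hc_comm q hq w hwQ
      have h2 : (α * q * α⁻¹ * q⁻¹) * w * (α * q * α⁻¹ * q⁻¹)⁻¹ * w⁻¹ = 1 := by
        have := hwC _ (hgen q hq)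
        rw [this]; group
      rw [h2] at h1
      -- β(q, m w⁻¹) = β(q,m) β(q,w)⁻¹ = 1
      have h3 := hmulR q hq _ hmw w⁻¹ (Q.inv_mem hwQ)
      rw [hinvR q hq w hwQ, ← h1] at h3
      have : q * (α⁻¹ * w * α * w⁻¹) =
          (q * (α⁻¹ * w * α * w⁻¹) * q⁻¹ * (α⁻¹ * w * α * w⁻¹)⁻¹) * ((α⁻¹ * w * α * w⁻¹) * q) := by
        group
      rw [this, h3, one_mul]
    have := hZmax _ (Q.mul_mem hmw (Q.inv_mem hwQ)) key
    rwa [hαinv] at this ⊢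
  -- (4) `z ∈ R`
  have hRnorm : ∀ q₁ ∈ Q, ∀ r ∈ R, q₁ * r * q₁⁻¹ ∈ R := by
    intro q₁ hq₁ r hr
    rw [← hR] at hr ⊢
    induction hr using Subgroup.closure_induction with
    | mem x hx =>
      obtain ⟨q, hq, rfl⟩ := hx
      have e : q₁ * (α * q * α⁻¹ * q⁻¹) * q₁⁻¹ =
          (α * q₁ * α⁻¹ * q₁⁻¹)⁻¹ * (α * (q₁ * q) * α⁻¹ * (q₁ * q)⁻¹) := by group
      rw [e]
      exact Subgroup.mul_mem _ (Subgroup.inv_mem _ (Subgroup.subset_closure ⟨q₁, hq₁, rfl⟩))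
        (Subgroup.subset_closure ⟨q₁ * q, Q.mul_mem hq₁ hq, rfl⟩)
    | one => simp
    | mul x y _ _ hx hy =>
      have e : q₁ * (x * y) * q₁⁻¹ = (q₁ * x * q₁⁻¹) * (q₁ * y * q₁⁻¹) := by group
      rw [e]; exact Subgroup.mul_mem _ hx hy
    | inv x _ hx =>
      have e : q₁ * x⁻¹ * q₁⁻¹ = (q₁ * x * q₁⁻¹)⁻¹ := by group
      rw [e]; exact Subgroup.inv_mem _ hx
  have hzR : z ∈ R := by
    obtain ⟨q, hq, hne⟩ := hαnc
    have hc1 : α * q * α⁻¹ * q⁻¹ ≠ 1 := by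
      intro h
      apply hne
      have : α * q = (α * q * α⁻¹ * q⁻¹) * (q * α) := by group
      rw [this, h, one_mul]
    by_cases hcZ : α * q * α⁻¹ * q⁻¹ ∈ Z
    · rcases hZelem _ hcZ with h | h
      · exact absurd h hc1
      · rw [← h]; exact hgen q hq
    · have : ¬ ∀ q₁ ∈ Q, q₁ * (α * q * α⁻¹ * q⁻¹) = (α * q * α⁻¹ * q⁻¹) * q₁ :=
        fun h => hcZ (hZmax _ (hcQ q hq) h)
      push Not at this
      obtain ⟨q₁, hq₁, hne₁⟩ := this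
      have h1 := hcomm q₁ hq₁ _ (hcQ q hq)
      have h2 : q₁ * (α * q * α⁻¹ * q⁻¹) * q₁⁻¹ * (α * q * α⁻¹ * q⁻¹)⁻¹ ≠ 1 := by
        intro h
        apply hne₁
        have : q₁ * (α * q * α⁻¹ * q⁻¹) =
            (q₁ * (α * q * α⁻¹ * q⁻¹) * q₁⁻¹ * (α * q * α⁻¹ * q⁻¹)⁻¹) * ((α * q * α⁻¹ * q⁻¹) * q₁) := by
          group
        rw [this, h, one_mul]
      rcases hZelem _ h1 with h | h
      · exact absurd h h2
      · rw [← h]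
        exact R.mul_mem (hRnorm q₁ hq₁ _ (hgen q hq)) (R.inv_mem (hgen q hq))
  have hZR : Z ≤ R := by
    intro t ht
    rcases hZelem t ht with h | h
    · rw [h]; exact R.one_mem
    · rw [h]; exact hzR
  -- (5) cardinalities
  have hQcZ : Q ≤ centralizer (Z : Set G) := by
    intro q hq t ht
    exact hZc t ht q hq
  have hβ : ∀ a ∈ Q, ∀ b ∈ Q, ⁅a, b⁆ ∈ Z := fun a ha b hb => by
    rw [commutatorElement_def]; exact hcomm a ha b hb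
  have hZQ₀ : Z ≤ Q₀ := by
    intro t ht
    rw [hQ₀]
    refine ⟨hZQ ht, ?_⟩
    rw [hZα t ht, mul_inv_cancel]
    exact Z.one_mem
  have hinfR : (centralizer (Q : Set G) ⊓ R : Subgroup G) = Z := by
    apply le_antisymm
    · intro x hx
      obtain ⟨hxC, hxR⟩ := mem_inf.mp hx
      exact hZmax x (hRQ hxR) (fun q hq => hxC q hq)
    · exact le_inf (fun t ht q hq => (hZc t ht q hq).symm) hZR
  have hinfQ₀ : (centralizer (Q : Set G) ⊓ Q₀ : Subgroup G) = Z := by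
    apply le_antisymm
    · intro x hx
      obtain ⟨hxC, hxQ₀⟩ := mem_inf.mp hx
      exact hZmax x (hQ₀Q hxQ₀) (fun q hq => hxC q hq)
    · exact le_inf (fun t ht q hq => (hZc t ht q hq).symm) hZQ₀
  have hCRQ : (centralizer (R : Set G) ⊓ Q : Subgroup G) = Q₀ := by
    apply le_antisymm hCR
    exact le_inf (Subgroup.le_centralizer_iff.mp hRcent) hQ₀Q
  have key1 := relIndex_centralizer_eq Z Q R hZ2 hQcZ (hRQ.trans hQcZ)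
    (fun a ha b hb => hβ a ha b (hRQ hb))
  have key2 := relIndex_centralizer_eq Z Q Q₀ hZ2 hQcZ (hQ₀Q.trans hQcZ)
    (fun a ha b hb => hβ a ha b (hQ₀Q hb))
  have e1 := Cfsg.Agent.Helper17.relIndex_mul_card_inf (centralizer (R : Set G)) Q
  have e2 := Cfsg.Agent.Helper17.relIndex_mul_card_inf (centralizer (Q : Set G)) R
  have e3 := Cfsg.Agent.Helper17.relIndex_mul_card_inf (centralizer (Q₀ : Set G)) Q
  have e4 := Cfsg.Agent.Helper17.relIndex_mul_card_inf (centralizer (Q : Set G)) Q₀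
  rw [hCRQ, key1] at e1
  rw [hinfR, hZ2] at e2
  rw [key2] at e3
  rw [hinfQ₀, hZ2] at e4
  -- `R = C_Q(Q₀)`
  have hRle : R ≤ centralizer (Q₀ : Set G) ⊓ Q := le_inf hRcent hRQ
  have hcard : Nat.card (centralizer (Q₀ : Set G) ⊓ Q : Subgroup G) ≤ Nat.card R := by
    generalize (centralizer (Q : Set G)).relIndex R = r at e1 e2
    generalize (centralizer (Q : Set G)).relIndex Q₀ = s at e3 e4
    generalize Nat.card (centralizer (Q₀ : Set G) ⊓ Q : Subgroup G) = c at e3 ⊢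
    have hspos : 0 < s := by
      rcases Nat.eq_zero_or_pos s with h | h
      · rw [h, zero_mul] at e4
        have : 0 < Nat.card Q₀ := Nat.card_pos
        omega
      · exact h
    -- s * c = |Q| = r * |Q₀| = r * (s * 2)
    have h5 : s * c = s * (r * 2) := by
      rw [e3, ← e1, ← e4]; ring
    have h6 := Nat.eq_of_mul_eq_mul_left hspos h5
    rw [h6, e2]
  have hReq : R = centralizer (Q₀ : Set G) ⊓ Q := Subgroup.eq_of_le_of_card_ge hRle hcard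
  -- (6) `R ≤ Q₀`
  have hRQ₀ : R ≤ Q₀ := by
    rw [← hR, Subgroup.closure_le]
    rintro _ ⟨q, hq, rfl⟩
    change α * q * α⁻¹ * q⁻¹ ∈ Q₀
    rw [hQ₀]
    refine ⟨hcQ q hq, ?_⟩
    have hcinv : (α * q * α⁻¹ * q⁻¹)⁻¹ ∈ Q := Q.inv_mem (hcQ q hq)
    have := hsq _ hcinv
    have e : α * (α * q * α⁻¹ * q⁻¹) * α⁻¹ * (α * q * α⁻¹ * q⁻¹)⁻¹ =
        (α * q * α⁻¹ * q⁻¹)⁻¹ * (α * q * α⁻¹ * q⁻¹)⁻¹ := by
      rw [hαinv]
      have h1 : α * (α * q * α * q⁻¹) * α = (α * α) * q * α * q⁻¹ * α := by group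
      rw [h1, hα2]
      have h2 : (α * q * α * q⁻¹)⁻¹ = q * α⁻¹ * q⁻¹ * α⁻¹ := by group
      rw [h2, hαinv]
      group
    rw [e]
    exact this
  apply le_antisymm
  · exact le_inf hRQ₀ hRcent
  · rw [hReq]
    exact le_inf inf_le_right (inf_le_left.trans hQ₀Q)

end Cfsg.Agent.Helper9
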