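import Mathlib
import Cfsg.Agent.Helper1.Wielandt

/-!
Flavell's generalisation of Wielandt's zipper lemma, part 1:
subgroups generated by their own conjugates of `A` (`Closed A H`), subnormal closures.
-/

set_option autoImplicit false
set_option linter.style.haveILetI false

namespace Cfsg.Agent.Helper9.Flavell

open Pointwise
open Cfsg.Agent.Helper1 (SubnIn MaxIn mem_conj_smul_iff conj_smul_eq_self_iff)

variable {G : Type*} [Group G]

/-- `H` is the normal closure of `A` in `H`, expressed by the universal property. -/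
def Closed (A H : Subgroup G) : Prop :=
  A ≤ H ∧ ∀ N : Subgroup G, A ≤ N → H ≤ Subgroup.normalizer (N : Set G) → H ≤ N

theorem Closed.le {A H : Subgroup G} (h : Closed A H) : A ≤ H := h.1

theorem closed_self (A : Subgroup G) : Closed A A := ⟨le_rfl, fun _ h _ => h⟩

theorem closed_iff {A H : Subgroup G} (hAH : A ≤ H) :
    Subgroup.normalClosure ((A.subgroupOf H : Subgroup ↥H) : Set ↥H) = ⊤ ↔ Closed A H := by
  constructor
  · intro h
    refine ⟨hAH, fun N hAN hHN => ?_⟩
    haveI : (N.subgroupOf H).Normal := Subgroup.normal_subgroupOf_of_le_normalizer hHN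
    have h1 : Subgroup.normalClosure ((A.subgroupOf H : Subgroup ↥H) : Set ↥H) ≤ N.subgroupOf H :=
      Subgroup.normalClosure_le_normal (Subgroup.subgroupOf_mono H hAN)
    rw [h, top_le_iff, Subgroup.subgroupOf_eq_top] at h1
    exact h1
  · intro h
    set C : Subgroup ↥H := Subgroup.normalClosure ((A.subgroupOf H : Subgroup ↥H) : Set ↥H) with hC
    have hCn : C.Normal := Subgroup.normalClosure_normal
    have h1 : A ≤ C.map H.subtype := by
      intro a ha
      refine ⟨⟨a, hAH ha⟩, ?_, rfl⟩
      exact Subgroup.subset_normalClosure (Subgroup.mem_subgroupOf.mpr ha)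
    have h2 : H ≤ Subgroup.normalizer ((C.map H.subtype : Subgroup G) : Set G) := by
      have h3 := Subgroup.le_normalizer_map (H := C) H.subtype
      rw [Subgroup.normalizer_eq_top_iff.mpr hCn] at h3
      refine le_trans ?_ h3
      intro x hx
      exact ⟨⟨x, hx⟩, Subgroup.mem_top _, rfl⟩
    have h4 := h.2 _ h1 h2
    rw [eq_top_iff]
    intro x _
    obtain ⟨y, hy, hyx⟩ := h4 x.2
    have : y = x := Subtype.ext hyx
    rw [← this]; exact hy

theorem closed_top_iff {A : Subgroup G} :
    Subgroup.normalClosure (A : Set G) = ⊤ ↔ Closed A ⊤ := by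
  constructor
  · intro h
    refine ⟨le_top, fun N hAN hN => ?_⟩
    haveI : N.Normal := Subgroup.normalizer_eq_top_iff.mp (top_le_iff.mp hN)
    rw [← h]
    exact Subgroup.normalClosure_le_normal hAN
  · intro h
    have h1 : A ≤ Subgroup.normalClosure (A : Set G) := Subgroup.subset_normalClosure
    have h2 : (⊤ : Subgroup G) ≤
        Subgroup.normalizer ((Subgroup.normalClosure (A : Set G) : Subgroup G) : Set G) := by
      rw [Subgroup.normalizer_eq_top_iff.mpr Subgroup.normalClosure_normal]
    exact top_le_iff.mp (h.2 _ h1 h2)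

theorem Closed.trans {A S H : Subgroup G} (h1 : Closed A S) (h2 : Closed S H) : Closed A H :=
  ⟨h1.1.trans h2.1, fun N hAN hHN => h2.2 N (h1.2 N hAN (h2.1.trans hHN)) hHN⟩

theorem closed_sSup {A : Subgroup G} {S : Set (Subgroup G)} (hne : S.Nonempty)
    (h : ∀ H ∈ S, Closed A H) : Closed A (sSup S) := by
  obtain ⟨H₀, hH₀⟩ := hne
  refine ⟨(h H₀ hH₀).1.trans (le_sSup hH₀), fun N hAN hN => ?_⟩
  apply sSup_le
  intro H hH
  exact (h H hH).2 N hAN ((le_sSup hH).trans hN)

theorem Closed.conj {A H : Subgroup G} (h : Closed A H) (g : G) :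
    Closed (MulAut.conj g • A) (MulAut.conj g • H) := by
  refine ⟨Subgroup.pointwise_smul_le_pointwise_smul_iff.mpr h.1, fun N hAN hN => ?_⟩
  have h1 : A ≤ MulAut.conj g⁻¹ • N := by
    have := Subgroup.pointwise_smul_le_pointwise_smul_iff (a := MulAut.conj g⁻¹).mpr hAN
    rw [map_inv] at this ⊢
    rwa [inv_smul_smul] at this
  have h2 : H ≤ Subgroup.normalizer ((MulAut.conj g⁻¹ • N : Subgroup G) : Set G) := by
    intro x hx
    have hx' : g * x * g⁻¹ ∈ MulAut.conj g • H := by
      rw [mem_conj_smul_iff]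
      have : g⁻¹ * (g * x * g⁻¹) * g = x := by group
      rw [this]; exact hx
    have h3 := hN hx'
    rw [← conj_smul_eq_self_iff] at h3 ⊢
    have h4 : MulAut.conj x • MulAut.conj g⁻¹ • N =
        MulAut.conj g⁻¹ • (MulAut.conj (g * x * g⁻¹) • N) := by
      rw [← mul_smul, ← mul_smul, ← map_mul, ← map_mul]
      congr 2
      group
    rw [h4, h3]
  have h5 := h.2 _ h1 h2
  have := Subgroup.pointwise_smul_le_pointwise_smul_iff (a := MulAut.conj g).mpr h5
  rwa [map_inv, smul_inv_smul] at this

/-- a proper subnormal subgroup of `X` lies in a proper subgroup of `X` normalised by `X`. -/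
theorem SubnIn.exists_normal_lt {S X : Subgroup G} (h : SubnIn S X) (hne : S ≠ X) :
    ∃ N : Subgroup G, S ≤ N ∧ N < X ∧ X ≤ Subgroup.normalizer (N : Set G) := by
  have hne' : S.subgroupOf X ≠ ⊤ := by
    intro h1
    rw [Subgroup.subgroupOf_eq_top] at h1
    exact hne (le_antisymm h.1 h1)
  obtain ⟨K, hKn, hSK, hKlt⟩ := h.2.exists_normal_and_le_and_lt_top_of_ne hne'
  refine ⟨K.map X.subtype, ?_, ?_, ?_⟩
  · intro s hs
    exact ⟨⟨s, h.1 hs⟩, hSK (Subgroup.mem_subgroupOf.mpr hs), rfl⟩
  · refine lt_of_le_of_ne (Subgroup.map_subtype_le K) ?_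
    intro heq
    apply hKlt.ne
    rw [eq_top_iff]
    intro x _
    have : (x : G) ∈ K.map X.subtype := by rw [heq]; exact x.2
    obtain ⟨y, hy, hyx⟩ := this
    have : y = x := Subtype.ext hyx
    rw [← this]; exact hy
  · have h3 := Subgroup.le_normalizer_map (H := K) X.subtype
    rw [Subgroup.normalizer_eq_top_iff.mpr hKn] at h3
    refine le_trans ?_ h3
    intro x hx
    exact ⟨⟨x, hx⟩, Subgroup.mem_top _, rfl⟩

/-- A subgroup generated by its conjugates of `A` lies in every subnormal subgroup containing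
`A` of every overgroup. -/
theorem Closed.le_of_subnIn [Finite G] {A H : Subgroup G} (hc : Closed A H) :
    ∀ (n : ℕ) (S X : Subgroup G), Nat.card X = n → SubnIn S X → A ≤ S → H ≤ X → H ≤ S := by
  intro n
  induction n using Nat.strong_induction_on with
  | _ n ih =>
  intro S X hn hS hAS hHX
  by_cases hSX : S = X
  · rw [hSX]; exact hHX
  · obtain ⟨N, hSN, hNX, hXN⟩ := SubnIn.exists_normal_lt hS hSX
    have h1 : H ≤ N := hc.2 N (hAS.trans hSN) (hHX.trans hXN)
    have h2 := Cfsg.Agent.Helper1.card_lt_of_lt' hNX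
    exact ih (Nat.card N) (by omega) S N rfl (hS.mono hSN hNX.le) hAS h1

theorem Closed.le_of_subnIn' [Finite G] {A H S X : Subgroup G} (hc : Closed A H)
    (hS : SubnIn S X) (hAS : A ≤ S) (hHX : H ≤ X) : H ≤ S :=
  hc.le_of_subnIn _ S X rfl hS hAS hHX

/-- a subnormal subgroup generated by its own conjugates of itself is everything -/
theorem Closed.eq_of_subnIn [Finite G] {B H L : Subgroup G} (hc : Closed B H)
    (hHL : H ≤ L) (hB : SubnIn B L) : H = B :=
  le_antisymm (hc.le_of_subnIn' hB le_rfl hHL) hc.1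

theorem mem_normalizer_inf {N X : Subgroup G} {x : G}
    (hxN : x ∈ Subgroup.normalizer (N : Set G)) (hxX : x ∈ X) :
    x ∈ Subgroup.normalizer ((N ⊓ X : Subgroup G) : Set G) := by
  rw [Subgroup.mem_normalizer_iff] at hxN ⊢
  intro y
  rw [Subgroup.mem_inf, Subgroup.mem_inf, ← hxN y]
  constructor
  · rintro ⟨h1, h2⟩
    exact ⟨h1, X.mul_mem (X.mul_mem hxX h2) (X.inv_mem hxX)⟩
  · rintro ⟨h1, h2⟩
    refine ⟨h1, ?_⟩
    have : y = x⁻¹ * (x * y * x⁻¹) * x := by group
    rw [this]
    exact X.mul_mem (X.mul_mem (X.inv_mem hxX) h2) hxX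

/-- the subnormal closure of `A` in `X` -/
theorem exists_subnormal_closure [Finite G] (A : Subgroup G) :
    ∀ (n : ℕ) (X : Subgroup G), Nat.card X = n → A ≤ X →
      ∃ S : Subgroup G, A ≤ S ∧ SubnIn S X ∧ Closed A S := by
  intro n
  induction n using Nat.strong_induction_on with
  | _ n ih =>
  intro X hn hAX
  by_cases hc : Closed A X
  · exact ⟨X, hAX, SubnIn.refl X, hc⟩
  · unfold Closed at hc
    push Not at hc
    obtain ⟨N, hAN, hXN, hXnN⟩ := hc hAX
    have hlt : N ⊓ X < X := by
      refine lt_of_le_of_ne inf_le_right ?_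
      intro heq
      apply hXnN
      rw [← heq]; exact inf_le_left
    have hnorm : X ≤ Subgroup.normalizer ((N ⊓ X : Subgroup G) : Set G) :=
      fun x hx => mem_normalizer_inf (hXN hx) hx
    have h2 := Cfsg.Agent.Helper1.card_lt_of_lt' hlt
    obtain ⟨S, hAS, hS, hcl⟩ := ih (Nat.card (N ⊓ X : Subgroup G)) (by omega) (N ⊓ X) rfl
      (le_inf hAN hAX)
    exact ⟨S, hAS, hS.trans (SubnIn.of_normal hlt.le hnorm), hcl⟩

theorem exists_subnormal_closure' [Finite G] {A X : Subgroup G} (hAX : A ≤ X) :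
    ∃ S : Subgroup G, A ≤ S ∧ SubnIn S X ∧ Closed A S :=
  exists_subnormal_closure A _ X rfl hAX

/-- finite joins of subnormal subgroups are subnormal -/
theorem subnIn_iSup [Finite G] {ι : Type*} [Finite ι] {L : Subgroup G} (f : ι → Subgroup G)
    (h : ∀ i, SubnIn (f i) L) : SubnIn (⨆ i, f i) L := by
  classical
  haveI := Fintype.ofFinite ι
  have key : ∀ s : Finset ι, SubnIn (s.sup f) L := by
    intro s
    induction s using Finset.induction_on with
    | empty =>
      rw [Finset.sup_empty]
      refine SubnIn.of_normal bot_le ?_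
      have : Subgroup.normalizer (((⊥ : Subgroup G) : Subgroup G) : Set G) = ⊤ :=
        Subgroup.normalizer_eq_top_iff.mpr inferInstance
      rw [this]; exact le_top
    | insert a s _ ih =>
      rw [Finset.sup_insert]
      exact (h a).sup ih
  have := key Finset.univ
  rwa [Finset.sup_univ_eq_iSup] at this

theorem isCoatom_iff_maxIn {M : Subgroup G} : IsCoatom M ↔ MaxIn M ⊤ := by
  unfold MaxIn
  constructor
  · intro h
    exact ⟨lt_top_iff_ne_top.mpr h.1, fun K hK _ => h.2 K hK⟩
  · intro h
    exact ⟨h.1.ne, fun K hK => h.2 K hK le_top⟩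

theorem isCoatom_conj {M : Subgroup G} (hM : IsCoatom M) (g : G) :
    IsCoatom (MulAut.conj g • M) := by
  constructor
  · intro h
    apply hM.1
    have : MulAut.conj g⁻¹ • (MulAut.conj g • M) = MulAut.conj g⁻¹ • (⊤ : Subgroup G) := by rw [h]
    rw [map_inv, inv_smul_smul] at this
    rw [this, eq_top_iff]
    intro x _
    rw [Subgroup.mem_pointwise_smul_iff_inv_smul_mem]
    exact Subgroup.mem_top _
  · intro K hK
    have h1 : M < MulAut.conj g⁻¹ • K := by
      have h0 := Subgroup.pointwise_smul_le_pointwise_smul_iff (a := MulAut.conj g⁻¹).mpr hK.le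
      rw [map_inv] at h0 ⊢
      rw [inv_smul_smul] at h0
      refine lt_of_le_of_ne h0 ?_
      intro heq
      apply hK.ne
      rw [heq, smul_inv_smul]
    have h2 := hM.2 _ h1
    have : MulAut.conj g • (MulAut.conj g⁻¹ • K) = MulAut.conj g • (⊤ : Subgroup G) := by rw [h2]
    rw [map_inv, smul_inv_smul] at this
    rw [this, eq_top_iff]
    intro x _
    rw [Subgroup.mem_pointwise_smul_iff_inv_smul_mem]
    exact Subgroup.mem_top _

theorem conj_smul_of_mem {H : Subgroup G} {g : G} (hg : g ∈ H) : MulAut.conj g • H = H := by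
  rw [conj_smul_eq_self_iff]
  exact Subgroup.le_normalizer hg

theorem conj_smul_le_of_mem {A H : Subgroup G} {g : G} (hg : g ∈ H) (hA : A ≤ H) :
    MulAut.conj g • A ≤ H := by
  have := Subgroup.pointwise_smul_le_pointwise_smul_iff (a := MulAut.conj g).mpr hA
  rwa [conj_smul_of_mem hg] at this

theorem conj_mul_smul (g h : G) (A : Subgroup G) :
    MulAut.conj (g * h) • A = MulAut.conj g • MulAut.conj h • A := by
  rw [map_mul, mul_smul]

theorem conj_one_smul (A : Subgroup G) : MulAut.conj (1 : G) • A = A := by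
  rw [map_one, one_smul]

end Cfsg.Agent.Helper9.Flavell
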