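import Mathlib
import Cfsg.Agent.Helper9.Flavell1

/-!
Flavell's generalisation of Wielandt's zipper lemma, part 2:
the configuration of a minimal counterexample.  `A` is the subgroup, `M` the unique maximal
subgroup containing the join of the proper `A`-closed subgroups.  "Lines" are the conjugates
`g • A`, and the "bad" maximal subgroup of the line `g • A` is `g • M`.
-/

set_option autoImplicit false
set_option linter.style.haveILetI false

namespace Cfsg.Agent.Helper9.Flavell

open Pointwise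
open Cfsg.Agent.Helper1 (SubnIn MaxIn mem_conj_smul_iff conj_smul_eq_self_iff)

variable {G : Type*} [Group G]

/-- the family of proper `B`-closed subgroups -/
def fam (B : Subgroup G) : Set (Subgroup G) := {H | H ≠ ⊤ ∧ Closed B H}

/-- the statement of the theorem for `B` -/
def Good (B : Subgroup G) : Prop :=
  sSup (fam B) = ⊤ ∨ ∃! M : Subgroup G, IsCoatom M ∧ B ≤ M

/-- The standing hypotheses in a minimal counterexample. -/
structure Cfg (A M : Subgroup G) : Prop where
  hM : IsCoatom M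
  hAM : A ≤ M
  hN : Subgroup.normalizer (A : Set G) ≤ M
  hcl : Closed A ⊤
  hsn : ∀ (g : G) (L : Subgroup G), IsCoatom L → MulAut.conj g • A ≤ L →
    L ≠ MulAut.conj g • M → SubnIn (MulAut.conj g • A) L
  ih : ∀ B : Subgroup G, Nat.card A < Nat.card B → B ≠ ⊤ → Closed B ⊤ → Good B

theorem closed_top_of_conj_le {A B : Subgroup G} (h : Closed A ⊤) (g : G)
    (hB : MulAut.conj g • A ≤ B) : Closed B ⊤ := by
  refine ⟨le_top, fun N hBN hN => ?_⟩
  apply h.2 N ?_ hN
  intro a ha
  have h1 : g * a * g⁻¹ ∈ N := by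
    apply hBN; apply hB
    rw [mem_conj_smul_iff]
    have : g⁻¹ * (g * a * g⁻¹) * g = a := by group
    rw [this]; exact ha
  have h2 : g⁻¹ ∈ Subgroup.normalizer (N : Set G) := hN (Subgroup.mem_top _)
  rw [Subgroup.mem_normalizer_iff] at h2
  have h3 := (h2 (g * a * g⁻¹)).mp h1
  have : g⁻¹ * (g * a * g⁻¹) * g⁻¹⁻¹ = a := by group
  rwa [this] at h3

theorem normalizer_conj_le {A M : Subgroup G} (h : Subgroup.normalizer (A : Set G) ≤ M) (f : G) :
    Subgroup.normalizer ((MulAut.conj f • A : Subgroup G) : Set G) ≤ MulAut.conj f • M := by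
  intro x hx
  rw [← conj_smul_eq_self_iff] at hx
  rw [mem_conj_smul_iff]
  apply h
  rw [← conj_smul_eq_self_iff]
  have h1 : MulAut.conj (f⁻¹ * x * f) • A = MulAut.conj f⁻¹ • (MulAut.conj x • MulAut.conj f • A) := by
    rw [← mul_smul, ← mul_smul, ← map_mul, ← map_mul, mul_assoc]
  rw [h1, hx, map_inv, inv_smul_smul]

theorem Cfg.conj [Finite G] {A M : Subgroup G} (c : Cfg A M) (f : G) :
    Cfg (MulAut.conj f • A) (MulAut.conj f • M) where
  hM := isCoatom_conj c.hM f
  hAM := Subgroup.pointwise_smul_le_pointwise_smul_iff.mpr c.hAM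
  hN := normalizer_conj_le c.hN f
  hcl := closed_top_of_conj_le c.hcl f le_rfl
  hsn := by
    intro g L hL hle hne
    rw [← conj_mul_smul] at hle hne ⊢
    exact c.hsn (g * f) L hL hle hne
  ih := by
    intro B hB
    rw [Cfsg.Agent.Helper3.card_conj_smul] at hB
    exact c.ih B hB

section
variable [Finite G] {A M : Subgroup G}

theorem Cfg.line_le (c : Cfg A M) (g : G) : MulAut.conj g • A ≤ MulAut.conj g • M :=
  Subgroup.pointwise_smul_le_pointwise_smul_iff.mpr c.hAM

theorem exists_coatom_ge {H : Subgroup G} (hH : H ≠ ⊤) : ∃ L : Subgroup G, IsCoatom L ∧ H ≤ L :=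
  (eq_top_or_exists_le_coatom H).resolve_left hH

/-- every proper `(g•A ⊔ h•A)`-closed subgroup is the join itself or lies in one of the two bad
maximal subgroups -/
theorem Cfg.fam_pair (c : Cfg A M) (g h : G) (H : Subgroup G)
    (hH : H ∈ fam (MulAut.conj g • A ⊔ MulAut.conj h • A)) :
    H = MulAut.conj g • A ⊔ MulAut.conj h • A ∨ H ≤ MulAut.conj g • M ∨ H ≤ MulAut.conj h • M := by
  obtain ⟨L, hL, hHL⟩ := exists_coatom_ge hH.1
  by_cases h1 : L = MulAut.conj g • M
  · right; left; rw [← h1]; exact hHL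
  by_cases h2 : L = MulAut.conj h • M
  · right; right; rw [← h2]; exact hHL
  left
  have hBL := hH.2.1.trans hHL
  have s1 := c.hsn g L hL (le_sup_left.trans hBL) h1
  have s2 := c.hsn h L hL (le_sup_right.trans hBL) h2
  exact hH.2.eq_of_subnIn hHL (s1.sup s2)

theorem fam_not_le {B X : Subgroup G} (hB : sSup (fam B) = ⊤) (hX : X ≠ ⊤) :
    ∃ H ∈ fam B, ¬ H ≤ X := by
  by_contra hcon
  push Not at hcon
  apply hX
  rw [eq_top_iff, ← hB]
  exact sSup_le hcon

theorem Cfg.card_lt_sup (g h : G) (hne : MulAut.conj g • A ≠ MulAut.conj h • A) :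
    Nat.card A < Nat.card (MulAut.conj g • A ⊔ MulAut.conj h • A : Subgroup G) := by
  have h1 : MulAut.conj g • A < MulAut.conj g • A ⊔ MulAut.conj h • A := by
    refine lt_of_le_of_ne le_sup_left ?_
    intro heq
    have h2 : MulAut.conj h • A ≤ MulAut.conj g • A := by
      rw [heq]; exact le_sup_right
    apply hne
    symm
    apply Subgroup.eq_of_le_of_card_ge h2
    rw [Cfsg.Agent.Helper3.card_conj_smul, Cfsg.Agent.Helper3.card_conj_smul]
  have := Cfsg.Agent.Helper1.card_lt_of_lt' h1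
  rwa [Cfsg.Agent.Helper3.card_conj_smul] at this

/-- one half of the incidence lemma -/
theorem Cfg.incident_aux (c : Cfg A M) (g h : G)
    (hne : MulAut.conj g • A ≠ MulAut.conj h • A) (L₁ L₂ : Subgroup G) (hL₁ : IsCoatom L₁)
    (hL₂ : IsCoatom L₂) (hL : L₁ ≠ L₂)
    (h1 : MulAut.conj g • A ⊔ MulAut.conj h • A ≤ L₁)
    (h2 : MulAut.conj g • A ⊔ MulAut.conj h • A ≤ L₂) :
    MulAut.conj h • A ≤ MulAut.conj g • M := by
  set B := MulAut.conj g • A ⊔ MulAut.conj h • A with hB
  have hBtop : B ≠ ⊤ := fun h0 => hL₁.1 (top_le_iff.mp (h0 ▸ h1))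
  have hgood := c.ih B (Cfg.card_lt_sup g h hne) hBtop (closed_top_of_conj_le c.hcl g le_sup_left)
  have hsup : sSup (fam B) = ⊤ := by
    rcases hgood with h0 | ⟨M', _, hM'⟩
    · exact h0
    · exact absurd ((hM' L₁ ⟨hL₁, h1⟩).trans (hM' L₂ ⟨hL₂, h2⟩).symm) hL
  by_contra hcon
  -- no member of the family lies in `g • M`
  by_cases hg : MulAut.conj g • A ≤ MulAut.conj h • M
  · obtain ⟨H, hH, hHX⟩ := fam_not_le hsup (isCoatom_conj c.hM h).1
    rcases c.fam_pair g h H hH with h0 | h0 | h0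
    · apply hHX; rw [h0]; exact sup_le hg (c.line_le h)
    · exact hcon ((le_sup_right.trans hH.2.1).trans h0)
    · exact hHX h0
  · obtain ⟨H, hH, hHX⟩ := fam_not_le hsup hL₁.1
    rcases c.fam_pair g h H hH with h0 | h0 | h0
    · apply hHX; rw [h0]; exact h1
    · exact hcon ((le_sup_right.trans hH.2.1).trans h0)
    · exact hg ((le_sup_left.trans hH.2.1).trans h0)

/-- **Incidence lemma**: two distinct lines inside two distinct maximal subgroups lie in each
other's bad maximal subgroup, and these are distinct. -/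
theorem Cfg.incident (c : Cfg A M) (g h : G)
    (hne : MulAut.conj g • A ≠ MulAut.conj h • A) (L₁ L₂ : Subgroup G) (hL₁ : IsCoatom L₁)
    (hL₂ : IsCoatom L₂) (hL : L₁ ≠ L₂)
    (hg1 : MulAut.conj g • A ≤ L₁) (hh1 : MulAut.conj h • A ≤ L₁)
    (hg2 : MulAut.conj g • A ≤ L₂) (hh2 : MulAut.conj h • A ≤ L₂) :
    MulAut.conj g • A ≤ MulAut.conj h • M ∧ MulAut.conj h • A ≤ MulAut.conj g • M ∧
      MulAut.conj g • M ≠ MulAut.conj h • M := by
  have a1 := c.incident_aux g h hne L₁ L₂ hL₁ hL₂ hL (sup_le hg1 hh1) (sup_le hg2 hh2)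
  have a2 := c.incident_aux h g hne.symm L₁ L₂ hL₁ hL₂ hL (sup_le hh1 hg1) (sup_le hh2 hg2)
  refine ⟨a2, a1, ?_⟩
  intro heq
  set B := MulAut.conj g • A ⊔ MulAut.conj h • A with hB
  have hBtop : B ≠ ⊤ := fun h0 => hL₁.1 (top_le_iff.mp (h0 ▸ (sup_le hg1 hh1)))
  have hgood := c.ih B (Cfg.card_lt_sup g h hne) hBtop (closed_top_of_conj_le c.hcl g le_sup_left)
  have hsup : sSup (fam B) = ⊤ := by
    rcases hgood with h0 | ⟨M', _, hM'⟩
    · exact h0
    · exact absurd ((hM' L₁ ⟨hL₁, sup_le hg1 hh1⟩).trans (hM' L₂ ⟨hL₂, sup_le hg2 hh2⟩).symm) hL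
  obtain ⟨H, hH, hHX⟩ := fam_not_le hsup (isCoatom_conj c.hM g).1
  rcases c.fam_pair g h H hH with h0 | h0 | h0
  · apply hHX; rw [h0]; exact sup_le (c.line_le g) a1
  · exact hHX h0
  · apply hHX; rw [heq]; exact h0

end

end Cfsg.Agent.Helper9.Flavell
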