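import Mathlib
import Cfsg.Agent.Helper9.Flavell2

/-!
Flavell's generalisation of Wielandt's zipper lemma, part 3:
subgroups lying in a unique maximal subgroup, the stability lemma, and the theorem.
-/

set_option autoImplicit false
set_option linter.style.haveILetI false
set_option linter.unusedSectionVars false

namespace Cfsg.Agent.Helper9.Flavell

open Pointwise
open Cfsg.Agent.Helper1 (SubnIn MaxIn mem_conj_smul_iff conj_smul_eq_self_iff)

variable {G : Type*} [Group G] [Finite G] {A M : Subgroup G}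

/-- normal closure of `A` under `X`, as a subgroup of `G` -/
def ncl (A X : Subgroup G) : Subgroup G := ⨆ x : X, MulAut.conj (x : G) • A

theorem le_ncl (A X : Subgroup G) : A ≤ ncl A X := by
  unfold ncl
  have := le_iSup (fun x : X => MulAut.conj (x : G) • A) 1
  simpa using this

theorem conj_le_ncl {A X : Subgroup G} {x : G} (hx : x ∈ X) : MulAut.conj x • A ≤ ncl A X :=
  le_iSup (fun x : X => MulAut.conj (x : G) • A) ⟨x, hx⟩

theorem ncl_le {A X N : Subgroup G} (hAN : A ≤ N) (hXN : X ≤ Subgroup.normalizer (N : Set G)) :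
    ncl A X ≤ N := by
  apply iSup_le
  intro x
  have h1 := Subgroup.pointwise_smul_le_pointwise_smul_iff (a := MulAut.conj (x : G)).mpr hAN
  rwa [(conj_smul_eq_self_iff _ _).mpr (hXN x.2)] at h1

theorem ncl_le_self {A X : Subgroup G} (hAX : A ≤ X) : ncl A X ≤ X :=
  ncl_le hAX Subgroup.le_normalizer

theorem le_normalizer_ncl (A X : Subgroup G) :
    X ≤ Subgroup.normalizer ((ncl A X : Subgroup G) : Set G) := by
  intro h hh
  rw [← conj_smul_eq_self_iff]
  apply Cfsg.Agent.Helper3.conj_smul_le_eq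
  unfold ncl
  rw [← Cfsg.Agent.Helper1.map_conj_eq_smul, Subgroup.map_iSup]
  apply iSup_le
  intro g
  have : (MulAut.conj (g : G) • A).map (MulAut.conj h).toMonoidHom = MulAut.conj (h * g) • A := by
    rw [Cfsg.Agent.Helper1.map_conj_eq_smul, map_mul, mul_smul]
  rw [this]
  exact le_iSup (fun g : X => MulAut.conj (g : G) • A) ⟨h * g, X.mul_mem hh g.2⟩

theorem coatom_eq_of_le {K L : Subgroup G} (hK : IsCoatom K) (hL : IsCoatom L) (h : K ≤ L) :
    L = K := by
  by_contra hne
  exact hL.1 (hK.2 L (lt_of_le_of_ne h (Ne.symm hne)))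

/-- descent along the normal closure series -/
theorem Cfg.exists_F_aux (c : Cfg A M) (K : Subgroup G) (hK : IsCoatom K) :
    ∀ (n : ℕ) (X : Subgroup G), Nat.card X = n → A ≤ X → X ≤ K → ¬ X ≤ M → SubnIn A X →
      (∀ L : Subgroup G, IsCoatom L → X ≤ L → L = K) →
      ∃ F : Subgroup G, F ≤ K ∧ (∀ L : Subgroup G, IsCoatom L → F ≤ L → L = K) ∧
        (∀ k ∈ F, MulAut.conj k • A ≤ M) ∧ ¬ F ≤ M := by
  intro n
  induction n using Nat.strong_induction_on with
  | _ n ih =>
  intro X hn hAX hXK hXM hsn huniq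
  by_cases hX' : ncl A X ≤ M
  · exact ⟨X, hXK, huniq, fun k hk => (conj_le_ncl hk).trans hX', hXM⟩
  · -- the normal closure is smaller
    have hAneX : A ≠ X := fun h0 => hXM (h0 ▸ c.hAM)
    obtain ⟨N, hAN, hNX, hXN⟩ := SubnIn.exists_normal_lt hsn hAneX
    have hlt : ncl A X < X := lt_of_le_of_lt (ncl_le hAN hXN) hNX
    have hcard := Cfsg.Agent.Helper1.card_lt_of_lt' hlt
    -- it lies in a unique maximal subgroup
    have hsnL : ∀ L : Subgroup G, IsCoatom L → ncl A X ≤ L → SubnIn (ncl A X) L := by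
      intro L hL hle
      unfold ncl
      apply subnIn_iSup
      intro x
      apply c.hsn (x : G) L hL ((conj_le_ncl x.2).trans hle)
      intro heq
      apply hX'
      have h1 : MulAut.conj (x : G)⁻¹ • ncl A X ≤ MulAut.conj (x : G)⁻¹ • L :=
        Subgroup.pointwise_smul_le_pointwise_smul_iff.mpr hle
      have h2 : MulAut.conj (x : G)⁻¹ • ncl A X = ncl A X := by
        rw [conj_smul_eq_self_iff]
        exact le_normalizer_ncl A X (X.inv_mem x.2)
      rw [h2, heq, map_inv, inv_smul_smul] at h1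
      exact h1
    have hAlt : A < ncl A X := by
      refine lt_of_le_of_ne (le_ncl A X) ?_
      intro h0
      apply hX'
      rw [← h0]; exact c.hAM
    have hne_top : ncl A X ≠ ⊤ := by
      intro h0
      apply hK.1
      rw [eq_top_iff, ← h0]
      exact hlt.le.trans hXK
    have hgood := c.ih (ncl A X) (Cfsg.Agent.Helper1.card_lt_of_lt' hAlt) hne_top
      (closed_top_of_conj_le c.hcl 1 (by rw [conj_one_smul]; exact le_ncl A X))
    have huniq' : ∀ L : Subgroup G, IsCoatom L → ncl A X ≤ L → L = K := by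
      intro L hL hle
      rcases hgood with h0 | ⟨M', _, hM'⟩
      · exfalso
        obtain ⟨H, hH, hHK⟩ := fam_not_le h0 hK.1
        obtain ⟨L', hL', hHL'⟩ := exists_coatom_ge hH.1
        have := hH.2.eq_of_subnIn hHL' (hsnL L' hL' (hH.2.1.trans hHL'))
        apply hHK
        rw [this]
        exact hlt.le.trans hXK
      · exact (hM' L ⟨hL, hle⟩).trans (hM' K ⟨hK, hlt.le.trans hXK⟩).symm
    exact ih (Nat.card (ncl A X)) (by omega) (ncl A X) rfl (le_ncl A X) (hlt.le.trans hXK) hX'
      (hsn.mono (le_ncl A X) hlt.le) huniq'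

/-- For a maximal subgroup `K ≠ M` containing `A` there is a subgroup `F` of `K`, lying in no other
maximal subgroup, not inside `M`, all of whose elements conjugate `A` into `M`. -/
theorem Cfg.exists_F (c : Cfg A M) (K : Subgroup G) (hK : IsCoatom K) (hAK : A ≤ K)
    (hKM : K ≠ M) :
    ∃ F : Subgroup G, F ≤ K ∧ (∀ L : Subgroup G, IsCoatom L → F ≤ L → L = K) ∧
      (∀ k ∈ F, MulAut.conj k • A ≤ M) ∧ ¬ F ≤ M := by
  have hsn : SubnIn A K := by
    have := c.hsn 1 K hK (by rw [conj_one_smul]; exact hAK) (by rw [conj_one_smul]; exact hKM)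
    rwa [conj_one_smul] at this
  refine c.exists_F_aux K hK _ K rfl hAK le_rfl ?_ hsn ?_
  · intro h0
    exact hKM (coatom_eq_of_le hK c.hM h0).symm
  · intro L hL hle
    exact coatom_eq_of_le hK hL hle

/-- **Stability lemma**: an element `k` of `K` moving `A` inside `M` moves every line of `M ⊓ K`
inside `M`. -/
theorem Cfg.stable (c : Cfg A M) (K : Subgroup G) (hK : IsCoatom K) (hAK : A ≤ K)
    (hKM : K ≠ M) (k : G) (hk : k ∈ K) (hkA : MulAut.conj k • A ≤ M) (g : G)
    (hgM : MulAut.conj g • A ≤ M) (hgK : MulAut.conj g • A ≤ K) :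
    MulAut.conj (k * g) • A ≤ M := by
  rw [conj_mul_smul]
  by_cases h1 : MulAut.conj g • A = A
  · rw [h1]; exact hkA
  by_cases h2 : MulAut.conj k • A = A
  · have hkM : k ∈ M := c.hN ((conj_smul_eq_self_iff _ _).mp h2)
    exact conj_smul_le_of_mem hkM hgM
  have hkK : MulAut.conj k • A ≤ K := conj_smul_le_of_mem hk hAK
  have i1 := c.incident k 1 (by rw [conj_one_smul]; exact h2) M K c.hM hK (Ne.symm hKM)
    hkA (by rw [conj_one_smul]; exact c.hAM) hkK (by rw [conj_one_smul]; exact hAK)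
  rw [conj_one_smul, conj_one_smul] at i1
  have hAkM : A ≤ MulAut.conj k • M := i1.2.1
  by_cases h3 : MulAut.conj k • MulAut.conj g • A = A
  · rw [h3]; exact c.hAM
  have hne : K ≠ MulAut.conj k • M := by
    intro heq
    apply hKM
    have h4 : MulAut.conj k⁻¹ • K = MulAut.conj k⁻¹ • (MulAut.conj k • M) := by rw [← heq]
    rw [map_inv, inv_smul_smul, ← map_inv, conj_smul_of_mem (K.inv_mem hk)] at h4
    exact h4
  have i2 := c.incident (k * g) 1 (by rw [conj_one_smul, conj_mul_smul]; exact h3)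
    K (MulAut.conj k • M) hK (isCoatom_conj c.hM k) hne
    (by rw [conj_mul_smul]; exact conj_smul_le_of_mem hk hgK)
    (by rw [conj_one_smul]; exact hAK)
    (by rw [conj_mul_smul]; exact Subgroup.pointwise_smul_le_pointwise_smul_iff.mpr hgM)
    (by rw [conj_one_smul]; exact hAkM)
  rw [conj_one_smul, conj_one_smul, conj_mul_smul] at i2
  exact i2.1

/-- the subgroup generated by the lines inside `D` -/
def lineSpan (A D : Subgroup G) : Subgroup G :=
  ⨆ g : {g : G // MulAut.conj g • A ≤ D}, MulAut.conj (g : G) • A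

theorem lineSpan_le (A D : Subgroup G) : lineSpan A D ≤ D :=
  iSup_le fun g => g.2

theorem le_lineSpan {A D : Subgroup G} {g : G} (hg : MulAut.conj g • A ≤ D) :
    MulAut.conj g • A ≤ lineSpan A D :=
  le_iSup (fun g : {g : G // MulAut.conj g • A ≤ D} => MulAut.conj (g : G) • A) ⟨g, hg⟩

theorem lineSpan_conj (A D : Subgroup G) (f : G) :
    lineSpan (MulAut.conj f • A) D = lineSpan A D := by
  apply le_antisymm
  · apply iSup_le
    intro g
    have hg := g.2
    rw [← conj_mul_smul] at hg ⊢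
    exact le_lineSpan hg
  · apply iSup_le
    intro g
    have h1 : MulAut.conj (g : G) • A = MulAut.conj ((g : G) * f⁻¹) • (MulAut.conj f • A) := by
      rw [← conj_mul_smul, inv_mul_cancel_right]
    have hg := g.2
    rw [h1] at hg ⊢
    exact le_lineSpan hg

theorem mem_normalizer_lineSpan {A D : Subgroup G} {k : G}
    (h : ∀ g : G, MulAut.conj g • A ≤ D → MulAut.conj (k * g) • A ≤ D) :
    k ∈ Subgroup.normalizer ((lineSpan A D : Subgroup G) : Set G) := by
  rw [← conj_smul_eq_self_iff]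
  apply Cfsg.Agent.Helper3.conj_smul_le_eq
  unfold lineSpan
  rw [← Cfsg.Agent.Helper1.map_conj_eq_smul, Subgroup.map_iSup]
  apply iSup_le
  intro g
  have : (MulAut.conj (g : G) • A).map (MulAut.conj k).toMonoidHom = MulAut.conj (k * g) • A := by
    rw [Cfsg.Agent.Helper1.map_conj_eq_smul, map_mul, mul_smul]
  rw [this]
  exact le_lineSpan (h g g.2)

/-- **The contradiction**: no configuration has a second maximal subgroup containing `A`. -/
theorem Cfg.unique (c : Cfg A M) (K₀ : Subgroup G) (hK₀ : IsCoatom K₀) (hAK₀ : A ≤ K₀) :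
    K₀ = M := by
  by_contra hK₀M
  obtain ⟨F₀, hF₀K, _, hF₀A, hF₀M⟩ := c.exists_F K₀ hK₀ hAK₀ hK₀M
  obtain ⟨f, hfF, hfM⟩ := SetLike.not_le_iff_exists.mp hF₀M
  have hfA : MulAut.conj f • A ≠ A := by
    intro h0
    exact hfM (c.hN ((conj_smul_eq_self_iff _ _).mp h0))
  have hfAM : MulAut.conj f • A ≤ M := hF₀A f hfF
  have hfAK₀ : MulAut.conj f • A ≤ K₀ := conj_smul_le_of_mem (hF₀K hfF) hAK₀
  have i1 := c.incident f 1 (by rw [conj_one_smul]; exact hfA) M K₀ c.hM hK₀ (Ne.symm hK₀M)
    hfAM (by rw [conj_one_smul]; exact c.hAM) hfAK₀ (by rw [conj_one_smul]; exact hAK₀)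
  rw [conj_one_smul, conj_one_smul] at i1
  obtain ⟨_, hAK, hKM⟩ := i1
  -- the second maximal subgroup, a conjugate of `M`
  set K := MulAut.conj f • M with hKdef
  set B := MulAut.conj f • A with hBdef
  have hK : IsCoatom K := isCoatom_conj c.hM f
  obtain ⟨F, hFK, hFu, hFA, hFM⟩ := c.exists_F K hK hAK hKM
  have c' : Cfg B K := c.conj f
  obtain ⟨P, hPM, hPu, hPB, hPK⟩ := c'.exists_F M c.hM hfAM (Ne.symm hKM)
  set W := lineSpan A (M ⊓ K) with hW
  have hFW : F ≤ Subgroup.normalizer (W : Set G) := by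
    intro k hk
    apply mem_normalizer_lineSpan
    intro g hg
    refine le_inf ?_ ?_
    · exact c.stable K hK hAK hKM k (hFK hk) (hFA k hk) g (hg.trans inf_le_left)
        (hg.trans inf_le_right)
    · rw [conj_mul_smul]
      exact conj_smul_le_of_mem (hFK hk) (hg.trans inf_le_right)
  have hPW : P ≤ Subgroup.normalizer (W : Set G) := by
    intro m hm
    have hW' : W = lineSpan B (M ⊓ K) := (lineSpan_conj A (M ⊓ K) f).symm
    rw [hW']
    apply mem_normalizer_lineSpan
    intro g hg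
    refine le_inf ?_ ?_
    · rw [conj_mul_smul]
      exact conj_smul_le_of_mem (hPM hm) (hg.trans inf_le_left)
    · exact c'.stable M c.hM hfAM (Ne.symm hKM) m (hPM hm) (hPB m hm) g (hg.trans inf_le_right)
        (hg.trans inf_le_left)
  have hAW : A ≤ W := by
    have : MulAut.conj (1 : G) • A ≤ M ⊓ K := by
      rw [conj_one_smul]; exact le_inf c.hAM hAK
    have := le_lineSpan this
    rwa [conj_one_smul] at this
  have hWM : W ≤ M := (lineSpan_le A (M ⊓ K)).trans inf_le_left
  by_cases hNW : Subgroup.normalizer (W : Set G) = ⊤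
  · have := c.hcl.2 W hAW (by rw [hNW])
    exact c.hM.1 (top_le_iff.mp (this.trans hWM))
  · obtain ⟨L, hL, hNL⟩ := exists_coatom_ge hNW
    have e1 := hFu L hL (hFW.trans hNL)
    have e2 := hPu L hL (hPW.trans hNL)
    exact hKM (e1.symm.trans e2)

/-- **Flavell's theorem**, internal form. -/
theorem good_aux : ∀ (n : ℕ) (A : Subgroup G), Nat.card G - Nat.card A = n → A ≠ ⊤ →
    Closed A ⊤ → Good A := by
  intro n
  induction n using Nat.strong_induction_on with
  | _ n ih =>
  intro A hn hAtop hcl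
  by_contra hbad
  unfold Good at hbad
  push Not at hbad
  obtain ⟨hY, hnu⟩ := hbad
  set Y := sSup (fam A) with hYdef
  have hAfam : A ∈ fam A := ⟨hAtop, closed_self A⟩
  have hAY : A ≤ Y := le_sSup hAfam
  have hYcl : Closed A Y := closed_sSup ⟨A, hAfam⟩ (fun H hH => hH.2)
  -- zipper hypotheses
  have hz1 : ∀ X : Subgroup G, Y ≤ X → X < ⊤ → SubnIn Y X := by
    intro X hYX hX
    obtain ⟨S, hAS, hS, hScl⟩ := exists_subnormal_closure' (hAY.trans hYX)
    have hSY : S ≤ Y := le_sSup ⟨fun h0 => hX.ne (top_le_iff.mp (h0 ▸ hS.1)), hScl⟩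
    have hYS : Y ≤ S := hYcl.le_of_subnIn' hS hAS hYX
    rw [le_antisymm hYS hSY]; exact hS
  have hz2 : ¬ SubnIn Y ⊤ := by
    intro h0
    exact hY (top_le_iff.mp (hcl.le_of_subnIn' h0 hAY le_rfl))
  have hzip := Cfsg.Agent.Helper1.zipper (H := (⊤ : Subgroup G)) _ Y le_top rfl hz1 hz2
  obtain ⟨M, hM, hYM⟩ := exists_coatom_ge hY
  have hMu : ∀ L : Subgroup G, IsCoatom L → Y ≤ L → L = M := fun L hL hle =>
    hzip L M (isCoatom_iff_maxIn.mp hL) (isCoatom_iff_maxIn.mp hM) hle hYM
  -- the normaliser of `A` lies in `M`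
  have hNA : Subgroup.normalizer (A : Set G) ≤ M := by
    have h1 : Subgroup.normalizer (A : Set G) ≤ Subgroup.normalizer (Y : Set G) := by
      intro x hx
      rw [← conj_smul_eq_self_iff] at hx ⊢
      apply Cfsg.Agent.Helper3.conj_smul_le_eq
      apply le_sSup
      refine ⟨?_, ?_⟩
      · intro h0
        apply hY
        have h2 : MulAut.conj x⁻¹ • (MulAut.conj x • Y) = MulAut.conj x⁻¹ • (⊤ : Subgroup G) := by
          rw [h0]
        rw [map_inv, inv_smul_smul] at h2
        rw [h2, eq_top_iff]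
        intro y _
        rw [Subgroup.mem_pointwise_smul_iff_inv_smul_mem]
        exact Subgroup.mem_top _
      · have := hYcl.conj x
        rwa [hx] at this
    have h2 : Subgroup.normalizer (Y : Set G) ≠ ⊤ := by
      intro h0
      exact hY (top_le_iff.mp (hcl.2 Y hAY (by rw [h0])))
    obtain ⟨L, hL, hle⟩ := exists_coatom_ge h2
    have := hMu L hL (Subgroup.le_normalizer.trans hle)
    rw [← this]
    exact h1.trans hle
  -- the induction hypothesis
  have hih : ∀ B : Subgroup G, Nat.card A < Nat.card B → B ≠ ⊤ → Closed B ⊤ → Good B := by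
    intro B hB hBtop hBcl
    have h1 : Nat.card B ≤ Nat.card G := Subgroup.card_le_card_group B
    have h2 : Nat.card A < Nat.card G := lt_of_lt_of_le hB h1
    exact ih (Nat.card G - Nat.card B) (by omega) B rfl hBtop hBcl
  -- `A` is subnormal in every other maximal subgroup
  have hsn1 : ∀ L : Subgroup G, IsCoatom L → A ≤ L → L ≠ M → SubnIn A L := by
    intro L hL hAL hLM
    obtain ⟨S, hAS, hS, hScl⟩ := exists_subnormal_closure' hAL
    have hStop : S ≠ ⊤ := fun h0 => hL.1 (top_le_iff.mp (h0 ▸ hS.1))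
    have hSY : S ≤ Y := le_sSup ⟨hStop, hScl⟩
    by_cases hSA : S = A
    · rw [← hSA]; exact hS
    · exfalso
      have hlt : A < S := lt_of_le_of_ne hAS (Ne.symm hSA)
      have hgood := hih S (Cfsg.Agent.Helper1.card_lt_of_lt' hlt) hStop
        (closed_top_of_conj_le hcl 1 (by rw [conj_one_smul]; exact hAS))
      rcases hgood with h0 | ⟨M', _, hM'⟩
      · apply hY
        rw [eq_top_iff, ← h0]
        apply sSup_le
        intro H hH
        exact le_sSup ⟨hH.1, hScl.trans hH.2⟩
      · exact hLM ((hM' L ⟨hL, hS.1⟩).trans (hM' M ⟨hM, hSY.trans hYM⟩).symm)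
  have hsn : ∀ (g : G) (L : Subgroup G), IsCoatom L → MulAut.conj g • A ≤ L →
      L ≠ MulAut.conj g • M → SubnIn (MulAut.conj g • A) L := by
    intro g L hL hle hne
    have h1 : A ≤ MulAut.conj g⁻¹ • L := by
      have := Subgroup.pointwise_smul_le_pointwise_smul_iff (a := MulAut.conj g⁻¹).mpr hle
      rw [map_inv] at this ⊢
      rwa [inv_smul_smul] at this
    have h2 : MulAut.conj g⁻¹ • L ≠ M := by
      intro h0
      apply hne
      rw [← h0, map_inv, smul_inv_smul]
    have h3 := (hsn1 _ (isCoatom_conj hL g⁻¹) h1 h2).conj g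
    rwa [map_inv, smul_inv_smul] at h3
  have c : Cfg A M := ⟨hM, hAY.trans hYM, hNA, hcl, hsn, hih⟩
  -- uniqueness
  apply hnu
  refine ⟨M, ⟨hM, hAY.trans hYM⟩, ?_⟩
  intro L hL
  exact c.unique L hL.1 hL.2

theorem good (A : Subgroup G) (hAtop : A ≠ ⊤) (hcl : Closed A ⊤) : Good A :=
  good_aux _ A rfl hAtop hcl

/-- **Flavell's theorem** (generalised zipper lemma): if `G` is the normal closure of the proper
subgroup `A`, then either `G` is generated by the proper subgroups `H ≥ A` that are the normal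
closure of `A` in themselves, or `A` lies in a unique maximal subgroup. -/
theorem flavell (A : Subgroup G) (hA : Subgroup.normalClosure (A : Set G) = ⊤) (hAG : A ≠ ⊤) :
    sSup {H : Subgroup G | A ≤ H ∧ H ≠ ⊤ ∧
      Subgroup.normalClosure ((A.subgroupOf H : Subgroup ↥H) : Set ↥H) = ⊤} = ⊤ ∨
      ∃! M : Subgroup G, IsCoatom M ∧ A ≤ M := by
  have h1 : {H : Subgroup G | A ≤ H ∧ H ≠ ⊤ ∧
      Subgroup.normalClosure ((A.subgroupOf H : Subgroup ↥H) : Set ↥H) = ⊤} = fam A := by
    ext H
    constructor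
    · rintro ⟨h1, h2, h3⟩
      exact ⟨h2, (closed_iff h1).mp h3⟩
    · rintro ⟨h2, h3⟩
      exact ⟨h3.1, h2, (closed_iff h3.1).mpr h3⟩
  rw [h1]
  exact good A hAG (closed_top_iff.mp hA)

end Cfsg.Agent.Helper9.Flavell
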