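import Mathlib
import Cfsg.Agent.Helper9.Flavell3

/-!
Iterated commutators with an element `a`: dynamics of `c ↦ c a c⁻¹ a⁻¹` on a normal subgroup `N`
complementing `⟨a⟩`.  Basic lemmas.
-/

set_option autoImplicit false
set_option linter.style.haveILetI false
set_option linter.unusedSectionVars false

namespace Cfsg.Agent.Helper9.Flavell

open Pointwise
open Cfsg.Agent.Helper1 (SubnIn MaxIn mem_conj_smul_iff conj_smul_eq_self_iff)

universe u

variable {Γ : Type u} [Group Γ]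

/-- the commutator map `c ↦ c a c⁻¹ a⁻¹` -/
def cm (a c : Γ) : Γ := c * a * c⁻¹ * a⁻¹

theorem cm_mul (a x y : Γ) : cm a (x * y) = x * cm a y * x⁻¹ * cm a x := by
  unfold cm; group

theorem cm_conj (a c : Γ) : a * cm a c * a⁻¹ = cm a (a * c * a⁻¹) := by
  unfold cm; group

theorem cm_mul_self (a c : Γ) : cm a c * a = c * a * c⁻¹ := by
  unfold cm; group

/-- the situation: `N` normal, complemented by `⟨a⟩` -/
structure Sit (N : Subgroup Γ) (a : Γ) : Prop where
  hnorm : N.Normal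
  hinf : N ⊓ Subgroup.zpowers a = ⊥
  hsup : N ⊔ Subgroup.zpowers a = ⊤

theorem Sit.cm_mem {N : Subgroup Γ} {a : Γ} (s : Sit N a) {c : Γ} (hc : c ∈ N) : cm a c ∈ N := by
  unfold cm
  have h1 : a * c⁻¹ * a⁻¹ ∈ N := s.hnorm.conj_mem _ (N.inv_mem hc) a
  have : c * a * c⁻¹ * a⁻¹ = c * (a * c⁻¹ * a⁻¹) := by group
  rw [this]
  exact N.mul_mem hc h1

theorem Sit.iterate_mem {N : Subgroup Γ} {a : Γ} (s : Sit N a) {c : Γ} (hc : c ∈ N) (k : ℕ) :
    (cm a)^[k] c ∈ N := by
  induction k with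
  | zero => simpa using hc
  | succ k ih =>
    rw [Function.iterate_succ_apply']
    exact s.cm_mem ih

theorem Sit.decomp {N : Subgroup Γ} {a : Γ} (s : Sit N a) (x : Γ) :
    ∃ n ∈ N, ∃ z ∈ Subgroup.zpowers a, x = n * z := by
  haveI := s.hnorm
  have h1 : x ∈ ((N ⊔ Subgroup.zpowers a : Subgroup Γ) : Set Γ) := by
    rw [s.hsup]; exact Subgroup.mem_top x
  rw [Subgroup.normal_mul] at h1
  obtain ⟨n, hn, z, hz, rfl⟩ := h1
  exact ⟨n, hn, z, hz, rfl⟩

/-- Dedekind-type lemma -/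
theorem Sit.mem_of_mem_sup {N : Subgroup Γ} {a : Γ} (s : Sit N a) {R : Subgroup Γ} (hRN : R ≤ N)
    (hR : Subgroup.zpowers a ≤ Subgroup.normalizer (R : Set Γ)) {x : Γ} (hxN : x ∈ N)
    (hx : x ∈ R ⊔ Subgroup.zpowers a) : x ∈ R := by
  have h1 : x ∈ ((R ⊔ Subgroup.zpowers a : Subgroup Γ) : Set Γ) := hx
  rw [Subgroup.coe_mul_of_right_le_normalizer_left R _ hR] at h1
  obtain ⟨r, hr, z, hz, rfl⟩ := h1
  have hzN : z ∈ N := by
    have : z = r⁻¹ * (r * z) := by group
    rw [this]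
    exact N.mul_mem (N.inv_mem (hRN hr)) hxN
  have hz1 : z ∈ N ⊓ Subgroup.zpowers a := ⟨hzN, hz⟩
  rw [s.hinf, Subgroup.mem_bot] at hz1
  subst hz1
  simpa using hr

/-- the subgroup `[N, a]` -/
def comm (N : Subgroup Γ) (a : Γ) : Subgroup Γ := Subgroup.closure (cm a '' (N : Set Γ))

theorem Sit.comm_le {N : Subgroup Γ} {a : Γ} (s : Sit N a) : comm N a ≤ N := by
  unfold comm
  rw [Subgroup.closure_le]
  rintro _ ⟨c, hc, rfl⟩
  exact s.cm_mem hc

theorem Sit.conj_a_comm_le {N : Subgroup Γ} {a : Γ} (s : Sit N a) :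
    ∀ x ∈ comm N a, a * x * a⁻¹ ∈ comm N a := by
  intro x hx
  unfold comm at hx ⊢
  induction hx using Subgroup.closure_induction with
  | mem y hy =>
    obtain ⟨c, hc, rfl⟩ := hy
    rw [cm_conj]
    exact Subgroup.subset_closure ⟨_, s.hnorm.conj_mem c hc a, rfl⟩
  | one => simp
  | mul y z _ _ hy hz =>
    have : a * (y * z) * a⁻¹ = (a * y * a⁻¹) * (a * z * a⁻¹) := by group
    rw [this]; exact Subgroup.mul_mem _ hy hz
  | inv y _ hy =>
    have : a * y⁻¹ * a⁻¹ = (a * y * a⁻¹)⁻¹ := by group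
    rw [this]; exact Subgroup.inv_mem _ hy

theorem Sit.conj_N_comm_le {N : Subgroup Γ} {a : Γ} (s : Sit N a) {x : Γ} (hxN : x ∈ N) :
    ∀ y ∈ comm N a, x * y * x⁻¹ ∈ comm N a := by
  intro y hy
  unfold comm at hy ⊢
  induction hy using Subgroup.closure_induction with
  | mem y hy =>
    obtain ⟨c, hc, rfl⟩ := hy
    have h1 : x * cm a c * x⁻¹ = cm a (x * c) * (cm a x)⁻¹ := by
      rw [cm_mul]; group
    rw [h1]
    exact Subgroup.mul_mem _ (Subgroup.subset_closure ⟨_, N.mul_mem hxN hc, rfl⟩)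
      (Subgroup.inv_mem _ (Subgroup.subset_closure ⟨_, hxN, rfl⟩))
  | one => simp
  | mul y z _ _ hy hz =>
    have : x * (y * z) * x⁻¹ = (x * y * x⁻¹) * (x * z * x⁻¹) := by group
    rw [this]; exact Subgroup.mul_mem _ hy hz
  | inv y _ hy =>
    have : x * y⁻¹ * x⁻¹ = (x * y * x⁻¹)⁻¹ := by group
    rw [this]; exact Subgroup.inv_mem _ hy

theorem mem_normalizer_of_conj_le [Finite Γ] {R : Subgroup Γ} {x : Γ}
    (h : ∀ y ∈ R, x * y * x⁻¹ ∈ R) : x ∈ Subgroup.normalizer (R : Set Γ) := by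
  rw [← conj_smul_eq_self_iff]
  apply Cfsg.Agent.Helper3.conj_smul_le_eq
  intro z hz
  rw [mem_conj_smul_iff] at hz
  have := h _ hz
  have e : x * (x⁻¹ * z * x) * x⁻¹ = z := by group
  rwa [e] at this

theorem zpowers_le_normalizer_of_mem {R : Subgroup Γ} {a : Γ}
    (h : a ∈ Subgroup.normalizer (R : Set Γ)) :
    Subgroup.zpowers a ≤ Subgroup.normalizer (R : Set Γ) := by
  rw [Subgroup.zpowers_le]; exact h

/-- `G = ⟨a^G⟩` iff `N = [N, a]`. -/
theorem Sit.comm_eq_iff [Finite Γ] {N : Subgroup Γ} {a : Γ} (s : Sit N a) :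
    comm N a = N ↔ Closed (Subgroup.zpowers a) ⊤ := by
  constructor
  · intro h
    refine ⟨le_top, fun C hAC hC => ?_⟩
    haveI : C.Normal := Subgroup.normalizer_eq_top_iff.mp (top_le_iff.mp hC)
    have haC : a ∈ C := hAC (Subgroup.mem_zpowers a)
    have h1 : N ≤ C := by
      rw [← h]
      unfold comm
      rw [Subgroup.closure_le]
      rintro _ ⟨c, _, rfl⟩
      unfold cm
      exact C.mul_mem (‹C.Normal›.conj_mem a haC c) (C.inv_mem haC)
    rw [← s.hsup]
    exact sup_le h1 hAC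
  · intro h
    apply le_antisymm s.comm_le
    have ha : a ∈ Subgroup.normalizer ((comm N a : Subgroup Γ) : Set Γ) :=
      mem_normalizer_of_conj_le s.conj_a_comm_le
    have hA : Subgroup.zpowers a ≤ Subgroup.normalizer ((comm N a : Subgroup Γ) : Set Γ) :=
      zpowers_le_normalizer_of_mem ha
    have hnorm : (⊤ : Subgroup Γ) ≤
        Subgroup.normalizer ((comm N a ⊔ Subgroup.zpowers a : Subgroup Γ) : Set Γ) := by
      rw [← s.hsup]
      apply sup_le
      · intro x hx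
        apply mem_normalizer_of_conj_le
        intro y hy
        have hy' : y ∈ ((comm N a ⊔ Subgroup.zpowers a : Subgroup Γ) : Set Γ) := hy
        rw [Subgroup.coe_mul_of_right_le_normalizer_left _ _ hA] at hy'
        obtain ⟨r, hr, z, hz, rfl⟩ := hy'
        have e : x * (r * z) * x⁻¹ = (x * r * x⁻¹) * (x * z * x⁻¹) := by group
        rw [e]
        refine Subgroup.mul_mem _ (le_sup_left (a := comm N a) (s.conj_N_comm_le hx r hr)) ?_
        obtain ⟨i, rfl⟩ := Subgroup.mem_zpowers_iff.mp hz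
        have e2 : x * a ^ i * x⁻¹ = (x * a * x⁻¹) ^ i := by
          rw [conj_zpow]
        rw [e2]
        apply Subgroup.zpow_mem
        rw [← cm_mul_self]
        exact Subgroup.mul_mem _
          (le_sup_left (a := comm N a) (Subgroup.subset_closure ⟨x, hx, rfl⟩))
          (le_sup_right (a := comm N a) (Subgroup.mem_zpowers a))
      · intro x hx
        exact Subgroup.normalizer_inf_normalizer_le_normalizer_sup _ _
          ⟨hA hx, Subgroup.le_normalizer hx⟩
    have h2 := h.2 _ le_sup_right hnorm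
    intro x hx
    exact s.mem_of_mem_sup s.comm_le hA hx (h2 (Subgroup.mem_top x))

end Cfsg.Agent.Helper9.Flavell
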