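import Mathlib
import Cfsg.Agent.Helper9.Flavell4

/-!
Iterated commutators with an element `a`: if `N = [N, a]` then the periodic points of
`c ↦ c a c⁻¹ a⁻¹` on `N` generate `N` (a consequence of Flavell's theorem).
-/

set_option autoImplicit false
set_option linter.style.haveILetI false
set_option linter.unusedSectionVars false

namespace Cfsg.Agent.Helper9.Flavell

open Pointwise
open Cfsg.Agent.Helper1 (SubnIn MaxIn mem_conj_smul_iff conj_smul_eq_self_iff)

universe u

section
variable {Γ : Type u} [Group Γ]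

/-- periodic points in `N` of the commutator map -/
def per (a : Γ) (N : Subgroup Γ) : Set Γ :=
  {c | c ∈ N ∧ ∃ m : ℕ, 0 < m ∧ (cm a)^[m] c = c}

theorem per_subset (a : Γ) (N : Subgroup Γ) : per a N ⊆ (N : Set Γ) := fun _ h => h.1

theorem per_mem_iterate_image {N : Subgroup Γ} {a : Γ} (s : Sit N a) {c : Γ}
    (hc : c ∈ per a N) (k : ℕ) : c ∈ (cm a)^[k] '' (N : Set Γ) := by
  obtain ⟨hcN, m, hm, hper⟩ := hc
  have h1 : (cm a)^[m * k] c = c := by
    rw [Function.iterate_mul]
    exact Function.iterate_fixed hper k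
  have h2 : m * k = k + (m * k - k) := by
    have : k ≤ m * k := Nat.le_mul_of_pos_left k hm
    omega
  rw [h2, Function.iterate_add_apply] at h1
  exact ⟨_, s.iterate_mem hcN _, h1⟩

theorem exists_iterate_mem_per [Finite Γ] {N : Subgroup Γ} {a : Γ} (s : Sit N a) {c : Γ}
    (hc : c ∈ N) : ∃ i : ℕ, (cm a)^[i] c ∈ per a N := by
  obtain ⟨i, j, hij, heq⟩ := Finite.exists_ne_map_eq_of_infinite (fun i : ℕ => (cm a)^[i] c)
  change (cm a)^[i] c = (cm a)^[j] c at heq
  wlog hlt : i < j generalizing i j
  · exact this j i hij.symm heq.symm (lt_of_le_of_ne (not_lt.mp hlt) hij.symm)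
  refine ⟨i, s.iterate_mem hc i, j - i, by omega, ?_⟩
  rw [← Function.iterate_add_apply]
  have : j - i + i = j := by omega
  rw [this, heq]

theorem cm_iterate_conj (a c : Γ) (m : ℕ) :
    (cm a)^[m] (a * c * a⁻¹) = a * (cm a)^[m] c * a⁻¹ := by
  induction m with
  | zero => simp
  | succ m ih =>
    rw [Function.iterate_succ_apply', Function.iterate_succ_apply', ih, cm_conj]

theorem cm_coe {X : Subgroup Γ} (a c : X) : ((cm a c : X) : Γ) = cm (a : Γ) (c : Γ) := by
  unfold cm; simp

theorem cm_iterate_coe {X : Subgroup Γ} (a c : X) (m : ℕ) :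
    (((cm a)^[m] c : X) : Γ) = (cm (a : Γ))^[m] (c : Γ) := by
  induction m with
  | zero => simp
  | succ m ih =>
    rw [Function.iterate_succ_apply', Function.iterate_succ_apply', cm_coe, ih]

theorem coe_mem_zpowers_iff {X : Subgroup Γ} (a x : X) :
    (x : Γ) ∈ Subgroup.zpowers (a : Γ) ↔ x ∈ Subgroup.zpowers a := by
  constructor
  · intro h
    obtain ⟨i, hi⟩ := Subgroup.mem_zpowers_iff.mp h
    apply Subgroup.mem_zpowers_iff.mpr
    refine ⟨i, Subtype.ext ?_⟩
    rw [← hi]; simp
  · intro h
    obtain ⟨i, hi⟩ := Subgroup.mem_zpowers_iff.mp h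
    apply Subgroup.mem_zpowers_iff.mpr
    refine ⟨i, ?_⟩
    rw [← hi]; simp

end

/-- **Periodic points of the commutator map generate**: if `N ⊴ Γ` is complemented by `⟨a⟩` and
`N = [N, a]`, then `N` is generated by the periodic points of `c ↦ c a c⁻¹ a⁻¹`. -/
theorem per_generates : ∀ (n : ℕ) (Γ : Type u) [Group Γ] [Finite Γ] (N : Subgroup Γ) (a : Γ),
    Nat.card N = n → Sit N a → comm N a = N → Subgroup.closure (per a N) = N := by
  intro n
  induction n using Nat.strong_induction_on with
  | _ n ih =>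
  intro Γ _ _ N a hn s hcomm
  set B₀ := Subgroup.closure (per a N) with hB₀
  have hB₀N : B₀ ≤ N := (Subgroup.closure_le N).mpr (per_subset a N)
  by_contra hne
  set A := Subgroup.zpowers a with hA
  have hcl : Closed A ⊤ := s.comm_eq_iff.mp hcomm
  have hAtop : A ≠ ⊤ := by
    intro h0
    apply hne
    have h1 : N = ⊥ := by
      have := s.hinf
      rw [← hA, h0, inf_top_eq] at this
      exact this
    rw [h1] at hB₀N ⊢
    exact le_bot_iff.mp hB₀N
  have hgood := good A hAtop hcl
  -- `a` normalises `B₀`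
  have haB₀ : a ∈ Subgroup.normalizer (B₀ : Set Γ) := by
    apply mem_normalizer_of_conj_le
    intro y hy
    rw [hB₀] at hy ⊢
    induction hy using Subgroup.closure_induction with
    | mem y hy =>
      apply Subgroup.subset_closure
      obtain ⟨hyN, m, hm, hper⟩ := hy
      refine ⟨s.hnorm.conj_mem y hyN a, m, hm, ?_⟩
      rw [cm_iterate_conj, hper]
    | one => simp
    | mul y z _ _ hy hz =>
      have : a * (y * z) * a⁻¹ = (a * y * a⁻¹) * (a * z * a⁻¹) := by group
      rw [this]; exact Subgroup.mul_mem _ hy hz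
    | inv y _ hy =>
      have : a * y⁻¹ * a⁻¹ = (a * y * a⁻¹)⁻¹ := by group
      rw [this]; exact Subgroup.inv_mem _ hy
  have hAB₀ : A ≤ Subgroup.normalizer (B₀ : Set Γ) := zpowers_le_normalizer_of_mem haB₀
  -- `B₀ ⊔ A` is proper
  have hBtop : B₀ ⊔ A ≠ ⊤ := by
    intro h0
    apply hne
    apply le_antisymm hB₀N
    intro x hx
    exact s.mem_of_mem_sup hB₀N hAB₀ hx (h0 ▸ Subgroup.mem_top x)
  -- every proper `A`-closed subgroup lies in `B₀ ⊔ A`
  have hfam : ∀ X ∈ fam A, X ≤ B₀ ⊔ A := by
    intro X hX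
    obtain ⟨hXtop, hXcl⟩ := hX
    have hAX : A ≤ X := hXcl.1
    have haX : a ∈ X := hAX (Subgroup.mem_zpowers a)
    set a' : X := ⟨a, haX⟩ with ha'
    set N' : Subgroup X := N.subgroupOf X with hN'
    have hzp : A.subgroupOf X = Subgroup.zpowers a' := by
      ext x
      rw [Subgroup.mem_subgroupOf]
      exact coe_mem_zpowers_iff a' x
    have s' : Sit N' a' := by
      refine ⟨?_, ?_, ?_⟩
      · haveI := s.hnorm
        exact Subgroup.Normal.subgroupOf ‹N.Normal› X
      · rw [eq_bot_iff]
        intro x hx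
        have h1 : (x : Γ) ∈ N ⊓ Subgroup.zpowers a :=
          ⟨Subgroup.mem_subgroupOf.mp hx.1, (coe_mem_zpowers_iff a' x).mpr hx.2⟩
        rw [s.hinf, Subgroup.mem_bot] at h1
        rw [Subgroup.mem_bot]
        exact Subtype.ext h1
      · rw [eq_top_iff]
        intro x _
        obtain ⟨m, hm, z, hz, hxmz⟩ := s.decomp (x : Γ)
        have hzX : z ∈ X := hAX hz
        have hmX : m ∈ X := by
          have : m = (x : Γ) * z⁻¹ := by rw [hxmz]; group
          rw [this]; exact X.mul_mem x.2 (X.inv_mem hzX)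
        have hx : x = (⟨m, hmX⟩ : X) * ⟨z, hzX⟩ := Subtype.ext hxmz
        rw [hx]
        refine Subgroup.mul_mem _ (le_sup_left (a := N') ?_) (le_sup_right (a := N') ?_)
        · exact Subgroup.mem_subgroupOf.mpr hm
        · exact (coe_mem_zpowers_iff a' ⟨z, hzX⟩).mp hz
    have hcl' : Closed (Subgroup.zpowers a') ⊤ := by
      rw [← closed_top_iff, ← hzp]
      exact (closed_iff hAX).mpr hXcl
    have hcomm' : comm N' a' = N' := s'.comm_eq_iff.mpr hcl'
    -- the intersection with `N` is smaller
    have hNX : N ⊓ X < N := by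
      refine lt_of_le_of_ne inf_le_left ?_
      intro h0
      apply hXtop
      rw [eq_top_iff, ← s.hsup]
      exact sup_le (h0 ▸ inf_le_right) hAX
    have hcard : Nat.card N' = Nat.card (N ⊓ X : Subgroup Γ) := by
      rw [hN', ← Subgroup.inf_subgroupOf_right N X]
      exact Nat.card_congr (Subgroup.subgroupOfEquivOfLe (inf_le_right : N ⊓ X ≤ X)).toEquiv
    have hlt := Cfsg.Agent.Helper1.card_lt_of_lt' hNX
    have hih := ih (Nat.card N') (by omega) X N' a' rfl s' hcomm'
    -- transport
    have hNXB : N ⊓ X ≤ B₀ := by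
      intro x hx
      have hx' : (⟨x, hx.2⟩ : X) ∈ Subgroup.closure (per a' N') := by
        rw [hih]; exact Subgroup.mem_subgroupOf.mpr hx.1
      have key : ∀ y : X, y ∈ Subgroup.closure (per a' N') → (y : Γ) ∈ B₀ := by
        intro y hy
        induction hy using Subgroup.closure_induction with
        | mem y hy =>
          apply Subgroup.subset_closure
          obtain ⟨hyN, m, hm, hper⟩ := hy
          refine ⟨Subgroup.mem_subgroupOf.mp hyN, m, hm, ?_⟩
          have := cm_iterate_coe a' y m
          rw [hper] at this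
          exact this.symm
        | one => simp
        | mul y z _ _ hy hz =>
          rw [Subgroup.coe_mul]; exact Subgroup.mul_mem _ hy hz
        | inv y _ hy =>
          rw [Subgroup.coe_inv]; exact Subgroup.inv_mem _ hy
      exact key _ hx'
    intro x hx
    obtain ⟨m, hm, z, hz, hxmz⟩ := s.decomp x
    have hmX : m ∈ X := by
      have : m = x * z⁻¹ := by rw [hxmz]; group
      rw [this]; exact X.mul_mem hx (X.inv_mem (hAX hz))
    rw [hxmz]
    exact Subgroup.mul_mem _ (le_sup_left (a := B₀) (hNXB ⟨hm, hmX⟩)) (le_sup_right (a := B₀) hz)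
  rcases hgood with h0 | ⟨M, ⟨hM, hAM⟩, hMu⟩
  · apply hBtop
    rw [eq_top_iff, ← h0]
    exact sSup_le hfam
  · -- the unique maximal subgroup containing `a`
    obtain ⟨L, hL, hBL⟩ := exists_coatom_ge hBtop
    have hLM : L = M := hMu L ⟨hL, le_sup_right.trans hBL⟩
    have hB₀M : B₀ ≤ M := hLM ▸ (le_sup_left.trans hBL)
    have haM : a ∈ M := hAM (Subgroup.mem_zpowers a)
    have hnormM : Subgroup.normalizer (M : Set Γ) = M := by
      by_contra h1
      have h2 : M < Subgroup.normalizer (M : Set Γ) :=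
        lt_of_le_of_ne Subgroup.le_normalizer (Ne.symm h1)
      have h3 := hM.2 _ h2
      exact hM.1 (top_le_iff.mp (hcl.2 M hAM (by rw [h3])))
    have hconj : ∀ c : Γ, c * a * c⁻¹ ∈ M → c ∈ M := by
      intro c hc
      have h1 : A ≤ MulAut.conj c⁻¹ • M := by
        rw [hA, Subgroup.zpowers_le, mem_conj_smul_iff]
        simpa using hc
      have h2 := hMu _ ⟨isCoatom_conj hM c⁻¹, h1⟩
      rw [conj_smul_eq_self_iff, hnormM] at h2
      simpa using h2
    have hstep : ∀ c : Γ, c ∉ M → cm a c ∉ M := by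
      intro c hc h1
      apply hc
      apply hconj
      rw [← cm_mul_self]
      exact M.mul_mem h1 haM
    have hex : ∃ c ∈ N, c ∉ M := by
      by_contra hcon
      push Not at hcon
      apply hM.1
      rw [eq_top_iff, ← s.hsup]
      exact sup_le hcon hAM
    obtain ⟨c, hcN, hcM⟩ := hex
    have hiter : ∀ i : ℕ, (cm a)^[i] c ∉ M := by
      intro i
      induction i with
      | zero => simpa using hcM
      | succ i ih =>
        rw [Function.iterate_succ_apply']
        exact hstep _ ih
    obtain ⟨i, hi⟩ := exists_iterate_mem_per s hcN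
    exact hiter i (hB₀M (Subgroup.subset_closure hi))

end Cfsg.Agent.Helper9.Flavell
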