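import Mathlib
import Cfsg.Agent.Helper9.Flavell5

/-!
# Flavell's theorem, part 6: iterated commutators with an automorphism generate

Glue: pass to the semidirect product `G ⋊ ⟨α⟩` and apply `per_generates`.
-/

set_option autoImplicit false

namespace Cfsg.Agent.Helper9.Flavell

open SemidirectProduct

universe u

section
variable {G : Type u} [Group G]

/-- the semidirect product `G ⋊ ⟨α⟩` -/
abbrev SD (α : MulAut G) : Type u :=
  G ⋊[(Subgroup.zpowers α).subtype] ↥(Subgroup.zpowers α)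

instance sd_finite [Finite G] (α : MulAut G) : Finite (SD α) :=
  Finite.of_equiv _ (SemidirectProduct.equivProd (φ := (Subgroup.zpowers α).subtype)).symm

/-- the generator of the complement -/
def sdGen (α : MulAut G) : SD α := inr ⟨α, Subgroup.mem_zpowers α⟩

/-- the normal subgroup -/
def sdN (α : MulAut G) : Subgroup (SD α) := (inl : G →* SD α).range

theorem sd_cm (α : MulAut G) (c : G) :
    cm (sdGen α) (inl c : SD α) = inl (c * (α c)⁻¹) := by
  have h := SemidirectProduct.inl_aut (φ := (Subgroup.zpowers α).subtype)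
    (⟨α, Subgroup.mem_zpowers α⟩ : ↥(Subgroup.zpowers α)) c⁻¹
  unfold cm sdGen
  have h2 : ((Subgroup.zpowers α).subtype ⟨α, Subgroup.mem_zpowers α⟩) c⁻¹ = (α c)⁻¹ := by
    simp
  rw [h2] at h
  rw [map_mul, h, map_inv, map_inv]
  group

theorem sd_cm_iterate (α : MulAut G) (c : G) (k : ℕ) :
    (cm (sdGen α))^[k] (inl c : SD α) = inl ((fun c : G => c * (α c)⁻¹)^[k] c) := by
  induction k with
  | zero => simp
  | succ k ih =>
    rw [Function.iterate_succ_apply', Function.iterate_succ_apply', ih, sd_cm]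

theorem sd_sit (α : MulAut G) : Sit (sdN α) (sdGen α) := by
  refine ⟨?_, ?_, ?_⟩
  · unfold sdN
    rw [SemidirectProduct.range_inl_eq_ker_rightHom]
    infer_instance
  · rw [eq_bot_iff]
    intro x ⟨hxN, hxa⟩
    rw [Subgroup.mem_bot]
    obtain ⟨g, rfl⟩ := hxN
    obtain ⟨n, hn⟩ := Subgroup.mem_zpowers_iff.mp hxa
    have h1 : rightHom (inl g : SD α) = 1 := rightHom_inl g
    rw [← hn, map_zpow] at h1
    unfold sdGen at h1 hn
    rw [rightHom_inr] at h1
    rw [← hn, ← map_zpow, h1, map_one]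
  · rw [eq_top_iff]
    intro x _
    rw [← SemidirectProduct.inl_left_mul_inr_right x]
    refine Subgroup.mul_mem _ (Subgroup.mem_sup_left ⟨x.left, rfl⟩) (Subgroup.mem_sup_right ?_)
    obtain ⟨n, hn⟩ := Subgroup.mem_zpowers_iff.mp x.right.2
    refine Subgroup.mem_zpowers_iff.mpr ⟨n, ?_⟩
    unfold sdGen
    rw [← map_zpow]
    congr 1
    apply Subtype.ext
    rw [Subgroup.coe_zpow]
    exact hn

theorem sd_comm (α : MulAut G)
    (hG : Subgroup.closure (Set.range (fun c : G => c * (α c)⁻¹)) = ⊤) :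
    comm (sdN α) (sdGen α) = sdN α := by
  unfold comm
  have h1 : cm (sdGen α) '' ((sdN α : Subgroup (SD α)) : Set (SD α))
      = (inl : G →* SD α) '' (Set.range (fun c : G => c * (α c)⁻¹)) := by
    ext x
    constructor
    · rintro ⟨y, ⟨g, rfl⟩, rfl⟩
      exact ⟨g * (α g)⁻¹, ⟨g, rfl⟩, (sd_cm α g).symm⟩
    · rintro ⟨y, ⟨g, rfl⟩, rfl⟩
      exact ⟨inl g, ⟨g, rfl⟩, sd_cm α g⟩
  rw [h1, ← MonoidHom.map_closure, hG]
  unfold sdN
  rw [MonoidHom.range_eq_map]

/-- **Iterated commutators with an automorphism generate.** -/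
theorem iterate_generates [Finite G] (α : MulAut G)
    (hG : Subgroup.closure (Set.range (fun c : G => c * (α c)⁻¹)) = ⊤) (k : ℕ) :
    Subgroup.closure (Set.range ((fun c : G => c * (α c)⁻¹)^[k])) = ⊤ := by
  have s := sd_sit α
  have h1 := per_generates _ (SD α) (sdN α) (sdGen α) rfl s (sd_comm α hG)
  have h2 : per (sdGen α) (sdN α) ⊆
      (inl : G →* SD α) '' (Set.range ((fun c : G => c * (α c)⁻¹)^[k])) := by
    intro x hx
    obtain ⟨y, ⟨g, rfl⟩, rfl⟩ := per_mem_iterate_image s hx k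
    exact ⟨_, ⟨g, rfl⟩, (sd_cm_iterate α g k).symm⟩
  have h3 : sdN α ≤ Subgroup.map (inl : G →* SD α)
      (Subgroup.closure (Set.range ((fun c : G => c * (α c)⁻¹)^[k]))) := by
    rw [MonoidHom.map_closure, ← h1]
    exact Subgroup.closure_mono h2
  rw [eq_top_iff]
  intro g _
  obtain ⟨g', hg', hgg'⟩ := h3 (⟨g, rfl⟩ : (inl g : SD α) ∈ sdN α)
  rwa [SemidirectProduct.inl_injective hgg'] at hg'

end

end Cfsg.Agent.Helper9.Flavell
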