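import Mathlib
import Cfsg.Prelude.Def_Transfer
import Cfsg.Agent.Helper9.NilpotentHall
import Cfsg.Agent.Lead.Coprime

set_option autoImplicit false

namespace Cfsg.Agent.Helper9

open Subgroup
open scoped Pointwise

universe u

/-- A Hall subgroup central in its normalizer has a normal complement (induction on `|G|`). -/
theorem exists_normal_complement_of_hall_central :
    ∀ (n : ℕ) (G : Type u) [Group G] [Finite G] (H : Subgroup G), Nat.card G = n →
      Nat.Coprime (Nat.card H) H.index →
      normalizer (H : Set G) ≤ centralizer (H : Set G) →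
      ∃ N : Subgroup G, N.Normal ∧ N.IsComplement' H := by
  intro n
  induction n using Nat.strong_induction_on with
  | _ n ih =>
    intro G _ _ H hn hHall hNC
    -- H is abelian
    have hcomm : ∀ a ∈ H, ∀ b ∈ H, a * b = b * a := by
      intro a ha b hb
      have := hNC (Subgroup.le_normalizer ha)
      exact ((mem_centralizer_iff.mp this) b hb).symm
    let _ : CommGroup H :=
      { (inferInstance : Group H) with mul_comm := fun a b => Subtype.ext (hcomm a a.2 b b.2) }
    have hHnil : Group.IsNilpotent H := inferInstance
    have hHsolv : Group.IsSolvable H := inferInstance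
    apply exists_normal_complement_of_nilpotent_hall H hHnil hHall
    rintro x hx y hy ⟨g, hg⟩
    refine ⟨1, H.one_mem, ?_⟩
    rw [one_mul, inv_one, mul_one]
    -- show x = y
    set C : Subgroup G := centralizer ({y} : Set G) with hC
    by_cases hCtop : C = ⊤
    · -- y is central
      have hyc : ∀ z : G, z * y = y * z := by
        intro z
        have : z ∈ C := by rw [hCtop]; trivial
        exact mem_centralizer_singleton_iff.mp this
      have : x = g⁻¹ * y * g := by rw [← hg]; group
      rw [this, mul_assoc, ← hyc g, inv_mul_cancel_left]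
    · have hCcard : Nat.card C < n := by
        rw [← hn]
        by_contra hcon
        rw [not_lt] at hcon
        apply hCtop
        rw [← Subgroup.card_eq_iff_eq_top]
        exact le_antisymm (Subgroup.card_le_card_group C) hcon
      have hHC : H ≤ C := by
        intro h hh
        rw [hC, mem_centralizer_singleton_iff]
        exact hcomm h hh y hy
      -- H' = H as a subgroup of C
      set H' : Subgroup C := H.subgroupOf C with hH'
      have hcardH' : Nat.card H' = Nat.card H :=
        Nat.card_congr (Subgroup.subgroupOfEquivOfLe hHC).toEquiv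
      have hHall' : Nat.Coprime (Nat.card H') H'.index := by
        rw [hcardH']
        have : H'.index ∣ H.index := Subgroup.relIndex_dvd_index_of_le hHC
        exact Nat.Coprime.coprime_dvd_right this hHall
      have hNC' : normalizer (H' : Set C) ≤ centralizer (H' : Set C) := by
        intro c hc
        have hcN : (c : G) ∈ normalizer (H : Set G) := by
          rw [mem_normalizer_iff]
          intro h
          constructor
          · intro hh
            have h1 : (⟨h, hHC hh⟩ : C) ∈ H' := Subgroup.mem_subgroupOf.mpr hh
            have h2 := (mem_normalizer_iff.mp hc ⟨h, hHC hh⟩).mp h1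
            exact Subgroup.mem_subgroupOf.mp h2
          · intro hh
            have hhC : h ∈ C := by
              have h1 : (c : G)⁻¹ * ((c : G) * h * (c : G)⁻¹) * (c : G) ∈ C :=
                C.mul_mem (C.mul_mem (C.inv_mem c.2) (hHC hh)) c.2
              have e : (c : G)⁻¹ * ((c : G) * h * (c : G)⁻¹) * (c : G) = h := by group
              rwa [e] at h1
            have h2 : c * ⟨h, hhC⟩ * c⁻¹ ∈ H' := Subgroup.mem_subgroupOf.mpr hh
            have h3 := (mem_normalizer_iff.mp hc ⟨h, hhC⟩).mpr h2
            exact Subgroup.mem_subgroupOf.mp h3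
        have hcC := hNC hcN
        rw [mem_centralizer_iff]
        intro h hh
        apply Subtype.ext
        exact (mem_centralizer_iff.mp hcC) (h : G) (Subgroup.mem_subgroupOf.mp hh)
      obtain ⟨L', hL'n, hL'c⟩ := ih (Nat.card C) hCcard C H' rfl hHall' hNC'
      set L : Subgroup G := L'.map C.subtype with hL
      have hLC : L ≤ C := Subgroup.map_subtype_le _
      -- H normalizes L
      have hHL : H ≤ normalizer (L : Set G) := by
        intro h hh
        rw [mem_normalizer_iff]
        have key : ∀ c : C, ∀ l : G, l ∈ L → (c : G) * l * (c : G)⁻¹ ∈ L := by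
          rintro c _ ⟨l, hl, rfl⟩
          exact ⟨c * l * c⁻¹, hL'n.conj_mem l hl c, rfl⟩
        intro l
        constructor
        · intro hl
          exact key ⟨h, hHC hh⟩ l hl
        · intro hl
          have := key ⟨h⁻¹, C.inv_mem (hHC hh)⟩ _ hl
          simp only [inv_inv] at this
          have e : h⁻¹ * (h * l * h⁻¹) * h = l := by group
          rwa [e] at this
      have hcardL : Nat.card L = Nat.card L' := Subgroup.card_map_of_injective C.subtype_injective
      have hcop : (Nat.card H).Coprime (Nat.card L) := by
        rw [hcardL, ← hcardH', ← hL'c.index_eq_card]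
        exact hHall'
      -- C = L ⊔ H
      have hsup : L ⊔ H = C := by
        have h1 : H = H'.map C.subtype := (Subgroup.map_subgroupOf_eq_of_le hHC).symm
        rw [h1, hL, ← Subgroup.map_sup, hL'c.sup_eq_top, ← MonoidHom.range_eq_map,
          Subgroup.range_subtype]
      -- B = g H g⁻¹ ≤ C
      set B : Subgroup G := MulAut.conj g • H with hB
      have hBC : B ≤ L ⊔ H := by
        rw [hsup]
        intro b hb
        rw [hB, Subgroup.mem_pointwise_smul_iff_inv_smul_mem] at hb
        have hb' : g⁻¹ * b * g ∈ H := by simpa [MulAut.smul_def] using hb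
        rw [hC, mem_centralizer_singleton_iff]
        have h1 := hcomm _ hb' x hx
        -- b = g (g⁻¹ b g) g⁻¹ commutes with y = g x g⁻¹
        calc b * y = g * ((g⁻¹ * b * g) * x) * g⁻¹ := by rw [← hg]; group
          _ = g * (x * (g⁻¹ * b * g)) * g⁻¹ := by rw [h1]
          _ = y * b := by rw [← hg]; group
      have hBcard : Nat.card B = Nat.card H := by
        rw [hB]
        exact Nat.card_congr ((H.equivSMul (MulAut.conj g)).symm.toEquiv)
      obtain ⟨k, hk, hkB⟩ := Cfsg.Agent.Lead.sz_conj_rel hHL hcop (Or.inl hHsolv) hBC hBcard
      -- k⁻¹ g normalizes H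
      have hkg : k⁻¹ * g ∈ normalizer (H : Set G) := by
        have h1 : MulAut.conj (k⁻¹ * g) • H = H := by
          rw [map_mul, mul_smul, ← hB, ← hkB, ← mul_smul, ← map_mul, inv_mul_cancel, map_one,
            one_smul]
        exact (map_conj_eq_iff_mem_normalizer H (k⁻¹ * g)).mp h1
      have hkgC := hNC hkg
      have h2 : (k⁻¹ * g) * x = x * (k⁻¹ * g) := ((mem_centralizer_iff.mp hkgC) x hx).symm
      have hky : k * y = y * k := mem_centralizer_singleton_iff.mp (hLC hk)
      -- x = (k⁻¹ g) x (k⁻¹ g)⁻¹ = k⁻¹ y k = y
      calc x = (k⁻¹ * g) * x * (k⁻¹ * g)⁻¹ := by rw [h2]; group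
        _ = k⁻¹ * (g * x * g⁻¹) * k := by group
        _ = k⁻¹ * y * k := by rw [hg]
        _ = k⁻¹ * (y * k) := by group
        _ = k⁻¹ * (k * y) := by rw [hky]
        _ = y := by group

end Cfsg.Agent.Helper9
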