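import Mathlib

/-!
# Extraspecial groups of exponent `p`: uniqueness

An elementwise predicate `ESp p G z` ("`G` has exponent `p`, class at most two, centre `⟨z⟩` of
order `p`"), the integral Heisenberg group `HeisZ` as a model for the subgroup generated by a
non-commuting pair, and the decomposition `G = ⟨x, y⟩ * C_G(x, y)` giving by induction that two
such groups of the same order are isomorphic by an isomorphism matching the chosen central
generators.
-/

set_option autoImplicit false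

namespace Cfsg.Agent.Helper9

universe u v

/-- The integral Heisenberg group: the triple `(a, b, c)` stands for `y ^ b * x ^ a * z ^ c`. -/
@[ext] structure HeisZ where
  a : ℤ
  b : ℤ
  c : ℤ

namespace HeisZ

instance : Mul HeisZ := ⟨fun m n => ⟨m.a + n.a, m.b + n.b, m.c + n.c + m.a * n.b⟩⟩
instance : One HeisZ := ⟨⟨0, 0, 0⟩⟩
instance : Inv HeisZ := ⟨fun m => ⟨-m.a, -m.b, -m.c + m.a * m.b⟩⟩

theorem mul_def' (m n : HeisZ) : m * n = ⟨m.a + n.a, m.b + n.b, m.c + n.c + m.a * n.b⟩ := rfl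
theorem one_def' : (1 : HeisZ) = ⟨0, 0, 0⟩ := rfl
theorem inv_def' (m : HeisZ) : m⁻¹ = ⟨-m.a, -m.b, -m.c + m.a * m.b⟩ := rfl

instance : Group HeisZ := Group.ofLeftAxioms
  (fun m n k => by
    simp only [mul_def']
    ext
    · simp only []; ring
    · simp only []; ring
    · simp only []; ring)
  (fun m => by
    simp only [mul_def', one_def']
    ext <;> simp)
  (fun m => by
    simp only [mul_def', one_def', inv_def']
    ext <;> simp)

@[simp] theorem mul_a (m n : HeisZ) : (m * n).a = m.a + n.a := rfl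
@[simp] theorem mul_b (m n : HeisZ) : (m * n).b = m.b + n.b := rfl
@[simp] theorem mul_c (m n : HeisZ) : (m * n).c = m.c + n.c + m.a * n.b := rfl
@[simp] theorem one_a : (1 : HeisZ).a = 0 := rfl
@[simp] theorem one_b : (1 : HeisZ).b = 0 := rfl
@[simp] theorem one_c : (1 : HeisZ).c = 0 := rfl
@[simp] theorem inv_a (m : HeisZ) : (m⁻¹).a = -m.a := rfl
@[simp] theorem inv_b (m : HeisZ) : (m⁻¹).b = -m.b := rfl
@[simp] theorem inv_c (m : HeisZ) : (m⁻¹).c = -m.c + m.a * m.b := rfl

end HeisZ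

variable {G : Type u} [Group G]

/-- If `x * y = y * x * w` with `w` central, then `x * y ^ j = y ^ j * x * w ^ j`. -/
theorem mul_zpow_of_twist {x y w : G} (hw : ∀ g : G, Commute g w) (rel : x * y = y * x * w)
    (j : ℤ) : x * y ^ j = y ^ j * x * w ^ j := by
  have h1 : SemiconjBy x y (y * w) := by
    show x * y = y * w * x
    rw [rel, mul_assoc, mul_assoc, (hw x).eq]
  have h2 := h1.zpow_right j
  have h3 : (y * w) ^ j = y ^ j * w ^ j := (hw y).mul_zpow j
  have h4 : x * y ^ j = (y * w) ^ j * x := h2.eq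
  rw [h4, h3, mul_assoc, mul_assoc, ((hw x).zpow_right j).eq]

/-- Two elements twisting `x` by the same central element differ by something centralizing `x`. -/
theorem comm_of_same_twist {g u x w : G} (hw : ∀ k : G, Commute k w)
    (hg : g * x = x * g * w) (hu : u * x = x * u * w) : u⁻¹ * g * x = x * (u⁻¹ * g) := by
  have h1 : u⁻¹ * (x * w) = x * u⁻¹ := by
    rw [inv_mul_eq_iff_eq_mul, ← mul_assoc, hu, mul_assoc x u w, (hw u).eq]
    group
  calc u⁻¹ * g * x = u⁻¹ * (x * g * w) := by rw [mul_assoc, hg]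
    _ = u⁻¹ * (x * w) * g := by
        rw [mul_assoc x g w, (hw g).eq, ← mul_assoc x, mul_assoc u⁻¹]
    _ = x * (u⁻¹ * g) := by rw [h1, mul_assoc]

/-- A Heisenberg triple: `[x, y] = z` central, all of order dividing `p`. -/
structure HTriple (p : ℕ) (x y z : G) : Prop where
  rel : x * y = y * x * z
  zc : ∀ g : G, Commute g z
  xp : x ^ p = 1
  yp : y ^ p = 1
  zp : z ^ p = 1
  z_ne : z ≠ 1

/-- The normal form `y ^ b * x ^ a * z ^ c`. -/
def nf (x y z : G) (a b c : ℤ) : G := y ^ b * x ^ a * z ^ c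

namespace HTriple

variable {p : ℕ} {x y z : G}

theorem zpow_comm (h : HTriple p x y z) (n : ℤ) (g : G) : g * z ^ n = z ^ n * g :=
  ((h.zc g).zpow_right n).eq

theorem x_mul_y_zpow (h : HTriple p x y z) (j : ℤ) : x * y ^ j = y ^ j * x * z ^ j :=
  mul_zpow_of_twist h.zc h.rel j

theorem y_zpow_mul_x (h : HTriple p x y z) (j : ℤ) : y ^ j * x = x * y ^ j * z ^ (-j) := by
  rw [h.x_mul_y_zpow j, mul_assoc, ← zpow_add, add_neg_cancel, zpow_zero, mul_one]

theorem x_zpow_mul_y_zpow (h : HTriple p x y z) (i j : ℤ) :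
    x ^ i * y ^ j = y ^ j * x ^ i * z ^ (i * j) := by
  have h1 : SemiconjBy (y ^ j) x (x * z ^ (-j)) := by
    show y ^ j * x = x * z ^ (-j) * y ^ j
    rw [h.y_zpow_mul_x j, mul_assoc, mul_assoc, h.zpow_comm (-j) (y ^ j)]
  have h2 := h1.zpow_right i
  have h3 : (x * z ^ (-j)) ^ i = x ^ i * z ^ (-j * i) := by
    rw [((h.zc x).zpow_right (-j)).mul_zpow i, ← zpow_mul]
  have h4 : y ^ j * x ^ i = (x * z ^ (-j)) ^ i * y ^ j := h2.eq
  rw [h4, h3, mul_assoc (x ^ i), ← h.zpow_comm (-j * i) (y ^ j), ← mul_assoc, mul_assoc, ← zpow_add]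
  have : -j * i + i * j = 0 := by ring
  rw [this, zpow_zero, mul_one]

theorem nf_mul_z (_h : HTriple p x y z) (a b c k : ℤ) :
    nf x y z a b c * z ^ k = nf x y z a b (c + k) := by
  unfold nf
  rw [mul_assoc, ← zpow_add]

theorem nf_mul_x (h : HTriple p x y z) (a b c k : ℤ) :
    nf x y z a b c * x ^ k = nf x y z (a + k) b c := by
  unfold nf
  rw [mul_assoc (y ^ b * x ^ a), ← h.zpow_comm c (x ^ k), ← mul_assoc, mul_assoc (y ^ b),
    ← zpow_add]

theorem nf_mul_y (h : HTriple p x y z) (a b c k : ℤ) :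
    nf x y z a b c * y ^ k = nf x y z a (b + k) (c + a * k) := by
  unfold nf
  rw [mul_assoc (y ^ b * x ^ a), ← h.zpow_comm c (y ^ k), ← mul_assoc, mul_assoc (y ^ b),
    h.x_zpow_mul_y_zpow a k, ← mul_assoc, ← mul_assoc, ← zpow_add, mul_assoc, ← zpow_add,
    add_comm (a * k)]

theorem nf_mul_nf (h : HTriple p x y z) (a b c a' b' c' : ℤ) :
    nf x y z a b c * nf x y z a' b' c' = nf x y z (a + a') (b + b') (c + c' + a * b') := by
  have e : nf x y z a' b' c' = y ^ b' * x ^ a' * z ^ c' := rfl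
  rw [e, ← mul_assoc, ← mul_assoc, h.nf_mul_y, h.nf_mul_x, h.nf_mul_z]
  have : c + a * b' + c' = c + c' + a * b' := by ring
  rw [this]

/-- The homomorphism from the integral Heisenberg group attached to a Heisenberg triple. -/
def hom (h : HTriple p x y z) : HeisZ →* G where
  toFun m := nf x y z m.a m.b m.c
  map_one' := by simp [nf]
  map_mul' m n := by
    rw [h.nf_mul_nf]
    rfl

theorem hom_apply (h : HTriple p x y z) (m : HeisZ) : h.hom m = nf x y z m.a m.b m.c := rfl

end HTriple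

/-- The centralizer of a pair. -/
def cent2 (x y : G) : Subgroup G := Subgroup.centralizer ({x, y} : Set G)

theorem mem_cent2 {x y g : G} : g ∈ cent2 x y ↔ g * x = x * g ∧ g * y = y * g := by
  unfold cent2
  rw [Subgroup.mem_centralizer_iff]
  constructor
  · intro h
    exact ⟨(h x (by simp)).symm, (h y (by simp)).symm⟩
  · rintro ⟨h1, h2⟩ k hk
    rcases hk with rfl | rfl
    · exact h1.symm
    · exact h2.symm

namespace HTriple

variable {p : ℕ} {x y z : G}

theorem z_mem_cent2 (h : HTriple p x y z) : z ∈ cent2 x y :=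
  mem_cent2.mpr ⟨(h.zc x).eq.symm, (h.zc y).eq.symm⟩

theorem commute_nf (h : HTriple p x y z) {t : G} (ht : t ∈ cent2 x y) (a b c : ℤ) :
    Commute t (nf x y z a b c) := by
  obtain ⟨h1, h2⟩ := mem_cent2.mp ht
  have hx : Commute t x := h1
  have hy : Commute t y := h2
  exact ((hy.zpow_right b).mul_right (hx.zpow_right a)).mul_right ((h.zc t).zpow_right c)

theorem nf_mul_x1 (h : HTriple p x y z) (a b c : ℤ) :
    nf x y z a b c * x = nf x y z (a + 1) b c := by
  have := h.nf_mul_x a b c 1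
  rwa [zpow_one] at this

theorem nf_mul_y1 (h : HTriple p x y z) (a b c : ℤ) :
    nf x y z a b c * y = nf x y z a (b + 1) (c + a) := by
  have := h.nf_mul_y a b c 1
  rwa [zpow_one, mul_one] at this

theorem x_mul_nf (h : HTriple p x y z) (a b c : ℤ) :
    x * nf x y z a b c = nf x y z (a + 1) b (c + b) := by
  unfold nf
  rw [← mul_assoc, ← mul_assoc, h.x_mul_y_zpow b, mul_assoc (y ^ b * x), ← h.zpow_comm b (x ^ a),
    ← mul_assoc, mul_assoc (y ^ b) x, mul_self_zpow, mul_assoc _ (z ^ b), ← zpow_add, add_comm b]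

theorem y_mul_nf (a b c : ℤ) : y * nf x y z a b c = nf x y z a (b + 1) c := by
  unfold nf
  rw [← mul_assoc, ← mul_assoc, mul_self_zpow]

/-- How a normal form twists `x`. -/
theorem nf_twist_x (h : HTriple p x y z) (a b c : ℤ) :
    nf x y z a b c * x = x * nf x y z a b c * z ^ (-b) := by
  rw [h.nf_mul_x1, h.x_mul_nf, h.nf_mul_z, add_assoc, add_neg_cancel, add_zero]

/-- How a normal form twists `y`. -/
theorem nf_twist_y (h : HTriple p x y z) (a b c : ℤ) :
    nf x y z a b c * y = y * nf x y z a b c * z ^ a := by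
  rw [h.nf_mul_y1, y_mul_nf, h.nf_mul_z]

theorem orderOf_z [Fact p.Prime] (h : HTriple p x y z) : orderOf z = p :=
  orderOf_eq_prime h.zp h.z_ne

theorem dvd_of_zpow_eq_one [Fact p.Prime] (h : HTriple p x y z) {k : ℤ} (hk : z ^ k = 1) :
    (p : ℤ) ∣ k := by
  have := orderOf_dvd_iff_zpow_eq_one.mpr hk
  rwa [h.orderOf_z] at this

/-- A normal form centralizing `x` and `y` has `a`, `b` divisible by `p`. -/
theorem dvd_of_nf_mem [Fact p.Prime] (h : HTriple p x y z) {a b c : ℤ}
    (hm : nf x y z a b c ∈ cent2 x y) : (p : ℤ) ∣ a ∧ (p : ℤ) ∣ b := by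
  obtain ⟨h1, h2⟩ := mem_cent2.mp hm
  constructor
  · have e := h.nf_twist_y a b c
    rw [h2] at e
    exact h.dvd_of_zpow_eq_one (left_eq_mul.mp e)
  · have e := h.nf_twist_x a b c
    rw [h1] at e
    have := h.dvd_of_zpow_eq_one (left_eq_mul.mp e)
    rwa [dvd_neg] at this

theorem zpow_eq_one_of_dvd {g : G} (hg : g ^ p = 1) {k : ℤ} (hk : (p : ℤ) ∣ k) : g ^ k = 1 := by
  obtain ⟨l, rfl⟩ := hk
  rw [zpow_mul, zpow_natCast, hg, one_zpow]

theorem nf_eq_of_dvd (h : HTriple p x y z) {a b : ℤ} (ha : (p : ℤ) ∣ a) (hb : (p : ℤ) ∣ b)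
    (c : ℤ) : nf x y z a b c = z ^ c := by
  unfold nf
  rw [zpow_eq_one_of_dvd h.xp ha, zpow_eq_one_of_dvd h.yp hb, one_mul, one_mul]

end HTriple

/-- Elementwise predicate: exponent `p`, commutators in `⟨z⟩`, centre exactly `⟨z⟩`, `z ≠ 1`.
It holds for extraspecial groups of exponent `p` and for the cyclic group of order `p`. -/
structure ESp (p : ℕ) (G : Type*) [Group G] (z : G) : Prop where
  z_ne : z ≠ 1
  zc : ∀ g : G, Commute g z
  center_le : ∀ c : G, (∀ g : G, Commute g c) → c ∈ Subgroup.zpowers z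
  comm : ∀ x y : G, ∃ k : ℤ, x * y = y * x * z ^ k
  exp : ∀ g : G, g ^ p = 1

namespace ESp

variable {p : ℕ} {z : G}

theorem orderOf_z [Fact p.Prime] (h : ESp p G z) : orderOf z = p :=
  orderOf_eq_prime (h.exp z) h.z_ne

/-- A non-central element is the first member of a Heisenberg triple. -/
theorem exists_triple [Fact p.Prime] (h : ESp p G z) {x : G} (hx : x ∉ Subgroup.zpowers z) :
    ∃ y : G, HTriple p x y z := by
  have hp : p.Prime := Fact.out
  obtain ⟨y, hy⟩ : ∃ y : G, ¬ Commute y x := by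
    by_contra hcon
    push Not at hcon
    exact hx (h.center_le x hcon)
  obtain ⟨k, hk⟩ := h.comm x y
  have hzk : z ^ k ≠ 1 := by
    intro h1
    rw [h1, mul_one] at hk
    exact hy hk.symm
  have hpk : ¬ (p : ℤ) ∣ k := by
    intro hd
    apply hzk
    have := orderOf_dvd_iff_zpow_eq_one.mp (show (orderOf z : ℤ) ∣ k by rwa [h.orderOf_z])
    exact this
  have hcop : IsCoprime (p : ℤ) k :=
    (Nat.prime_iff_prime_int.mp hp).coprime_iff_not_dvd.mpr hpk
  obtain ⟨a, b, hab⟩ := hcop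
  refine ⟨y ^ b, ?_, h.zc, h.exp x, ?_, h.exp z, h.z_ne⟩
  · have h1 := mul_zpow_of_twist (w := z ^ k) (fun g => (h.zc g).zpow_right k) hk b
    rw [h1, ← zpow_mul]
    have e : k * b = 1 - a * p := by linarith
    have e2 : z ^ (a * (p : ℤ)) = 1 := by
      rw [mul_comm, zpow_mul, zpow_natCast, h.exp z, one_zpow]
    rw [e, zpow_sub, e2, zpow_one, inv_one, mul_one]
  · rw [← zpow_natCast, ← zpow_mul, mul_comm, zpow_mul, zpow_natCast, h.exp y, one_zpow]

/-- The decomposition `G = ⟨x, y⟩ * C_G(x, y)`. -/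
theorem exists_decomp (h : ESp p G z) {x y : G} (t : HTriple p x y z) (g : G) :
    ∃ m : HeisZ, ∃ s ∈ cent2 x y, g = t.hom m * s := by
  obtain ⟨i, hi⟩ := h.comm g x
  obtain ⟨j, hj⟩ := h.comm g y
  refine ⟨⟨j, -i, 0⟩, (nf x y z j (-i) 0)⁻¹ * g, ?_, ?_⟩
  · rw [mem_cent2]
    constructor
    · refine comm_of_same_twist (w := z ^ i) (fun k => (h.zc k).zpow_right i) hi ?_
      have := t.nf_twist_x j (-i) 0
      rwa [neg_neg] at this
    · exact comm_of_same_twist (w := z ^ j) (fun k => (h.zc k).zpow_right j) hj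
        (t.nf_twist_y j (-i) 0)
  · rw [t.hom_apply, mul_inv_cancel_left]

/-- The centralizer of a Heisenberg pair again satisfies the predicate. -/
theorem restrict (h : ESp p G z) {x y : G} (t : HTriple p x y z) :
    ESp p (cent2 x y) ⟨z, t.z_mem_cent2⟩ where
  z_ne := fun h1 => h.z_ne (congrArg Subtype.val h1)
  zc := fun g => Subtype.ext (h.zc g).eq
  center_le := by
    intro c hc
    have hcG : ∀ g : G, Commute g (c : G) := by
      intro g
      obtain ⟨m, s, hs, rfl⟩ := h.exists_decomp t g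
      have h1 : Commute (t.hom m) (c : G) := (t.commute_nf c.2 _ _ _).symm
      have h2 : Commute s (c : G) := congrArg Subtype.val (hc ⟨s, hs⟩).eq
      exact h1.mul_left h2
    obtain ⟨k, hk⟩ := Subgroup.mem_zpowers_iff.mp (h.center_le c hcG)
    exact Subgroup.mem_zpowers_iff.mpr ⟨k, Subtype.ext (by simpa using hk)⟩
  comm := by
    intro a b
    obtain ⟨k, hk⟩ := h.comm (a : G) (b : G)
    exact ⟨k, Subtype.ext (by simpa using hk)⟩
  exp := fun g => Subtype.ext (by simpa using h.exp (g : G))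

/-- `|G| = p ^ 2 * |C_G(x, y)|`. -/
theorem card_eq [Fact p.Prime] [Finite G] (h : ESp p G z) {x y : G} (t : HTriple p x y z) :
    Nat.card G = p * p * Nat.card (cent2 x y) := by
  have hp : p.Prime := Fact.out
  have : NeZero p := ⟨hp.ne_zero⟩
  let Ψ : (ZMod p × ZMod p) × cent2 x y → G :=
    fun q => nf x y z (q.1.1.cast : ℤ) (q.1.2.cast : ℤ) 0 * (q.2 : G)
  have hΨ : Function.Bijective Ψ := by
    constructor
    · rintro ⟨⟨a, b⟩, s⟩ ⟨⟨a', b'⟩, s'⟩ heq
      have heq' : nf x y z (a.cast : ℤ) (b.cast : ℤ) 0 * (s : G)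
          = nf x y z (a'.cast : ℤ) (b'.cast : ℤ) 0 * (s' : G) := heq
      have h1 : (nf x y z (a'.cast : ℤ) (b'.cast : ℤ) 0)⁻¹ * nf x y z (a.cast : ℤ) (b.cast : ℤ) 0
          = (s' : G) * (s : G)⁻¹ := by
        rw [inv_mul_eq_iff_eq_mul, ← mul_assoc, ← heq', mul_assoc, mul_inv_cancel, mul_one]
      have h2 : t.hom ((⟨(a'.cast : ℤ), (b'.cast : ℤ), 0⟩ : HeisZ)⁻¹ * ⟨(a.cast : ℤ), (b.cast : ℤ), 0⟩)
          = (s' : G) * (s : G)⁻¹ := by
        rw [map_mul, map_inv, t.hom_apply, t.hom_apply]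
        exact h1
      have h3 : t.hom ((⟨(a'.cast : ℤ), (b'.cast : ℤ), 0⟩ : HeisZ)⁻¹ * ⟨(a.cast : ℤ), (b.cast : ℤ), 0⟩)
          ∈ cent2 x y := by
        rw [h2]
        exact (cent2 x y).mul_mem s'.2 ((cent2 x y).inv_mem s.2)
      rw [t.hom_apply] at h3
      obtain ⟨ha, hb⟩ := t.dvd_of_nf_mem h3
      simp only [HeisZ.mul_a, HeisZ.inv_a, HeisZ.mul_b, HeisZ.inv_b] at ha hb
      have ea : a' = a := by
        have := (ZMod.intCast_eq_intCast_iff_dvd_sub (a'.cast : ℤ) (a.cast : ℤ) p).mpr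
          (by rwa [sub_eq_neg_add])
        rwa [ZMod.intCast_zmod_cast, ZMod.intCast_zmod_cast] at this
      have eb : b' = b := by
        have := (ZMod.intCast_eq_intCast_iff_dvd_sub (b'.cast : ℤ) (b.cast : ℤ) p).mpr
          (by rwa [sub_eq_neg_add])
        rwa [ZMod.intCast_zmod_cast, ZMod.intCast_zmod_cast] at this
      subst ea eb
      have es : s = s' := Subtype.ext (mul_left_cancel heq')
      rw [es]
    · intro g
      obtain ⟨m, s, hs, rfl⟩ := h.exists_decomp t g
      refine ⟨(((m.a : ZMod p), (m.b : ZMod p)),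
        ⟨z ^ m.c * s, (cent2 x y).mul_mem ((cent2 x y).zpow_mem t.z_mem_cent2 _) hs⟩), ?_⟩
      show nf x y z (((m.a : ZMod p)).cast : ℤ) (((m.b : ZMod p)).cast : ℤ) 0 * (z ^ m.c * s)
        = t.hom m * s
      rw [ZMod.coe_intCast, ZMod.coe_intCast, t.hom_apply]
      unfold nf
      rw [← zpow_eq_zpow_emod' m.a t.xp, ← zpow_eq_zpow_emod' m.b t.yp, zpow_zero, mul_one,
        mul_assoc (y ^ m.b * x ^ m.a)]
  rw [← Nat.card_congr (Equiv.ofBijective Ψ hΨ), Nat.card_prod, Nat.card_prod, Nat.card_zmod]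

/-- Gluing: an isomorphism of the centralizers of Heisenberg pairs matching the central generators
extends to the whole groups. -/
theorem glue {G' : Type v} [Group G'] [Fact p.Prime] [Finite G] [Finite G'] {z' : G'}
    (h : ESp p G z) (h' : ESp p G' z') {x y : G} {x' y' : G'}
    (t : HTriple p x y z) (t' : HTriple p x' y' z') (φC : cent2 x y ≃* cent2 x' y')
    (hφC : φC ⟨z, t.z_mem_cent2⟩ = ⟨z', t'.z_mem_cent2⟩) (hcard : Nat.card G = Nat.card G') :
    ∃ φ : G ≃* G', φ z = z' := by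
  let ψ : HeisZ × cent2 x y →* G := MonoidHom.noncommCoprod t.hom (cent2 x y).subtype
    (fun m s => (t.commute_nf s.2 _ _ _).symm)
  let ψ' : HeisZ × cent2 x' y' →* G' := MonoidHom.noncommCoprod t'.hom (cent2 x' y').subtype
    (fun m s => (t'.commute_nf s.2 _ _ _).symm)
  let θ : HeisZ × cent2 x y →* G' :=
    ψ'.comp (MonoidHom.prodMap (MonoidHom.id HeisZ) φC.toMonoidHom)
  have hψ : Function.Surjective ψ := by
    intro g
    obtain ⟨m, s, hs, rfl⟩ := h.exists_decomp t g
    exact ⟨(m, ⟨s, hs⟩), rfl⟩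
  have hker : ψ.ker ≤ θ.ker := by
    rintro ⟨m, s⟩ hms
    rw [MonoidHom.mem_ker] at hms ⊢
    have h1 : t.hom m * (s : G) = 1 := hms
    have h2 : t.hom m ∈ cent2 x y := by
      rw [eq_inv_of_mul_eq_one_left h1]
      exact (cent2 x y).inv_mem s.2
    rw [t.hom_apply] at h2
    obtain ⟨ha, hb⟩ := t.dvd_of_nf_mem h2
    have h3 : t.hom m = z ^ m.c := by
      rw [t.hom_apply]
      exact t.nf_eq_of_dvd ha hb _
    have h4 : t'.hom m = z' ^ m.c := by
      rw [t'.hom_apply]
      exact t'.nf_eq_of_dvd ha hb _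
    have h5 : s = (⟨z, t.z_mem_cent2⟩ : cent2 x y) ^ (-m.c) := by
      apply Subtype.ext
      rw [Subgroup.coe_zpow, zpow_neg]
      rw [h3] at h1
      exact eq_inv_of_mul_eq_one_right h1
    show t'.hom m * ((φC s : cent2 x' y') : G') = 1
    rw [h5, map_zpow, hφC, h4, Subgroup.coe_zpow, zpow_neg, mul_inv_cancel]
  let Φ : G →* G' := MonoidHom.liftOfSurjective ψ hψ ⟨θ, hker⟩
  have hΦ : ∀ q, Φ (ψ q) = θ q := fun q =>
    MonoidHom.liftOfRightInverse_comp_apply ψ (Function.surjInv hψ)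
      (Function.rightInverse_surjInv hψ) ⟨θ, hker⟩ q
  have hsurj : Function.Surjective Φ := by
    intro g'
    obtain ⟨m, s', hs', rfl⟩ := h'.exists_decomp t' g'
    refine ⟨ψ (m, φC.symm ⟨s', hs'⟩), ?_⟩
    rw [hΦ]
    show t'.hom m * ((φC (φC.symm ⟨s', hs'⟩) : cent2 x' y') : G') = _
    rw [MulEquiv.apply_symm_apply]
  have hbij : Function.Bijective Φ :=
    (Nat.bijective_iff_surjective_and_card Φ).mpr ⟨hsurj, hcard⟩
  refine ⟨MulEquiv.ofBijective Φ hbij, ?_⟩
  show Φ z = z'
  have e1 : ψ (⟨0, 0, 1⟩, 1) = z := by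
    show t.hom ⟨0, 0, 1⟩ * ((1 : cent2 x y) : G) = z
    simp [t.hom_apply, nf]
  rw [← e1, hΦ]
  show t'.hom ⟨0, 0, 1⟩ * ((φC 1 : cent2 x' y') : G') = z'
  simp [t'.hom_apply, nf]

theorem card_eq_of_forall_mem [Fact p.Prime] (h : ESp p G z)
    (hG : ∀ g : G, g ∈ Subgroup.zpowers z) : Nat.card G = p := by
  rw [← h.orderOf_z, ← Nat.card_zpowers, (Subgroup.eq_top_iff' _).mpr hG, Subgroup.card_top]

theorem forall_mem_of_card_eq [Fact p.Prime] [Finite G] (h : ESp p G z) (hG : Nat.card G = p)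
    (g : G) : g ∈ Subgroup.zpowers z := by
  have : Subgroup.zpowers z = ⊤ := by
    apply Subgroup.eq_top_of_card_eq
    rw [Nat.card_zpowers, h.orderOf_z, hG]
  rw [this]
  trivial

/-- Two groups satisfying the predicate and of the same order are isomorphic, by an isomorphism
matching the chosen central generators. -/
theorem exists_mulEquiv_aux (p : ℕ) [Fact p.Prime] (n : ℕ) :
    ∀ {G : Type u} {G' : Type v} [Group G] [Group G'] [Finite G] [Finite G'] {z : G} {z' : G'},
      ESp p G z → ESp p G' z' → Nat.card G = n → Nat.card G' = n →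
      ∃ φ : G ≃* G', φ z = z' := by
  induction n using Nat.strong_induction_on with
  | _ n ih =>
    intro G G' _ _ _ _ z z' h h' hn hn'
    have hp : p.Prime := Fact.out
    by_cases hG : ∀ g : G, g ∈ Subgroup.zpowers z
    · have hcard : Nat.card G = p := h.card_eq_of_forall_mem hG
      have hG' : ∀ g : G', g ∈ Subgroup.zpowers z' :=
        h'.forall_mem_of_card_eq (by rw [hn', ← hn, hcard])
      exact ⟨mulEquivOfOrderOfEq hG hG' (by rw [h.orderOf_z, h'.orderOf_z]),
        mulEquivOfOrderOfEq_apply_gen hG hG' _⟩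
    · push Not at hG
      obtain ⟨x, hx⟩ := hG
      have hG' : ∃ x' : G', x' ∉ Subgroup.zpowers z' := by
        by_contra hcon
        push Not at hcon
        have hcard' : Nat.card G' = p := h'.card_eq_of_forall_mem hcon
        exact hx (h.forall_mem_of_card_eq (by rw [hn, ← hn', hcard']) x)
      obtain ⟨x', hx'⟩ := hG'
      obtain ⟨y, t⟩ := h.exists_triple hx
      obtain ⟨y', t'⟩ := h'.exists_triple hx'
      have hc := h.card_eq t
      have hc' := h'.card_eq t'
      have hpp : 0 < p * p := Nat.mul_pos hp.pos hp.pos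
      have hCC : Nat.card (cent2 x y) = Nat.card (cent2 x' y') := by
        have : p * p * Nat.card (cent2 x y) = p * p * Nat.card (cent2 x' y') := by
          rw [← hc, ← hc', hn, hn']
        exact Nat.eq_of_mul_eq_mul_left hpp this
      have hlt : Nat.card (cent2 x y) < n := by
        rw [← hn, hc]
        have h0 : 0 < Nat.card (cent2 x y) := Nat.card_pos
        have h1 : 1 < p * p := by
          have := hp.two_le
          nlinarith
        nlinarith
      obtain ⟨φC, hφC⟩ := ih _ hlt (h.restrict t) (h'.restrict t') rfl hCC.symm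
      exact glue h h' t t' φC hφC (hn.trans hn'.symm)

theorem exists_mulEquiv {p : ℕ} [Fact p.Prime] {G' : Type v} [Group G'] [Finite G] [Finite G']
    {z' : G'} (h : ESp p G z) (h' : ESp p G' z') (hcard : Nat.card G = Nat.card G') :
    ∃ φ : G ≃* G', φ z = z' :=
  exists_mulEquiv_aux p (Nat.card G) h h' rfl hcard.symm

end ESp

end Cfsg.Agent.Helper9
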