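import Mathlib
import Cfsg.Prelude.Def_Local
import Cfsg.Prelude.Def_CaseTheorems
import Cfsg.Prelude.Def_IsolatedElements
import Cfsg.Agent.Helper26.Thompson

set_option autoImplicit false
set_option linter.unusedSectionVars false
set_option linter.unusedVariables false
set_option linter.style.haveILetI false

/-! # Isolated elements of order `p` in groups of `p`-rank at most two: basic lemmas -/

namespace Cfsg.Agent.Helper9.IsoRank

open Subgroup

variable {G : Type*} [Group G]

/-- An isolated element is central in every finite `p`-subgroup containing it. -/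
theorem commute_of_isolated {p : ℕ} [Fact p.Prime] {x : G} (hiso : Cfsg.IsIsolated x)
    (P : Subgroup G) [Finite P] (hP : IsPGroup p P) (hx : x ∈ P) : ∀ y ∈ P, Commute x y := by
  haveI : Group.IsNilpotent P := hP.isNilpotent
  set x' : P := ⟨x, hx⟩ with hx'
  set C : Subgroup P := centralizer ({x'} : Set P) with hC
  have hCtop : C = ⊤ := by
    by_contra hne
    have hlt : C < ⊤ := lt_top_iff_ne_top.mpr hne
    have hnc := Group.normalizerCondition_of_isNilpotent (G := P) C hlt
    obtain ⟨n, hn, hnC⟩ := SetLike.exists_of_lt hnc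
    apply hnC
    have hxC : x' ∈ C := by
      rw [hC, mem_centralizer_singleton_iff]
    have h1 : n * x' * n⁻¹ ∈ C := (mem_normalizer_iff.mp hn x').mp hxC
    rw [hC, mem_centralizer_singleton_iff] at h1
    have h2 : Commute x ((n : G) * x * (n : G)⁻¹) := by
      have := congrArg Subtype.val h1
      simp only [Subgroup.coe_mul, Subgroup.coe_inv, hx'] at this
      exact this.symm
    have h3 := hiso (n : G) h2
    rw [hC, mem_centralizer_singleton_iff]
    apply Subtype.ext
    simp only [Subgroup.coe_mul, hx']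
    calc (n : G) * x = (n : G) * x * (n : G)⁻¹ * n := by group
      _ = x * n := by rw [h3]
  intro y hy
  have : (⟨y, hy⟩ : P) ∈ C := by rw [hCtop]; trivial
  rw [hC, mem_centralizer_singleton_iff] at this
  have h := congrArg Subtype.val this
  simp only [Subgroup.coe_mul, hx'] at h
  exact h.symm

/-- conjugates of isolated elements are isolated -/
theorem isIsolated_conj {x : G} (hiso : Cfsg.IsIsolated x) (g : G) :
    Cfsg.IsIsolated (g * x * g⁻¹) := by
  intro h hc
  have h1 : Commute x ((g⁻¹ * h * g) * x * (g⁻¹ * h * g)⁻¹) := by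
    have : (g⁻¹ * h * g) * x * (g⁻¹ * h * g)⁻¹ = g⁻¹ * (h * (g * x * g⁻¹) * h⁻¹) * g := by group
    rw [this]
    have h2 : x = g⁻¹ * (g * x * g⁻¹) * g := by group
    rw [Commute, SemiconjBy]
    nth_rewrite 1 [h2]
    nth_rewrite 4 [h2]
    have e := hc.eq
    calc g⁻¹ * (g * x * g⁻¹) * g * (g⁻¹ * (h * (g * x * g⁻¹) * h⁻¹) * g)
        = g⁻¹ * ((g * x * g⁻¹) * (h * (g * x * g⁻¹) * h⁻¹)) * g := by group
      _ = g⁻¹ * ((h * (g * x * g⁻¹) * h⁻¹) * (g * x * g⁻¹)) * g := by rw [e]
      _ = g⁻¹ * (h * (g * x * g⁻¹) * h⁻¹) * g * (g⁻¹ * (g * x * g⁻¹) * g) := by group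
  have h3 := hiso _ h1
  calc h * (g * x * g⁻¹) * h⁻¹ = g * ((g⁻¹ * h * g) * x * (g⁻¹ * h * g)⁻¹) * g⁻¹ := by group
    _ = g * x * g⁻¹ := by rw [h3]

/-- an isolated element of a normal finite `p`-subgroup is central -/
theorem mem_center_of_mem_normal {p : ℕ} [Fact p.Prime] {x : G} (hiso : Cfsg.IsIsolated x)
    (N : Subgroup G) [N.Normal] [Finite N] (hN : IsPGroup p N) (hx : x ∈ N) : x ∈ center G := by
  rw [mem_center_iff]
  intro g
  have h1 : g * x * g⁻¹ ∈ N := ‹N.Normal›.conj_mem x hx g
  have h2 := commute_of_isolated hiso N hN hx _ h1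
  have h3 := hiso g h2
  calc g * x = g * x * g⁻¹ * g := by group
    _ = x * g := by rw [h3]

/-- proper inclusion of finite `p`-groups multiplies the order by at least `p` -/
theorem mul_card_le_of_lt {p : ℕ} [hp : Fact p.Prime] {H K : Subgroup G} [Finite K]
    (hK : IsPGroup p K) (hlt : H < K) : p * Nat.card H ≤ Nat.card K := by
  haveI : Finite H := Finite.of_injective (Subgroup.inclusion hlt.le) (Subgroup.inclusion_injective _)
  have hdvd : Nat.card H ∣ Nat.card K := Subgroup.card_dvd_of_le hlt.le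
  obtain ⟨k, hk⟩ := hdvd
  have hne : k ≠ 1 := by
    intro h1
    rw [h1, mul_one] at hk
    exact hlt.ne (Subgroup.eq_of_le_of_card_ge hlt.le hk.le)
  have hKpos : 0 < Nat.card K := Nat.card_pos
  have hkdvd : k ∣ Nat.card K := ⟨Nat.card H, by rw [hk, mul_comm]⟩
  obtain ⟨n, hn⟩ := IsPGroup.iff_card.mp hK
  rw [hn] at hkdvd
  obtain ⟨m, hm, hkm⟩ := (Nat.dvd_prime_pow hp.out).mp hkdvd
  have hm0 : m ≠ 0 := by
    intro h0
    rw [h0, pow_zero] at hkm
    exact hne hkm
  have hpk : p ≤ k := by
    rw [hkm]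
    calc p = p ^ 1 := (pow_one p).symm
      _ ≤ p ^ m := Nat.pow_le_pow_right hp.out.pos (Nat.one_le_iff_ne_zero.mpr hm0)
  rw [hk, mul_comm]
  exact Nat.mul_le_mul_left _ hpk

/-- three "independent" commuting elements of order `p` contradict `p`-rank at most two -/
theorem not_pRankLE_of_three [Finite G] {p : ℕ} [hp : Fact p.Prime] {y₀ y₁ y₂ : G}
    (h01 : Commute y₀ y₁) (h02 : Commute y₀ y₂) (h12 : Commute y₁ y₂)
    (hy₀ : y₀ ^ p = 1) (hy₁ : y₁ ^ p = 1) (hy₂ : y₂ ^ p = 1)
    (hne : y₀ ≠ 1) (h1 : y₁ ∉ zpowers y₀) (h2 : y₂ ∉ closure ({y₀, y₁} : Set G)) :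
    ¬ Cfsg.PRankLE p 2 G := by
  intro hr
  set A : Subgroup G := closure ({y₀, y₁, y₂} : Set G) with hA
  have hEA : Cfsg.IsElementaryAbelian p A := by
    apply Cfsg.Agent.Helper26.isElementaryAbelian_closure
    · intro a ha b hb
      simp only [Set.mem_insert_iff, Set.mem_singleton_iff] at ha hb
      rcases ha with rfl | rfl | rfl <;> rcases hb with rfl | rfl | rfl
      · rfl
      · exact h01.eq
      · exact h02.eq
      · exact h01.eq.symm
      · rfl
      · exact h12.eq
      · exact h02.eq.symm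
      · exact h12.eq.symm
      · rfl
    · intro a ha
      simp only [Set.mem_insert_iff, Set.mem_singleton_iff] at ha
      rcases ha with rfl | rfl | rfl <;> assumption
  have hcard := hr A hEA.1 hEA.2
  have hAp : IsPGroup p A := by
    intro a
    refine ⟨1, ?_⟩
    apply Subtype.ext
    rw [pow_one]
    simpa using hEA.2 a a.2
  have hB : closure ({y₀, y₁} : Set G) < A := by
    refine lt_of_le_of_ne ?_ ?_
    · apply Subgroup.closure_mono
      intro a ha
      simp only [Set.mem_insert_iff, Set.mem_singleton_iff] at ha ⊢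
      rcases ha with rfl | rfl
      · exact Or.inl rfl
      · exact Or.inr (Or.inl rfl)
    · intro he
      apply h2
      rw [he]
      exact subset_closure (by simp)
  have hBp : IsPGroup p (closure ({y₀, y₁} : Set G)) := hAp.to_le hB.le
  have hC : zpowers y₀ < closure ({y₀, y₁} : Set G) := by
    refine lt_of_le_of_ne ?_ ?_
    · rw [zpowers_le]
      exact subset_closure (by simp)
    · intro he
      apply h1
      rw [he]
      exact subset_closure (by simp)
  have hD : (⊥ : Subgroup G) < zpowers y₀ := by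
    rw [bot_lt_iff_ne_bot]
    intro he
    rw [zpowers_eq_bot] at he
    exact hne he
  have hCp : IsPGroup p (zpowers y₀) := hBp.to_le hC.le
  have e1 := mul_card_le_of_lt hAp hB
  have e2 := mul_card_le_of_lt hBp hC
  have e3 := mul_card_le_of_lt hCp hD
  rw [Subgroup.card_bot, mul_one] at e3
  have : p ^ 3 ≤ Nat.card A := by
    calc p ^ 3 = p * (p * p) := by ring
      _ ≤ p * (p * Nat.card (zpowers y₀)) := by gcongr
      _ ≤ p * Nat.card (closure ({y₀, y₁} : Set G)) := by gcongr
      _ ≤ Nat.card A := e1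
  have hlt : p ^ 2 < p ^ 3 := Nat.pow_lt_pow_right hp.out.one_lt (by norm_num)
  omega

/-- in `p`-rank at most two, an element of order dividing `p` commuting with two independent
commuting elements of order `p` lies in the group they generate -/
theorem mem_closure_pair [Finite G] {p : ℕ} [hp : Fact p.Prime] (hr : Cfsg.PRankLE p 2 G)
    {z x a : G} (hzx : Commute z x) (hza : Commute z a) (hxa : Commute x a)
    (hz : z ^ p = 1) (hx : x ^ p = 1) (ha : a ^ p = 1) (hne : z ≠ 1) (h1 : x ∉ zpowers z) :
    a ∈ closure ({z, x} : Set G) := by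
  by_contra h2
  exact not_pRankLE_of_three hzx hza hxa hz hx ha hne h1 h2 hr

end Cfsg.Agent.Helper9.IsoRank
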