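import Mathlib
import Cfsg.Agent.Helper9.IsoRankA
import Cfsg.Agent.S1946

set_option autoImplicit false
set_option linter.unusedSectionVars false
set_option linter.unusedVariables false
set_option linter.style.haveILetI false

/-! # Isolated elements of order `p` in groups of `p`-rank at most two: centralizers have normal
`p`-complements -/

namespace Cfsg.Agent.Helper9.IsoRank

open Subgroup

/-- If all elements of order dividing `p` of a Sylow `p`-subgroup `P` (`p` odd) are central in `P`
and centralized by `N(P)`, the group has a normal `p`-complement. -/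
theorem npc_of_central_omega {H : Type*} [Group H] [Finite H] {p : ℕ} [Fact p.Prime] (hp2 : p ≠ 2)
    (P : Sylow p H)
    (h1 : ∀ a ∈ (P : Subgroup H), a ^ p = 1 → ∀ y ∈ (P : Subgroup H), y * a = a * y)
    (h2 : ∀ a ∈ (P : Subgroup H), a ^ p = 1 →
      ∀ n ∈ normalizer ((P : Subgroup H) : Set H), n * a * n⁻¹ = a) :
    Cfsg.HasNormalPComplement p H := by
  rw [Cfsg.Agent.S1946.result P]
  intro a ha hap g hg
  have hap' : a ^ p = 1 := by
    rcases hap with h | h
    · exact h
    · exact absurd h.1 hp2
  have hap2 : (g * a * g⁻¹) ^ p = 1 := by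
    rw [conj_pow, hap', mul_one, mul_inv_cancel]
  have hc1 : a ∈ centralizer ((P : Subgroup H) : Set H) := by
    rw [mem_centralizer_iff]
    intro y hy
    exact h1 a ha hap' y hy
  have hc2 : g⁻¹⁻¹ * a * g⁻¹ ∈ centralizer ((P : Subgroup H) : Set H) := by
    rw [inv_inv, mem_centralizer_iff]
    intro y hy
    exact h1 _ hg hap2 y hy
  obtain ⟨n, hn, hn2⟩ := Sylow.conj_eq_normalizer_conj_of_mem_centralizer P a g⁻¹ hc1 hc2
  have hn' : n⁻¹ ∈ normalizer ((P : Subgroup H) : Set H) := inv_mem hn
  have h3 := h2 a ha hap' n⁻¹ hn'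
  rw [inv_inv] at h3 hn2
  refine ⟨1, one_mem _, ?_⟩
  rw [hn2, h3, one_mul, inv_one, mul_one]

/-- **Key proposition.** `G` of `p`-rank at most two (`p` odd), `x` isolated of order `p`, `z` of
order `p` commuting with `x`, `x ∉ ⟨z⟩`: then `C_G(z)` has a normal `p`-complement. -/
theorem npc_centralizer {G : Type*} [Group G] [Finite G] {p : ℕ} [hp : Fact p.Prime] (hp2 : p ≠ 2)
    (hr : Cfsg.PRankLE p 2 G) {x z : G} (hiso : Cfsg.IsIsolated x) (hx : orderOf x = p)
    (hz : orderOf z = p) (hzx : Commute z x) (hnot : x ∉ zpowers z) :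
    Cfsg.HasNormalPComplement p ↥(centralizer ({z} : Set G)) := by
  set H : Subgroup G := centralizer ({z} : Set G) with hH
  have hzH : z ∈ H := by rw [hH, mem_centralizer_singleton_iff]
  have hxH : x ∈ H := by rw [hH, mem_centralizer_singleton_iff]; exact hzx.eq.symm
  have hHc : ∀ y : H, Commute z (y : G) := by
    intro y
    have h0 : (y : G) ∈ centralizer ({z} : Set G) := y.2
    rw [mem_centralizer_singleton_iff] at h0
    exact h0.symm
  have hzp : z ^ p = 1 := by rw [← hz]; exact pow_orderOf_eq_one z
  have hxp : x ^ p = 1 := by rw [← hx]; exact pow_orderOf_eq_one x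
  have hz1 : z ≠ 1 := by
    intro h
    rw [h, orderOf_one] at hz
    exact hp.out.one_lt.ne hz
  set zH : H := ⟨z, hzH⟩ with hzH'
  set xH : H := ⟨x, hxH⟩ with hxH'
  set A₀ : Subgroup H := closure ({zH, xH} : Set H) with hA₀
  have hEA : Cfsg.IsElementaryAbelian p A₀ := by
    apply Cfsg.Agent.Helper26.isElementaryAbelian_closure
    · intro a ha b hb
      simp only [Set.mem_insert_iff, Set.mem_singleton_iff] at ha hb
      rcases ha with rfl | rfl <;> rcases hb with rfl | rfl
      · rfl
      · exact Subtype.ext hzx.eq
      · exact Subtype.ext hzx.eq.symm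
      · rfl
    · intro a ha
      simp only [Set.mem_insert_iff, Set.mem_singleton_iff] at ha
      rcases ha with rfl | rfl
      · exact Subtype.ext hzp
      · exact Subtype.ext hxp
  have hA₀p : IsPGroup p A₀ := by
    intro a
    refine ⟨1, ?_⟩
    apply Subtype.ext
    rw [pow_one]
    simpa using hEA.2 a a.2
  obtain ⟨P, hP⟩ := hA₀p.exists_le_sylow
  have hzP : zH ∈ (P : Subgroup H) := hP (subset_closure (by simp))
  have hxP : xH ∈ (P : Subgroup H) := hP (subset_closure (by simp))
  have hisoH : Cfsg.IsIsolated xH := by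
    intro g hg
    apply Subtype.ext
    have h1 : Commute x ((g : G) * x * (g : G)⁻¹) := by
      have := congrArg Subtype.val hg.eq
      have h0 : x * ((g : G) * x * (g : G)⁻¹) = (g : G) * x * (g : G)⁻¹ * x := by
        simpa [hxH'] using this
      exact h0
    simpa [hxH'] using hiso (g : G) h1
  have hxc : ∀ y ∈ (P : Subgroup H), Commute x (y : G) := by
    intro y hy
    have := commute_of_isolated hisoH (P : Subgroup H) P.2 hxP y hy
    have h := congrArg Subtype.val this.eq
    have h0 : x * (y : G) = (y : G) * x := by simpa [hxH'] using h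
    exact h0
  -- elements of order dividing `p` of `P` lie in `⟨z, x⟩`
  have hmem : ∀ a ∈ (P : Subgroup H), a ^ p = 1 → (a : G) ∈ closure ({z, x} : Set G) := by
    intro a ha hap
    have hap' : (a : G) ^ p = 1 := by
      have := congrArg Subtype.val hap
      simpa using this
    exact mem_closure_pair hr hzx (hHc a) (hxc a ha) hzp hxp hap' hz1 hnot
  apply npc_of_central_omega hp2 P
  · intro a ha hap y hy
    have h1 : closure ({z, x} : Set G) ≤ centralizer ({(y : G)} : Set G) := by
      rw [closure_le]
      intro b hb
      simp only [Set.mem_insert_iff, Set.mem_singleton_iff] at hb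
      rw [SetLike.mem_coe, mem_centralizer_singleton_iff]
      rcases hb with rfl | rfl
      · exact (hHc y).eq
      · exact (hxc y hy).eq
    have h2 := h1 (hmem a ha hap)
    rw [mem_centralizer_singleton_iff] at h2
    apply Subtype.ext
    simpa using h2.symm
  · intro a ha hap n hn
    have hnx : Commute x (n : G) := by
      have h1 : n * xH * n⁻¹ ∈ (P : Subgroup H) := (mem_normalizer_iff.mp hn xH).mp hxP
      have h2 := hxc _ h1
      have h3 : Commute x ((n : G) * x * (n : G)⁻¹) := by simpa [hxH'] using h2
      have h4 := hiso (n : G) h3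
      have : (n : G) * x = x * n := by
        calc (n : G) * x = (n : G) * x * (n : G)⁻¹ * n := by group
          _ = x * n := by rw [h4]
      exact this.symm
    have h1 : closure ({z, x} : Set G) ≤ centralizer ({(n : G)} : Set G) := by
      rw [closure_le]
      intro b hb
      simp only [Set.mem_insert_iff, Set.mem_singleton_iff] at hb
      rw [SetLike.mem_coe, mem_centralizer_singleton_iff]
      rcases hb with rfl | rfl
      · exact (hHc n).eq
      · exact hnx.eq
    have h2 := h1 (hmem a ha hap)
    rw [mem_centralizer_singleton_iff] at h2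
    apply Subtype.ext
    have h3 : (n : G) * (a : G) * (n : G)⁻¹ = a := by
      rw [← h2, mul_inv_cancel_right]
    simpa using h3

end Cfsg.Agent.Helper9.IsoRank
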