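import Mathlib
import Cfsg.Agent.Helper9.IsoRankB
import Cfsg.Agent.Helper7.StrongEmbFStar
import Cfsg.Agent.Helper7.LayerNormalizes
import Cfsg.Agent.Helper7.LBalanceSchreier
import Cfsg.Agent.Helper10.IndFunctor

set_option autoImplicit false
set_option linter.unusedSectionVars false
set_option linter.unusedVariables false
set_option linter.style.haveILetI false

/-! # Isolated elements of order `p` in groups of `p`-rank at most two: `F*(G)` is simple -/

namespace Cfsg.Agent.Helper9.IsoRank

open Subgroup Cfsg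
open Cfsg.Agent.Helper7

universe u

/-- a perfect finite group with a normal `p`-complement has order prime to `p` -/
theorem not_dvd_card_of_perfect_of_npc {L : Type*} [Group L] [Finite L] {p : ℕ} [hp : Fact p.Prime]
    (hperf : commutator L = ⊤) (h : Cfsg.HasNormalPComplement p L) : ¬ p ∣ Nat.card L := by
  obtain ⟨P, N, hN, hc⟩ := h
  haveI := hN
  intro hdvd
  have hidx : N.index = Nat.card (P : Subgroup L) := hc.symm.index_eq_card
  have hQp : IsPGroup p (L ⧸ N) := by
    obtain ⟨n, hn⟩ := IsPGroup.iff_card.mp P.2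
    apply IsPGroup.of_card (n := n)
    rw [← hn, ← hidx]
    rfl
  haveI : Group.IsNilpotent (L ⧸ N) := hQp.isNilpotent
  haveI : Group.IsSolvable (L ⧸ N) := inferInstance
  have h1 : (⊤ : Subgroup L).map (QuotientGroup.mk' N) = ⊥ :=
    map_eq_bot_of_perfect_of_isSolvable (QuotientGroup.mk' N)
      (by rw [← _root_.commutator_def]; exact hperf)
  have h2 : N = ⊤ := by
    rw [eq_top_iff]
    intro a _
    have : QuotientGroup.mk' N a ∈ (⊤ : Subgroup L).map (QuotientGroup.mk' N) :=
      ⟨a, mem_top a, rfl⟩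
    rw [h1, mem_bot] at this
    exact (QuotientGroup.eq_one_iff a).mp this
  rw [h2, index_top] at hidx
  have h3 : (P : Subgroup L) = ⊥ := by
    rw [← Subgroup.card_eq_one]; exact hidx.symm
  exact P.ne_bot_of_dvd_card hdvd h3

theorem map_conj_eq_iff_mem_normalizer {G : Type*} [Group G] (L : Subgroup G) (g : G) :
    L.map (MulAut.conj g).toMonoidHom = L ↔ g ∈ normalizer (L : Set G) := by
  rw [mem_normalizer_iff]
  constructor
  · intro h a
    constructor
    · intro ha
      rw [← h]
      exact ⟨a, ha, by simp [MulAut.conj_apply]⟩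
    · intro ha
      rw [← h] at ha
      obtain ⟨b, hb, hba⟩ := ha
      have : b = a := by
        have h0 : g * b * g⁻¹ = g * a * g⁻¹ := by simpa [MulAut.conj_apply] using hba
        exact mul_left_cancel (mul_right_cancel h0)
      rwa [← this]
  · intro h
    apply le_antisymm
    · rintro _ ⟨a, ha, rfl⟩
      have : g * a * g⁻¹ ∈ L := (h a).mp ha
      simpa [MulAut.conj_apply] using this
    · intro a ha
      refine ⟨g⁻¹ * a * g, ?_, ?_⟩
      · rw [SetLike.mem_coe, h (g⁻¹ * a * g)]
        have : g * (g⁻¹ * a * g) * g⁻¹ = a := by group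
        rwa [this]
      · simp [MulAut.conj_apply, mul_assoc]

theorem map_conj_map_conj {G : Type*} [Group G] (L : Subgroup G) (g h : G) :
    (L.map (MulAut.conj h).toMonoidHom).map (MulAut.conj g).toMonoidHom
      = L.map (MulAut.conj (g * h)).toMonoidHom := by
  rw [Subgroup.map_map]
  congr 1
  ext a
  simp [MulAut.conj_apply, mul_assoc]

section main

variable {G : Type u} [Group G] [Finite G] {p : ℕ} [hp : Fact p.Prime]

/-- the centre of a component lies in the Fitting subgroup -/
theorem component_inf_centralizer_le_fitting {L : Subgroup G} (hL : IsComponent L) :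
    L ⊓ centralizer (L : Set G) ≤ fittingSubgroup G := by
  rw [← map_subtype_center]
  apply subnormal_nilpotent_le_fittingSubgroup
  · exact (Subgroup.Normal.isSubnormal (inferInstance : (center L).Normal)).trans' hL.1
  · haveI : IsMulCommutative ((center L).map L.subtype) := Subgroup.map_isMulCommutative _ _
    exact isNilpotent_of_isMulCommutative _

/-- If `C_G(y)` has a normal `p`-complement then no component commutes with `y`
(when `O_{p'}(G) = 1`). -/
theorem false_of_npc_centralizer (hO : pPrimeCore p G = ⊥) {L : Subgroup G} (hL : IsComponent L)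
    {y : G} (hLy : ∀ l ∈ L, Commute y l)
    (h : Cfsg.HasNormalPComplement p ↥(centralizer ({y} : Set G))) : False := by
  have hle : L ≤ centralizer ({y} : Set G) := by
    intro l hl
    rw [mem_centralizer_singleton_iff]
    exact (hLy l hl).eq.symm
  have h1 : Cfsg.HasNormalPComplement p ↥L := Cfsg.Agent.Helper10.npc_of_le hle h
  have hperf : commutator ↥L = ⊤ := Group.isPerfect_def.mp hL.2.1
  exact not_dvd_card_of_perfect_of_npc hperf h1 (IsComponent.dvd_card_of_pPrimeCore_eq_bot hO hL)

variable (hp2 : p ≠ 2) (hO : pPrimeCore p G = ⊥) (hr : Cfsg.PRankLE p 2 G) {x : G}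
  (hx : orderOf x = p) (hiso : Cfsg.IsIsolated x) (hnc : x ∉ center G)

include hp2 hO hr hx hiso hnc

/-- `x` centralizes `O_p(G)` -/
theorem commute_pCore : ∀ y ∈ pCore p G, Commute x y := by
  have hzp : IsPGroup p (zpowers x) :=
    IsPGroup.of_card (n := 1) (by rw [Nat.card_zpowers, hx, pow_one])
  obtain ⟨S, hS⟩ := hzp.exists_le_sylow
  intro y hy
  exact commute_of_isolated hiso (S : Subgroup G) S.2 (hS (mem_zpowers x)) y
    (Cfsg.Agent.Helper14.pCore_le_sylow p S hy)

theorem not_mem_pCore : x ∉ pCore p G := by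
  intro h
  exact hnc (mem_center_of_mem_normal hiso (pCore p G) (Cfsg.Agent.Helper14.pCore_isPGroup p) h)

theorem layer_ne_bot : layer G ≠ ⊥ := by
  intro h
  have h1 := (centralizer_fitting_le_iff_layer_eq_bot (G := G)).mpr h
  rw [fittingSubgroup_eq_pCore_of_pPrimeCore_eq_bot hO] at h1
  apply not_mem_pCore hp2 hO hr hx hiso hnc
  apply h1
  rw [mem_centralizer_iff]
  intro y hy
  exact ((commute_pCore hp2 hO hr hx hiso hnc y hy).eq).symm

theorem pCore_eq_bot : pCore p G = ⊥ := by
  by_contra hne
  obtain ⟨L, hL⟩ := exists_isComponent_of_layer_ne_bot (layer_ne_bot hp2 hO hr hx hiso hnc)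
  have hRp : IsPGroup p (pCore p G) := Cfsg.Agent.Helper14.pCore_isPGroup p
  have hdvd : p ∣ Nat.card (pCore p G) := by
    obtain ⟨n, hn⟩ := IsPGroup.iff_card.mp hRp
    rw [hn]
    have hn0 : n ≠ 0 := by
      intro h0
      rw [h0, pow_zero] at hn
      exact hne ((Subgroup.card_eq_one).mp hn)
    exact dvd_pow_self p hn0
  obtain ⟨z, hz⟩ := exists_prime_orderOf_dvd_card' p hdvd
  have hzo : orderOf (z : G) = p := by rw [Subgroup.orderOf_coe]; exact hz
  have hzx : Commute (z : G) x := (commute_pCore hp2 hO hr hx hiso hnc z z.2).symm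
  have hnot : x ∉ zpowers (z : G) := by
    intro h
    apply not_mem_pCore hp2 hO hr hx hiso hnc
    exact (zpowers_le.mpr z.2) h
  have hnpc := npc_centralizer hp2 hr hiso hx hzo hzx hnot
  refine false_of_npc_centralizer hO hL ?_ hnpc
  intro l hl
  have h1 : ⁅L, fittingSubgroup G⁆ = ⊥ := component_commutator_fitting hL
  rw [fittingSubgroup_eq_pCore_of_pPrimeCore_eq_bot hO] at h1
  exact (commutator_eq_bot_iff_forall_commute.1 h1 l hl z z.2).symm

theorem fitting_eq_bot : fittingSubgroup G = ⊥ := by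
  rw [fittingSubgroup_eq_pCore_of_pPrimeCore_eq_bot hO]
  exact pCore_eq_bot hp2 hO hr hx hiso hnc

theorem component_center_eq_bot {L : Subgroup G} (hL : IsComponent L) :
    L ⊓ centralizer (L : Set G) = ⊥ := by
  have := component_inf_centralizer_le_fitting hL
  rw [fitting_eq_bot hp2 hO hr hx hiso hnc] at this
  exact le_bot_iff.mp this

/-- `x` normalizes every component -/
theorem mem_normalizer_component {L : Subgroup G} (hL : IsComponent L) :
    x ∈ normalizer (L : Set G) := by
  by_contra hxN
  have hxp : x ^ p = 1 := by rw [← hx]; exact pow_orderOf_eq_one x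
  -- `x * x` does not normalize `L` either
  have hxxN : x * x ∉ normalizer (L : Set G) := by
    intro h
    apply hxN
    obtain ⟨k, hk⟩ := (hp.out.eq_two_or_odd').resolve_left hp2
    have : x = (x * x) ^ (k + 1) := by
      rw [← pow_two, ← pow_mul]
      have : 2 * (k + 1) = p + 1 := by omega
      rw [this, pow_succ, hxp, one_mul]
    rw [this]
    exact pow_mem h _
  set L₁ := L.map (MulAut.conj x).toMonoidHom with hL₁
  set L₂ := L₁.map (MulAut.conj x).toMonoidHom with hL₂
  have hL₂' : L₂ = L.map (MulAut.conj (x * x)).toMonoidHom := map_conj_map_conj L x x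
  have hc1 : IsComponent L₁ := isComponent_map_conj hL x
  have hc2 : IsComponent L₂ := isComponent_map_conj hc1 x
  have hne01 : L ≠ L₁ := fun h => hxN ((map_conj_eq_iff_mem_normalizer L x).mp h.symm)
  have hne02 : L ≠ L₂ := by
    intro h
    rw [hL₂'] at h
    exact hxxN ((map_conj_eq_iff_mem_normalizer L (x * x)).mp h.symm)
  have hne12 : L₁ ≠ L₂ := by
    intro h
    apply hne01
    exact Subgroup.map_injective (MulAut.conj x).injective h
  have hcomm01 := commutator_eq_bot_iff_forall_commute.1 (components_commute hL hc1 hne01)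
  have hcomm02 := commutator_eq_bot_iff_forall_commute.1 (components_commute hL hc2 hne02)
  have hcomm12 := commutator_eq_bot_iff_forall_commute.1 (components_commute hc1 hc2 hne12)
  obtain ⟨y, hy⟩ := exists_prime_orderOf_dvd_card' p (IsComponent.dvd_card_of_pPrimeCore_eq_bot hO hL)
  have hyo : orderOf (y : G) = p := by rw [Subgroup.orderOf_coe]; exact hy
  have hyp : (y : G) ^ p = 1 := by rw [← hyo]; exact pow_orderOf_eq_one _
  have hy1 : (y : G) ≠ 1 := by
    intro h
    rw [h, orderOf_one] at hyo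
    exact hp.out.one_lt.ne hyo
  set y₁ : G := x * y * x⁻¹ with hy₁
  set y₂ : G := x * y₁ * x⁻¹ with hy₂
  have hy₁L : y₁ ∈ L₁ := ⟨y, y.2, by simp [MulAut.conj_apply, hy₁]⟩
  have hy₂L : y₂ ∈ L₂ := ⟨y₁, hy₁L, by simp [MulAut.conj_apply, hy₂]⟩
  have hy₁p : y₁ ^ p = 1 := by rw [hy₁, conj_pow, hyp, mul_one, mul_inv_cancel]
  have hy₂p : y₂ ^ p = 1 := by rw [hy₂, conj_pow, hy₁p, mul_one, mul_inv_cancel]
  have hy₁1 : y₁ ≠ 1 := by
    intro h
    apply hy1
    have : (y : G) = x⁻¹ * y₁ * x := by rw [hy₁]; group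
    rw [this, h]; group
  have hy₂1 : y₂ ≠ 1 := by
    intro h
    apply hy₁1
    have : y₁ = x⁻¹ * y₂ * x := by rw [hy₂]; group
    rw [this, h]; group
  have hz1 := component_center_eq_bot hp2 hO hr hx hiso hnc hc1
  have hz2 := component_center_eq_bot hp2 hO hr hx hiso hnc hc2
  refine not_pRankLE_of_three (hcomm01 y y.2 y₁ hy₁L) (hcomm02 y y.2 y₂ hy₂L)
    (hcomm12 y₁ hy₁L y₂ hy₂L) hyp hy₁p hy₂p hy1 ?_ ?_ hr
  · intro h
    have hyL : y₁ ∈ L := (zpowers_le.mpr y.2) h
    have : y₁ ∈ L₁ ⊓ centralizer (L₁ : Set G) := by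
      rw [Subgroup.mem_inf]
      refine ⟨hy₁L, ?_⟩
      rw [mem_centralizer_iff]
      intro b hb
      exact (hcomm01 y₁ hyL b hb).symm
    rw [hz1, mem_bot] at this
    exact hy₁1 this
  · intro h
    have hle : closure ({(y : G), y₁} : Set G) ≤ centralizer (L₂ : Set G) := by
      rw [closure_le]
      intro a ha
      simp only [Set.mem_insert_iff, Set.mem_singleton_iff] at ha
      rw [SetLike.mem_coe, mem_centralizer_iff]
      intro b hb
      rcases ha with rfl | rfl
      · exact (hcomm02 y y.2 b hb).symm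
      · exact (hcomm12 y₁ hy₁L b hb).symm
    have : y₂ ∈ L₂ ⊓ centralizer (L₂ : Set G) := Subgroup.mem_inf.mpr ⟨hy₂L, hle h⟩
    rw [hz2, mem_bot] at this
    exact hy₂1 this

/-- two distinct components cannot exist: auxiliary asymmetric form -/
theorem component_unique_aux {L₁ L₂ : Subgroup G} (hL₁ : IsComponent L₁) (hL₂ : IsComponent L₂)
    (hne : L₁ ≠ L₂) {y : G} (hy : y ∈ L₁) (hyo : orderOf y = p) (hyx : Commute y x)
    (hnot : x ∉ zpowers y) : False := by
  have hnpc := npc_centralizer hp2 hr hiso hx hyo hyx hnot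
  refine false_of_npc_centralizer hO hL₂ ?_ hnpc
  intro l hl
  exact commutator_eq_bot_iff_forall_commute.1 (components_commute hL₁ hL₂ hne) y hy l hl

theorem component_unique {L₁ L₂ : Subgroup G} (hL₁ : IsComponent L₁) (hL₂ : IsComponent L₂) :
    L₁ = L₂ := by
  by_contra hne
  have hzp : IsPGroup p (zpowers x) :=
    IsPGroup.of_card (n := 1) (by rw [Nat.card_zpowers, hx, pow_one])
  have hn1 : zpowers x ≤ normalizer (L₁ : Set G) :=
    zpowers_le.mpr (mem_normalizer_component hp2 hO hr hx hiso hnc hL₁)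
  have hn2 : zpowers x ≤ normalizer (L₂ : Set G) :=
    zpowers_le.mpr (mem_normalizer_component hp2 hO hr hx hiso hnc hL₂)
  obtain ⟨y₁, hy₁L, hy₁c, hy₁o⟩ := exists_orderOf_eq_mem_inf_centralizer hzp hn1
    (IsComponent.dvd_card_of_pPrimeCore_eq_bot hO hL₁)
  obtain ⟨y₂, hy₂L, hy₂c, hy₂o⟩ := exists_orderOf_eq_mem_inf_centralizer hzp hn2
    (IsComponent.dvd_card_of_pPrimeCore_eq_bot hO hL₂)
  have hc1 : Commute y₁ x := (mem_centralizer_iff.mp hy₁c x (mem_zpowers x)).symm
  have hc2 : Commute y₂ x := (mem_centralizer_iff.mp hy₂c x (mem_zpowers x)).symm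
  by_cases h1 : x ∈ zpowers y₁
  · have h2 : x ∉ zpowers y₂ := by
      intro h2
      have hx1 : x ∈ L₁ := (zpowers_le.mpr hy₁L) h1
      have hx2 : x ∈ L₂ := (zpowers_le.mpr hy₂L) h2
      have hcomm := commutator_eq_bot_iff_forall_commute.1 (components_commute hL₁ hL₂ hne)
      have : x ∈ L₂ ⊓ centralizer (L₂ : Set G) := by
        rw [Subgroup.mem_inf]
        refine ⟨hx2, ?_⟩
        rw [mem_centralizer_iff]
        intro b hb
        exact (hcomm x hx1 b hb).symm
      rw [component_center_eq_bot hp2 hO hr hx hiso hnc hL₂, mem_bot] at this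
      rw [this, orderOf_one] at hx
      exact hp.out.one_lt.ne hx
    exact component_unique_aux hp2 hO hr hx hiso hnc hL₂ hL₁ (Ne.symm hne) hy₂L hy₂o hc2 h2
  · exact component_unique_aux hp2 hO hr hx hiso hnc hL₁ hL₂ hne hy₁L hy₁o hc1 h1

/-- **Main theorem**: `F*(G)` is a nonabelian simple group. -/
theorem generalizedFitting_simple :
    IsSimpleGroup ↥(generalizedFittingSubgroup G) ∧
      ¬ IsMulCommutative ↥(generalizedFittingSubgroup G) := by
  have hF : fittingSubgroup G = ⊥ := fitting_eq_bot hp2 hO hr hx hiso hnc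
  have hgen : generalizedFittingSubgroup G = layer G := by
    unfold generalizedFittingSubgroup
    rw [hF, sup_bot_eq]
  have hlne : layer G ≠ ⊥ := layer_ne_bot hp2 hO hr hx hiso hnc
  obtain ⟨L, hL⟩ := exists_isComponent_of_layer_ne_bot hlne
  have hlayer : layer G = L := by
    apply le_antisymm
    · rw [layer_le_iff]
      intro K hK
      rw [component_unique hp2 hO hr hx hiso hnc hK hL]
    · exact IsComponent.le_layer hL
  have hq : IsQuasisimple ↥(layer G) := by rw [hlayer]; exact hL.2
  have hc : center ↥(layer G) = ⊥ := by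
    have h1 := map_subtype_center_layer_le_fitting (G := G)
    rw [hF, le_bot_iff] at h1
    exact (map_eq_bot_iff_of_injective _ (subtype_injective _)).1 h1
  have hs : IsSimpleGroup ↥(layer G) := by
    haveI := hq.2
    let e : ↥(layer G) ≃* ↥(layer G) ⧸ center ↥(layer G) :=
      ((QuotientGroup.quotientMulEquivOfEq hc).trans QuotientGroup.quotientBot).symm
    exact MulEquiv.isSimpleGroup e
  rw [hgen]
  exact ⟨hs, IsQuasisimple.not_isMulCommutative hq⟩

end main

end Cfsg.Agent.Helper9.IsoRank
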