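import Mathlib
import Cfsg.Agent.Helper9.Offender2

set_option autoImplicit false
set_option linter.unusedSectionVars false
set_option linter.unusedVariables false
set_option linter.style.haveILetI false

/-! # Quadratic offenders normalizing an arbitrary group of odd order -/

namespace Cfsg.Agent.Helper9.Off3

open Subgroup
open Cfsg.Agent.Helper9.Off2

section eigen

variable {Γ : Type*} [Group Γ]

/-- an element of odd order that is its own inverse is trivial -/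
theorem eq_one_of_odd_of_sq {x : Γ} (hodd : Odd (orderOf x)) (h : x * x = 1) : x = 1 := by
  have h1 : orderOf x ∣ 2 := orderOf_dvd_of_pow_eq_one (by rw [pow_two]; exact h)
  rcases (Nat.dvd_prime Nat.prime_two).mp h1 with h2 | h2
  · exact orderOf_eq_one_iff.mp h2
  · rw [h2] at hodd; exact absurd hodd (by decide)

/-- an element of odd order commuting with `d⁻¹`-inversion: if `x` inverts `d` then `d * d = 1` -/
theorem sq_eq_one_of_inverted {x d : Γ} (hodd : Odd (orderOf x)) (h : x * d * x⁻¹ = d⁻¹) :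
    d * d = 1 := by
  have h2 : (x * x) * d = d * (x * x) := by
    have e : x * x * d = x * (x * d * x⁻¹) * x := by group
    rw [e, h]
    have h' : x * d⁻¹ * x⁻¹ = d := by
      calc x * d⁻¹ * x⁻¹ = (x * d * x⁻¹)⁻¹ := by group
        _ = d := by rw [h, inv_inv]
    calc x * d⁻¹ * x = (x * d⁻¹ * x⁻¹) * (x * x) := by group
      _ = d * (x * x) := by rw [h']
  have h3 : x * d = d * x := (comm_of_sq_comm hodd h2.symm).symm
  have h4 : d = d⁻¹ := by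
    rw [← h, h3]; group
  calc d * d = d * d⁻¹ := by rw [← h4]
    _ = 1 := mul_inv_cancel d

/-- **L1**: decomposition `x = j * c` with `j` inverted and `c` centralized by the involution `γ` -/
theorem exists_inverted_mul_fixed [Finite Γ] {γ : Γ} (hγ : γ * γ = 1) (Λ : Subgroup Γ)
    (hΛ : ∀ x ∈ Λ, γ * x * γ⁻¹ ∈ Λ) {x : Γ} (hx : x ∈ Λ) (hodd : ∀ y ∈ Λ, Odd (orderOf y)) :
    ∃ j ∈ Λ, ∃ c ∈ Λ, x = j * c ∧ γ * j * γ⁻¹ = j⁻¹ ∧ γ * c * γ⁻¹ = c := by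
  have hγinv : γ⁻¹ = γ := inv_eq_of_mul_eq_one_left hγ
  obtain ⟨e, he⟩ : ∃ e, e = x * (γ * x⁻¹ * γ⁻¹) := ⟨_, rfl⟩
  have heΛ : e ∈ Λ := by rw [he]; exact Λ.mul_mem hx (hΛ _ (Λ.inv_mem hx))
  have heinv : γ * e * γ⁻¹ = e⁻¹ := by
    rw [he]
    calc γ * (x * (γ * x⁻¹ * γ⁻¹)) * γ⁻¹ = (γ * x * γ⁻¹) * ((γ * γ) * x⁻¹ * (γ⁻¹ * γ⁻¹)) := by group
      _ = (γ * x * γ⁻¹) * x⁻¹ := by rw [hγ, hγinv, hγ, one_mul, mul_one]
      _ = (x * (γ * x⁻¹ * γ⁻¹))⁻¹ := by group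
  obtain ⟨m, hm⟩ := hodd e heΛ
  obtain ⟨j, hj⟩ : ∃ j, j = e ^ (m + 1) := ⟨_, rfl⟩
  have hjj : j * j = e := by
    rw [hj, ← pow_add]
    have : m + 1 + (m + 1) = orderOf e + 1 := by omega
    rw [this, pow_succ, pow_orderOf_eq_one, one_mul]
  have hjΛ : j ∈ Λ := by rw [hj]; exact Λ.pow_mem heΛ _
  have hjinv : γ * j * γ⁻¹ = j⁻¹ := by
    rw [hj, ← conj_pow, heinv, inv_pow]
  refine ⟨j, hjΛ, j⁻¹ * x, Λ.mul_mem (Λ.inv_mem hjΛ) hx, by group, hjinv, ?_⟩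
  have h1 : γ * (j⁻¹ * x) * γ⁻¹ = (γ * j * γ⁻¹)⁻¹ * (γ * x * γ⁻¹) := by group
  rw [h1, hjinv, inv_inv]
  -- `j * (γ x γ⁻¹) = j⁻¹ * x`
  have h2 : e * (γ * x * γ⁻¹) = x := by
    rw [he]; group
  calc j * (γ * x * γ⁻¹) = j⁻¹ * ((j * j) * (γ * x * γ⁻¹)) := by group
    _ = j⁻¹ * x := by rw [hjj, h2]

/-- **L2**: a four-group all of whose involutions have the same fixed points on a group of odd order
acts trivially. -/
theorem klein_trivial [Finite Γ] {β γ : Γ} (hβ : β * β = 1) (hγ : γ * γ = 1) (hc : β * γ = γ * β)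
    (Λ : Subgroup Γ) (hodd : ∀ y ∈ Λ, Odd (orderOf y))
    (hΛβ : ∀ x ∈ Λ, β * x * β⁻¹ ∈ Λ) (hΛγ : ∀ x ∈ Λ, γ * x * γ⁻¹ ∈ Λ)
    (h1 : ∀ x ∈ Λ, β * x = x * β ↔ γ * x = x * γ)
    (h2 : ∀ x ∈ Λ, β * x = x * β ↔ (β * γ) * x = x * (β * γ)) :
    ∀ x ∈ Λ, β * x = x * β := by
  have hβinv : β⁻¹ = β := inv_eq_of_mul_eq_one_left hβ
  have hγinv : γ⁻¹ = γ := inv_eq_of_mul_eq_one_left hγ
  -- inverted elements are trivial
  have key : ∀ x ∈ Λ, β * x * β⁻¹ = x⁻¹ → x = 1 := by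
    intro x hx hxinv
    obtain ⟨j, hjΛ, c, hcΛ, hxjc, hjinv, hcfix⟩ := exists_inverted_mul_fixed hγ Λ hΛγ hx hodd
    have hcγ : γ * c = c * γ := by
      calc γ * c = (γ * c * γ⁻¹) * γ := by group
        _ = c * γ := by rw [hcfix]
    have hcβ : β * c = c * β := (h1 c hcΛ).mpr hcγ
    have hcβ' : β * c * β⁻¹ = c := by rw [hcβ]; group
    have hj : j = x * c⁻¹ := by rw [hxjc]; group
    -- `β j β⁻¹ = x⁻¹ c⁻¹` is inverted by `γ`
    have hbj : β * j * β⁻¹ = x⁻¹ * c⁻¹ := by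
      rw [hj]
      calc β * (x * c⁻¹) * β⁻¹ = (β * x * β⁻¹) * (β * c * β⁻¹)⁻¹ := by group
        _ = x⁻¹ * c⁻¹ := by rw [hxinv, hcβ']
    have hbjinv : γ * (β * j * β⁻¹) * γ⁻¹ = (β * j * β⁻¹)⁻¹ := by
      have e1 : γ * (β * j * β⁻¹) * γ⁻¹ = β * (γ * j * γ⁻¹) * β⁻¹ := by
        have hc' : γ * β = β * γ := hc.symm
        have hc2 : β⁻¹ * γ⁻¹ = γ⁻¹ * β⁻¹ := by rw [hβinv, hγinv]; exact hc
        calc γ * (β * j * β⁻¹) * γ⁻¹ = (γ * β) * j * (β⁻¹ * γ⁻¹) := by group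
          _ = (β * γ) * j * (γ⁻¹ * β⁻¹) := by rw [hc', hc2]
          _ = β * (γ * j * γ⁻¹) * β⁻¹ := by group
      rw [e1, hjinv]; group
    -- two expressions for `γ x γ⁻¹`
    have hcfix' : γ * c⁻¹ * γ⁻¹ = c⁻¹ := by
      calc γ * c⁻¹ * γ⁻¹ = (γ * c * γ⁻¹)⁻¹ := by group
        _ = c⁻¹ := by rw [hcfix]
    have e1 : γ * x * γ⁻¹ = c * x⁻¹ * c := by
      have h3 : γ * (x * c⁻¹) * γ⁻¹ = (x * c⁻¹)⁻¹ := by rw [← hj]; exact hjinv
      have h4 : γ * (x * c⁻¹) * γ⁻¹ = (γ * x * γ⁻¹) * (γ * c⁻¹ * γ⁻¹) := by group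
      rw [h4, hcfix'] at h3
      calc γ * x * γ⁻¹ = (γ * x * γ⁻¹ * c⁻¹) * c := by group
        _ = (x * c⁻¹)⁻¹ * c := by rw [h3]
        _ = c * x⁻¹ * c := by group
    have e2 : γ * x * γ⁻¹ = c⁻¹ * x⁻¹ * c⁻¹ := by
      have h3 : γ * (x⁻¹ * c⁻¹) * γ⁻¹ = (x⁻¹ * c⁻¹)⁻¹ := by rw [← hbj]; exact hbjinv
      have h4 : γ * (x⁻¹ * c⁻¹) * γ⁻¹ = (γ * x * γ⁻¹)⁻¹ * (γ * c⁻¹ * γ⁻¹) := by group
      rw [h4, hcfix'] at h3
      have h5 : (γ * x * γ⁻¹)⁻¹ = c * x * c := by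
        calc (γ * x * γ⁻¹)⁻¹ = ((γ * x * γ⁻¹)⁻¹ * c⁻¹) * c := by group
          _ = (x⁻¹ * c⁻¹)⁻¹ * c := by rw [h3]
          _ = c * x * c := by group
      calc γ * x * γ⁻¹ = ((γ * x * γ⁻¹)⁻¹)⁻¹ := by group
        _ = (c * x * c)⁻¹ := by rw [h5]
        _ = c⁻¹ * x⁻¹ * c⁻¹ := by group
    -- `x⁻¹` inverts `c * c`
    have e3 : x⁻¹ * (c * c) * x⁻¹⁻¹ = (c * c)⁻¹ := by
      have h6 : c * x⁻¹ * c = c⁻¹ * x⁻¹ * c⁻¹ := by rw [← e1, e2]
      calc x⁻¹ * (c * c) * x⁻¹⁻¹ = c⁻¹ * (c * x⁻¹ * c) * c * x := by group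
        _ = c⁻¹ * (c⁻¹ * x⁻¹ * c⁻¹) * c * x := by rw [h6]
        _ = (c * c)⁻¹ := by group
    have hxodd : Odd (orderOf x⁻¹) := by rw [orderOf_inv]; exact hodd x hx
    have e4 : (c * c) * (c * c) = 1 := sq_eq_one_of_inverted hxodd e3
    have hcc : c * c = 1 := eq_one_of_odd_of_sq (hodd _ (Λ.mul_mem hcΛ hcΛ)) e4
    have hc1 : c = 1 := eq_one_of_odd_of_sq (hodd c hcΛ) hcc
    -- so `x = j` is inverted by `β` and `γ`, hence centralized by `β γ`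
    have hxj : x = j := by rw [hxjc, hc1, mul_one]
    have hxγ : γ * x * γ⁻¹ = x⁻¹ := by rw [hxj]; exact hjinv
    have hx' : γ * x⁻¹ * γ⁻¹ = x := by
      calc γ * x⁻¹ * γ⁻¹ = (γ * x * γ⁻¹)⁻¹ := by group
        _ = x := by rw [hxγ, inv_inv]
    have hbg : (β * γ) * x = x * (β * γ) := by
      have : (β * γ) * x * (β * γ)⁻¹ = x := by
        calc (β * γ) * x * (β * γ)⁻¹ = β * (γ * x * γ⁻¹) * β⁻¹ := by group
          _ = β * x⁻¹ * β⁻¹ := by rw [hxγ]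
          _ = (β * x * β⁻¹)⁻¹ := by group
          _ = x := by rw [hxinv, inv_inv]
      calc (β * γ) * x = ((β * γ) * x * (β * γ)⁻¹) * (β * γ) := by group
        _ = x * (β * γ) := by rw [this]
    have hbx : β * x = x * β := (h2 x hx).mpr hbg
    have hxx : x = x⁻¹ := by
      rw [← hxinv, hbx]; group
    apply eq_one_of_odd_of_sq (hodd x hx)
    calc x * x = x * x⁻¹ := by rw [← hxx]
      _ = 1 := mul_inv_cancel x
  intro x hx
  have hxb : β * x * β⁻¹ ∈ Λ := hΛβ x hx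
  have h3 : x⁻¹ * (β * x * β⁻¹) ∈ Λ := Λ.mul_mem (Λ.inv_mem hx) hxb
  have h4 : β * (x⁻¹ * (β * x * β⁻¹)) * β⁻¹ = (x⁻¹ * (β * x * β⁻¹))⁻¹ := by
    calc β * (x⁻¹ * (β * x * β⁻¹)) * β⁻¹ = (β * x * β⁻¹)⁻¹ * ((β * β) * x * (β⁻¹ * β⁻¹)) := by group
      _ = (β * x * β⁻¹)⁻¹ * x := by rw [hβ, hβinv, hβ, one_mul, mul_one]
      _ = (x⁻¹ * (β * x * β⁻¹))⁻¹ := by group
  have h5 := key _ h3 h4
  calc β * x = x * (x⁻¹ * (β * x * β⁻¹)) * β := by group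
    _ = x * β := by rw [h5, mul_one]

/-- **L3**: an elementary abelian 2-group `B` normalizing but not centralizing a group `Λ` of odd
order has an "eigen-element" in `Λ`. -/
theorem exists_eigen [Finite Γ] (B : Subgroup Γ) (hB2 : ∀ β ∈ B, β * β = 1) :
    ∀ (n : ℕ) (Λ : Subgroup Γ), Nat.card Λ = n → (∀ y ∈ Λ, Odd (orderOf y)) →
      (∀ β ∈ B, ∀ x ∈ Λ, β * x * β⁻¹ ∈ Λ) → ¬ (∀ β ∈ B, ∀ x ∈ Λ, β * x = x * β) →
      ∃ μ ∈ Λ, μ ≠ 1 ∧ (∀ β ∈ B, β * μ * β⁻¹ = μ ∨ β * μ * β⁻¹ = μ⁻¹) ∧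
        ∃ β1 ∈ B, β1 * μ * β1⁻¹ = μ⁻¹ := by
  intro n
  induction n using Nat.strong_induction_on with
  | _ n ih =>
  intro Λ hn hodd hnorm hnc
  have hinvB : ∀ β ∈ B, β⁻¹ = β := fun β hβ => inv_eq_of_mul_eq_one_left (hB2 β hβ)
  have hcomm : ∀ β ∈ B, ∀ γ ∈ B, β * γ = γ * β := by
    intro β hβ γ hγ
    have h1 := hB2 (β * γ) (B.mul_mem hβ hγ)
    calc β * γ = (β * γ)⁻¹ := (hinvB _ (B.mul_mem hβ hγ)).symm
      _ = γ⁻¹ * β⁻¹ := mul_inv_rev β γ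
      _ = γ * β := by rw [hinvB β hβ, hinvB γ hγ]
  -- the fixed points of `β` in `Λ`
  let fixΛ : Γ → Subgroup Γ := fun β => Λ ⊓ centralizer ({β} : Set Γ)
  have hfixmem : ∀ β x, x ∈ fixΛ β ↔ x ∈ Λ ∧ β * x = x * β := by
    intro β x
    show x ∈ Λ ⊓ centralizer ({β} : Set Γ) ↔ _
    rw [mem_inf, mem_centralizer_iff]
    constructor
    · rintro ⟨h1, h2⟩
      exact ⟨h1, h2 β rfl⟩
    · rintro ⟨h1, h2⟩
      refine ⟨h1, ?_⟩
      intro y hy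
      rw [Set.mem_singleton_iff] at hy
      rw [hy]; exact h2
  have hfixnorm : ∀ β ∈ B, ∀ γ ∈ B, ∀ x ∈ fixΛ β, γ * x * γ⁻¹ ∈ fixΛ β := by
    intro β hβ γ hγ x hx
    rw [hfixmem] at hx ⊢
    refine ⟨hnorm γ hγ x hx.1, ?_⟩
    have e1 := hcomm β hβ γ hγ
    have e2 : β * γ⁻¹ = γ⁻¹ * β := by
      rw [hinvB γ hγ]; exact e1
    calc β * (γ * x * γ⁻¹) = (β * γ) * x * γ⁻¹ := by group
      _ = γ * (β * x) * γ⁻¹ := by rw [e1]; group
      _ = γ * x * (β * γ⁻¹) := by rw [hx.2]; group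
      _ = γ * x * γ⁻¹ * β := by rw [e2]; group
  by_cases hcase : ∃ β ∈ B, fixΛ β ≠ Λ ∧ ¬ (∀ γ ∈ B, ∀ x ∈ fixΛ β, γ * x = x * γ)
  · obtain ⟨β, hβ, hne, hnc'⟩ := hcase
    have hle : fixΛ β ≤ Λ := inf_le_left
    have hlt : Nat.card (fixΛ β) < n := by
      rw [← hn]
      apply lt_of_le_of_ne (Subgroup.card_le_of_le hle)
      intro heq
      exact hne (Subgroup.eq_of_le_of_card_ge hle heq.ge)
    obtain ⟨μ, hμ, hμ1, hμe, hμb⟩ := ih _ hlt (fixΛ β) rfl (fun y hy => hodd y (hle hy))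
      (hfixnorm β hβ) hnc'
    exact ⟨μ, hle hμ, hμ1, hμe, hμb⟩
  · push Not at hcase
    -- the elements of `B` centralizing `Λ`
    obtain ⟨β1, hβ1B, hβ1⟩ : ∃ β1 ∈ B, ¬ ∀ x ∈ Λ, β1 * x = x * β1 := by
      by_contra hc
      push Not at hc
      exact hnc hc
    have hfixeq : ∀ δ ∈ B, (¬ ∀ x ∈ Λ, δ * x = x * δ) →
        ∀ x ∈ Λ, δ * x = x * δ ↔ ∀ γ ∈ B, γ * x = x * γ := by
      intro δ hδ hδn x hx
      constructor
      · intro hdx γ hγ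
        have hne : fixΛ δ ≠ Λ := by
          intro heq
          apply hδn
          intro y hy
          have : y ∈ fixΛ δ := by rw [heq]; exact hy
          exact ((hfixmem δ y).mp this).2
        exact hcase δ hδ hne γ hγ x ((hfixmem δ x).mpr ⟨hx, hdx⟩)
      · intro h
        exact h δ hδ
    have hcoset : ∀ β ∈ B, (¬ ∀ x ∈ Λ, β * x = x * β) → ∀ x ∈ Λ, (β1 * β) * x = x * (β1 * β) := by
      intro β hβ hβn
      by_contra hbn
      have hbn' : ¬ ∀ x ∈ Λ, (β1 * β) * x = x * (β1 * β) := hbn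
      have h1 := hfixeq β1 hβ1B hβ1
      have h2 := hfixeq β hβ hβn
      have h3 := hfixeq (β1 * β) (B.mul_mem hβ1B hβ) hbn'
      apply hβ1
      exact klein_trivial (hB2 β1 hβ1B) (hB2 β hβ) (hcomm β1 hβ1B β hβ) Λ hodd
        (hnorm β1 hβ1B) (hnorm β hβ)
        (fun x hx => (h1 x hx).trans (h2 x hx).symm)
        (fun x hx => (h1 x hx).trans (h3 x hx).symm)
    obtain ⟨x, hx, hxβ⟩ : ∃ x ∈ Λ, ¬ β1 * x = x * β1 := by
      by_contra hc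
      push Not at hc
      exact hβ1 hc
    have hβ1inv := hinvB β1 hβ1B
    have hμΛ : x⁻¹ * (β1 * x * β1⁻¹) ∈ Λ := Λ.mul_mem (Λ.inv_mem hx) (hnorm β1 hβ1B x hx)
    have hμinv : β1 * (x⁻¹ * (β1 * x * β1⁻¹)) * β1⁻¹ = (x⁻¹ * (β1 * x * β1⁻¹))⁻¹ := by
      calc β1 * (x⁻¹ * (β1 * x * β1⁻¹)) * β1⁻¹
          = (β1 * x * β1⁻¹)⁻¹ * ((β1 * β1) * x * (β1⁻¹ * β1⁻¹)) := by group
        _ = (β1 * x * β1⁻¹)⁻¹ * x := by rw [hB2 β1 hβ1B, hβ1inv, hB2 β1 hβ1B, one_mul, mul_one]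
        _ = (x⁻¹ * (β1 * x * β1⁻¹))⁻¹ := by group
    refine ⟨x⁻¹ * (β1 * x * β1⁻¹), hμΛ, ?_, ?_, β1, hβ1B, hμinv⟩
    · intro he
      apply hxβ
      have : β1 * x * β1⁻¹ = x := by
        calc β1 * x * β1⁻¹ = x * (x⁻¹ * (β1 * x * β1⁻¹)) := by group
          _ = x := by rw [he, mul_one]
      calc β1 * x = (β1 * x * β1⁻¹) * β1 := by group
        _ = x * β1 := by rw [this]
    · intro β hβ
      by_cases hβc : ∀ y ∈ Λ, β * y = y * β
      · left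
        rw [hβc _ hμΛ]; group
      · right
        have h1 := hcoset β hβ hβc _ hμΛ
        have h2 : (β1 * β) * (x⁻¹ * (β1 * x * β1⁻¹)) * (β1 * β)⁻¹ = x⁻¹ * (β1 * x * β1⁻¹) := by
          rw [h1]; group
        have h3 : β = β1 * (β1 * β) := by
          rw [← mul_assoc, hB2 β1 hβ1B, one_mul]
        calc β * (x⁻¹ * (β1 * x * β1⁻¹)) * β⁻¹
            = β1 * ((β1 * β) * (x⁻¹ * (β1 * x * β1⁻¹)) * (β1 * β)⁻¹) * β1⁻¹ := by
              conv_lhs => rw [h3]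
              group
          _ = β1 * (x⁻¹ * (β1 * x * β1⁻¹)) * β1⁻¹ := by rw [h2]
          _ = (x⁻¹ * (β1 * x * β1⁻¹))⁻¹ := hμinv

end eigen


section lemmaA

variable {V : Type*} [CommGroup V] [Finite V]

/-- **Lemma A'**: as `Off2.exists_transvection`, but `Λ` is any group of odd order. -/
theorem exists_transvection' (hV : ∀ v : V, v * v = 1) (Λ : Subgroup (MulAut V))
    (hΛodd : Odd (Nat.card Λ)) :
    ∀ (n : ℕ) (B : Subgroup (MulAut V)), Nat.card B = n → OffHyp Λ B →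
      ∃ β ∈ B, β ≠ 1 ∧ Nat.card V ≤ 2 * Nat.card (fixSub (zpowers β)) := by
  classical
  intro n
  induction n using Nat.strong_induction_on with
  | _ n ih =>
  intro B hn h
  have hsq : ∀ β ∈ B, β * β = 1 := fun β hβ => quad_sq (fun v => h.quad β hβ β hβ v)
  have hcomm : ∀ β ∈ B, ∀ γ ∈ B, β * γ = γ * β := fun β hβ γ hγ =>
    quad_comm hV (h.quad β hβ γ hγ) (h.quad γ hγ β hβ)
  have hinvB : ∀ β ∈ B, β⁻¹ = β := fun β hβ => inv_eq_of_mul_eq_one_left (hsq β hβ)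
  have hoddΛ : ∀ x ∈ Λ, Odd (orderOf x) := fun x hx =>
    Odd.of_dvd_nat hΛodd (Subgroup.orderOf_dvd_natCard Λ hx)
  have hncΛ : ¬ (∀ β ∈ B, ∀ x ∈ Λ, β * x = x * β) := by
    intro hall
    apply h.ne_bot
    rw [eq_bot_iff]
    intro β hβ
    rw [mem_bot]
    exact h.faith β hβ (hall β hβ)
  obtain ⟨μ0, hμ0Λ, hμ01, hμ0e, β0, hβ0B, hβ0inv⟩ :=
    exists_eigen B hsq (Nat.card Λ) Λ rfl hoddΛ h.norm hncΛ
  -- the subgroup `M`
  set M : Subgroup (MulAut V) := zpowers μ0 with hMdef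
  have hMΛ : M ≤ Λ := by rw [hMdef, zpowers_le]; exact hμ0Λ
  have hdich : ∀ β ∈ B, (∀ x ∈ M, β * x = x * β) ∨ (∀ x ∈ M, β * x * β⁻¹ = x⁻¹) := by
    intro β hβ
    rcases hμ0e β hβ with hc | hc
    · left
      rintro x ⟨i, rfl⟩
      have : β * μ0 ^ i * β⁻¹ = μ0 ^ i := by rw [← conj_zpow, hc]
      calc β * μ0 ^ i = (β * μ0 ^ i * β⁻¹) * β := by group
        _ = μ0 ^ i * β := by rw [this]
    · right
      rintro x ⟨i, rfl⟩
      show β * μ0 ^ i * β⁻¹ = (μ0 ^ i)⁻¹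
      rw [← conj_zpow, hc, inv_zpow]
  have hMnc : ¬ (∀ β ∈ B, ∀ x ∈ M, β * x = x * β) := by
    intro hall
    have h1 := hall β0 hβ0B μ0 (mem_zpowers μ0)
    have h2 : μ0 = μ0⁻¹ := by
      rw [← hβ0inv, h1]; group
    apply hμ01
    apply eq_one_of_odd_of_sq (hoddΛ μ0 hμ0Λ)
    calc μ0 * μ0 = μ0 * μ0⁻¹ := by rw [← h2]
      _ = 1 := mul_inv_cancel μ0
  -- the subgroup `B0`
  set B0 : Subgroup (MulAut V) := B ⊓ centralizer (M : Set (MulAut V)) with hB0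
  have hB0mem : ∀ β, β ∈ B0 ↔ β ∈ B ∧ ∀ x ∈ M, β * x = x * β := by
    intro β
    rw [hB0, mem_inf, mem_centralizer_iff]
    constructor
    · rintro ⟨h1, h2⟩
      exact ⟨h1, fun x hx => (h2 x hx).symm⟩
    · rintro ⟨h1, h2⟩
      exact ⟨h1, fun x hx => (h2 x hx).symm⟩
  have hB0B : B0 ≤ B := inf_le_left
  obtain ⟨β1, hβ1B, hβ1⟩ : ∃ β1 ∈ B, ¬ ∀ x ∈ M, β1 * x = x * β1 := by
    by_contra hc
    push Not at hc
    exact hMnc hc
  have hβ1inv : ∀ x ∈ M, β1 * x * β1⁻¹ = x⁻¹ := (hdich β1 hβ1B).resolve_left hβ1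
  have hβ1ne : β1 ≠ 1 := by
    rintro rfl
    apply hβ1
    intro x _
    rw [one_mul, mul_one]
  have hrel : B0.relIndex B = 2 := by
    rw [relIndex_eq_two_iff]
    refine ⟨β1, hβ1B, ?_⟩
    intro b hb
    by_cases hb0 : b ∈ B0
    · refine Or.inr ⟨hb0, ?_⟩
      intro hba
      apply hβ1
      have : β1 ∈ B0 := by
        have := B0.mul_mem (B0.inv_mem hb0) hba
        rwa [inv_mul_cancel_left] at this
      exact ((hB0mem β1).1 this).2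
    · refine Or.inl ⟨?_, hb0⟩
      rw [hB0mem]
      refine ⟨B.mul_mem hb hβ1B, ?_⟩
      have hbinv : ∀ x ∈ M, b * x * b⁻¹ = x⁻¹ :=
        (hdich b hb).resolve_left (fun hc => hb0 ((hB0mem b).2 ⟨hb, hc⟩))
      intro x hx
      have h1 := hβ1inv x hx
      have h2 := hbinv x⁻¹ (inv_mem hx)
      rw [inv_inv] at h2
      calc b * β1 * x = b * (β1 * x * β1⁻¹) * b⁻¹ * (b * β1) := by group
        _ = x * (b * β1) := by rw [h1, h2]
  have hcardB : 2 * Nat.card B0 = Nat.card B := by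
    have := Cfsg.Agent.Helper17.relIndex_mul_card_inf B0 B
    rwa [hrel, inf_eq_left.2 hB0B] at this
  by_cases hB0bot : B0 = ⊥
  · -- `B` has order 2
    rw [hB0bot, Subgroup.card_bot] at hcardB
    refine ⟨β1, hβ1B, hβ1ne, ?_⟩
    have hz : zpowers β1 = B := by
      apply Subgroup.eq_of_le_of_card_ge (zpowers_le.2 hβ1B)
      rw [← hcardB, Nat.card_zpowers]
      have : orderOf β1 = 2 := by
        apply orderOf_eq_prime
        · rw [pow_two]; exact hsq β1 hβ1B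
        · exact hβ1ne
      omega
    rw [hz]
    have := h.off
    rwa [← hcardB] at this
  by_cases hoff0 : Nat.card V ≤ Nat.card B0 * Nat.card (fixSub B0)
  · have hlt : Nat.card B0 < n := by
      have : 0 < Nat.card B0 := Nat.card_pos
      omega
    have hH0 : OffHyp Λ B0 :=
      ⟨fun β hβ => h.norm β (hB0B hβ), fun β hβ => h.faith β (hB0B hβ),
        fun β hβ γ hγ => h.quad β (hB0B hβ) γ (hB0B hγ), hB0bot, hoff0⟩
    obtain ⟨β, hβ, hβ1', hβc⟩ := ih _ hlt B0 rfl hH0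
    exact ⟨β, hB0B hβ, hβ1', hβc⟩
  exfalso
  push Not at hoff0
  -- `Fix B0 = Fix B`
  have hfixle : fixSub B ≤ fixSub B0 := fixSub_anti hB0B
  have hfixeq : fixSub B0 = fixSub B := by
    symm
    apply Subgroup.eq_of_le_of_card_ge hfixle
    obtain ⟨k, hk⟩ := Subgroup.card_dvd_of_le hfixle
    have h1 := h.off
    rw [← hcardB] at h1
    have h5 : 0 < Nat.card (fixSub B0) := Nat.card_pos
    rw [hk] at hoff0 h5 ⊢
    have h3 : 0 < Nat.card B0 := Nat.card_pos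
    have h4 : 0 < Nat.card (fixSub B) := Nat.card_pos
    have hk2 : k < 2 := by
      by_contra hc
      push Not at hc
      have : Nat.card B0 * (Nat.card (fixSub B) * 2) ≤ Nat.card B0 * (Nat.card (fixSub B) * k) :=
        Nat.mul_le_mul_left _ (Nat.mul_le_mul_left _ hc)
      nlinarith
    have hk0 : k ≠ 0 := by
      rintro rfl
      rw [mul_zero] at h5
      exact lt_irrefl _ h5
    have : k = 1 := by omega
    rw [this, mul_one]
  -- an element `μ ≠ 1` of `M`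
  obtain ⟨μ, hμM, hμ1⟩ : ∃ μ ∈ M, μ ≠ 1 := by
    by_contra hc
    push Not at hc
    apply hβ1
    intro x hx
    rw [hc x hx, mul_one, one_mul]
  have hμodd : Odd (orderOf μ) := hoddΛ μ (hMΛ hμM)
  -- `μ` fixes `Fix B0`
  have hμfix : ∀ v ∈ fixSub B0, μ v = v := by
    intro v hv
    have h1 : μ v ∈ fixSub B0 := by
      intro γ hγ
      have hc := ((hB0mem γ).1 hγ).2 μ hμM
      rw [← MulAut.mul_apply, hc, MulAut.mul_apply, hv γ hγ]
    rw [hfixeq] at h1 hv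
    have h2 : β1 (μ v) = μ v := h1 β1 hβ1B
    have h3 : β1 v = v := hv β1 hβ1B
    have e1 : β1 * μ = μ⁻¹ * β1 := by rw [← hβ1inv μ hμM]; group
    have h4 : β1 (μ v) = μ⁻¹ v := by
      rw [← MulAut.mul_apply, e1, MulAut.mul_apply, h3]
    rw [h2] at h4
    apply apply_of_sq_apply hμodd
    rw [MulAut.mul_apply, h4]
    show μ (μ.symm v) = v
    exact μ.apply_symm_apply v
  -- the subgroup `W = [V, μ]`
  set W : Subgroup V := (μ.toMonoidHom * MonoidHom.id V).range with hW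
  have hWmem : ∀ w, w ∈ W ↔ ∃ v, μ v * v = w := by
    intro w
    rw [hW, MonoidHom.mem_range]
    rfl
  have hWne : W ≠ ⊥ := by
    intro hb
    apply hμ1
    ext v
    have h1 : μ v * v ∈ W := (hWmem _).2 ⟨v, rfl⟩
    rw [hb, mem_bot] at h1
    show μ v = v
    calc μ v = μ v * v * v := by rw [mul_assoc, hV, mul_one]
      _ = v := by rw [h1, one_mul]
  have hWinv : ∀ γ ∈ B0, ∀ w ∈ W, γ w ∈ W := by
    intro γ hγ w hw
    obtain ⟨v, rfl⟩ := (hWmem w).1 hw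
    rw [hWmem]
    refine ⟨γ v, ?_⟩
    have hc := ((hB0mem γ).1 hγ).2 μ hμM
    rw [map_mul]
    congr 1
    calc μ (γ v) = (μ * γ) v := rfl
      _ = (γ * μ) v := by rw [hc]
      _ = γ (μ v) := rfl
  have : Fact (Nat.Prime 2) := ⟨Nat.prime_two⟩
  have hB0p : IsPGroup 2 ↥B0 := by
    intro γ
    refine ⟨1, ?_⟩
    apply Subtype.ext
    rw [pow_one, pow_two]
    exact hsq γ.1 (hB0B γ.2)
  have hWp : IsPGroup 2 ↥W := by
    intro w
    refine ⟨1, ?_⟩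
    apply Subtype.ext
    rw [pow_one, pow_two]
    exact hV w.1
  letI : MulAction ↥B0 ↥W :=
    { smul := fun γ w => ⟨(γ : MulAut V) w, hWinv γ.1 γ.2 w.1 w.2⟩
      one_smul := fun w => Subtype.ext rfl
      mul_smul := fun γ δ w => Subtype.ext rfl }
  have hsmul : ∀ (γ : ↥B0) (w : ↥W), ((γ • w : ↥W) : V) = (γ : MulAut V) w := fun _ _ => rfl
  have h2W : 2 ∣ Nat.card ↥W := by
    obtain ⟨k, hk⟩ := IsPGroup.iff_card.mp hWp
    rw [hk]
    have : k ≠ 0 := by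
      rintro rfl
      rw [pow_zero] at hk
      exact hWne (Subgroup.card_eq_one.mp hk)
    exact dvd_pow_self 2 this
  have h1fix : (1 : ↥W) ∈ MulAction.fixedPoints ↥B0 ↥W := by
    intro γ
    apply Subtype.ext
    rw [hsmul]
    exact map_one _
  obtain ⟨w, hwfix, hw1⟩ := hB0p.exists_fixed_point_of_prime_dvd_card_of_fixed_point ↥W h2W h1fix
  have hwF : (w : V) ∈ fixSub B0 := by
    intro γ hγ
    have := hwfix ⟨γ, hγ⟩
    have h5 := congrArg Subtype.val this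
    rw [hsmul] at h5
    exact h5
  have hμw : μ (w : V) = w := hμfix _ hwF
  obtain ⟨v, hv⟩ := (hWmem (w : V)).1 w.2
  have hμv : μ v = (w : V) * v := by rw [← hv, mul_assoc, hV, mul_one]
  have h6 : (μ * μ) v = v := by
    rw [MulAut.mul_apply, hμv, map_mul, hμw, hμv, ← mul_assoc, hV, one_mul]
  have h7 : μ v = v := apply_of_sq_apply hμodd h6
  apply hw1
  apply Subtype.ext
  rw [← hv, h7, hV]
  rfl

end lemmaA

end Cfsg.Agent.Helper9.Off3
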