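import Mathlib
import Cfsg.Agent.Helper9.Offender3
import Cfsg.Agent.Helper9.S4Section2
import Cfsg.Agent.Helper9.S4Endgame

set_option autoImplicit false
set_option linter.unusedSectionVars false
set_option linter.unusedVariables false
set_option linter.style.haveILetI false

/-! # From a quadratic offender to an `S₄`-section: general odd-order `Λ`, arbitrary kernel -/

namespace Cfsg.Agent.Helper9.S4End

open Subgroup
open scoped IsMulCommutative commutatorElement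
open Cfsg.Agent.Helper9.Off2 Cfsg.Agent.Helper9.Off3 Cfsg.Agent.Helper9.S4Sec Cfsg.Agent.Helper14

section main2

variable {Y : Type*} [Group Y] [Finite Y] (V1 : Subgroup Y) [hV1n : V1.Normal]

theorem offHyp_of_data' (hV1 : ∀ v ∈ V1, v * v = 1) [IsMulCommutative V1]
    (C : Subgroup Y) (hCdef : C = centralizer (V1 : Set Y))
    (L : Subgroup Y) [hLn : L.Normal]
    (A : Subgroup Y) (hAc : ∀ a ∈ A, ∀ c ∈ A, a * c = c * a)
    (hquad : ∀ a ∈ A, ∀ c ∈ A, ∀ v ∈ V1,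
      c * (a * v * a⁻¹ * v⁻¹) = (a * v * a⁻¹ * v⁻¹) * c)
    (hfaith : ∀ a ∈ A, (∀ x ∈ L, a * x * a⁻¹ * x⁻¹ ∈ C) → a ∈ C)
    (hAC : ¬ A ≤ C)
    (hoff : Nat.card V1 * Nat.card (A ⊓ C : Subgroup Y) ≤
      Nat.card A * Nat.card (A ⊓ V1 : Subgroup Y)) :
    OffHyp (L.map (MulAut.conjNormal : Y →* MulAut V1))
      (A.map (MulAut.conjNormal : Y →* MulAut V1)) := by
  classical
  set ρ : Y →* MulAut V1 := MulAut.conjNormal with hρ
  have hρapp : ∀ (g : Y) (v : V1), ((ρ g v : V1) : Y) = g * v * g⁻¹ := fun g v =>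
    MulAut.conjNormal_apply g v
  have hinvV : ∀ v ∈ V1, v⁻¹ = v := fun v hv => inv_eq_of_mul_eq_one_left (hV1 v hv)
  have hker : ∀ g : Y, ρ g = 1 ↔ g ∈ C := by
    intro g
    rw [hCdef, mem_centralizer_iff]
    constructor
    · intro hg v hv
      have h1 := hρapp g ⟨v, hv⟩
      rw [hg] at h1
      have h2 : v = g * v * g⁻¹ := h1
      calc v * g = (g * v * g⁻¹) * g := by rw [← h2]
        _ = g * v := by group
    · intro hg
      apply MulEquiv.ext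
      intro v
      apply Subtype.ext
      rw [hρapp]
      have := hg v v.2
      show g * v * g⁻¹ = v
      rw [← this]; group
  have hkerC : ρ.ker = C := by
    ext g
    rw [MonoidHom.mem_ker, hker]
  refine ⟨?_, ?_, ?_, ?_, ?_⟩
  · rintro _ ⟨a, ha, rfl⟩ _ ⟨x, hx, rfl⟩
    refine ⟨a * x * a⁻¹, hLn.conj_mem x hx a, ?_⟩
    rw [map_mul, map_mul, map_inv]
  · rintro _ ⟨a, ha, rfl⟩ hcomm
    rw [hker]
    apply hfaith a ha
    intro x hx
    rw [← hker, map_mul, map_mul, map_mul, map_inv, map_inv]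
    have := hcomm (ρ x) (mem_map_of_mem ρ hx)
    calc ρ a * ρ x * (ρ a)⁻¹ * (ρ x)⁻¹ = (ρ a * ρ x) * (ρ a)⁻¹ * (ρ x)⁻¹ := by group
      _ = (ρ x * ρ a) * (ρ a)⁻¹ * (ρ x)⁻¹ := by rw [this]
      _ = 1 := by group
  · rintro _ ⟨a, ha, rfl⟩ _ ⟨c, hc, rfl⟩ v
    apply Subtype.ext
    rw [hρapp, Subgroup.coe_mul, hρapp]
    have h4 := hquad a ha c hc v v.2
    rw [hinvV v v.2] at h4
    rw [h4]; group
  · intro hbot
    apply hAC
    intro a ha
    rw [← hker]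
    have : ρ a ∈ A.map ρ := mem_map_of_mem ρ ha
    rw [hbot, mem_bot] at this
    exact this
  · have h1 : ρ.ker.relIndex A = Nat.card (A.map ρ) := relIndex_ker A ρ
    have h2 := Cfsg.Agent.Helper17.relIndex_mul_card_inf ρ.ker A
    rw [h1, hkerC, inf_comm] at h2
    have h3 : (A ⊓ V1).subgroupOf V1 ≤ fixSub (A.map ρ) := by
      intro v hv
      rw [mem_subgroupOf] at hv
      rw [mem_fixSub]
      rintro _ ⟨a, ha, rfl⟩
      apply Subtype.ext
      rw [hρapp]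
      have := hAc a ha v hv.1
      rw [this]; group
    have h4 : Nat.card (A ⊓ V1 : Subgroup Y) ≤ Nat.card (fixSub (A.map ρ)) := by
      rw [← Cfsg.Agent.Helper17.card_subgroupOf_of_le (inf_le_right : A ⊓ V1 ≤ V1)]
      exact Subgroup.card_le_of_le h3
    have hpos : 0 < Nat.card (A ⊓ C : Subgroup Y) := Nat.card_pos
    have h5 : Nat.card V1 * Nat.card (A ⊓ C : Subgroup Y) ≤
        (Nat.card (A.map ρ) * Nat.card (fixSub (A.map ρ))) * Nat.card (A ⊓ C : Subgroup Y) := by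
      calc Nat.card V1 * Nat.card (A ⊓ C : Subgroup Y)
          ≤ Nat.card A * Nat.card (A ⊓ V1 : Subgroup Y) := hoff
        _ = (Nat.card (A.map ρ) * Nat.card (A ⊓ C : Subgroup Y)) *
              Nat.card (A ⊓ V1 : Subgroup Y) := by rw [h2]
        _ ≤ (Nat.card (A.map ρ) * Nat.card (A ⊓ C : Subgroup Y)) *
              Nat.card (fixSub (A.map ρ)) := Nat.mul_le_mul_left _ h4
        _ = _ := by ring
    exact Nat.le_of_mul_le_mul_right h5 hpos

theorem involves_S4_of_offender' (hV1 : ∀ v ∈ V1, v * v = 1)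
    (C : Subgroup Y) (hCdef : C = centralizer (V1 : Set Y))
    (L : Subgroup Y) [hLn : L.Normal] (hodd : Odd (C.relIndex L))
    (A : Subgroup Y) (hAc : ∀ a ∈ A, ∀ c ∈ A, a * c = c * a)
    (hquad : ∀ a ∈ A, ∀ c ∈ A, ∀ v ∈ V1,
      c * (a * v * a⁻¹ * v⁻¹) = (a * v * a⁻¹ * v⁻¹) * c)
    (hfaith : ∀ a ∈ A, (∀ x ∈ L, a * x * a⁻¹ * x⁻¹ ∈ C) → a ∈ C)
    (hAC : ¬ A ≤ C)
    (hoff : Nat.card V1 * Nat.card (A ⊓ C : Subgroup Y) ≤
      Nat.card A * Nat.card (A ⊓ V1 : Subgroup Y)) :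
    Cfsg.Involves (Equiv.Perm (Fin 4)) Y := by
  classical
  have hV1c := comm_of_exp_two V1 hV1
  haveI : IsMulCommutative V1 := ⟨⟨fun x y => Subtype.ext (hV1c x x.2 y y.2)⟩⟩
  have hOff := offHyp_of_data' V1 hV1 C hCdef L A hAc hquad hfaith hAC hoff
  set ρ : Y →* MulAut V1 := MulAut.conjNormal with hρ
  have hρapp : ∀ (g : Y) (v : V1), ((ρ g v : V1) : Y) = g * v * g⁻¹ := fun g v =>
    MulAut.conjNormal_apply g v
  have hinvV : ∀ v ∈ V1, v⁻¹ = v := fun v hv => inv_eq_of_mul_eq_one_left (hV1 v hv)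
  have hker : ∀ g : Y, ρ g = 1 ↔ g ∈ C := by
    intro g
    rw [hCdef, mem_centralizer_iff]
    constructor
    · intro hg v hv
      have h1 := hρapp g ⟨v, hv⟩
      rw [hg] at h1
      have h2 : v = g * v * g⁻¹ := h1
      calc v * g = (g * v * g⁻¹) * g := by rw [← h2]
        _ = g * v := by group
    · intro hg
      apply MulEquiv.ext
      intro v
      apply Subtype.ext
      rw [hρapp]
      have := hg v v.2
      show g * v * g⁻¹ = v
      rw [← this]; group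
  have hkerC : ρ.ker = C := by
    ext g
    rw [MonoidHom.mem_ker, hker]
  have hV : ∀ v : V1, v * v = 1 := fun v => Subtype.ext (hV1 v v.2)
  set Λ : Subgroup (MulAut V1) := L.map ρ with hΛ
  set B : Subgroup (MulAut V1) := A.map ρ with hB
  have hΛcard : Nat.card Λ = C.relIndex L := by
    rw [← hkerC]; exact (relIndex_ker L ρ).symm
  have hΛodd : Odd (Nat.card Λ) := hΛcard ▸ hodd
  -- Lemma A'
  obtain ⟨β, hβB, hβ1, hβcard⟩ := exists_transvection' hV Λ hΛodd (Nat.card B) B rfl hOff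
  have hβ2 : β * β = 1 := quad_sq (fun v => hOff.quad β hβB β hβB v)
  obtain ⟨μ0, hμ0Λ, hμ01, hinv0⟩ := exists_inverted hOff hβB hβ1 hβ2
  obtain ⟨b, hbA, rfl⟩ := hβB
  obtain ⟨l0, hl0L, rfl⟩ := hμ0Λ
  have hm_dvd : orderOf (ρ l0) ∣ Nat.card Λ :=
    Subgroup.orderOf_dvd_natCard Λ (mem_map_of_mem ρ hl0L)
  have hm_odd : Odd (orderOf (ρ l0)) := Odd.of_dvd_nat hΛodd hm_dvd
  have hm_ne : orderOf (ρ l0) ≠ 1 := fun h => hμ01 (orderOf_eq_one_iff.mp h)
  have hm0 : orderOf (ρ l0) ≠ 0 := (orderOf_pos (ρ l0)).ne'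
  set q := (orderOf (ρ l0)).minFac with hqdef
  have hq : q.Prime := Nat.minFac_prime hm_ne
  have hqm : q ∣ orderOf (ρ l0) := Nat.minFac_dvd _
  have hqodd : Odd q := Odd.of_dvd_nat hm_odd hqm
  have hq2 : q ≠ 2 := fun h => by rw [h] at hqodd; exact absurd hqodd (by decide)
  haveI : Fact q.Prime := ⟨hq⟩
  -- `y1` maps to `μ` of order `q`
  set y1 : Y := l0 ^ (orderOf (ρ l0) / q) with hy1def
  set μ : MulAut V1 := ρ y1 with hμdef
  have hμpow : μ = (ρ l0) ^ (orderOf (ρ l0) / q) := by rw [hμdef, hy1def, map_pow]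
  have hμord : orderOf μ = q := by
    rw [hμpow]; exact orderOf_pow_orderOf_div hm0 hqm
  have hμ1 : μ ≠ 1 := by
    intro h
    rw [h, orderOf_one] at hμord
    exact hq.one_lt.ne hμord
  have hinv : ρ b * μ * (ρ b)⁻¹ = μ⁻¹ := by
    rw [hμpow, ← conj_pow, hinv0, inv_pow]
  -- Lemma B
  obtain ⟨hcard4, -⟩ := card_fix_of_transvection hV hβ2 hβ1 hβcard hμ1 (hμord ▸ hqodd) hinv
  -- the subgroup `M`
  set M : Subgroup Y := (zpowers μ).comap ρ with hMdef
  have hy1M : y1 ∈ M := by rw [hMdef, mem_comap]; exact mem_zpowers μ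
  -- the `q`-part `y0` of `y1`
  have hn0 : orderOf y1 ≠ 0 := (orderOf_pos y1).ne'
  obtain ⟨k0, r, hr, hn⟩ := Nat.exists_eq_pow_mul_and_not_dvd hn0 q hq.ne_one
  set y0 : Y := y1 ^ r with hy0def
  have hy0ord : orderOf y0 = q ^ k0 := by
    have hrdvd : r ∣ orderOf y1 := ⟨q ^ k0, by rw [hn, mul_comm]⟩
    have hr0 : r ≠ 0 := by
      rintro rfl
      rw [mul_zero] at hn
      exact hn0 hn
    rw [hy0def, orderOf_pow_of_dvd hr0 hrdvd, hn, Nat.mul_div_cancel _ (Nat.pos_of_ne_zero hr0)]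
  have hrcop : Nat.Coprime r q := ((Nat.Prime.coprime_iff_not_dvd hq).mpr hr).symm
  obtain ⟨s0, -, hs0⟩ := Nat.exists_mul_mod_eq_one_of_coprime hrcop hq.one_lt
  have hμy0 : (ρ y0) ^ s0 = μ := by
    rw [hy0def, map_pow, ← hμdef, ← pow_mul, ← pow_mod_orderOf, hμord, hs0, pow_one]
  have hy0M : y0 ∈ M := M.pow_mem hy1M r
  have hZp : IsPGroup q (zpowers y0) := IsPGroup.of_card (n := k0) (by rw [Nat.card_zpowers, hy0ord])
  obtain ⟨Q1, hQ1, hyQ⟩ := exists_isSylowIn_ge (p := q) (zpowers_le.mpr hy0M) hZp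
  have hy0Q : y0 ∈ Q1 := hyQ (mem_zpowers y0)
  -- `b` normalizes `M`
  have hbM : b ∈ normalizer (M : Set Y) := by
    apply Cfsg.Agent.Helper26.mem_normalizer_of_map_conj_le
    rintro _ ⟨x, hx, rfl⟩
    rw [hMdef, mem_comap]
    rw [SetLike.mem_coe, hMdef, mem_comap] at hx
    obtain ⟨i, hi⟩ := hx
    simp only [MulEquiv.coe_toMonoidHom, MulAut.conj_apply]
    rw [map_mul, map_mul, map_inv, ← hi, ← conj_zpow, hinv, inv_zpow]
    exact (zpowers μ).inv_mem (zpow_mem (mem_zpowers μ) i)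
  have hMb : M.map (cj b) = M := mem_normalizer_iff_map_cj.mp hbM
  have hS2 : IsSylowIn q (Q1.map (cj b)) M := by
    have := hQ1.map_cj b
    rwa [hMb] at this
  obtain ⟨g, hgM, hg⟩ := hS2.exists_conj hQ1
  rw [map_cj_mul] at hg
  set n1 : Y := g * b with hn1
  have hn1N : n1 ∈ normalizer (Q1 : Set Y) := mem_normalizer_iff_map_cj.mpr hg.symm
  have hρg : ρ g ∈ zpowers μ := by
    rw [hMdef, mem_comap] at hgM; exact hgM
  have hinv1 : ρ n1 * μ * (ρ n1)⁻¹ = μ⁻¹ := by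
    obtain ⟨i, hi⟩ := hρg
    have hc : ρ g * μ⁻¹ * (ρ g)⁻¹ = μ⁻¹ := by
      rw [← hi]
      have : Commute (μ ^ i) μ⁻¹ := ((Commute.refl μ).zpow_left i).inv_right
      calc μ ^ i * μ⁻¹ * (μ ^ i)⁻¹ = μ⁻¹ * μ ^ i * (μ ^ i)⁻¹ := by rw [this.eq]
        _ = μ⁻¹ := by group
    calc ρ n1 * μ * (ρ n1)⁻¹ = ρ g * (ρ b * μ * (ρ b)⁻¹) * (ρ g)⁻¹ := by
          rw [hn1, map_mul, mul_inv_rev]; simp only [mul_assoc]
      _ = μ⁻¹ := by rw [hinv, hc]
  obtain ⟨k, r', hr', hk⟩ := exists_two_part n1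
  set b' : Y := n1 ^ r' with hb'
  have hb'N : b' ∈ normalizer (Q1 : Set Y) := pow_mem hn1N r'
  have hinv' : ρ b' * μ * (ρ b')⁻¹ = μ⁻¹ := by
    rw [hb', map_pow]; exact inverts_pow_odd hinv1 hr'
  obtain ⟨v, hv⟩ := exists_not_mem_fix_of_inverts hV hμ1 (hμord ▸ hqodd) hinv'
  -- the subgroup `F`
  set F : Subgroup Y := (fixSub (zpowers μ)).map V1.subtype with hF
  have hFmem : ∀ x : Y, x ∈ F ↔ ∃ hx : x ∈ V1, μ ⟨x, hx⟩ = ⟨x, hx⟩ := by
    intro x
    constructor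
    · rintro ⟨w, hw, rfl⟩
      exact ⟨w.2, mem_fixSub_zpowers.mp hw⟩
    · rintro ⟨hx, hxy⟩
      refine ⟨⟨x, hx⟩, ?_, rfl⟩
      rw [SetLike.mem_coe, mem_fixSub_zpowers]
      exact hxy
  have hFcard : Nat.card F = Nat.card (fixSub (zpowers μ)) :=
    Subgroup.card_map_of_injective V1.subtype_injective
  have hQodd : ∀ y ∈ Q1, Odd (orderOf y) := by
    intro y hy
    obtain ⟨j, hj⟩ := (IsPGroup.iff_orderOf.mp hQ1.2.1) ⟨y, hy⟩
    rw [Subgroup.orderOf_mk] at hj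
    rw [hj]; exact hqodd.pow
  have hQM : ∀ y ∈ Q1, ρ y ∈ zpowers μ := by
    intro y hy
    have := hQ1.1 hy
    rw [hMdef, mem_comap] at this
    exact this
  refine involves_S4' V1 hV1 Q1 hQodd F ?_ ?_ ?_ ?_ b' hb'N k hk ?_
  · intro x hx
    obtain ⟨hx1, -⟩ := (hFmem x).mp hx
    exact hx1
  · intro f hf y hy
    obtain ⟨hf1, hfμ⟩ := (hFmem f).mp hf
    obtain ⟨i, hi⟩ := hQM y hy
    have h1 : (ρ y) ⟨f, hf1⟩ = ⟨f, hf1⟩ := by
      rw [← hi]
      have : (⟨f, hf1⟩ : V1) ∈ fixSub (zpowers μ) := mem_fixSub_zpowers.mpr hfμ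
      exact this _ (zpow_mem (mem_zpowers μ) i)
    have h2 := congrArg Subtype.val h1
    rw [hρapp] at h2
    have h3 : y * f * y⁻¹ = f := h2
    calc f * y = (y * f * y⁻¹) * y := by rw [h3]
      _ = y * f := by group
  · intro x hx hxy
    rw [hFmem]
    refine ⟨hx, ?_⟩
    have h1 : (ρ y0) ⟨x, hx⟩ = ⟨x, hx⟩ := by
      apply Subtype.ext
      rw [hρapp]
      show y0 * x * y0⁻¹ = x
      rw [← hxy y0 hy0Q]; group
    rw [← hμy0]
    exact pow_apply_of_apply h1 s0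
  · rw [hFcard]; exact hcard4
  · refine ⟨v, v.2, ?_⟩
    intro hmem
    apply hv
    obtain ⟨w, hw, hwe⟩ := hmem
    have : w = ρ b' v * v := by
      apply Subtype.ext
      rw [Subgroup.coe_mul, hρapp]
      have h1 : V1.subtype w = (w : Y) := rfl
      rw [← h1, hwe, hinvV v v.2]
    rw [← this]; exact hw

end main2

end Cfsg.Agent.Helper9.S4End
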