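import Mathlib
import Cfsg.Agent.Helper9.S4Endgame2
import Cfsg.Agent.Lead.TNC8
import Cfsg.Agent.Helper7.FStarComm
import Cfsg.Agent.Helper7.SL23
import Cfsg.Agent.Helper10.SolvPSolv

set_option autoImplicit false
set_option linter.unusedSectionVars false
set_option linter.unusedVariables false
set_option linter.style.haveILetI false

/-! # Solvable `S₄`-free groups with Sylow 2-subgroups of class at most two -/

namespace Cfsg.Agent.Helper9.JeS4

open Subgroup
open scoped commutatorElement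
open Cfsg.Agent.Helper26 Cfsg.Agent.Lead.TNC

/-- **Thompson's lemma**: for `V` the normal closure of a subgroup of `Z(S)`,
`O_p(G / C_G(V)) = 1`. -/
theorem pCore_quotient_centralizer_eq_bot {G : Type*} [Group G] [Finite G] {p : ℕ}
    [Fact p.Prime] (S : Sylow p G) (Z1 : Subgroup G)
    (hZ1 : Z1 ≤ centralizer ((S : Subgroup G) : Set G)) :
    Cfsg.pCore p (G ⧸ centralizer ((normalClosure (Z1 : Set G) : Subgroup G) : Set G)) = ⊥ := by
  have hp : p.Prime := Fact.out
  set V : Subgroup G := normalClosure (Z1 : Set G) with hV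
  set C : Subgroup G := centralizer (V : Set G) with hC
  have hCn : C.Normal := inferInstance
  have hsurj := QuotientGroup.mk'_surjective C
  set T : Subgroup G := (Cfsg.pCore p (G ⧸ C)).comap (QuotientGroup.mk' C) with hT
  have hTn : T.Normal := Subgroup.Normal.comap inferInstance _
  have hCT : C ≤ T := by
    intro c hc
    rw [hT, mem_comap]
    have : QuotientGroup.mk' C c = 1 := (QuotientGroup.eq_one_iff c).mpr hc
    rw [this]; exact one_mem _
  have hTmap : T.map (QuotientGroup.mk' C) = Cfsg.pCore p (G ⧸ C) :=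
    Subgroup.map_comap_eq_self_of_surjective hsurj _
  -- `[T : C]` is a power of `p`
  have hrelC : ∃ k : ℕ, C.relIndex T = p ^ k := by
    have h1 : (QuotientGroup.mk' C).ker.relIndex T = Nat.card (T.map (QuotientGroup.mk' C)) :=
      relIndex_ker T _
    rw [QuotientGroup.ker_mk', hTmap] at h1
    rw [h1]
    exact IsPGroup.iff_card.mp (Cfsg.Agent.Helper14.pCore_isPGroup p)
  -- `[T : S ∩ T]` is prime to `p`
  have hrelS : ¬ p ∣ ((S : Subgroup G) ⊓ T).relIndex T := by
    rw [Subgroup.inf_relIndex_right, ← Cfsg.Agent.Lead.relIndex_sup_of_normal_right]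
    intro h2
    exact S.not_dvd_index (h2.trans (Subgroup.relIndex_dvd_index_of_le le_sup_left))
  set D : Subgroup G := T ⊓ centralizer (Z1 : Set G) with hD
  have hCD : C ≤ D := by
    refine le_inf hCT ?_
    exact Subgroup.centralizer_le (show (Z1 : Set G) ⊆ V from subset_normalClosure)
  have hSD : (S : Subgroup G) ⊓ T ≤ D := by
    refine le_inf inf_le_right ?_
    intro s hs
    rw [mem_centralizer_iff]
    intro z hz
    exact (mem_centralizer_iff.mp (hZ1 hz) s hs.1).symm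
  have hDT : D.relIndex T = 1 := by
    obtain ⟨k, hk⟩ := hrelC
    have h1 : D.relIndex T ∣ p ^ k := hk ▸ Subgroup.relIndex_dvd_of_le_left T hCD
    have h2 : D.relIndex T ∣ ((S : Subgroup G) ⊓ T).relIndex T :=
      Subgroup.relIndex_dvd_of_le_left T hSD
    obtain ⟨j, -, hj⟩ := (Nat.dvd_prime_pow hp).mp h1
    rcases Nat.eq_zero_or_pos j with h0 | h0
    · rw [hj, h0, pow_zero]
    · exfalso
      apply hrelS
      refine dvd_trans ?_ h2
      rw [hj]; exact dvd_pow_self p (by omega)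
  have hTD : T ≤ D := Subgroup.relIndex_eq_one.mp hDT
  have hTZ : T ≤ centralizer (Z1 : Set G) := hTD.trans inf_le_right
  have hTC : T ≤ C := by
    have h1 : V ≤ centralizer (T : Set G) := by
      apply normalClosure_le_normal
      intro z hz
      rw [SetLike.mem_coe, mem_centralizer_iff]
      intro t ht
      exact (mem_centralizer_iff.mp (hTZ ht) z hz).symm
    intro t ht
    rw [hC, mem_centralizer_iff]
    intro v hv
    exact (mem_centralizer_iff.mp (h1 hv) t ht).symm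
  rw [← hTmap, eq_bot_iff]
  rintro _ ⟨t, ht, rfl⟩
  rw [mem_bot]
  exact (QuotientGroup.eq_one_iff t).mpr (hTC ht)

universe u

/-- the stabilizer of the chain `U ≥ V ≥ 1` -/
def chainStab {G : Type*} [Group G] (U V : Subgroup G) [hUn : U.Normal] [hVn : V.Normal] :
    Subgroup G where
  carrier := {g | g ∈ centralizer (V : Set G) ∧ ∀ u ∈ U, g * u * g⁻¹ * u⁻¹ ∈ V}
  one_mem' := ⟨one_mem _, fun u _ => by simp⟩
  mul_mem' := by
    rintro g h ⟨hg1, hg2⟩ ⟨hh1, hh2⟩
    refine ⟨mul_mem hg1 hh1, ?_⟩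
    intro u hu
    have e : g * h * u * (g * h)⁻¹ * u⁻¹ = g * (h * u * h⁻¹ * u⁻¹) * g⁻¹ * (g * u * g⁻¹ * u⁻¹) := by
      group
    rw [e]
    exact V.mul_mem (hVn.conj_mem _ (hh2 u hu) g) (hg2 u hu)
  inv_mem' := by
    rintro g ⟨hg1, hg2⟩
    refine ⟨inv_mem hg1, ?_⟩
    intro u hu
    have hu' : g⁻¹ * u * g ∈ U := by
      have := hUn.conj_mem u hu g⁻¹
      simpa using this
    have h1 := hg2 _ hu'
    have e : g⁻¹ * u * g⁻¹⁻¹ * u⁻¹ = (g * (g⁻¹ * u * g) * g⁻¹ * (g⁻¹ * u * g)⁻¹)⁻¹ := by group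
    rw [e]
    exact V.inv_mem h1

instance chainStab_normal {G : Type*} [Group G] (U V : Subgroup G) [hUn : U.Normal]
    [hVn : V.Normal] : (chainStab U V).Normal := by
  constructor
  rintro g ⟨hg1, hg2⟩ h
  refine ⟨(inferInstance : (centralizer (V : Set G)).Normal).conj_mem g hg1 h, ?_⟩
  intro u hu
  have hu' : h⁻¹ * u * h ∈ U := by
    have := hUn.conj_mem u hu h⁻¹
    simpa using this
  have h1 := hg2 _ hu'
  have e : h * g * h⁻¹ * u * (h * g * h⁻¹)⁻¹ * u⁻¹ =
      h * (g * (h⁻¹ * u * h) * g⁻¹ * (h⁻¹ * u * h)⁻¹) * h⁻¹ := by group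
  rw [e]
  exact hVn.conj_mem _ h1 h

/-- the chain stabilizer is a `2`-group when `V` has exponent two and `C_G(U) ≤ U` is a `2`-group -/
theorem chainStab_isPGroup {G : Type*} [Group G] [Finite G] (U V : Subgroup G) [hUn : U.Normal]
    [hVn : V.Normal] (hU2 : IsPGroup 2 U) (hCU : centralizer (U : Set G) ≤ U)
    (hVsq : ∀ v ∈ V, v * v = 1) : IsPGroup 2 (chainStab U V) := by
  intro x
  obtain ⟨g, hg⟩ := x
  have hn0 : orderOf g ≠ 0 := (orderOf_pos g).ne'
  obtain ⟨k, m, hm, hn⟩ := Nat.exists_eq_pow_mul_and_not_dvd hn0 2 (by norm_num)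
  refine ⟨k, ?_⟩
  apply Subtype.ext
  show g ^ 2 ^ k = 1
  obtain ⟨y, hy⟩ : ∃ y, y = g ^ 2 ^ k := ⟨_, rfl⟩
  rw [← hy]
  have hyord : orderOf y = m := by
    rw [hy, orderOf_pow_of_dvd (pow_pos (by norm_num) k).ne' ⟨m, hn⟩, hn,
      Nat.mul_div_cancel_left _ (pow_pos (by norm_num) k)]
  have hmodd : Odd m := by
    rcases Nat.even_or_odd m with h | h
    · exact absurd h.two_dvd hm
    · exact h
  have hyD : y ∈ chainStab U V := by rw [hy]; exact pow_mem hg _
  obtain ⟨hy1, hy2⟩ := hyD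
  have hyU : y ∈ centralizer (U : Set G) := by
    rw [mem_centralizer_iff]
    intro u hu
    obtain ⟨w, hw⟩ : ∃ w, w = y * u * y⁻¹ * u⁻¹ := ⟨_, rfl⟩
    have hwV : w ∈ V := by rw [hw]; exact hy2 u hu
    have hyw : y * w = w * y := (mem_centralizer_iff.mp hy1 w hwV).symm
    have hyu : y * u * y⁻¹ = w * u := by rw [hw]; group
    have hpow : ∀ n : ℕ, y ^ n * u * (y ^ n)⁻¹ = w ^ n * u := by
      intro n
      induction n with
      | zero => simp
      | succ n ihn =>
        have hyw' : y * w ^ n * y⁻¹ = w ^ n := by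
          have : Commute y (w ^ n) := (show Commute y w from hyw).pow_right n
          rw [this.eq]; group
        calc y ^ (n + 1) * u * (y ^ (n + 1))⁻¹ = y * (y ^ n * u * (y ^ n)⁻¹) * y⁻¹ := by
              rw [pow_succ', mul_inv_rev]; simp only [mul_assoc]
          _ = y * (w ^ n * u) * y⁻¹ := by rw [ihn]
          _ = (y * w ^ n * y⁻¹) * (y * u * y⁻¹) := by group
          _ = w ^ n * (w * u) := by rw [hyw', hyu]
          _ = w ^ (n + 1) * u := by rw [pow_succ]; group
    have h1 := hpow m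
    rw [← hyord, pow_orderOf_eq_one, hyord] at h1
    have hwm : w ^ m = 1 := by
      have : u = w ^ m * u := by simpa using h1
      calc w ^ m = (w ^ m * u) * u⁻¹ := by group
        _ = 1 := by rw [← this, mul_inv_cancel]
    have hw1 : w = 1 := Cfsg.Agent.Helper9.S4Sec.eq_one_of_sq_of_odd_pow w (hVsq w hwV) m hmodd hwm
    rw [hw] at hw1
    calc u * y = (y * u * y⁻¹ * u⁻¹)⁻¹ * (y * u) := by group
      _ = y * u := by rw [hw1, inv_one, one_mul]
  have hyU' : y ∈ U := hCU hyU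
  obtain ⟨j, hj⟩ := (IsPGroup.iff_orderOf.mp hU2) ⟨y, hyU'⟩
  rw [Subgroup.orderOf_mk, hyord] at hj
  have hm1 : m = 1 := by
    rcases Nat.eq_zero_or_pos j with h0 | h0
    · rw [hj, h0, pow_zero]
    · exfalso
      apply hm
      rw [hj]; exact dvd_pow_self 2 (by omega)
  rw [hm1] at hyord
  exact orderOf_eq_one_iff.mp hyord

/-- **Main claim**: in a solvable `S₄`-free group with `O_{2'}(G) = 1` whose Sylow 2-subgroups have
class at most two, every elementary abelian subgroup of `S` of largest order lies in `O_2(G)`. -/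
theorem famEl_le_pCore {G : Type u} [Group G] [Finite G] [hsol : Group.IsSolvable G]
    (hO : Cfsg.pPrimeCore 2 G = ⊥) (hS4 : ¬ Cfsg.Involves (Equiv.Perm (Fin 4)) G)
    (S : Sylow 2 G)
    (hcl : ⁅⁅(S : Subgroup G), (S : Subgroup G)⁆, (S : Subgroup G)⁆ = ⊥) :
    ∀ A ∈ famEl 2 (S : Subgroup G), A ≤ Cfsg.pCore 2 G := by
  intro A hA
  by_contra hAU
  apply hS4
  haveI : Fact (Nat.Prime 2) := ⟨Nat.prime_two⟩
  set U := Cfsg.pCore 2 G with hU
  have hUn : U.Normal := inferInstance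
  have hUp : IsPGroup 2 U := Cfsg.Agent.Helper14.pCore_isPGroup 2
  have hUS : U ≤ (S : Subgroup G) := Cfsg.Agent.Helper14.pCore_le_sylow 2 S
  have hCU : centralizer (U : Set G) ≤ U :=
    Cfsg.Agent.Helper23.centralizer_pCore_le_of_isPSolvable
      (Cfsg.Agent.Helper10.isPSolvable_of_isSolvable 2 hsol) hO
  have hAS : A ≤ (S : Subgroup G) := hA.1
  have hAc : ∀ a ∈ A, ∀ c ∈ A, a * c = c * a := hA.2.1.1
  have hAsq : ∀ a ∈ A, a * a = 1 := by
    intro a ha
    have := hA.2.1.2 a ha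
    rwa [pow_two] at this
  -- the centre of `S`
  set Z : Subgroup G := (S : Subgroup G) ⊓ centralizer ((S : Subgroup G) : Set G) with hZdef
  have hZc : ∀ x ∈ Z, ∀ y ∈ Z, x * y = y * x := by
    intro x hx y hy
    exact (mem_centralizer_iff.mp hy.2 x hx.1)
  set Z1 : Subgroup G := omega1 2 Z hZc with hZ1def
  have hZ1Z : Z1 ≤ Z := omega1_le Z hZc
  have hZ1cent : Z1 ≤ centralizer ((S : Subgroup G) : Set G) := fun z hz => (hZ1Z hz).2
  -- commutators with `A` lie in `Z1`
  have hcomm_mem : ∀ s ∈ (S : Subgroup G), ∀ a ∈ A, s * a * s⁻¹ * a⁻¹ ∈ Z1 := by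
    intro s hs a ha
    obtain ⟨c, hc⟩ : ∃ c, c = s * a * s⁻¹ * a⁻¹ := ⟨_, rfl⟩
    rw [← hc]
    have hcS' : c ∈ ⁅(S : Subgroup G), (S : Subgroup G)⁆ := by
      rw [hc]; exact Subgroup.commutator_mem_commutator hs (hAS ha)
    have hcS : c ∈ (S : Subgroup G) := by
      rw [hc]
      exact mul_mem (mul_mem (mul_mem hs (hAS ha)) (inv_mem hs)) (inv_mem (hAS ha))
    have hccent : ∀ t ∈ (S : Subgroup G), t * c = c * t := by
      intro t ht
      have h1 : ⁅c, t⁆ ∈ ⁅⁅(S : Subgroup G), (S : Subgroup G)⁆, (S : Subgroup G)⁆ :=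
        Subgroup.commutator_mem_commutator hcS' ht
      rw [hcl, mem_bot, commutatorElement_def] at h1
      calc t * c = (c * t * c⁻¹ * t⁻¹)⁻¹ * (c * t) := by group
        _ = c * t := by rw [h1, inv_one, one_mul]
    have hcZ : c ∈ Z :=
      ⟨hcS, (show c ∈ centralizer ((S : Subgroup G) : Set G) from mem_centralizer_iff.mpr hccent)⟩
    refine ⟨hcZ, ?_⟩
    have hsa : s * a * s⁻¹ = c * a := by rw [hc]; group
    have h2 : (c * a) * (c * a) = 1 := by
      rw [← hsa]
      calc s * a * s⁻¹ * (s * a * s⁻¹) = s * (a * a) * s⁻¹ := by group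
        _ = 1 := by rw [hAsq a ha]; group
    have hac : a * c = c * a := hccent a (hAS ha)
    rw [pow_two]
    calc c * c = c * c * (a * a) := by rw [hAsq a ha, mul_one]
      _ = c * (c * a) * a := by group
      _ = c * (a * c) * a := by rw [hac]
      _ = (c * a) * (c * a) := by group
      _ = 1 := h2
  -- the module `V`
  set V : Subgroup G := normalClosure (Z1 : Set G) with hVdef
  have hVn : V.Normal := normalClosure_normal
  have hZ1V : Z1 ≤ V := subset_normalClosure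
  have hZCU : Z ≤ centralizer (U : Set G) := by
    intro z hz
    exact Subgroup.centralizer_le (show (U : Set G) ⊆ (S : Subgroup G) from hUS) hz.2
  have hZU : Z ≤ U := hZCU.trans hCU
  set ZU : Subgroup G := U ⊓ centralizer (U : Set G) with hZUdef
  have hZUn : ZU.Normal := inferInstance
  have hZUc : ∀ x ∈ ZU, ∀ y ∈ ZU, x * y = y * x := by
    intro x hx y hy
    exact (mem_centralizer_iff.mp hy.2 x hx.1)
  have hΩn : (omega1 2 ZU hZUc).Normal := omega1_normal ZU hZUc
  have hVΩ : V ≤ omega1 2 ZU hZUc := by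
    apply normalClosure_le_normal
    intro z hz
    exact ⟨⟨hZU (hZ1Z hz), hZCU (hZ1Z hz)⟩, hz.2⟩
  have hVZU : V ≤ ZU := hVΩ.trans (omega1_le ZU hZUc)
  have hVU : V ≤ U := hVZU.trans inf_le_left
  have hVsq : ∀ v ∈ V, v * v = 1 := by
    intro v hv
    have := (hVΩ hv).2
    rwa [pow_two] at this
  have hVc : ∀ x ∈ V, ∀ y ∈ V, x * y = y * x := fun x hx y hy => hZUc x (hVZU hx) y (hVZU hy)
  set C : Subgroup G := centralizer (V : Set G) with hCdef
  have hCn : C.Normal := inferInstance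
  have hUC : U ≤ C := by
    intro u hu
    rw [hCdef, mem_centralizer_iff]
    intro v hv
    exact (mem_centralizer_iff.mp (hVZU hv).2 u hu).symm
  -- `A ≰ C`
  have hAC : ¬ A ≤ C := by
    intro hle
    apply hAU
    have hD2 : IsPGroup 2 (chainStab U V) := chainStab_isPGroup U V hUp hCU hVsq
    have hDU : chainStab U V ≤ U := Cfsg.Agent.Helper14.le_pCore 2 inferInstance hD2
    refine le_trans ?_ hDU
    intro a ha
    refine ⟨hle ha, ?_⟩
    intro u hu
    have h1 := hcomm_mem u (hUS hu) a ha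
    have h2 : a * u * a⁻¹ * u⁻¹ = (u * a * u⁻¹ * a⁻¹)⁻¹ := by group
    rw [h2]
    exact V.inv_mem (hZ1V h1)
  -- quadratic action
  have hquad : ∀ a ∈ A, ∀ c ∈ A, ∀ v ∈ V,
      c * (a * v * a⁻¹ * v⁻¹) = (a * v * a⁻¹ * v⁻¹) * c := by
    intro a ha c hc v hv
    have h1 := hcomm_mem v (hUS (hVU hv)) a ha
    have h2 : a * v * a⁻¹ * v⁻¹ = (v * a * v⁻¹ * a⁻¹)⁻¹ := by group
    have h3 : a * v * a⁻¹ * v⁻¹ ∈ Z1 := by rw [h2]; exact Z1.inv_mem h1
    exact (mem_centralizer_iff.mp (hZ1cent h3) c (hAS hc))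
  -- the offender inequality
  have hoff : Nat.card V * Nat.card (A ⊓ C : Subgroup G) ≤
      Nat.card A * Nat.card (A ⊓ V : Subgroup G) := by
    have hXc : Cfsg.IsElementaryAbelian 2
        (closure ((V : Set G) ∪ ((A ⊓ C : Subgroup G) : Set G))) := by
      apply isElementaryAbelian_closure
      · rintro a (ha | ha) b (hb | hb)
        · exact hVc a ha b hb
        · exact (mem_centralizer_iff.mp hb.2 a ha)
        · exact (mem_centralizer_iff.mp ha.2 b hb).symm
        · exact hAc a ha.1 b hb.1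
      · rintro a (ha | ha)
        · rw [pow_two]; exact hVsq a ha
        · exact hA.2.1.2 a ha.1
    rw [← Subgroup.sup_eq_closure] at hXc
    have hXS : V ⊔ (A ⊓ C) ≤ (S : Subgroup G) := sup_le (hVU.trans hUS) (inf_le_left.trans hAS)
    have h1 := hA.2.2 _ hXS (isElementaryAbelian_iff_forall.mp hXc)
    have h2 := Cfsg.Agent.Helper17.card_sup_mul_card_inf_of_normal V (A ⊓ C)
    have h3 : V ⊓ (A ⊓ C) = A ⊓ V := by
      ext x
      simp only [Subgroup.mem_inf]
      constructor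
      · rintro ⟨h1, h2, _⟩; exact ⟨h2, h1⟩
      · rintro ⟨h1, h2⟩; exact ⟨h2, h1, hUC (hVU h2)⟩
    rw [h3] at h2
    rw [← h2]
    exact Nat.mul_le_mul_right _ h1
  -- the quotient `Γ = G / C` and its Fitting subgroup
  have hOΓ : Cfsg.pCore 2 (G ⧸ C) = ⊥ := pCore_quotient_centralizer_eq_bot S Z1 hZ1cent
  set FΓ : Subgroup (G ⧸ C) := Cfsg.fittingSubgroup (G ⧸ C) with hFΓ
  have hFn : FΓ.Normal := Cfsg.Agent.Helper7.fittingSubgroup_normal (G ⧸ C)
  have hFodd : (Nat.card FΓ).Coprime 2 := Cfsg.Agent.Helper7.fitting_coprime_of_pCore_eq_bot hOΓ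
  have hFcent : centralizer (FΓ : Set (G ⧸ C)) ≤ FΓ :=
    (Cfsg.Agent.Helper7.centralizer_fitting_le_iff_layer_eq_bot).mpr
      Cfsg.Agent.Helper7.layer_eq_bot_of_isSolvable
  set L : Subgroup G := FΓ.comap (QuotientGroup.mk' C) with hL
  have hLn : L.Normal := hFn.comap _
  have hsurj := QuotientGroup.mk'_surjective C
  have hrel : C.relIndex L = Nat.card FΓ := by
    have h1 : (QuotientGroup.mk' C).ker.relIndex L = Nat.card (L.map (QuotientGroup.mk' C)) :=
      relIndex_ker L _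
    rw [QuotientGroup.ker_mk', hL, Subgroup.map_comap_eq_self_of_surjective hsurj] at h1
    exact h1
  have hodd : Odd (C.relIndex L) := by
    rw [hrel]; exact Nat.coprime_two_right.mp hFodd
  have hfaith : ∀ a ∈ A, (∀ x ∈ L, a * x * a⁻¹ * x⁻¹ ∈ C) → a ∈ C := by
    intro a ha h
    have h1 : QuotientGroup.mk' C a ∈ centralizer (FΓ : Set (G ⧸ C)) := by
      rw [mem_centralizer_iff]
      intro f hf
      obtain ⟨x, rfl⟩ := hsurj f
      have hxL : x ∈ L := by rw [hL, mem_comap]; exact hf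
      have h2 : QuotientGroup.mk' C (a * x * a⁻¹ * x⁻¹) = 1 :=
        (QuotientGroup.eq_one_iff _).mpr (h x hxL)
      rw [map_mul, map_mul, map_mul, map_inv, map_inv] at h2
      have h2' : QuotientGroup.mk' C a * QuotientGroup.mk' C x * (QuotientGroup.mk' C a)⁻¹ *
          (QuotientGroup.mk' C x)⁻¹ = 1 := h2
      calc QuotientGroup.mk' C x * QuotientGroup.mk' C a
          = (QuotientGroup.mk' C a * QuotientGroup.mk' C x * (QuotientGroup.mk' C a)⁻¹ *
              (QuotientGroup.mk' C x)⁻¹)⁻¹ * (QuotientGroup.mk' C a * QuotientGroup.mk' C x) := by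
            group
        _ = QuotientGroup.mk' C a * QuotientGroup.mk' C x := by rw [h2', inv_one, one_mul]
    have h3 : QuotientGroup.mk' C a ∈ FΓ := hFcent h1
    have h4 : orderOf (QuotientGroup.mk' C a) ∣ Nat.card FΓ := Subgroup.orderOf_dvd_natCard FΓ h3
    have h5 : (QuotientGroup.mk' C a) * (QuotientGroup.mk' C a) = 1 := by
      rw [← map_mul, hAsq a ha, map_one]
    have h6 : QuotientGroup.mk' C a = 1 := by
      apply Cfsg.Agent.Helper9.S4Sec.eq_one_of_sq_of_odd_order _ h5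
      exact Odd.of_dvd_nat (Nat.coprime_two_right.mp hFodd) h4
    exact (QuotientGroup.eq_one_iff a).mp h6
  exact Cfsg.Agent.Helper9.S4End.involves_S4_of_offender' V hVsq C hCdef L hodd A hAc hquad
    hfaith hAC hoff

/-- `J_e(S)` is normal when `O_{2'}(G) = 1` -/
theorem thompsonSubgroupOf_normal {G : Type u} [Group G] [Finite G] [hsol : Group.IsSolvable G]
    (hO : Cfsg.pPrimeCore 2 G = ⊥) (hS4 : ¬ Cfsg.Involves (Equiv.Perm (Fin 4)) G)
    (S : Sylow 2 G)
    (hcl : ⁅⁅(S : Subgroup G), (S : Subgroup G)⁆, (S : Subgroup G)⁆ = ⊥) :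
    (Cfsg.thompsonSubgroupOf 2 (S : Subgroup G)).Normal := by
  haveI : Fact (Nat.Prime 2) := ⟨Nat.prime_two⟩
  have hAU := famEl_le_pCore hO hS4 S hcl
  set U := Cfsg.pCore 2 G with hU
  have hUn : U.Normal := inferInstance
  have hUS : U ≤ (S : Subgroup G) := Cfsg.Agent.Helper14.pCore_le_sylow 2 S
  have hfam : famEl 2 (S : Subgroup G) = famEl 2 U := by
    ext X
    constructor
    · intro hX
      exact (famEl_restrict hX (hAU X hX) hUS).1
    · intro hX
      obtain ⟨A, hA⟩ := famEl_nonempty 2 (S : Subgroup G)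
      exact (famEl_restrict hA (hAU A hA) hUS).2 hX
  have hJU : Cfsg.thompsonSubgroupOf 2 (S : Subgroup G) = Cfsg.thompsonSubgroupOf 2 U := by
    rw [thompsonSubgroupOf_eq_sSup, thompsonSubgroupOf_eq_sSup, hfam]
  rw [← Subgroup.normalizer_eq_top_iff, eq_top_iff, hJU]
  refine le_trans ?_ ((jFunctor 2).normalizer_le U)
  rw [Subgroup.normalizer_eq_top_iff.mpr hUn]

open Cfsg.Agent.Helper14 in
/-- **S2010**: a solvable `S₄`-free group with Sylow 2-subgroups of class at most two satisfies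
`G = N_G(J_e(S)) O_{2'}(G)`. -/
theorem normalizer_thompson_sup_pPrimeCore {G : Type u} [Group G] [Finite G]
    [hsol : Group.IsSolvable G] (hS4 : ¬ Cfsg.Involves (Equiv.Perm (Fin 4)) G) (S : Sylow 2 G)
    (hcl : ⁅⁅(S : Subgroup G), (S : Subgroup G)⁆, (S : Subgroup G)⁆ = ⊥) :
    normalizer ((Cfsg.thompsonSubgroupOf 2 (S : Subgroup G) : Subgroup G) : Set G) ⊔
      Cfsg.pPrimeCore 2 G = ⊤ := by
  haveI : Fact (Nat.Prime 2) := ⟨Nat.prime_two⟩
  set N := Cfsg.pPrimeCore 2 G with hN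
  have hNn : N.Normal := inferInstance
  set π := QuotientGroup.mk' N with hπ
  have hsurj : Function.Surjective π := QuotientGroup.mk'_surjective N
  have hkerπ : π.ker = N := QuotientGroup.ker_mk' N
  have hNcop : (Nat.card N).Coprime 2 := Cfsg.Agent.Helper23.pPrimeCore_card_coprime 2 G
  set Sb : Sylow 2 (G ⧸ N) := S.mapSurjective hsurj with hSb
  have hSbc : (Sb : Subgroup (G ⧸ N)) = (S : Subgroup G).map π := Sylow.coe_mapSurjective hsurj S
  have hsolb : Group.IsSolvable (G ⧸ N) := inferInstance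
  have hS4b : ¬ Cfsg.Involves (Equiv.Perm (Fin 4)) (G ⧸ N) :=
    fun h => hS4 (Cfsg.Agent.Helper9.S4Sec.involves_of_quotient N h)
  have hOb : Cfsg.pPrimeCore 2 (G ⧸ N) = ⊥ := Cfsg.Agent.Helper7.pPrimeCore_quotient_eq_bot 2
  have hclb : ⁅⁅(Sb : Subgroup (G ⧸ N)), (Sb : Subgroup (G ⧸ N))⁆, (Sb : Subgroup (G ⧸ N))⁆ = ⊥ := by
    rw [hSbc, ← Subgroup.map_commutator, ← Subgroup.map_commutator, hcl, Subgroup.map_bot]
  have hJbn := thompsonSubgroupOf_normal hOb hS4b Sb hclb
  -- 2-subgroups meet `N` trivially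
  have hQN : ∀ Q : Subgroup G, IsPGroup 2 Q → N ⊓ Q = ⊥ := by
    intro Q hQ
    apply (Subgroup.disjoint_of_coprime_natCard _).eq_bot
    obtain ⟨k, hk⟩ := IsPGroup.iff_card.mp hQ
    rw [hk]
    exact Nat.Coprime.pow_right k hNcop
  have hcardmap : ∀ Q : Subgroup G, IsPGroup 2 Q → Nat.card (Q.map π) = Nat.card Q := by
    intro Q hQ
    have h1 : π.ker.relIndex Q = Nat.card (Q.map π) := relIndex_ker Q π
    have h2 := Cfsg.Agent.Helper17.relIndex_mul_card_inf π.ker Q
    rw [h1, hkerπ, hQN Q hQ, Subgroup.card_bot, mul_one] at h2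
    exact h2
  have hinj : Set.InjOn π ((S : Subgroup G) : Set G) := by
    intro x hx y hy hxy
    have h1 : x⁻¹ * y ∈ N := by
      rw [← hkerπ, MonoidHom.mem_ker, map_mul, map_inv, hxy, inv_mul_cancel]
    have h2 : x⁻¹ * y ∈ N ⊓ (S : Subgroup G) :=
      ⟨h1, (S : Subgroup G).mul_mem ((S : Subgroup G).inv_mem hx) hy⟩
    rw [hQN _ S.2, mem_bot] at h2
    exact inv_mul_eq_one.mp h2
  set J := Cfsg.thompsonSubgroupOf 2 (S : Subgroup G) with hJ
  have hJS : J ≤ (S : Subgroup G) := Cfsg.Agent.Helper26.thompsonSubgroupOf_le 2 _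
  have hJ2 : IsPGroup 2 J := S.2.to_le hJS
  have hJb : Cfsg.thompsonSubgroupOf 2 (Sb : Subgroup (G ⧸ N)) = J.map π := by
    rw [hSbc]; exact thompsonSubgroupOf_map_of_injOn π _ hinj
  set K : Subgroup G := (J.map π).comap π with hK
  have hKn : K.Normal := by
    rw [hK, ← hJb]; exact hJbn.comap π
  have hJK : J ≤ K := Subgroup.le_comap_map π J
  have hKeq : K = J ⊔ N := by rw [hK, Subgroup.comap_map_eq, hkerπ]
  have hKmap : K.map π = J.map π := Subgroup.map_comap_eq_self_of_surjective hsurj _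
  have hS1 : IsSylowIn 2 J K := by
    refine ⟨hJK, hJ2, ?_⟩
    intro Q hQK hQ2 hJQ
    symm
    apply Subgroup.eq_of_le_of_card_ge hJQ
    have h1 : Q.map π ≤ J.map π := by rw [← hKmap]; exact Subgroup.map_mono hQK
    have h2 := Subgroup.card_le_of_le h1
    rwa [hcardmap Q hQ2, hcardmap J hJ2] at h2
  rw [eq_top_iff]
  intro g _
  have hKg : K.map (cj g) = K :=
    mem_normalizer_iff_map_cj.1 (by rw [Subgroup.normalizer_eq_top_iff.mpr hKn]; trivial)
  have hS2 : IsSylowIn 2 (J.map (cj g)) K := by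
    have := hS1.map_cj g
    rwa [hKg] at this
  obtain ⟨k, hkK, hk⟩ := hS2.exists_conj hS1
  rw [map_cj_mul] at hk
  have hkg : k * g ∈ normalizer (J : Set G) := mem_normalizer_iff_map_cj.mpr hk.symm
  have hkJN : k ∈ J ⊔ N := hKeq ▸ hkK
  rw [← SetLike.mem_coe, Subgroup.mul_normal, Set.mem_mul] at hkJN
  obtain ⟨j, hj, n, hn, hjn⟩ := hkJN
  have hjN : j ∈ normalizer (J : Set G) := le_normalizer hj
  have e : g = n⁻¹ * (j⁻¹ * (k * g)) := by
    rw [← hjn]; group
  rw [e, sup_comm]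
  exact Subgroup.mul_mem_sup (N.inv_mem hn) (mul_mem (inv_mem hjN) hkg)

end Cfsg.Agent.Helper9.JeS4
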