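import Mathlib
import Cfsg.Agent.Helper9.NormalPSq
import Cfsg.Agent.Helper9.PGroup

set_option autoImplicit false
set_option linter.style.haveILetI false

/-! Konvisser's theorem in rank 4: for odd `p`, a `p`-group with an elementary abelian subgroup of
order `p^4` has a normal one. -/

namespace Cfsg.Agent.Helper9.Konv

open Subgroup

universe u

variable {P : Type u} [Group P]

/-- Counting lemma: a map `f` on `E` with values in `S` whose fibres lie in cosets of `K`. -/
theorem card_le_of_map [Finite P] (E K : Subgroup P) (S : Set P) (f : P → P)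
    (hf : ∀ e ∈ E, f e ∈ S)
    (hinj : ∀ e ∈ E, ∀ e' ∈ E, f e = f e' → e⁻¹ * e' ∈ K) :
    Nat.card E ≤ Nat.card S * Nat.card (K ⊓ E : Subgroup P) := by
  classical
  rw [← Nat.card_prod]
  let r : P → P := fun x => if h : ∃ e ∈ E, f e = x then h.choose else 1
  have hr : ∀ e ∈ E, r (f e) ∈ E ∧ f (r (f e)) = f e := by
    intro e he
    have h : ∃ e' ∈ E, f e' = f e := ⟨e, he, rfl⟩
    simp only [r, dif_pos h]
    exact h.choose_spec
  have hmem : ∀ e ∈ E, (r (f e))⁻¹ * e ∈ (K ⊓ E : Subgroup P) := fun e he =>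
    Subgroup.mem_inf.mpr ⟨hinj _ (hr e he).1 e he (hr e he).2, E.mul_mem (E.inv_mem (hr e he).1) he⟩
  apply Nat.card_le_card_of_injective
    (fun e : E => ((⟨f e, hf e e.2⟩ : S), (⟨(r (f e))⁻¹ * e, hmem e e.2⟩ : (K ⊓ E : Subgroup P))))
  intro x y hxy
  have h1 : f x = f y := congrArg (fun z => (z.1 : P)) hxy
  have h2 : (r (f x))⁻¹ * x = (r (f y))⁻¹ * y := congrArg (fun z => (z.2 : P)) hxy
  rw [h1] at h2
  exact Subtype.ext (mul_left_cancel h2)

/-- equal commutators with `a` means the quotient centralizes `a`. -/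
theorem inv_mul_mem_centralizer_of_comm_eq {a e e' : P}
    (h : a * e * a⁻¹ * e⁻¹ = a * e' * a⁻¹ * e'⁻¹) :
    e⁻¹ * e' ∈ Subgroup.centralizer ({a} : Set P) := by
  rw [Subgroup.mem_centralizer_iff]
  intro x hx
  rw [Set.mem_singleton_iff] at hx
  subst hx
  have h1 : e * x⁻¹ * e⁻¹ = e' * x⁻¹ * e'⁻¹ := by
    have := congrArg (fun z => x⁻¹ * z) h
    simpa [mul_assoc] using this
  have h2 : x⁻¹ * (e⁻¹ * e') = (e⁻¹ * e') * x⁻¹ := by
    have := congrArg (fun z => e⁻¹ * z * e') h1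
    simp only [mul_assoc, inv_mul_cancel_left, inv_mul_cancel, mul_one] at this
    simpa [mul_assoc] using this
  have h3 : x * (x⁻¹ * (e⁻¹ * e')) * x = x * ((e⁻¹ * e') * x⁻¹) * x := by rw [h2]
  simpa [mul_assoc] using h3.symm

/-- Surjectivity from counting. -/
theorem surj_of_card [Finite P] (E K X : Subgroup P) (f : P → P)
    (hf : ∀ e ∈ E, f e ∈ X)
    (hinj : ∀ e ∈ E, ∀ e' ∈ E, f e = f e' → e⁻¹ * e' ∈ K)
    (hcard : Nat.card X * Nat.card (K ⊓ E : Subgroup P) ≤ Nat.card E) :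
    ∀ x ∈ X, ∃ e ∈ E, f e = x := by
  classical
  intro x0 hx0
  by_contra hcon
  push Not at hcon
  have h1 := card_le_of_map E K ((X : Set P) \ {x0}) f
    (fun e he => ⟨hf e he, fun h => hcon e he (by simpa using h)⟩) hinj
  have h2 : Nat.card ↥((X : Set P) \ {x0}) < Nat.card X := by
    have hfin : ((X : Set P)).Finite := Set.toFinite _
    have : ((X : Set P) \ {x0}).ncard < (X : Set P).ncard :=
      Set.ncard_lt_ncard (Set.sdiff_singleton_ssubset.mpr hx0) hfin
    have e1 : Nat.card X = (X : Set P).ncard := (Nat.card_coe_set_eq (X : Set P))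
    rw [Nat.card_coe_set_eq, e1]
    exact this
  have hpos : 0 < Nat.card (K ⊓ E : Subgroup P) := Nat.card_pos
  have h3 : Nat.card ↥((X : Set P) \ {x0}) * Nat.card (K ⊓ E : Subgroup P) <
      Nat.card X * Nat.card (K ⊓ E : Subgroup P) := Nat.mul_lt_mul_of_pos_right h2 hpos
  omega


/-- The configuration: `A` normal elementary abelian of order `p^3` containing all elements of
order `p` of its centralizer. -/
structure Cfg (p : ℕ) (A : Subgroup P) : Prop where
  normal : A.Normal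
  comm : ∀ a ∈ A, ∀ b ∈ A, a * b = b * a
  exp : ∀ a ∈ A, a ^ p = 1
  card : Nat.card A = p ^ 3
  alp : ∀ x ∈ Subgroup.centralizer (A : Set P), x ^ p = 1 → x ∈ A

/-- Elementary abelian of order `p^4`. -/
structure Good (p : ℕ) (E : Subgroup P) : Prop where
  comm : ∀ a ∈ E, ∀ b ∈ E, a * b = b * a
  exp : ∀ a ∈ E, a ^ p = 1
  card : Nat.card E = p ^ 4

/-- A subgroup strictly between a subgroup of index `p` and `A` is `A`. -/
theorem eq_of_index_prime [Finite P] {p : ℕ} (hp : p.Prime) {H L A : Subgroup P} (hHL : H ≤ L)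
    (hLA : L ≤ A) (hc : Nat.card A = p * Nat.card H) {a : P} (haL : a ∈ L) (haH : a ∉ H) :
    L = A := by
  apply Subgroup.eq_of_le_of_card_ge hLA
  obtain ⟨m, hm⟩ := Subgroup.card_dvd_of_le hHL
  obtain ⟨n, hn⟩ := Subgroup.card_dvd_of_le hLA
  have hHpos : 0 < Nat.card H := Nat.card_pos
  have hmn : m * n = p := by
    have : Nat.card H * (m * n) = Nat.card H * p := by
      rw [← mul_assoc, ← hm, ← hn, hc, mul_comm]
    exact Nat.eq_of_mul_eq_mul_left hHpos this
  have hm1 : m ≠ 1 := by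
    intro h1
    rw [h1, mul_one] at hm
    have := Subgroup.eq_of_le_of_card_ge hHL hm.le
    exact haH (this ▸ haL)
  have hmd : m ∣ p := ⟨n, hmn.symm⟩
  rcases (Nat.dvd_prime hp).mp hmd with h | h
  · exact absurd h hm1
  · rw [hc, hm, h, mul_comm]

/-- If `x` centralizes a subgroup `H` of index `p` in `A` and an element of `A` outside `H`, it
centralizes `A`. -/
theorem mem_centralizer_of_index_prime [Finite P] {p : ℕ} (hp : p.Prime) {H A : Subgroup P}
    (hHA : H ≤ A) (hc : Nat.card A = p * Nat.card H) {a x : P} (haA : a ∈ A) (haH : a ∉ H)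
    (hxH : ∀ h ∈ H, h * x = x * h) (hxa : a * x = x * a) :
    x ∈ Subgroup.centralizer (A : Set P) := by
  have hL : A ⊓ Subgroup.centralizer ({x} : Set P) = A := by
    apply eq_of_index_prime hp (a := a) _ inf_le_left hc _ haH
    · intro h hh
      refine Subgroup.mem_inf.mpr ⟨hHA hh, ?_⟩
      rw [Subgroup.mem_centralizer_iff]
      intro y hy
      rw [Set.mem_singleton_iff] at hy
      subst hy
      exact (hxH h hh).symm
    · refine Subgroup.mem_inf.mpr ⟨haA, ?_⟩
      rw [Subgroup.mem_centralizer_iff]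
      intro y hy
      rw [Set.mem_singleton_iff] at hy
      subst hy
      exact hxa.symm
  rw [Subgroup.mem_centralizer_iff]
  intro b hb
  have hb' : b ∈ A ⊓ Subgroup.centralizer ({x} : Set P) := by rw [hL]; exact hb
  have := (Subgroup.mem_centralizer_iff.mp (Subgroup.mem_inf.mp hb').2) x (Set.mem_singleton x)
  exact this.symm


/-- Step I.1: `|A ⊓ E| ≥ p^2`. -/
theorem sq_le_card_inf [Finite P] {p : ℕ} [Fact p.Prime] (hP : IsPGroup p P)
    {A E : Subgroup P} (hA : Cfg p A) (hE : Good p E) :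
    p ^ 2 ≤ Nat.card (A ⊓ E : Subgroup P) := by
  classical
  have hpp : p.Prime := Fact.out
  haveI := hA.normal
  by_contra hlt
  push Not at hlt
  have hHp : Nat.card (A ⊓ E : Subgroup P) ≤ p := by
    obtain ⟨j, hj⟩ := IsPGroup.iff_card.mp (hP.to_subgroup (A ⊓ E))
    rw [hj] at hlt ⊢
    have : j < 2 := (Nat.pow_lt_pow_iff_right hpp.one_lt).mp hlt
    calc p ^ j ≤ p ^ 1 := Nat.pow_le_pow_right hpp.pos (by omega)
      _ = p := pow_one p
  obtain ⟨A2, hA2n, hA2A, hA2c⟩ := exists_normal_le_card_eq hP A 2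
    (by rw [hA.card]; exact Nat.pow_le_pow_right hpp.pos (by norm_num))
  haveI := hA2n
  have h23 : p ^ 2 < p ^ 3 := Nat.pow_lt_pow_right hpp.one_lt (by norm_num)
  have h34 : p ^ 3 < p ^ 4 := Nat.pow_lt_pow_right hpp.one_lt (by norm_num)
  have hnle : ¬ A ≤ A2 := by
    intro hle
    have := Subgroup.card_le_of_le hle
    rw [hA.card, hA2c] at this
    omega
  obtain ⟨a0, ha0A, ha0A2, hcent⟩ :=
    Cfsg.Agent.Helper10.exists_mem_not_mem_central_mod hP A2 A hnle
  have hcardA : Nat.card A = p * Nat.card A2 := by rw [hA.card, hA2c]; ring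
  have hfA2 : ∀ e : P, a0 * e * a0⁻¹ * e⁻¹ ∈ A2 := by
    intro e
    have := A2.inv_mem (hcent e)
    have e1 : (e * a0 * e⁻¹ * a0⁻¹)⁻¹ = a0 * e * a0⁻¹ * e⁻¹ := by group
    rwa [e1] at this
  have key : ∀ x, x ∈ Subgroup.centralizer ({a0} : Set P) →
      x ∈ Subgroup.centralizer (A2 : Set P) → x ∈ E → x ∈ (A ⊓ E : Subgroup P) := by
    intro x hx1 hx2 hxE
    refine Subgroup.mem_inf.mpr ⟨?_, hxE⟩
    apply hA.alp x _ (hE.exp x hxE)
    apply mem_centralizer_of_index_prime hpp hA2A hcardA ha0A ha0A2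
    · intro h hh
      exact (Subgroup.mem_centralizer_iff.mp hx2) h hh
    · exact (Subgroup.mem_centralizer_iff.mp hx1) a0 (Set.mem_singleton a0)
  by_cases hEC : E ≤ Subgroup.centralizer (A2 : Set P)
  · have h1 := card_le_of_map E (Subgroup.centralizer ({a0} : Set P)) (A2 : Set P)
      (fun e => a0 * e * a0⁻¹ * e⁻¹) (fun e _ => hfA2 e)
      (fun e _ e' _ h => inv_mul_mem_centralizer_of_comm_eq h)
    have h2 : (Subgroup.centralizer ({a0} : Set P) ⊓ E : Subgroup P) ≤ A ⊓ E := by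
      intro x hx
      obtain ⟨hx1, hx2⟩ := Subgroup.mem_inf.mp hx
      exact key x hx1 (hEC hx2) hx2
    have h3 := Subgroup.card_le_of_le h2
    have h4 : Nat.card ↥(A2 : Set P) = p ^ 2 := hA2c
    rw [h4, hE.card] at h1
    have : p ^ 2 * Nat.card (Subgroup.centralizer ({a0} : Set P) ⊓ E : Subgroup P) ≤ p ^ 2 * p :=
      Nat.mul_le_mul_left _ (h3.trans hHp)
    have e3 : p ^ 2 * p = p ^ 3 := by ring
    omega
  · obtain ⟨g, hgE, hgC⟩ := SetLike.not_le_iff_exists.mp hEC
    obtain ⟨Z0, φ, hZ0, hker⟩ := exists_hom_ker_le_centralizer hP A2 hA2c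
    set X : Subgroup P := A2 ⊓ Subgroup.centralizer ({g} : Set P) with hX
    have hXp : Nat.card X ≤ p := by
      obtain ⟨j, hj⟩ := IsPGroup.iff_card.mp (hP.to_subgroup X)
      have hXle : X ≤ A2 := inf_le_left
      have hle := Subgroup.card_le_of_le hXle
      rw [hj, hA2c] at hle
      have hj2 : j ≤ 2 := (Nat.pow_le_pow_iff_right hpp.one_lt).mp hle
      have hjne : j ≠ 2 := by
        intro h2
        have : X = A2 := Subgroup.eq_of_le_of_card_ge hXle (by rw [hj, h2, hA2c])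
        apply hgC
        rw [Subgroup.mem_centralizer_iff]
        intro b hb
        have hb' : b ∈ X := by rw [this]; exact hb
        have := (Subgroup.mem_centralizer_iff.mp (Subgroup.mem_inf.mp hb').2) g
          (Set.mem_singleton g)
        exact this.symm
      rw [hj]
      calc p ^ j ≤ p ^ 1 := Nat.pow_le_pow_right hpp.pos (by omega)
        _ = p := pow_one p
    -- values in X
    have hfX : ∀ e ∈ (φ.ker ⊓ E : Subgroup P), a0 * e * a0⁻¹ * e⁻¹ ∈ (X : Set P) := by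
      intro e he
      obtain ⟨he1, he2⟩ := Subgroup.mem_inf.mp he
      refine Subgroup.mem_inf.mpr ⟨hfA2 e, ?_⟩
      rw [Subgroup.mem_centralizer_iff]
      intro y hy
      rw [Set.mem_singleton_iff] at hy
      subst hy
      set c := y * a0 * y⁻¹ * a0⁻¹ with hc
      have hcA2 : c ∈ A2 := hcent y
      have hge : y * e = e * y := hE.comm y hgE e he2
      have hce : c * e = e * c := (Subgroup.mem_centralizer_iff.mp (hker he1)) c hcA2
      have hcf : c * (a0 * e * a0⁻¹ * e⁻¹) = (a0 * e * a0⁻¹ * e⁻¹) * c :=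
        hA.comm c (hA2A hcA2) _ (hA2A (hfA2 e))
      have e1 : y * e * y⁻¹ = e := by rw [hge]; group
      have e2 : y * a0 * y⁻¹ = c * a0 := by rw [hc]; group
      have e3 : c⁻¹ * e⁻¹ = e⁻¹ * c⁻¹ := by
        rw [← mul_inv_rev, ← mul_inv_rev, hce]
      have e4 : y * (a0 * e * a0⁻¹ * e⁻¹) * y⁻¹ = a0 * e * a0⁻¹ * e⁻¹ := by
        calc y * (a0 * e * a0⁻¹ * e⁻¹) * y⁻¹
            = (y * a0 * y⁻¹) * (y * e * y⁻¹) * (y * a0 * y⁻¹)⁻¹ * (y * e * y⁻¹)⁻¹ := by group
          _ = c * a0 * e * (c * a0)⁻¹ * e⁻¹ := by rw [e1, e2]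
          _ = c * a0 * e * a0⁻¹ * (c⁻¹ * e⁻¹) := by group
          _ = c * a0 * e * a0⁻¹ * (e⁻¹ * c⁻¹) := by rw [e3]
          _ = c * (a0 * e * a0⁻¹ * e⁻¹) * c⁻¹ := by group
          _ = a0 * e * a0⁻¹ * e⁻¹ := by rw [hcf]; group
      calc y * (a0 * e * a0⁻¹ * e⁻¹) = y * (a0 * e * a0⁻¹ * e⁻¹) * y⁻¹ * y := by group
        _ = (a0 * e * a0⁻¹ * e⁻¹) * y := by rw [e4]
    have h1 := card_le_of_map (φ.ker ⊓ E) (Subgroup.centralizer ({a0} : Set P)) (X : Set P)
      (fun e => a0 * e * a0⁻¹ * e⁻¹) hfX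
      (fun e _ e' _ h => inv_mul_mem_centralizer_of_comm_eq h)
    have h2 : (Subgroup.centralizer ({a0} : Set P) ⊓ (φ.ker ⊓ E) : Subgroup P) ≤ A ⊓ E := by
      intro x hx
      obtain ⟨hx1, hx2⟩ := Subgroup.mem_inf.mp hx
      obtain ⟨hx3, hx4⟩ := Subgroup.mem_inf.mp hx2
      exact key x hx1 (hker hx3) hx4
    have h3 := Subgroup.card_le_of_le h2
    have h4 : Nat.card ↥(X : Set P) = Nat.card X := rfl
    rw [h4] at h1
    have hE0 : Nat.card (φ.ker ⊓ E : Subgroup P) ≤ p * p :=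
      h1.trans (Nat.mul_le_mul hXp (h3.trans hHp))
    have hcount := Cfsg.Agent.Helper17.relIndex_mul_card_inf φ.ker E
    have hrel : φ.ker.relIndex E ∣ p := by
      have h1 : φ.ker.relIndex E ∣ φ.ker.index := Subgroup.relIndex_dvd_index_of_normal _ _
      rw [Subgroup.index_ker] at h1
      have h2 : Nat.card φ.range ∣ Nat.card Z0 := Subgroup.card_subgroup_dvd_card _
      rw [hZ0] at h2
      exact h1.trans h2
    have hrelp : φ.ker.relIndex E ≤ p := Nat.le_of_dvd hpp.pos hrel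
    have : Nat.card E ≤ p * (p * p) := by
      rw [← hcount]
      exact Nat.mul_le_mul hrelp hE0
    rw [hE.card] at this
    have e3 : p * (p * p) = p ^ 3 := by ring
    omega


/-- Step I.2: `|A ⊓ E| = p^2`. -/
theorem card_inf_eq [Finite P] {p : ℕ} [Fact p.Prime] (hP : IsPGroup p P)
    {A E : Subgroup P} (hA : Cfg p A) (hE : Good p E) :
    Nat.card (A ⊓ E : Subgroup P) = p ^ 2 := by
  have hpp : p.Prime := Fact.out
  have h1 := sq_le_card_inf hP hA hE
  obtain ⟨j, hj⟩ := IsPGroup.iff_card.mp (hP.to_subgroup (A ⊓ E))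
  have hle := Subgroup.card_le_of_le (inf_le_left : A ⊓ E ≤ A)
  rw [hj] at h1 hle ⊢
  rw [hA.card] at hle
  have hj2 : 2 ≤ j := (Nat.pow_le_pow_iff_right hpp.one_lt).mp h1
  have hj3 : j ≤ 3 := (Nat.pow_le_pow_iff_right hpp.one_lt).mp hle
  have hjne : j ≠ 3 := by
    intro h3
    have hAE : A ⊓ E = A := Subgroup.eq_of_le_of_card_ge inf_le_left (by rw [hj, h3, hA.card])
    have hAleE : A ≤ E := inf_eq_left.mp hAE
    have hEA : E ≤ A := by
      intro x hx
      apply hA.alp x _ (hE.exp x hx)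
      rw [Subgroup.mem_centralizer_iff]
      intro a ha
      exact hE.comm a (hAleE ha) x hx
    have := Subgroup.card_le_of_le hEA
    rw [hE.card, hA.card] at this
    have h34 : p ^ 3 < p ^ 4 := Nat.pow_lt_pow_right hpp.one_lt (by norm_num)
    omega
  have : j = 2 := by omega
  rw [this]

/-- Step I.3: `A` normalizes `E`. -/
theorem le_normalizer [Finite P] {p : ℕ} [Fact p.Prime] (hP : IsPGroup p P)
    {A E : Subgroup P} (hA : Cfg p A) (hE : Good p E) :
    A ≤ Subgroup.normalizer (E : Set P) := by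
  have hpp : p.Prime := Fact.out
  haveI := hA.normal
  have h1 := Cfsg.Agent.Helper17.card_sup_mul_card_inf_of_normal A E
  rw [card_inf_eq hP hA hE, hA.card, hE.card] at h1
  have hQ : Nat.card (A ⊔ E : Subgroup P) = p ^ 5 := by
    have : Nat.card (A ⊔ E : Subgroup P) * p ^ 2 = p ^ 5 * p ^ 2 := by rw [h1]; ring
    exact Nat.eq_of_mul_eq_mul_right (pow_pos hpp.pos 2) this
  have hEQ : E ≤ A ⊔ E := le_sup_right
  have hidx : (E.subgroupOf (A ⊔ E)).index = p := by
    have h2 := Cfsg.Agent.Helper17.relIndex_mul_card_inf E (A ⊔ E)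
    rw [inf_eq_left.mpr hEQ, hE.card, hQ] at h2
    have : E.relIndex (A ⊔ E) * p ^ 4 = p * p ^ 4 := by rw [h2]; ring
    exact Nat.eq_of_mul_eq_mul_right (pow_pos hpp.pos 4) this
  have hn : (E.subgroupOf (A ⊔ E)).Normal := by
    apply Subgroup.normal_of_index_eq_minFac_card
    rw [hidx, hQ, Nat.Prime.pow_minFac hpp (by norm_num)]
  exact le_sup_left.trans ((Subgroup.normal_subgroupOf_iff_le_normalizer hEQ).mp hn)

/-- Step I.3': commutators of `A` with `E` lie in `A ⊓ E`. -/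
theorem comm_mem_inf [Finite P] {p : ℕ} [Fact p.Prime] (hP : IsPGroup p P)
    {A E : Subgroup P} (hA : Cfg p A) (hE : Good p E) {a e : P} (ha : a ∈ A) (he : e ∈ E) :
    a * e * a⁻¹ * e⁻¹ ∈ (A ⊓ E : Subgroup P) := by
  haveI := hA.normal
  refine Subgroup.mem_inf.mpr ⟨?_, ?_⟩
  · have h1 : e * a⁻¹ * e⁻¹ ∈ A := hA.normal.conj_mem _ (A.inv_mem ha) e
    have : a * e * a⁻¹ * e⁻¹ = a * (e * a⁻¹ * e⁻¹) := by group
    rw [this]
    exact A.mul_mem ha h1
  · have h1 : a * e * a⁻¹ ∈ E :=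
      (Subgroup.mem_normalizer_iff.mp (le_normalizer hP hA hE ha) e).mp he
    exact E.mul_mem h1 (E.inv_mem he)

/-- Step I.4: elements of `E` commuting with an element of `A` outside `E` lie in `A`. -/
theorem mem_inf_of_commute [Finite P] {p : ℕ} [Fact p.Prime] (hP : IsPGroup p P)
    {A E : Subgroup P} (hA : Cfg p A) (hE : Good p E) {a0 : P} (ha0 : a0 ∈ A) (ha0E : a0 ∉ E)
    {x : P} (hx : x ∈ E) (hxa : a0 * x = x * a0) : x ∈ (A ⊓ E : Subgroup P) := by
  have hpp : p.Prime := Fact.out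
  refine Subgroup.mem_inf.mpr ⟨?_, hx⟩
  apply hA.alp x _ (hE.exp x hx)
  have hc : Nat.card A = p * Nat.card (A ⊓ E : Subgroup P) := by
    rw [card_inf_eq hP hA hE, hA.card]; ring
  apply mem_centralizer_of_index_prime hpp (inf_le_left : A ⊓ E ≤ A) hc ha0
    (fun h => ha0E (Subgroup.mem_inf.mp h).2) _ hxa
  intro h hh
  exact hE.comm h (Subgroup.mem_inf.mp hh).2 x hx

/-- Step I.5: the commutator map `E → A ⊓ E` is onto. -/
theorem comm_surj [Finite P] {p : ℕ} [Fact p.Prime] (hP : IsPGroup p P)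
    {A E : Subgroup P} (hA : Cfg p A) (hE : Good p E) {a0 : P} (ha0 : a0 ∈ A) (ha0E : a0 ∉ E) :
    ∀ h ∈ (A ⊓ E : Subgroup P), ∃ e ∈ E, a0 * e * a0⁻¹ * e⁻¹ = h := by
  apply surj_of_card E (Subgroup.centralizer ({a0} : Set P)) (A ⊓ E) (fun e => a0 * e * a0⁻¹ * e⁻¹)
    (fun e he => comm_mem_inf hP hA hE ha0 he)
    (fun e _ e' _ h => inv_mul_mem_centralizer_of_comm_eq h)
  have h2 : (Subgroup.centralizer ({a0} : Set P) ⊓ E : Subgroup P) ≤ A ⊓ E := by
    intro x hx
    obtain ⟨hx1, hx2⟩ := Subgroup.mem_inf.mp hx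
    exact mem_inf_of_commute hP hA hE ha0 ha0E hx2
      ((Subgroup.mem_centralizer_iff.mp hx1) a0 (Set.mem_singleton a0))
  have h3 := Subgroup.card_le_of_le h2
  rw [card_inf_eq hP hA hE] at h3 ⊢
  rw [hE.card]
  calc p ^ 2 * Nat.card (Subgroup.centralizer ({a0} : Set P) ⊓ E : Subgroup P) ≤ p ^ 2 * p ^ 2 :=
        Nat.mul_le_mul_left _ h3
    _ = p ^ 4 := by ring


theorem good_map_conj {p : ℕ} {E : Subgroup P} (hE : Good p E) (g : P) :
    Good p (E.map (MulAut.conj g).toMonoidHom) := by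
  refine ⟨?_, ?_, ?_⟩
  · rintro _ ⟨a, ha, rfl⟩ _ ⟨b, hb, rfl⟩
    simp only [MulEquiv.coe_toMonoidHom, MulAut.conj_apply]
    have := hE.comm a ha b hb
    calc g * a * g⁻¹ * (g * b * g⁻¹) = g * (a * b) * g⁻¹ := by group
      _ = g * (b * a) * g⁻¹ := by rw [this]
      _ = g * b * g⁻¹ * (g * a * g⁻¹) := by group
  · rintro _ ⟨a, ha, rfl⟩
    simp only [MulEquiv.coe_toMonoidHom, MulAut.conj_apply]
    rw [conj_pow, hE.exp a ha]
    group
  · rw [card_map_conj, hE.card]

theorem card_sup_eq [Finite P] {p : ℕ} [Fact p.Prime] (hP : IsPGroup p P)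
    {A E : Subgroup P} (hA : Cfg p A) (hE : Good p E) :
    Nat.card (A ⊔ E : Subgroup P) = p ^ 5 := by
  have hpp : p.Prime := Fact.out
  haveI := hA.normal
  have h1 := Cfsg.Agent.Helper17.card_sup_mul_card_inf_of_normal A E
  rw [card_inf_eq hP hA hE, hA.card, hE.card] at h1
  have : Nat.card (A ⊔ E : Subgroup P) * p ^ 2 = p ^ 5 * p ^ 2 := by rw [h1]; ring
  exact Nat.eq_of_mul_eq_mul_right (pow_pos hpp.pos 2) this

/-- Step II: every elementary abelian subgroup of order `p^4` is normal. -/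
theorem normal_of_good [Finite P] {p : ℕ} [Fact p.Prime] (hp2 : p ≠ 2) (hP : IsPGroup p P)
    {A E : Subgroup P} (hA : Cfg p A) (hE : Good p E) : E.Normal := by
  classical
  have hpp : p.Prime := Fact.out
  haveI := hA.normal
  by_contra hnn
  set N := Subgroup.normalizer (E : Set P) with hN
  have hNtop : N ≠ ⊤ := fun h => hnn (Subgroup.normalizer_eq_top_iff.mp h)
  haveI : Group.IsNilpotent P := hP.isNilpotent
  have hnc : NormalizerCondition P := Group.normalizerCondition_of_isNilpotent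
  have hlt := hnc N (lt_top_iff_ne_top.mpr hNtop)
  obtain ⟨g, hgNN, hgN⟩ := SetLike.exists_of_lt hlt
  set E' := E.map (MulAut.conj g).toMonoidHom with hE'
  have hE'good : Good p E' := good_map_conj hE g
  have hE'ne : E' ≠ E := fun h => hgN ((map_conj_eq_iff_mem_normalizer E g).mp h)
  have hE'N : E' ≤ N := by
    rintro x ⟨e, he, rfl⟩
    simp only [MulEquiv.coe_toMonoidHom, MulAut.conj_apply]
    exact (Subgroup.mem_normalizer_iff.mp hgNN e).mp (Subgroup.le_normalizer he)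
  have hEN' : E ≤ Subgroup.normalizer (E' : Set P) := by
    intro e he
    have h1 : g⁻¹ * e * g ∈ N := by
      have := (Subgroup.mem_normalizer_iff.mp (Subgroup.inv_mem _ hgNN) e).mp
        (Subgroup.le_normalizer he)
      simpa using this
    rw [Subgroup.mem_normalizer_iff]
    intro x
    rw [mem_map_conj_iff, mem_map_conj_iff]
    have h2 := Subgroup.mem_normalizer_iff.mp h1 (g⁻¹ * x * g)
    have e1 : g⁻¹ * e * g * (g⁻¹ * x * g) * (g⁻¹ * e * g)⁻¹ = g⁻¹ * (e * x * e⁻¹) * g := by group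
    rw [e1] at h2
    exact h2
  have hcH := card_inf_eq hP hA hE
  have hcH' := card_inf_eq hP hA hE'good
  -- (i) the two intersections agree
  have hHH' : (A ⊓ E : Subgroup P) = A ⊓ E' := by
    by_contra hne
    have hnle : ¬ (A ⊓ E : Subgroup P) ≤ A ⊓ E' := by
      intro hle
      exact hne (Subgroup.eq_of_le_of_card_ge hle (by rw [hcH, hcH']))
    obtain ⟨h, hh, hh'⟩ := SetLike.not_le_iff_exists.mp hnle
    obtain ⟨hhA, hhE⟩ := Subgroup.mem_inf.mp hh
    have hhE' : h ∉ E' := fun hc => hh' (Subgroup.mem_inf.mpr ⟨hhA, hc⟩)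
    have hsurj := comm_surj hP hA hE'good hhA hhE'
    have hle : (A ⊓ E' : Subgroup P) ≤ A ⊓ E := by
      intro y hy
      obtain ⟨e', he', rfl⟩ := hsurj y hy
      refine Subgroup.mem_inf.mpr ⟨(Subgroup.mem_inf.mp hy).1, ?_⟩
      have h1 : e' * h⁻¹ * e'⁻¹ ∈ E :=
        (Subgroup.mem_normalizer_iff.mp (hE'N he') h⁻¹).mp (E.inv_mem hhE)
      have : h * e' * h⁻¹ * e'⁻¹ = h * (e' * h⁻¹ * e'⁻¹) := by group
      rw [this]
      exact E.mul_mem hhE h1
    have := Subgroup.eq_of_le_of_card_ge hle (by rw [hcH, hcH'])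
    exact hne this.symm
  -- an element of `A` outside `E`
  have hnAE : ¬ A ≤ E := by
    intro hle
    have : (A ⊓ E : Subgroup P) = A := inf_eq_left.mpr hle
    rw [this, hA.card] at hcH
    have h23 : p ^ 2 < p ^ 3 := Nat.pow_lt_pow_right hpp.one_lt (by norm_num)
    omega
  obtain ⟨a0, ha0A, ha0E⟩ := SetLike.not_le_iff_exists.mp hnAE
  have ha0E' : a0 ∉ E' := by
    intro hc
    have : a0 ∈ (A ⊓ E : Subgroup P) := by rw [hHH']; exact Subgroup.mem_inf.mpr ⟨ha0A, hc⟩
    exact ha0E (Subgroup.mem_inf.mp this).2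
  have hcA : Nat.card A = p * Nat.card (A ⊓ E : Subgroup P) := by
    rw [hcH, hA.card]; ring
  -- (ii) `E' ≤ A ⊔ E`
  have hE'Q : E' ≤ A ⊔ E := by
    intro e' he'
    have hy : a0 * e' * a0⁻¹ * e'⁻¹ ∈ (A ⊓ E : Subgroup P) := by
      rw [hHH']; exact comm_mem_inf hP hA hE'good ha0A he'
    obtain ⟨e, he, hee⟩ := comm_surj hP hA hE ha0A ha0E _ hy
    have hc1 := inv_mul_mem_centralizer_of_comm_eq hee
    set c := e⁻¹ * e' with hc
    have hcH : ∀ h ∈ (A ⊓ E : Subgroup P), h * c = c * h := by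
      intro h hh
      have hhE : h ∈ E := (Subgroup.mem_inf.mp hh).2
      have hhE' : h ∈ E' := by
        rw [hHH'] at hh; exact (Subgroup.mem_inf.mp hh).2
      have c1 : h * e⁻¹ = e⁻¹ * h := hE.comm h hhE _ (E.inv_mem he)
      have c2 : h * e' = e' * h := hE'good.comm h hhE' _ he'
      calc h * c = h * e⁻¹ * e' := by rw [hc]; group
        _ = e⁻¹ * (h * e') := by rw [c1]; group
        _ = c * h := by rw [c2, hc]; group
    have hcCA : c ∈ Subgroup.centralizer (A : Set P) :=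
      mem_centralizer_of_index_prime hpp (inf_le_left : A ⊓ E ≤ A) hcA ha0A
        (fun h => ha0E (Subgroup.mem_inf.mp h).2) hcH
        ((Subgroup.mem_centralizer_iff.mp hc1) a0 (Set.mem_singleton a0))
    have hcp : c ^ p = 1 := by
      have hz1 : e'⁻¹ * e * e' ∈ E := by
        have := (Subgroup.mem_normalizer_iff.mp (N.inv_mem (hE'N he')) e).mp he
        simpa using this
      have hz2 : e * e' * e⁻¹ ∈ E' := (Subgroup.mem_normalizer_iff.mp (hEN' he) e').mp he'
      have hzE : cm e' e⁻¹ ∈ E := by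
        have : cm e' e⁻¹ = e'⁻¹ * e * e' * e⁻¹ := by simp [cm]
        rw [this]
        exact E.mul_mem hz1 (E.inv_mem he)
      have hzE' : cm e' e⁻¹ ∈ E' := by
        have : cm e' e⁻¹ = e'⁻¹ * (e * e' * e⁻¹) := by simp [cm, mul_assoc]
        rw [this]
        exact E'.mul_mem (E'.inv_mem he') hz2
      have := mul_pow_prime_of_comm_cm hpp hp2 e⁻¹ e'
        (hE.comm _ hzE _ (E.inv_mem he)) (hE'good.comm _ hzE' _ he') (hE.exp _ hzE)
      rw [hc, this, hE.exp _ (E.inv_mem he), hE'good.exp _ he', one_mul]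
    have hcA' : c ∈ A := hA.alp c hcCA hcp
    have : e' = e * c := by rw [hc]; group
    rw [this]
    exact Subgroup.mul_mem _ (le_sup_right (a := A) he) (le_sup_left (b := E) hcA')
  -- (iii) counting
  have hQ := card_sup_eq hP hA hE
  have hsupQ : E ⊔ E' ≤ A ⊔ E := sup_le le_sup_right hE'Q
  have hprod := Cfsg.Agent.Helper17.card_sup_mul_card_inf E E' hE'N
  rw [hE.card, hE'good.card] at hprod
  -- `E ⊔ E' = A ⊔ E`
  have hEE'Q : E ⊔ E' = A ⊔ E := by
    apply Subgroup.eq_of_le_of_card_ge hsupQ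
    rw [hQ]
    obtain ⟨j, hj⟩ := IsPGroup.iff_card.mp (hP.to_subgroup (E ⊔ E'))
    rw [hj]
    apply Nat.pow_le_pow_right hpp.pos
    by_contra hj5
    push Not at hj5
    have hj4 : p ^ j ≤ p ^ 4 := Nat.pow_le_pow_right hpp.pos (by omega)
    have : E ⊔ E' = E := by
      symm
      apply Subgroup.eq_of_le_of_card_ge le_sup_left
      rw [hj, hE.card]; exact hj4
    exact hE'ne (Subgroup.eq_of_le_of_card_ge (this ▸ le_sup_right)
      (by rw [hE.card, hE'good.card])) 
  rw [hEE'Q, hQ] at hprod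
  have hcI : Nat.card (E ⊓ E' : Subgroup P) = p ^ 3 := by
    have : p ^ 5 * Nat.card (E ⊓ E' : Subgroup P) = p ^ 5 * p ^ 3 := by rw [hprod]; ring
    exact Nat.eq_of_mul_eq_mul_left (pow_pos hpp.pos 5) this
  have hIle : (E ⊓ E' : Subgroup P) ≤ A ⊓ E := by
    intro x hx
    obtain ⟨hxE, hxE'⟩ := Subgroup.mem_inf.mp hx
    have h1 : E ⊔ E' ≤ Subgroup.centralizer ({x} : Set P) := by
      apply sup_le
      · intro e he
        rw [Subgroup.mem_centralizer_iff]
        intro y hy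
        rw [Set.mem_singleton_iff] at hy
        subst hy
        exact hE.comm y hxE e he
      · intro e he
        rw [Subgroup.mem_centralizer_iff]
        intro y hy
        rw [Set.mem_singleton_iff] at hy
        subst hy
        exact hE'good.comm y hxE' e he
    have h2 : a0 ∈ Subgroup.centralizer ({x} : Set P) := by
      apply h1
      rw [hEE'Q]
      exact le_sup_left (b := E) ha0A
    have h3 := (Subgroup.mem_centralizer_iff.mp h2) x (Set.mem_singleton x)
    exact mem_inf_of_commute hP hA hE ha0A ha0E hxE h3.symm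
  have := Subgroup.card_le_of_le hIle
  rw [hcI, hcH] at this
  have h23 : p ^ 2 < p ^ 3 := Nat.pow_lt_pow_right hpp.one_lt (by norm_num)
  omega


/-- **Konvisser's theorem, rank 4.** For odd `p`, a finite `p`-group with an elementary abelian
subgroup of order `p^4` has a normal elementary abelian subgroup of order `p^4`. -/
theorem exists_normal_elemAb_four [Finite P] {p : ℕ} [Fact p.Prime] (hp2 : p ≠ 2)
    (hP : IsPGroup p P) (E : Subgroup P) (hE : Cfsg.IsElementaryAbelian p E)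
    (hE4 : Nat.card E = p ^ 4) :
    ∃ A : Subgroup P, A.Normal ∧ Cfsg.IsElementaryAbelian p A ∧ Nat.card A = p ^ 4 := by
  classical
  have hpp : p.Prime := Fact.out
  have hEcomm : ∀ x ∈ E, ∀ y ∈ E, x * y = y * x := by
    intro x hx y hy
    exact congrArg Subtype.val (hE.1.is_comm.comm ⟨x, hx⟩ ⟨y, hy⟩)
  have hEgood : Good p E := ⟨hEcomm, hE.2, hE4⟩
  -- a maximal normal elementary abelian subgroup
  let S := {B : Subgroup P // B.Normal ∧ IsMulCommutative B ∧ ∀ b ∈ B, b ^ p = 1}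
  haveI : Nonempty S := ⟨⟨⊥, inferInstance, inferInstance, by
    intro b hb
    rw [Subgroup.mem_bot] at hb
    rw [hb, one_pow]⟩⟩
  obtain ⟨⟨A, hAn, hAc, hAe⟩, hAmax⟩ := Finite.exists_max (fun B : S => Nat.card (B : Subgroup P))
  haveI := hAn
  have hmax : ∀ B : Subgroup P, B.Normal → IsMulCommutative B → (∀ b ∈ B, b ^ p ^ 1 = 1) →
      A ≤ B → B = A := by
    intro B hBn hBc hBe hAB
    have h1 := hAmax ⟨B, hBn, hBc, by simpa using hBe⟩
    exact (Subgroup.eq_of_le_of_card_ge hAB h1).symm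
  have hp1 : p ^ 1 ≠ 2 := by rwa [pow_one]
  have hAe' : ∀ a ∈ A, a ^ p ^ 1 = 1 := by simpa using hAe
  have halp : ∀ x ∈ Subgroup.centralizer (A : Set P), x ^ p = 1 → x ∈ A := by
    intro x hx hxp
    exact alperin hP hp1 hAc hAe' hmax x hx (by rwa [pow_one])
  have hAcomm : ∀ x ∈ A, ∀ y ∈ A, x * y = y * x := by
    intro x hx y hy
    exact congrArg Subtype.val (hAc.is_comm.comm ⟨x, hx⟩ ⟨y, hy⟩)
  by_cases h4 : p ^ 4 ≤ Nat.card A
  · obtain ⟨B, hBn, hBA, hBcard⟩ := exists_normal_le_card_eq hP A 4 h4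
    refine ⟨B, hBn, ⟨⟨⟨fun x y => ?_⟩⟩, fun b hb => hAe b (hBA hb)⟩, hBcard⟩
    apply Subtype.ext
    exact hAcomm x.1 (hBA x.2) y.1 (hBA y.2)
  · push Not at h4
    -- `|A| = p^3`
    have h3 : p ^ 3 ≤ Nat.card A := by
      by_contra hcon
      have hno : ∀ U : Subgroup P, U.Normal → IsMulCommutative U → (∀ a ∈ U, a ^ p = 1) →
          Nat.card U ≠ p ^ 3 := by
        intro U hUn hUc hUe hU3
        have := hAmax ⟨U, hUn, hUc, hUe⟩
        simp only at this
        omega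
      have := card_le_sq_of_no_normal_rank_three hp2 hP hno E hE.1 hE.2
      rw [hE4] at this
      have h24 : p ^ 2 < p ^ 4 := Nat.pow_lt_pow_right hpp.one_lt (by norm_num)
      omega
    have hA3 : Nat.card A = p ^ 3 := by
      obtain ⟨j, hj⟩ := IsPGroup.iff_card.mp (hP.to_subgroup A)
      rw [hj] at h3 h4 ⊢
      have hj3 : 3 ≤ j := (Nat.pow_le_pow_iff_right hpp.one_lt).mp h3
      have hj4 : j < 4 := (Nat.pow_lt_pow_iff_right hpp.one_lt).mp h4
      have : j = 3 := by omega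
      rw [this]
    have hcfg : Cfg p A := ⟨hAn, hAcomm, hAe, hA3, halp⟩
    exact ⟨E, normal_of_good hp2 hP hcfg hEgood, hE, hE4⟩

end Cfsg.Agent.Helper9.Konv
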