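import Mathlib
import Cfsg.Agent.Helper9.LBalJ
import Cfsg.Prelude.Def_Balance

set_option autoImplicit false
set_option linter.style.haveILetI false
set_option linter.unusedSectionVars false
set_option maxHeartbeats 1600000

/-! # 2-components of double centralizers modulo the core (towards S1775) -/

namespace Cfsg.Agent.Helper9.LBal

open Subgroup Cfsg
open Cfsg.Agent.Helper7 (pGen coreOf pLayerPre compKernel)
open Cfsg.Agent.Helper1 (SubnIn)
open Cfsg.Agent.Helper19 (pPrimeCore_coprime)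
open scoped commutatorElement

universe u

variable {G : Type u} [Group G] [Finite G]

/-- `IsPComponentOf` restricts to an intermediate ambient subgroup. -/
theorem IsPComponentOf.subgroupOf {p : ℕ} [Fact p.Prime] {K H Y : Subgroup G}
    (hK : IsPComponentOf p K H) (hHY : H ≤ Y) :
    IsPComponentOf p (K.subgroupOf Y) (H.subgroupOf Y) := by
  have hKY : K ≤ Y := hK.1.trans hHY
  rw [isPComponentOf_iff] at hK ⊢
  exact ⟨SubnIn.subgroupOf hK.1 hHY, hK.2.of_equiv (subgroupOfEquivOfLe hKY).symm⟩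

/-- The image of a `p`-component under a homomorphism whose kernel is a `p'`-group. -/
theorem IsPComponentOf.map_of_ker_coprime {p : ℕ} [Fact p.Prime] {Q : Type u} [Group Q] [Finite Q]
    {K H : Subgroup G} (hK : IsPComponentOf p K H) (f : G →* Q)
    (hker : (Nat.card f.ker).Coprime p) : IsPComponentOf p (K.map f) (H.map f) := by
  have hdvd : p ∣ Nat.card ↥K := by
    have := Cfsg.Agent.Helper7.IsPComponent.dvd_card hK.2
    rwa [Nat.card_congr (subgroupOfEquivOfLe hK.1).toEquiv] at this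
  rw [isPComponentOf_iff] at hK ⊢
  have hne : K.map f ≠ ⊥ := by
    intro h
    rw [Subgroup.map_eq_bot_iff] at h
    have h2 : Nat.card ↥K ∣ Nat.card ↥f.ker := card_dvd_of_le h
    have h3 := Nat.Coprime.coprime_dvd_left h2 hker
    exact (Nat.Prime.coprime_iff_not_dvd (Fact.out)).1 (Nat.coprime_comm.1 h3) hdvd
  haveI : Nontrivial ↥(K.map f) := (Subgroup.nontrivial_iff_ne_bot _).2 hne
  exact ⟨SubnIn.map hK.1 f, hK.2.of_surjective (f.subgroupMap K) (f.subgroupMap_surjective K)⟩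

/-- A component centralises every subgroup of `p'`-order that it normalises
(when the component has order divisible by `p`). -/
theorem IsComponent.commutator_eq_bot_of_coprime {p : ℕ} [Fact p.Prime] {K E : Subgroup G}
    (hK : IsComponent K) (hKp : p ∣ Nat.card ↥K) (hE : (Nat.card ↥E).Coprime p)
    (hKE : K ≤ normalizer (E : Set G)) : ⁅K, E⁆ = ⊥ := by
  obtain ⟨M, hMdef⟩ : ∃ M : Subgroup G, M = K ⊔ E := ⟨_, rfl⟩
  have hKM : K ≤ M := by rw [hMdef]; exact le_sup_left
  have hEM : E ≤ M := by rw [hMdef]; exact le_sup_right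
  have hK' : IsComponent (K.subgroupOf M) := Cfsg.Agent.Helper7.isComponent_subgroupOf hK hKM
  have hEn : (E.subgroupOf M).Normal := by
    rw [normal_subgroupOf_iff_le_normalizer hEM, hMdef]
    exact sup_le hKE le_normalizer
  rcases Cfsg.Agent.Helper7.component_le_or_commutator_eq_bot hK' hEn.isSubnormal with h | h
  · exfalso
    have h1 : K ≤ E := (Cfsg.Agent.Helper7.subgroupOf_le_subgroupOf_iff hKM).1 h
    have h2 : Nat.card ↥K ∣ Nat.card ↥E := card_dvd_of_le h1
    have h3 := Nat.Coprime.coprime_dvd_left h2 hE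
    exact (Nat.Prime.coprime_iff_not_dvd (Fact.out)).1 (Nat.coprime_comm.1 h3) hKp
  · exact (Cfsg.Agent.Helper7.commutator_subgroupOf_eq_bot_iff hKM hEM).1 h

end Cfsg.Agent.Helper9.LBal

namespace Cfsg.Agent.Helper9.LBal

open Subgroup Cfsg
open Cfsg.Agent.Helper7 (pGen coreOf pLayerPre compKernel)
open Cfsg.Agent.Helper1 (SubnIn)
open Cfsg.Agent.Helper19 (pPrimeCore_coprime)
open scoped commutatorElement

universe u

variable {G : Type u} [Group G] [Finite G]

theorem commutator_eq_bot_of_isComponent_subgroupOf {p : ℕ} [Fact p.Prime] {K E C : Subgroup G}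
    (hK : IsComponent (K.subgroupOf C)) (hKC : K ≤ C) (hEC : E ≤ C) (hKp : p ∣ Nat.card ↥K)
    (hE : (Nat.card ↥E).Coprime p) (hKE : K ≤ normalizer (E : Set G)) : ⁅K, E⁆ = ⊥ := by
  have h1 : K.subgroupOf C ≤ normalizer ((E.subgroupOf C : Subgroup ↥C) : Set ↥C) := by
    rw [← subgroupOf_normalizer_eq hEC]
    intro g hg
    exact mem_subgroupOf.2 (hKE (mem_subgroupOf.1 hg))
  have h2 : p ∣ Nat.card ↥(K.subgroupOf C) := by
    rwa [Nat.card_congr (subgroupOfEquivOfLe hKC).toEquiv]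
  have h3 : (Nat.card ↥(E.subgroupOf C)).Coprime p := by
    rwa [Nat.card_congr (subgroupOfEquivOfLe hEC).toEquiv]
  have := IsComponent.commutator_eq_bot_of_coprime hK h2 h3 h1
  exact (Cfsg.Agent.Helper7.commutator_subgroupOf_eq_bot_iff hKC hEC).1 this

/-- The image of a `2`-component of `C_Y(x)` in `Y / O(Y)` is a component of the centralizer of the
image of `x`, when `Y / O(Y)` has the B-property; it centralises the images of the odd-order
subgroups it normalises. -/
theorem component_mod_core {Y : Subgroup G} {x : G} (hx : orderOf x = 2) (hxY : x ∈ Y)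
    (hB : HasBProperty (↥Y ⧸ pPrimeCore 2 ↥Y)) {J₀ : Subgroup G}
    (hJ₀ : IsPComponentOf 2 J₀ (centralizer ({x} : Set G) ⊓ Y)) :
    IsComponent (((J₀.subgroupOf Y).map (QuotientGroup.mk' (pPrimeCore 2 ↥Y))).subgroupOf
      (centralizer ({(QuotientGroup.mk' (pPrimeCore 2 ↥Y)) ⟨x, hxY⟩} : Set (↥Y ⧸ pPrimeCore 2 ↥Y)))) ∧
    ∀ E : Subgroup G, E ≤ centralizer ({x} : Set G) ⊓ Y → Odd (Nat.card ↥E) →
      (∀ j ∈ J₀, ∀ e ∈ E, j * e * j⁻¹ ∈ E) →
        ⁅J₀, E⁆ ≤ (pPrimeCore 2 ↥Y).map Y.subtype := by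
  haveI : Fact (Nat.Prime 2) := ⟨Nat.prime_two⟩
  obtain ⟨π, hπ⟩ : ∃ π : ↥Y →* ↥Y ⧸ pPrimeCore 2 ↥Y, π = QuotientGroup.mk' (pPrimeCore 2 ↥Y) :=
    ⟨_, rfl⟩
  rw [← hπ]
  have hπker : π.ker = pPrimeCore 2 ↥Y := hπ ▸ QuotientGroup.ker_mk' _
  obtain ⟨x', hx'def⟩ : ∃ x' : ↥Y, x' = ⟨x, hxY⟩ := ⟨_, rfl⟩
  rw [← hx'def]
  have hx'x : (x' : G) = x := by rw [hx'def]
  have hx' : orderOf x' = 2 := by rw [← hx, ← hx'x]; exact (Subgroup.orderOf_coe x').symm
  have hxbar : orderOf (π x') = 2 := by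
    apply orderOf_eq_prime
    · have h0 : x' ^ 2 = 1 := by
        have := pow_orderOf_eq_one x'
        rwa [hx'] at this
      rw [← map_pow, h0, map_one]
    · intro h
      have h1 : x' ∈ pPrimeCore 2 ↥Y := by rw [← hπker]; exact h
      have h2 := Cfsg.Agent.Helper7.orderOf_coprime_of_mem_pPrimeCore 2 h1
      rw [hx'] at h2
      norm_num at h2
  -- the centralizer of `x'` in `Y`
  have hCeq : (centralizer ({x} : Set G) ⊓ Y).subgroupOf Y = centralizer ({x'} : Set ↥Y) := by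
    ext g
    rw [mem_subgroupOf, mem_inf, mem_centralizer_singleton_iff, mem_centralizer_singleton_iff]
    constructor
    · rintro ⟨h, -⟩
      apply Subtype.ext
      rw [Subgroup.coe_mul, Subgroup.coe_mul, hx'x]; exact h
    · intro h
      have := congrArg Subtype.val h
      rw [Subgroup.coe_mul, Subgroup.coe_mul, hx'x] at this
      exact ⟨this, g.2⟩
  have hJ₁ : IsPComponentOf 2 (J₀.subgroupOf Y) (centralizer ({x'} : Set ↥Y)) := by
    have := IsPComponentOf.subgroupOf hJ₀ (inf_le_right : centralizer ({x} : Set G) ⊓ Y ≤ Y)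
    rwa [hCeq] at this
  have hker : (Nat.card ↥π.ker).Coprime 2 := by rw [hπker]; exact pPrimeCore_coprime 2
  have hJbar := IsPComponentOf.map_of_ker_coprime hJ₁ π hker
  have hCbar : (centralizer ({x'} : Set ↥Y)).map π = centralizer ({π x'} : Set (↥Y ⧸ pPrimeCore 2 ↥Y)) := by
    have h1 := Cfsg.Agent.Helper7.normalizer_map_mk_eq (pPrimeCore_coprime (G := ↥Y) 2)
      (isPGroup_zpowers_two hx')
    rw [← hπ, MonoidHom.map_zpowers, normalizer_zpowers_eq hxbar, normalizer_zpowers_eq hx'] at h1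
    exact h1.symm
  rw [hCbar] at hJbar
  have hK := hJbar.2
  -- the B-property
  have hObot : pPrimeCore 2 (↥Y ⧸ pPrimeCore 2 ↥Y) = ⊥ :=
    Cfsg.Agent.Helper7.pPrimeCore_quotient_eq_bot 2
  have hBx := hB (π x') hxbar
  unfold oddCore at hBx
  rw [hObot, le_bot_iff, Subgroup.map_eq_bot_iff_of_injective _ (Subgroup.subtype_injective _)] at hBx
  have hq : IsQuasisimple ↥(((J₀.subgroupOf Y).map π).subgroupOf
      (centralizer ({π x'} : Set (↥Y ⧸ pPrimeCore 2 ↥Y)))) := by
    rw [Cfsg.Agent.Helper7.IsPComponent.isQuasisimple_iff hK,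
      Cfsg.Agent.Helper7.map_subtype_pPrimeCore hK.1, eq_bot_iff, ← hBx]
    exact commutator_mono (Cfsg.Agent.Helper7.IsPComponent.le_pLayer hK) inf_le_left
  refine ⟨⟨hK.1, hq⟩, ?_⟩
  intro E hE hEodd hJE
  have hEY : E ≤ Y := hE.trans inf_le_right
  have hJY : J₀ ≤ Y := hJ₀.1.trans inf_le_right
  have hE₁ : E.subgroupOf Y ≤ centralizer ({x'} : Set ↥Y) := by
    rw [← hCeq]
    intro g hg
    exact mem_subgroupOf.2 (hE (mem_subgroupOf.1 hg))
  have hEbar : (E.subgroupOf Y).map π ≤ centralizer ({π x'} : Set (↥Y ⧸ pPrimeCore 2 ↥Y)) := by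
    rw [← hCbar]; exact map_mono hE₁
  have hKp : 2 ∣ Nat.card ↥((J₀.subgroupOf Y).map π) := by
    have := Cfsg.Agent.Helper7.IsPComponent.dvd_card hK
    rwa [Nat.card_congr (subgroupOfEquivOfLe hJbar.1).toEquiv] at this
  have hEc : (Nat.card ↥((E.subgroupOf Y).map π)).Coprime 2 := by
    have h1 : Nat.card ↥((E.subgroupOf Y).map π) ∣ Nat.card ↥E := by
      have := card_map_dvd (E.subgroupOf Y) π
      rwa [Nat.card_congr (subgroupOfEquivOfLe hEY).toEquiv] at this
    exact Nat.Coprime.coprime_dvd_left h1 (Nat.coprime_two_right.2 hEodd)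
  have hnorm : (J₀.subgroupOf Y).map π ≤
      normalizer (((E.subgroupOf Y).map π : Subgroup (↥Y ⧸ pPrimeCore 2 ↥Y)) : Set _) := by
    apply Cfsg.Agent.Helper14.le_normalizer_of_map_cj_le
    rintro _ ⟨j, hj, rfl⟩ _ ⟨_, ⟨e, he, rfl⟩, rfl⟩
    rw [Cfsg.Agent.Helper14.cj_apply, ← map_inv, ← map_mul, ← map_mul]
    apply mem_map_of_mem
    rw [mem_subgroupOf]
    simp only [Subgroup.coe_mul, Subgroup.coe_inv]
    exact hJE _ (mem_subgroupOf.1 hj) _ (mem_subgroupOf.1 he)
  have hcomm := commutator_eq_bot_of_isComponent_subgroupOf (p := 2) ⟨hK.1, hq⟩ hJbar.1 hEbar hKp hEc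
    hnorm
  rw [← map_commutator, Subgroup.map_eq_bot_iff, hπker] at hcomm
  have := Subgroup.map_mono (f := Y.subtype) hcomm
  rwa [map_commutator, Glaub.map_subtype_subgroupOf_of_le hJY,
    Glaub.map_subtype_subgroupOf_of_le hEY] at this

end Cfsg.Agent.Helper9.LBal
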