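import Cfsg.Agent.Helper9.LieGrBasic

/-!
# From vanishing of the homogeneous lower central family to vanishing of left-normed products
-/

namespace Cfsg.Agent.Helper9.LieGr

variable {L : Type*} [LieRing L] {n : ℕ}

theorem lnProd_singleton (x : L) : lnProd [x] = x := rfl

theorem lnProd_cons_append_singleton (x : L) (l : List L) (y : L) :
    lnProd (x :: (l ++ [y])) = ⁅lnProd (x :: l), y⁆ := by
  simp [lnProd, List.foldl_append]

/-- the bracket of the spans: `⁅⨆ lcf N w, ⨆ N⁆ ⊆ ⨆ lcf N (w+1)`. -/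
theorem lie_mem_iSup_lcf_succ (N : ZMod n → AddSubgroup L) (w : ℕ) {u y : L}
    (hu : u ∈ ⨆ k, lcf N w k) (hy : y ∈ ⨆ j, N j) : ⁅u, y⁆ ∈ ⨆ k, lcf N (w + 1) k := by
  refine AddSubgroup.iSup_induction (fun k => lcf N w k) (C := fun u => ⁅u, y⁆ ∈ ⨆ k, lcf N (w + 1) k)
    hu ?_ ?_ ?_
  · intro i u hu
    refine AddSubgroup.iSup_induction N (C := fun y => ⁅u, y⁆ ∈ ⨆ k, lcf N (w + 1) k) hy ?_ ?_ ?_
    · intro j y hy
      exact (le_iSup (fun k => lcf N (w + 1) k) (i + j)) (lie_mem_lcf_succ hu hy)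
    · show ⁅u, (0 : L)⁆ ∈ _
      rw [lie_zero]; exact zero_mem _
    · intro y y' h h'
      show ⁅u, y + y'⁆ ∈ _
      rw [lie_add]; exact add_mem h h'
  · show ⁅(0 : L), y⁆ ∈ _
    rw [zero_lie]; exact zero_mem _
  · intro u u' h h'
    show ⁅u + u', y⁆ ∈ _
    rw [add_lie]; exact add_mem h h'

theorem lnProd_mem_iSup_lcf (N : ZMod n → AddSubgroup L) (hsup : ⨆ i, N i = ⊤) (l : List L) :
    ∀ x : L, lnProd (x :: l) ∈ ⨆ k, lcf N l.length k := by
  induction l using List.reverseRecOn with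
  | nil =>
    intro x
    rw [lnProd_singleton]
    show x ∈ ⨆ k, N k
    rw [hsup]; exact AddSubgroup.mem_top x
  | append_singleton l y ih =>
    intro x
    rw [lnProd_cons_append_singleton, List.length_append, List.length_singleton]
    exact lie_mem_iSup_lcf_succ N _ (ih x) (by rw [hsup]; exact AddSubgroup.mem_top y)

/-- (FIN) if all homogeneous components of `γ_{c+1}` vanish and the `N i` span, then all
left-normed products of length `c + 1` vanish. -/
theorem lnProd_eq_zero_of_lcf (N : ZMod n → AddSubgroup L)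
    (hsup : ⨆ i, N i = ⊤) (c : ℕ) (h : ∀ k, lcf N c k = ⊥)
    (l : List L) (hl : l.length = c + 1) : lnProd l = 0 := by
  match l, hl with
  | x :: l, hl =>
    have hlen : l.length = c := by simpa using hl
    have h1 := lnProd_mem_iSup_lcf N hsup l x
    rw [hlen] at h1
    have h2 : (⨆ k, lcf N c k) = ⊥ := by
      rw [eq_bot_iff]; exact iSup_le fun k => by rw [h k]
    rw [h2] at h1
    exact (AddSubgroup.mem_bot).mp h1

end Cfsg.Agent.Helper9.LieGr
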