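import Cfsg.Agent.Helper9.LieGrMain

/-!
# Non-spanning versions of `lnProd_eq_zero_of_lcf` and `graded_main`
The entries of the list are only assumed to lie in the span `⨆ k, N k` of the grading.
-/

namespace Cfsg.Agent.Helper9.LieGr

variable {L : Type*} [LieRing L] {n : ℕ}

theorem lnProd_mem_iSup_lcf' (N : ZMod n → AddSubgroup L) (l : List L) :
    ∀ x : L, x ∈ ⨆ k, N k → (∀ y ∈ l, y ∈ ⨆ k, N k) →
      lnProd (x :: l) ∈ ⨆ k, lcf N l.length k := by
  induction l using List.reverseRecOn with
  | nil =>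
    intro x hx _
    rw [lnProd_singleton]
    exact hx
  | append_singleton l y ih =>
    intro x hx hl
    rw [lnProd_cons_append_singleton, List.length_append, List.length_singleton]
    refine lie_mem_iSup_lcf_succ N _ (ih x hx fun z hz => hl z ?_) (hl y ?_)
    · exact List.mem_append_left _ hz
    · exact List.mem_append_right _ (List.mem_singleton_self y)

theorem lnProd_eq_zero_of_lcf' (N : ZMod n → AddSubgroup L) (c : ℕ) (h : ∀ k, lcf N c k = ⊥)
    (l : List L) (hl : l.length = c + 1) (hmem : ∀ y ∈ l, y ∈ ⨆ k, N k) : lnProd l = 0 := by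
  match l, hl, hmem with
  | x :: l, hl, hmem =>
    have hlen : l.length = c := by simpa using hl
    have h1 := lnProd_mem_iSup_lcf' N l x (hmem x List.mem_cons_self)
      (fun y hy => hmem y (List.mem_cons_of_mem _ hy))
    rw [hlen] at h1
    have h2 : (⨆ k, lcf N c k) = ⊥ := by
      rw [eq_bot_iff]; exact iSup_le fun k => by rw [h k]
    rw [h2] at h1
    exact (AddSubgroup.mem_bot).mp h1

/-- the graded Higman–Kreknin–Kostrikin theorem, without assuming that the grading spans. -/
theorem graded_main' {p : ℕ} [Fact p.Prime] (N : ZMod p → AddSubgroup L)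
    (hN : IsGrading N) (l : List L) (hl : l.length = xi p (2 ^ (p - 1) - 1) + 1)
    (hmem : ∀ y ∈ l, y ∈ ⨆ k, N k) : lnProd l = 0 := by
  apply lnProd_eq_zero_of_lcf' N _ _ l hl hmem
  intro k
  have h1 := Cfsg.Agent.Helper8.KrekKost.kk N hN (2 ^ (p - 1) - 1) k
  have : NeZero p := ⟨(Fact.out : p.Prime).ne_zero⟩
  rw [kreknin N hN k] at h1
  exact le_bot_iff.mp h1

end Cfsg.Agent.Helper9.LieGr
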