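import Cfsg.Agent.Helper9.LieGrBasic
import Cfsg.Agent.Helper20.Kreknin

/-!
# Kreknin's theorem for `der` (bridge to `Cfsg.Agent.Helper20.Kreknin`)
-/

namespace Cfsg.Agent.Helper9.LieGr

open Cfsg.Agent.Helper20

variable {L : Type*} [LieRing L] {n : ℕ}

theorem brk_self_eq_dfam (M : ZMod n → AddSubgroup L) : brk M M = Kreknin.dfam M := by
  funext k
  apply le_antisymm
  · unfold brk
    rw [AddSubgroup.closure_le]
    rintro z ⟨i, j, hij, x, hx, y, hy, rfl⟩
    have hj : j = k - i := by rw [← hij]; ring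
    subst hj
    exact Kreknin.mem_dfam hx hy |> fun h => by simpa using h
  · unfold Kreknin.dfam
    refine iSup_le fun i => Kreknin.br_le fun a ha b hb => ?_
    exact AddSubgroup.subset_closure ⟨i, k - i, by ring, a, ha, b, hb, rfl⟩

theorem der_eq_dser (N : ZMod n → AddSubgroup L) (m : ℕ) : der N m = Kreknin.dser N m := by
  induction m with
  | zero => rfl
  | succ m ih =>
    rw [Kreknin.dser_succ, ← ih]
    exact brk_self_eq_dfam _

/-- **Kreknin's theorem** in terms of `der`. -/
theorem kreknin [NeZero n] (N : ZMod n → AddSubgroup L) (hN : IsGrading N) (k : ZMod n) :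
    der N (2 ^ (n - 1) - 1) k = ⊥ := by
  rw [der_eq_dser]
  exact Kreknin.kreknin N ⟨hN.lie_mem, hN.zero⟩ k

end Cfsg.Agent.Helper9.LieGr
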