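import Cfsg.Agent.Helper9.LieGrFin

/-!
# The cases `p = 2` (abelian) and `p = 3` (class ≤ 2) of Higman's theorem, graded form
-/

namespace Cfsg.Agent.Helper9.LieGr

variable {L : Type*} [LieRing L] {n : ℕ} {N : ZMod n → AddSubgroup L}

theorem eq_zero_of_mem_zero (hN : IsGrading N) {x : L} (hx : x ∈ N 0) : x = 0 := by
  rw [hN.zero] at hx; exact AddSubgroup.mem_bot.mp hx

theorem lie_eq_zero_of_add_eq_zero (hN : IsGrading N) {i j : ZMod n} {x y : L} (hx : x ∈ N i)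
    (hy : y ∈ N j) (h : i + j = 0) : ⁅x, y⁆ = 0 :=
  eq_zero_of_mem_zero hN (h ▸ hN.lie_mem i j x hx y hy)

theorem lcf_one_eq_bot_two {N : ZMod 2 → AddSubgroup L} (hN : IsGrading N) (k : ZMod 2) :
    lcf N 1 k = ⊥ := by
  rw [eq_bot_iff]
  show brk N N k ≤ ⊥
  refine brk_le ?_
  intro i j _ x hx y hy
  rw [AddSubgroup.mem_bot]
  have h : ∀ i j : ZMod 2, i = 0 ∨ j = 0 ∨ i + j = 0 := by decide
  rcases h i j with h | h | h
  · subst h; rw [eq_zero_of_mem_zero hN hx, zero_lie]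
  · subst h; rw [eq_zero_of_mem_zero hN hy, lie_zero]
  · exact lie_eq_zero_of_add_eq_zero hN hx hy h

theorem lcf_two_eq_bot_three {N : ZMod 3 → AddSubgroup L} (hN : IsGrading N) (k : ZMod 3) :
    lcf N 2 k = ⊥ := by
  rw [eq_bot_iff]
  show brk (brk N N) N k ≤ ⊥
  refine brk_le ?_
  intro i j _ u hu z hz
  rw [AddSubgroup.mem_bot]
  refine brk_induction (P := fun u => ⁅u, z⁆ = 0) ?_ ?_ ?_ ?_ u hu
  · exact zero_lie z
  · intro u v hu hv; rw [add_lie, hu, hv, add_zero]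
  · intro u hu; rw [neg_lie, hu, neg_zero]
  · intro a b hab x hx y hy
    have h : ∀ a b j : ZMod 3, a = 0 ∨ b = 0 ∨ j = 0 ∨ a + b = 0 ∨ a + b + j = 0 ∨
        (a + j = 0 ∧ b + j = 0) := by decide
    rcases h a b j with h | h | h | h | h | ⟨h, h'⟩
    · subst h; rw [eq_zero_of_mem_zero hN hx, zero_lie, zero_lie]
    · subst h; rw [eq_zero_of_mem_zero hN hy, lie_zero, zero_lie]
    · subst h; rw [eq_zero_of_mem_zero hN hz, lie_zero]
    · rw [lie_eq_zero_of_add_eq_zero hN hx hy h, zero_lie]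
    · exact lie_eq_zero_of_add_eq_zero hN (hN.lie_mem a b x hx y hy) hz h
    · rw [jacobi_right, lie_eq_zero_of_add_eq_zero hN hx hz h,
        lie_eq_zero_of_add_eq_zero hN hy hz h', zero_lie, lie_zero, add_zero]

/-- graded form of "fixed-point-free involution ⇒ abelian". -/
theorem graded_two {N : ZMod 2 → AddSubgroup L} (hN : IsGrading N) (hsup : ⨆ i, N i = ⊤)
    (l : List L) (hl : l.length = 1 + 1) : lnProd l = 0 :=
  lnProd_eq_zero_of_lcf N hsup 1 (lcf_one_eq_bot_two hN) l hl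

/-- graded form of "fixed-point-free automorphism of order 3 ⇒ class ≤ 2". -/
theorem graded_three {N : ZMod 3 → AddSubgroup L} (hN : IsGrading N) (hsup : ⨆ i, N i = ⊤)
    (l : List L) (hl : l.length = 2 + 1) : lnProd l = 0 :=
  lnProd_eq_zero_of_lcf N hsup 2 (lcf_two_eq_bot_three hN) l hl

end Cfsg.Agent.Helper9.LieGr
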