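import Cfsg.Agent.Helper9.LieGrK
import Cfsg.Agent.Helper9.LieGrSmall
import Cfsg.Agent.Helper8.KrekKost

/-!
# The graded Higman–Kreknin–Kostrikin theorem
A Lie ring spanned by a `(ℤ/p)`-grading with trivial zero component is nilpotent of class at most
`ξ = xi p (2^(p-1)-1)`: all left-normed products of length `ξ + 1` vanish.
-/

namespace Cfsg.Agent.Helper9.LieGr

/-- the general graded statement (Kreknin + Kreknin–Kostrikin). -/
theorem graded_main {L : Type*} [LieRing L] {p : ℕ} [Fact p.Prime] (N : ZMod p → AddSubgroup L)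
    (hN : IsGrading N) (hsup : ⨆ i, N i = ⊤) (l : List L)
    (hl : l.length = xi p (2 ^ (p - 1) - 1) + 1) : lnProd l = 0 := by
  apply lnProd_eq_zero_of_lcf N hsup _ _ l hl
  intro k
  have h1 := Cfsg.Agent.Helper8.KrekKost.kk N hN (2 ^ (p - 1) - 1) k
  have : NeZero p := ⟨(Fact.out : p.Prime).ne_zero⟩
  rw [kreknin N hN k] at h1
  exact le_bot_iff.mp h1

end Cfsg.Agent.Helper9.LieGr
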