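import Mathlib

set_option autoImplicit false
set_option linter.unusedSectionVars false
set_option linter.unusedVariables false

/-! # 2-groups with exactly three involutions, all central, and `P/Z` elementary abelian:
the order is less than `2^8`. -/

namespace Cfsg.Agent.Helper9.RankTwoFpf

open Subgroup
open scoped commutatorElement

variable {X : Type*} [Group X] [Finite X]

/-- `(y w)^2 = [w,y] y^2 w^2` when `[w,y]` commutes with `y`. -/
theorem mul_sq_of_comm {y w : X} (h : Commute ⁅w, y⁆ y) : (y * w) ^ 2 = ⁅w, y⁆ * y ^ 2 * w ^ 2 := by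
  have h1 : w * y = ⁅w, y⁆ * y * w := by rw [commutatorElement_def]; group
  calc (y * w) ^ 2 = y * (w * y) * w := by rw [pow_two]; group
    _ = y * (⁅w, y⁆ * y * w) * w := by rw [h1]
    _ = (y * ⁅w, y⁆) * y * w * w := by group
    _ = (⁅w, y⁆ * y) * y * w * w := by rw [h.eq]
    _ = ⁅w, y⁆ * y ^ 2 * w ^ 2 := by rw [pow_two, pow_two]; group

/-- a subgroup of order `4` containing two distinct nonidentity elements `s`, `t` with `s^2 = 1`
is `{1, s, t, st}`. -/
theorem four_group_elems (Z : Subgroup X) (hZ4 : Nat.card Z = 4) {s t : X} (hsZ : s ∈ Z)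
    (htZ : t ∈ Z) (hs1 : s ≠ 1) (ht1 : t ≠ 1) (hts : t ≠ s) (hss : s * s = 1) :
    ∀ z ∈ Z, z = 1 ∨ z = s ∨ z = t ∨ z = s * t := by
  have hsub : ({1, s, t, s * t} : Set X) ⊆ (Z : Set X) := by
    intro z hz
    simp only [Set.mem_insert_iff, Set.mem_singleton_iff] at hz
    rcases hz with rfl | rfl | rfl | rfl
    · exact one_mem _
    · exact hsZ
    · exact htZ
    · exact mul_mem hsZ htZ
  have hcard : ({1, s, t, s * t} : Set X).ncard = 4 := by
    have hst1 : s * t ≠ 1 := by
      intro h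
      apply hts
      calc t = s * (s * t) := by rw [← mul_assoc, hss, one_mul]
        _ = s := by rw [h, mul_one]
    have hsts : s * t ≠ s := by
      intro h; apply ht1; exact mul_eq_left.1 h
    have hstt : s * t ≠ t := by
      intro h; apply hs1; exact mul_eq_right.1 h
    rw [Set.ncard_insert_of_notMem, Set.ncard_insert_of_notMem,
      Set.ncard_insert_of_notMem, Set.ncard_singleton]
    · simp only [Set.mem_singleton_iff]; exact fun h => hstt h.symm
    · simp only [Set.mem_insert_iff, Set.mem_singleton_iff, not_or]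
      exact ⟨fun h => hts h.symm, fun h => hsts h.symm⟩
    · simp only [Set.mem_insert_iff, Set.mem_singleton_iff, not_or]
      exact ⟨fun h => hs1 h.symm, fun h => ht1 h.symm, fun h => hst1 h.symm⟩
  have heq : ({1, s, t, s * t} : Set X) = (Z : Set X) := by
    apply Set.eq_of_subset_of_ncard_le hsub _ (Set.toFinite _)
    rw [hcard, ← Nat.card_coe_set_eq, ← hZ4]
    rfl
  intro z hz
  have : z ∈ ({1, s, t, s * t} : Set X) := by rw [heq]; exact hz
  simpa only [Set.mem_insert_iff, Set.mem_singleton_iff] using this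

section
variable (P Z : Subgroup X) (hZP : Z ≤ P) (hZc : ∀ z ∈ Z, ∀ x ∈ P, z * x = x * z)
  (hZ4 : Nat.card Z = 4) (hZ2 : ∀ z ∈ Z, z ^ 2 = 1) (hinv : ∀ x ∈ P, x ^ 2 = 1 → x ∈ Z)
  (hcomm : ∀ x ∈ P, ∀ y ∈ P, ⁅x, y⁆ ∈ Z)

include hZP hZc hcomm in
/-- the commutator homomorphism `y ↦ [a, y]` from `H ≤ P` to `Z`. -/
theorem exists_commHom (H : Subgroup X) (hHP : H ≤ P) (a : X) (ha : a ∈ P) :
    ∃ f : ↥H →* ↥Z, ∀ y : ↥H, ((f y : ↥Z) : X) = ⁅a, (y : X)⁆ := by
  refine ⟨{ toFun := fun y => ⟨⁅a, (y : X)⁆, hcomm a ha y (hHP y.2)⟩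
            map_one' := by apply Subtype.ext; simp
            map_mul' := ?_ }, fun y => rfl⟩
  intro y y'
  apply Subtype.ext
  change ⁅a, (y : X) * (y' : X)⁆ = ⁅a, (y : X)⁆ * ⁅a, (y' : X)⁆
  have hc : ⁅a, (y' : X)⁆ * (y : X)⁻¹ = (y : X)⁻¹ * ⁅a, (y' : X)⁆ :=
    hZc _ (hcomm a ha y' (hHP y'.2)) _ (inv_mem (hHP y.2))
  calc ⁅a, (y : X) * (y' : X)⁆ = a * y * a⁻¹ * (⁅a, (y' : X)⁆ * (y : X)⁻¹) := by
        rw [commutatorElement_def, commutatorElement_def]; group
    _ = a * y * a⁻¹ * ((y : X)⁻¹ * ⁅a, (y' : X)⁆) := by rw [hc]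
    _ = ⁅a, (y : X)⁆ * ⁅a, (y' : X)⁆ := by
        rw [commutatorElement_def, commutatorElement_def]; group

include hZP hZc hZ4 hcomm in
theorem card_le_four_mul (H : Subgroup X) (hHP : H ≤ P) (a : X) (ha : a ∈ P) :
    Nat.card H ≤ 4 * Nat.card (H ⊓ centralizer {a} : Subgroup X) ∧
    (4 * Nat.card (H ⊓ centralizer {a} : Subgroup X) ≤ Nat.card H →
      ∀ u ∈ Z, ∃ y ∈ H, ⁅a, y⁆ = u) := by
  obtain ⟨f, hf⟩ := exists_commHom P Z hZP hZc hcomm H hHP a ha
  have hker : f.ker = (H ⊓ centralizer {a}).subgroupOf H := by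
    ext y
    rw [MonoidHom.mem_ker, mem_subgroupOf, mem_inf, mem_centralizer_singleton_iff]
    constructor
    · intro h
      refine ⟨y.2, ?_⟩
      have h1 : ⁅a, (y : X)⁆ = 1 := by rw [← hf y, h]; rfl
      rw [commutatorElement_eq_one_iff_mul_comm] at h1
      exact h1.symm
    · rintro ⟨_, h⟩
      apply Subtype.ext
      rw [hf y]
      change ⁅a, (y : X)⁆ = 1
      rw [commutatorElement_eq_one_iff_mul_comm]
      exact h.symm
  have hcardker : Nat.card f.ker = Nat.card (H ⊓ centralizer {a} : Subgroup X) := by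
    rw [hker]
    exact Nat.card_congr (Subgroup.subgroupOfEquivOfLe inf_le_left).toEquiv
  have h1 : Nat.card f.ker * Nat.card f.range = Nat.card H := by
    rw [← Subgroup.index_ker]; exact Subgroup.card_mul_index _
  have h2 : Nat.card f.range ≤ 4 := by
    rw [← hZ4]; exact Subgroup.card_le_card_group _
  have hpos : 0 < Nat.card f.ker := Nat.card_pos
  constructor
  · rw [← h1, ← hcardker]; nlinarith
  · intro h u hu
    rw [← h1, ← hcardker] at h
    have h3 : 4 ≤ Nat.card f.range := by nlinarith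
    have h4 : f.range = ⊤ := by
      apply Subgroup.eq_top_of_le_card
      rw [hZ4]; exact h3
    have h5 : (⟨u, hu⟩ : Z) ∈ f.range := by rw [h4]; trivial
    obtain ⟨y, hy⟩ := h5
    refine ⟨y, y.2, ?_⟩
    rw [← hf y, hy]

include hZP hZc hZ4 hZ2 hinv hcomm in
theorem card_lt (hsq : ∀ x ∈ P, x ^ 2 ∈ Z) : Nat.card P < 256 := by
  by_contra hge
  push Not at hge
  have hcardset : ∀ H : Subgroup X, Nat.card H = (H : Set X).ncard := fun H =>
    Nat.card_coe_set_eq (H : Set X)
  -- (i) pick `a ∈ P \ Z`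
  obtain ⟨a, haP, haZ⟩ : ∃ a ∈ P, a ∉ Z := by
    by_contra h
    push Not at h
    have h1 : P ≤ Z := h
    have h2 := Subgroup.card_le_of_le h1
    omega
  obtain ⟨s, hs⟩ : ∃ s, s = a ^ 2 := ⟨_, rfl⟩
  have hsZ : s ∈ Z := hs ▸ hsq a haP
  have hs1 : s ≠ 1 := fun h => haZ (hinv a haP (hs ▸ h))
  have hss : s * s = 1 := by rw [← pow_two]; exact hZ2 s hsZ
  have h1 := (card_le_four_mul P Z hZP hZc hZ4 hcomm P le_rfl a haP).1
  have hC1card : 64 ≤ Nat.card (P ⊓ centralizer {a} : Subgroup X) := by omega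
  have hC1P : (P ⊓ centralizer {a} : Subgroup X) ≤ P := inf_le_left
  have hC1a : ∀ y ∈ (P ⊓ centralizer {a} : Subgroup X), Commute a y := fun y hy =>
    (mem_centralizer_singleton_iff.1 (mem_inf.1 hy).2).symm
  -- a general fact: commuting elements with equal squares differ by an element of `Z`
  have hkey : ∀ w ∈ P, ∀ y ∈ P, Commute w y → y ^ 2 = w ^ 2 → w⁻¹ * y ∈ Z := by
    intro w hw y hy hwy h
    apply hinv _ (mul_mem (inv_mem hw) hy)
    rw [(hwy.inv_left).mul_pow, h, inv_pow, inv_mul_cancel]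
  -- (iii) pick `b`
  obtain ⟨b, hbC1, hb1, hbs⟩ : ∃ b ∈ (P ⊓ centralizer {a} : Subgroup X), b ^ 2 ≠ 1 ∧ b ^ 2 ≠ s := by
    by_contra h
    push Not at h
    have hsub : ((P ⊓ centralizer {a} : Subgroup X) : Set X) ⊆
        (Z : Set X) ∪ (fun z => a * z) '' (Z : Set X) := by
      intro b hb
      by_cases hb1 : b ^ 2 = 1
      · left; exact hinv b (hC1P hb) hb1
      · right
        have hbs := h b hb hb1
        exact ⟨a⁻¹ * b, hkey a haP b (hC1P hb) (hC1a b hb) (hbs.trans hs), by group⟩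
    have h2 : ((P ⊓ centralizer {a} : Subgroup X) : Set X).ncard ≤ 4 + 4 := by
      refine (Set.ncard_le_ncard hsub (Set.toFinite _)).trans ((Set.ncard_union_le _ _).trans ?_)
      have h3 : ((fun z => a * z) '' (Z : Set X)).ncard ≤ (Z : Set X).ncard :=
        Set.ncard_image_le (Set.toFinite _)
      rw [← hcardset Z, hZ4] at h3 ⊢
      omega
    rw [← hcardset] at h2
    omega
  obtain ⟨t, ht⟩ : ∃ t, t = b ^ 2 := ⟨_, rfl⟩
  have hbP : b ∈ P := hC1P hbC1
  have htZ : t ∈ Z := ht ▸ hsq b hbP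
  have ht1 : t ≠ 1 := ht ▸ hb1
  have hts : t ≠ s := ht ▸ hbs
  have htt : t * t = 1 := by rw [← pow_two]; exact hZ2 t htZ
  have hab : Commute a b := hC1a b hbC1
  have hst : s * t = t * s := hZc s hsZ t (hZP htZ)
  -- `Z = {1, s, t, s * t}`
  have hZeq : ∀ z ∈ Z, z = 1 ∨ z = s ∨ z = t ∨ z = s * t := by
    have hsub : ({1, s, t, s * t} : Set X) ⊆ (Z : Set X) := by
      intro z hz
      simp only [Set.mem_insert_iff, Set.mem_singleton_iff] at hz
      rcases hz with rfl | rfl | rfl | rfl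
      · exact one_mem _
      · exact hsZ
      · exact htZ
      · exact mul_mem hsZ htZ
    have hcard : ({1, s, t, s * t} : Set X).ncard = 4 := by
      have hst1 : s * t ≠ 1 := by
        intro h
        apply hts
        calc t = s * (s * t) := by rw [← mul_assoc, hss, one_mul]
          _ = s := by rw [h, mul_one]
      have hsts : s * t ≠ s := by
        intro h; apply ht1; exact mul_eq_left.1 h
      have hstt : s * t ≠ t := by
        intro h; apply hs1; exact mul_eq_right.1 h
      rw [Set.ncard_insert_of_notMem, Set.ncard_insert_of_notMem,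
        Set.ncard_insert_of_notMem, Set.ncard_singleton]
      · simp only [Set.mem_singleton_iff]; exact fun h => hstt h.symm
      · simp only [Set.mem_insert_iff, Set.mem_singleton_iff, not_or]
        exact ⟨fun h => hts h.symm, fun h => hsts h.symm⟩
      · simp only [Set.mem_insert_iff, Set.mem_singleton_iff, not_or]
        exact ⟨fun h => hs1 h.symm, fun h => ht1 h.symm, fun h => hst1 h.symm⟩
    have heq : ({1, s, t, s * t} : Set X) = (Z : Set X) := by
      apply Set.eq_of_subset_of_ncard_le hsub _ (Set.toFinite _)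
      rw [hcard, ← hcardset Z, hZ4]
    intro z hz
    have : z ∈ ({1, s, t, s * t} : Set X) := by rw [heq]; exact hz
    simpa only [Set.mem_insert_iff, Set.mem_singleton_iff] using this
  -- (v) `C2` is small
  have hC2P : (P ⊓ centralizer {a} ⊓ centralizer {b} : Subgroup X) ≤ P :=
    inf_le_left.trans inf_le_left
  have hC2a : ∀ y ∈ (P ⊓ centralizer {a} ⊓ centralizer {b} : Subgroup X), Commute a y := fun y hy =>
    hC1a y (mem_inf.1 hy).1
  have hC2b : ∀ y ∈ (P ⊓ centralizer {a} ⊓ centralizer {b} : Subgroup X), Commute b y := fun y hy =>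
    (mem_centralizer_singleton_iff.1 (mem_inf.1 hy).2).symm
  have habsq : (a * b) ^ 2 = s * t := by rw [hab.mul_pow, ← hs, ← ht]
  have hC2card : Nat.card (P ⊓ centralizer {a} ⊓ centralizer {b} : Subgroup X) ≤ 16 := by
    have hsub : ((P ⊓ centralizer {a} ⊓ centralizer {b} : Subgroup X) : Set X) ⊆
        ((Z : Set X) ∪ (fun z => a * z) '' (Z : Set X)) ∪
        ((fun z => b * z) '' (Z : Set X) ∪ (fun z => (a * b) * z) '' (Z : Set X)) := by
      intro y hy
      have hyP := hC2P hy
      rcases hZeq _ (hsq y hyP) with h | h | h | h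
      · left; left; exact hinv y hyP h
      · left; right
        exact ⟨a⁻¹ * y, hkey a haP y hyP (hC2a y hy) (h.trans hs), by group⟩
      · right; left
        exact ⟨b⁻¹ * y, hkey b hbP y hyP (hC2b y hy) (h.trans ht), by group⟩
      · right; right
        exact ⟨(a * b)⁻¹ * y, hkey (a * b) (mul_mem haP hbP) y hyP
          ((hC2a y hy).mul_left (hC2b y hy)) (h.trans habsq.symm), by group⟩
    have himg : ∀ w : X, ((fun z => w * z) '' (Z : Set X)).ncard ≤ 4 := by
      intro w
      have := Set.ncard_image_le (f := fun z => w * z) (Set.toFinite (Z : Set X))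
      rw [← hcardset Z, hZ4] at this
      exact this
    have hZn : (Z : Set X).ncard = 4 := by rw [← hcardset Z, hZ4]
    rw [hcardset]
    refine (Set.ncard_le_ncard hsub (Set.toFinite _)).trans ?_
    refine (Set.ncard_union_le _ _).trans ?_
    have h3 := Set.ncard_union_le (Z : Set X) ((fun z => a * z) '' (Z : Set X))
    have h4 := Set.ncard_union_le ((fun z => b * z) '' (Z : Set X))
      ((fun z => (a * b) * z) '' (Z : Set X))
    have h5 := himg a
    have h6 := himg b
    have h7 := himg (a * b)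
    omega
  -- surjectivity of `y ↦ [b, y]` on `C1`
  have h2 := (card_le_four_mul P Z hZP hZc hZ4 hcomm (P ⊓ centralizer {a}) hC1P b hbP).2
    (by omega)
  obtain ⟨y, hyC1, hy⟩ := h2 s hsZ
  have hyP : y ∈ P := hC1P hyC1
  have hay : Commute a y := hC1a y hyC1
  -- find `w` with `(y w)^2 = 1`
  have hfin : ∀ w ∈ P, Commute w b → (y * w) ^ 2 = 1 → False := by
    intro w hw hwb h
    have h3 : y * w ∈ Z := hinv _ (mul_mem hyP hw) h
    have h4 : Commute (y * w) b := hZc _ h3 b hbP
    have h5 : Commute y b := by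
      have := h4.mul_left (hwb.inv_left)
      simpa [mul_assoc] using this
    have h6 : ⁅b, y⁆ = 1 := by
      rw [commutatorElement_eq_one_iff_mul_comm]; exact h5.eq.symm
    exact hs1 (hy ▸ h6)
  have hcy : Commute ⁅b, y⁆ y := hZc _ (hcomm b hbP y hyP) y hyP
  have haby : ⁅a * b, y⁆ = s := by
    have h3 : ⁅a, y⁆ = 1 := by
      rw [commutatorElement_eq_one_iff_mul_comm]; exact hay.eq
    have h4 : ⁅a * b, y⁆ = a * ⁅b, y⁆ * a⁻¹ * ⁅a, y⁆ := by
      simp only [commutatorElement_def]; group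
    rw [h4, h3, hy, mul_one]
    have := hZc s hsZ a haP
    rw [← this, mul_inv_cancel_right]
  rcases hZeq _ (hsq y hyP) with h | h | h | h
  · exact hfin 1 (one_mem _) (Commute.one_left b) (by rw [mul_one]; exact h)
  · apply hfin a haP hab
    rw [hay.symm.mul_pow, h, ← hs, hss]
  · apply hfin (a * b) (mul_mem haP hbP) (hab.mul_left (Commute.refl b))
    have hc : Commute ⁅a * b, y⁆ y := by rw [haby]; exact hZc s hsZ y hyP
    rw [mul_sq_of_comm hc, haby, h, habsq]
    calc s * t * (s * t) = s * (t * s) * t := by group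
      _ = s * (s * t) * t := by rw [hst]
      _ = (s * s) * (t * t) := by group
      _ = 1 := by rw [hss, htt, one_mul]
  · apply hfin b hbP (Commute.refl b)
    rw [mul_sq_of_comm hcy, hy, h, ← ht]
    calc s * (s * t) * t = (s * s) * (t * t) := by group
      _ = 1 := by rw [hss, htt, one_mul]

end

end Cfsg.Agent.Helper9.RankTwoFpf
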