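import Mathlib
import Cfsg.Prelude.Def_Solvable
import Cfsg.Prelude.Def_Local
import Cfsg.Prelude.Def_Transfer
import Cfsg.Prelude.Def_CaseTheorems
import Cfsg.Agent.Helper9.PResidual
import Cfsg.Agent.Helper7.Hyperplane
import Cfsg.Agent.Helper7.HallHigmanDual
import Cfsg.Agent.Helper1.PGroup
import Cfsg.Agent.Lead.PSolvHall

set_option autoImplicit false
set_option linter.unusedSectionVars false
set_option linter.unusedVariables false

/-! # A `p`-soluble group: the subgroup generated by two conjugates of a `p`-subgroup (S3754) -/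

namespace Cfsg.Agent.Helper9.TwoConj

open Subgroup
open scoped commutatorElement

section general
variable {G : Type*} [Group G]

theorem pResidual_le_of_pow_mem {p : ℕ} (N : Subgroup G)
    (h : ∀ g : G, ∃ k : ℕ, g ^ p ^ k ∈ N) : Cfsg.pResidual p G ≤ N := by
  unfold Cfsg.pResidual
  rw [closure_le]
  intro g hg
  change Nat.Coprime (orderOf g) p at hg
  obtain ⟨k, hk⟩ := h g
  have hcop : (p ^ k).Coprime (orderOf g) := Nat.Coprime.pow_left k hg.symm
  obtain ⟨m, hm⟩ := exists_pow_eq_self_of_coprime hcop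
  rw [SetLike.mem_coe, ← hm]
  exact pow_mem hk m

theorem mul_pow_mem_of_normalizer {E : Subgroup G} {a e : G}
    (ha : a ∈ normalizer (E : Set G)) (he : e ∈ E) (n : ℕ) :
    ∃ e' ∈ E, (a * e) ^ n = a ^ n * e' := by
  induction n with
  | zero => exact ⟨1, one_mem _, by simp⟩
  | succ n ih =>
    obtain ⟨e', he', h⟩ := ih
    refine ⟨a⁻¹ * e' * a * e, ?_, ?_⟩
    · refine mul_mem ?_ he
      have := (mem_normalizer_iff.1 (inv_mem ha) e').1 he'
      simpa using this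
    · rw [pow_succ, h, pow_succ]; group

theorem mem_pRes {p : ℕ} {L : Subgroup G} {l : G} (hl : l ∈ L) (ho : (orderOf l).Coprime p) :
    l ∈ (Cfsg.pResidual p ↥L).map L.subtype := by
  refine ⟨⟨l, hl⟩, Subgroup.subset_closure ?_, rfl⟩
  change (orderOf (⟨l, hl⟩ : L)).Coprime p
  rwa [Subgroup.orderOf_mk]

theorem pRes_normalizer (p : ℕ) (L : Subgroup G) :
    L ≤ normalizer (((Cfsg.pResidual p ↥L).map L.subtype : Subgroup G) : Set G) := by
  intro l hl
  rw [mem_normalizer_iff]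
  intro d
  constructor
  · rintro ⟨d', hd', rfl⟩
    exact ⟨⟨l, hl⟩ * d' * ⟨l, hl⟩⁻¹,
      (Cfsg.Agent.Helper9.pResidual_normal p).conj_mem d' hd' ⟨l, hl⟩, rfl⟩
  · rintro ⟨d', hd', hdd⟩
    refine ⟨⟨l, hl⟩⁻¹ * d' * ⟨l, hl⟩, ?_, ?_⟩
    · have := (Cfsg.Agent.Helper9.pResidual_normal p).conj_mem d' hd' (⟨l, hl⟩⁻¹ : L)
      simpa using this
    · simp only [Subgroup.coe_subtype, Subgroup.coe_mul, Subgroup.coe_inv] at hdd ⊢
      rw [hdd]; group

end general

section setup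

variable {M : Type*} [Group M] [Finite M] {p : ℕ} [hp : Fact p.Prime]
  {Q : Subgroup M} [hQn : Q.Normal] {A : Subgroup M} {Kb : Subgroup (M ⧸ Q)} [hKn : Kb.Normal]
  {Bb : Subgroup (M ⧸ Q)}

/-- the subgroup generated by `A` and its conjugate by `x`. -/
abbrev LL (A : Subgroup M) (x : M) : Subgroup M := A ⊔ A.map (MulAut.conj x).toMonoidHom

/-- `O^p` of a subgroup, as a subgroup of the ambient group -/
abbrev RR (p : ℕ) (L : Subgroup M) : Subgroup M := (Cfsg.pResidual p ↥L).map L.subtype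

/-- the selection predicate -/
def Sel (Q : Subgroup M) [Q.Normal] (A : Subgroup M) (Kb Bb : Subgroup (M ⧸ Q)) (x : M) : Prop :=
  QuotientGroup.mk' Q x ∈ Kb ∧ (∀ b ∈ Bb, Commute (QuotientGroup.mk' Q x) b) ∧
    ∃ a ∈ A, ¬ Commute (QuotientGroup.mk' Q a) (QuotientGroup.mk' Q x)

theorem cent_Bb
    (hAc : ∀ a ∈ A, ∀ b ∈ A, Commute (QuotientGroup.mk' Q a) (QuotientGroup.mk' Q b))
    (hB : Bb ≤ A.map (QuotientGroup.mk' Q)) {x : M}
    (hxB : ∀ b ∈ Bb, Commute (QuotientGroup.mk' Q x) b) :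
    ∀ l ∈ LL A x, ∀ b ∈ Bb, Commute (QuotientGroup.mk' Q l) b := by
  intro l hl b hb
  have hle : LL A x ≤ (centralizer (Bb : Set (M ⧸ Q))).comap (QuotientGroup.mk' Q) := by
    refine sup_le ?_ ?_
    · intro a ha
      rw [mem_comap, mem_centralizer_iff]
      intro c hc
      obtain ⟨a', ha', rfl⟩ := hB hc
      exact (hAc a' ha' a ha).eq
    · rintro _ ⟨a, ha, rfl⟩
      rw [mem_comap, mem_centralizer_iff]
      intro c hc
      have h1 : Commute c (QuotientGroup.mk' Q x) := (hxB c hc).symm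
      have h2 : Commute c (QuotientGroup.mk' Q a) := by
        obtain ⟨a', ha', rfl⟩ := hB hc
        exact hAc a' ha' a ha
      have h3 : (QuotientGroup.mk' Q) ((MulAut.conj x).toMonoidHom a) =
          QuotientGroup.mk' Q x * QuotientGroup.mk' Q a * (QuotientGroup.mk' Q x)⁻¹ := by
        simp [MulAut.conj_apply]
      rw [h3]
      exact ((h1.mul_right h2).mul_right h1.inv_right).eq
  have h := hle hl
  rw [mem_comap, mem_centralizer_iff] at h
  exact (h b hb).symm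

theorem RR_le_comap {x : M} (hAp : IsPGroup p A) (hxK : QuotientGroup.mk' Q x ∈ Kb) :
    RR p (LL A x) ≤ Kb.comap (QuotientGroup.mk' Q) := by
  have h1 : Cfsg.pResidual p ↥(LL A x) ≤
      (Kb.comap (QuotientGroup.mk' Q)).subgroupOf (LL A x) := by
    apply pResidual_le_of_pow_mem
    rintro ⟨l, hl⟩
    let f : M →* (M ⧸ Q) ⧸ Kb := (QuotientGroup.mk' Kb).comp (QuotientGroup.mk' Q)
    have hfx : f x = 1 := (QuotientGroup.eq_one_iff _).2 hxK
    have hL : LL A x ≤ (A.map f).comap f := by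
      refine sup_le (le_comap_map _ _) ?_
      rintro _ ⟨a, ha, rfl⟩
      rw [mem_comap]
      refine ⟨a, ha, ?_⟩
      simp [MulAut.conj_apply, hfx]
    have hpg : IsPGroup p (A.map f) := hAp.map f
    obtain ⟨k, hk⟩ := hpg ⟨f l, hL hl⟩
    refine ⟨k, ?_⟩
    rw [mem_subgroupOf, mem_comap]
    have h2 : f (l ^ p ^ k) = 1 := by
      rw [map_pow]; exact congrArg Subtype.val hk
    exact (QuotientGroup.eq_one_iff _).1 h2
  calc RR p (LL A x) ≤ ((Kb.comap (QuotientGroup.mk' Q)).subgroupOf (LL A x)).map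
        (LL A x).subtype := map_mono h1
    _ ≤ _ := by rw [subgroupOf_map_subtype]; exact inf_le_left

theorem comm_eq {x : M} (hAp : IsPGroup p A) (hx : x ∈ RR p (LL A x)) :
    ⁅RR p (LL A x), A⁆ = RR p (LL A x) := by
  have hDL : RR p (LL A x) ≤ LL A x := map_subtype_le _
  have hAL : A ≤ LL A x := le_sup_left
  have hDn : LL A x ≤ normalizer ((RR p (LL A x) : Subgroup M) : Set M) := pRes_normalizer p _
  have hE_le : ⁅RR p (LL A x), A⁆ ≤ RR p (LL A x) :=
    (le_normalizer_iff_commutator_le_left).1 (hAL.trans hDn)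
  have hAE : A ≤ normalizer ((⁅RR p (LL A x), A⁆ : Subgroup M) : Set M) :=
    normalizer_commutator_ge_right _ _
  refine le_antisymm hE_le ?_
  -- every element of `L` is `a * e`
  have hLE : LL A x ≤ A ⊔ ⁅RR p (LL A x), A⁆ := by
    refine sup_le le_sup_left ?_
    rintro _ ⟨a, ha, rfl⟩
    have h1 : (MulAut.conj x).toMonoidHom a = a * ⁅a⁻¹, x⁆ := by
      simp only [MulEquiv.toMonoidHom_eq_coe, MonoidHom.coe_coe, MulAut.conj_apply,
        commutatorElement_def]
      group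
    rw [h1]
    refine mul_mem (le_sup_left (a := A) ha) (le_sup_right (a := A) ?_)
    rw [commutator_comm]
    exact commutator_mem_commutator (inv_mem ha) hx
  have h2 : Cfsg.pResidual p ↥(LL A x) ≤ (⁅RR p (LL A x), A⁆).subgroupOf (LL A x) := by
    apply pResidual_le_of_pow_mem
    rintro ⟨l, hl⟩
    have hl' := hLE hl
    rw [← SetLike.mem_coe, coe_mul_of_left_le_normalizer_right _ _ hAE, Set.mem_mul] at hl'
    obtain ⟨a, ha, e, he, rfl⟩ := hl'
    obtain ⟨k, hk⟩ := hAp ⟨a, ha⟩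
    have hk' : a ^ p ^ k = 1 := congrArg Subtype.val hk
    obtain ⟨e', he', h3⟩ := mul_pow_mem_of_normalizer (hAE ha) he (p ^ k)
    refine ⟨k, ?_⟩
    rw [mem_subgroupOf]
    change (a * e) ^ p ^ k ∈ _
    rw [h3, hk', one_mul]
    exact he'
  calc RR p (LL A x) ≤ ((⁅RR p (LL A x), A⁆).subgroupOf (LL A x)).map (LL A x).subtype :=
        map_mono h2
    _ ≤ _ := by rw [subgroupOf_map_subtype]; exact inf_le_left

theorem pCoreOf_normalizer (p : ℕ) (L : Subgroup M) :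
    L ≤ normalizer (((Cfsg.pCore p ↥L).map L.subtype : Subgroup M) : Set M) := by
  intro l hl
  rw [mem_normalizer_iff]
  intro d
  constructor
  · rintro ⟨d', hd', rfl⟩
    exact ⟨⟨l, hl⟩ * d' * ⟨l, hl⟩⁻¹,
      (Cfsg.pCore_normal p ↥L).conj_mem d' hd' ⟨l, hl⟩, rfl⟩
  · rintro ⟨d', hd', hdd⟩
    refine ⟨⟨l, hl⟩⁻¹ * d' * ⟨l, hl⟩, ?_, ?_⟩
    · have := (Cfsg.pCore_normal p ↥L).conj_mem d' hd' (⟨l, hl⟩⁻¹ : L)
      simpa using this
    · simp only [Subgroup.coe_subtype, Subgroup.coe_mul, Subgroup.coe_inv] at hdd ⊢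
      rw [hdd]; group

/-- if `α` commutes with `c = α⁻¹ y α y⁻¹` and `α ^ n = 1` then `c ^ n = 1`. -/
theorem pow_eq_one_of_commute_comm {H : Type*} [Group H] (α y c : H)
    (hcdef : c = α⁻¹ * y * α * y⁻¹) (hc : Commute α c) (n : ℕ) (hn : α ^ n = 1) :
    c ^ n = 1 := by
  have h1 : α⁻¹ * y * α = c * y := by rw [hcdef]; group
  have key : ∀ i : ℕ, (α ^ i)⁻¹ * y * α ^ i = c ^ i * y := by
    intro i
    induction i with
    | zero => simp
    | succ i ih =>
      have h2 : (α ^ (i + 1))⁻¹ * y * α ^ (i + 1) = α⁻¹ * ((α ^ i)⁻¹ * y * α ^ i) * α := by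
        rw [pow_succ]; group
      rw [h2, ih]
      have h3 : α⁻¹ * (c ^ i * y) * α = (α⁻¹ * c ^ i * α) * (α⁻¹ * y * α) := by group
      have h4 : α⁻¹ * c ^ i * α = c ^ i := by
        have : Commute α (c ^ i) := hc.pow_right i
        rw [mul_assoc, ← this.eq, ← mul_assoc, inv_mul_cancel, one_mul]
      rw [h3, h4, h1, pow_succ, mul_assoc]
  have h5 := key n
  rw [hn] at h5
  simp only [inv_one, one_mul, mul_one] at h5
  exact (mul_eq_right).1 h5.symm

theorem inf_core {x : M} (hAp : IsPGroup p A) (hQp : IsPGroup p Q)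
    (hK : (Nat.card Kb).Coprime p)
    (hAc : ∀ a ∈ A, ∀ b ∈ A, Commute (QuotientGroup.mk' Q a) (QuotientGroup.mk' Q b))
    (hB : Bb ≤ A.map (QuotientGroup.mk' Q))
    (hidx : Bb.relIndex (A.map (QuotientGroup.mk' Q)) = p)
    (hS : Sel Q A Kb Bb x) (hx : x ∈ RR p (LL A x)) :
    A ⊓ (Cfsg.pCore p ↥(LL A x)).map (LL A x).subtype = A ⊓ Bb.comap (QuotientGroup.mk' Q) := by
  obtain ⟨hxK, hxB, a₀, ha₀, hna₀⟩ := hS
  have hAL : A ≤ LL A x := le_sup_left
  have hxL : x ∈ LL A x := (map_subtype_le _) hx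
  have hcent := cent_Bb hAc hB hxB
  apply le_antisymm
  · intro a ha
    rw [mem_inf] at ha ⊢
    obtain ⟨haA, haO⟩ := ha
    refine ⟨haA, ?_⟩
    rw [mem_comap]
    by_contra hnot
    -- `φ a` commutes with `φ x`
    have hcomm : Commute (QuotientGroup.mk' Q a) (QuotientGroup.mk' Q x) := by
      have h1 : ⁅a, x⁆ ∈ (Cfsg.pCore p ↥(LL A x)).map (LL A x).subtype := by
        have hn := pCoreOf_normalizer p (LL A x) hxL
        have h2 : x * a⁻¹ * x⁻¹ ∈ (Cfsg.pCore p ↥(LL A x)).map (LL A x).subtype :=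
          (mem_normalizer_iff.1 hn a⁻¹).1 (inv_mem haO)
        have h3 : ⁅a, x⁆ = a * (x * a⁻¹ * x⁻¹) := by rw [commutatorElement_def]; group
        rw [h3]; exact mul_mem haO h2
      have h2 : ⁅a, x⁆ ∈ RR p (LL A x) := by
        have hn := pRes_normalizer p (LL A x) (hAL haA)
        have h2 : a * x * a⁻¹ ∈ RR p (LL A x) := (mem_normalizer_iff.1 hn x).1 hx
        rw [commutatorElement_def]
        exact mul_mem h2 (inv_mem hx)
      have h3 : QuotientGroup.mk' Q ⁅a, x⁆ ∈ Kb := RR_le_comap hAp hxK h2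
      have h4 : orderOf (QuotientGroup.mk' Q ⁅a, x⁆) ∣ Nat.card Kb := by
        have := orderOf_dvd_natCard (⟨_, h3⟩ : Kb)
        rwa [Subgroup.orderOf_mk] at this
      obtain ⟨u, hu, hua⟩ := h1
      have hpc : IsPGroup p (Cfsg.pCore p ↥(LL A x)) := Cfsg.Agent.Helper19.pCore_isPGroup p
      obtain ⟨k, hk⟩ := hpc ⟨u, hu⟩
      have hk' : (⁅a, x⁆ : M) ^ p ^ k = 1 := by
        rw [← hua]
        have := congrArg (fun t : (Cfsg.pCore p ↥(LL A x)) => ((t : ↥(LL A x)) : M)) hk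
        simpa using this
      have h5 : orderOf (QuotientGroup.mk' Q ⁅a, x⁆) ∣ p ^ k := by
        apply orderOf_dvd_of_pow_eq_one
        rw [← map_pow, hk', map_one]
      have h6 : orderOf (QuotientGroup.mk' Q ⁅a, x⁆) = 1 :=
        Nat.eq_one_of_dvd_coprimes (Nat.Coprime.pow_right k hK) h4 h5
      rw [orderOf_eq_one_iff, map_commutatorElement, commutatorElement_eq_one_iff_commute] at h6
      exact h6
    -- the centralizer of `φ x` in `Ā`
    set C : Subgroup (M ⧸ Q) := A.map (QuotientGroup.mk' Q) ⊓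
      centralizer {QuotientGroup.mk' Q x} with hC
    have hBC : Bb ≤ C := by
      refine le_inf hB ?_
      intro b hb
      rw [mem_centralizer_singleton_iff]
      exact (hxB b hb).symm.eq
    have hCA : C ≤ A.map (QuotientGroup.mk' Q) := inf_le_left
    have haC : QuotientGroup.mk' Q a ∈ C :=
      mem_inf.2 ⟨mem_map_of_mem _ haA, mem_centralizer_singleton_iff.2 hcomm.eq⟩
    have hmul := relIndex_mul_relIndex Bb C (A.map (QuotientGroup.mk' Q)) hBC hCA
    rw [hidx] at hmul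
    have hdvd : C.relIndex (A.map (QuotientGroup.mk' Q)) ∣ p := Dvd.intro_left _ hmul
    rcases (Nat.dvd_prime hp.out).1 hdvd with h1 | h1
    · -- `Ā ≤ C`
      have hle : A.map (QuotientGroup.mk' Q) ≤ C := relIndex_eq_one.1 h1
      have := mem_centralizer_singleton_iff.1 (mem_inf.1 (hle (mem_map_of_mem _ ha₀))).2
      exact hna₀ this
    · rw [h1] at hmul
      have h2 : Bb.relIndex C = 1 := by
        have hp0 : 0 < p := hp.out.pos
        nlinarith [hmul]
      exact hnot (relIndex_eq_one.1 h2 haC)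
  · intro a ha
    rw [mem_inf] at ha ⊢
    obtain ⟨haA, haB⟩ := ha
    refine ⟨haA, ?_⟩
    rw [mem_comap] at haB
    set R : Subgroup M := LL A x ⊓ Q with hR
    set B : Subgroup M := A ⊓ Bb.comap (QuotientGroup.mk' Q) with hBdef
    have hBL : B ≤ LL A x := inf_le_left.trans hAL
    have hRL : R ≤ LL A x := inf_le_left
    -- commutators `[l, b]` lie in `R`
    have hcommR : ∀ l ∈ LL A x, ∀ b ∈ B, ⁅l, b⁆ ∈ R := by
      intro l hl b hb
      refine mem_inf.2 ⟨?_, ?_⟩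
      · rw [commutatorElement_def]
        exact mul_mem (mul_mem (mul_mem hl (hBL hb)) (inv_mem hl)) (inv_mem (hBL hb))
      · rw [← QuotientGroup.eq_one_iff, ← QuotientGroup.mk'_apply,
          map_commutatorElement, commutatorElement_eq_one_iff_commute]
        exact hcent l hl _ (mem_comap.1 (mem_inf.1 hb).2)
    have hkey : ∀ l ∈ LL A x, B ⊔ R ≤ (B ⊔ R).comap (MulAut.conj l).toMonoidHom := by
      intro l hl
      refine sup_le ?_ ?_
      · intro b hb
        rw [mem_comap]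
        have h1 : (MulAut.conj l).toMonoidHom b = ⁅l, b⁆ * b := by
          simp only [MulEquiv.toMonoidHom_eq_coe, MonoidHom.coe_coe, MulAut.conj_apply,
            commutatorElement_def]
          group
        rw [h1]
        exact mul_mem (le_sup_right (a := B) (hcommR l hl b hb)) (le_sup_left (b := R) hb)
      · intro r hr
        rw [mem_comap]
        have hr1 : r ∈ LL A x := (mem_inf.1 hr).1
        have hr2 : r ∈ Q := (mem_inf.1 hr).2
        refine le_sup_right (a := B) (mem_inf.2 ⟨?_, ?_⟩)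
        · simp only [MulEquiv.toMonoidHom_eq_coe, MonoidHom.coe_coe, MulAut.conj_apply]
          exact mul_mem (mul_mem hl hr1) (inv_mem hl)
        · simp only [MulEquiv.toMonoidHom_eq_coe, MonoidHom.coe_coe, MulAut.conj_apply]
          exact hQn.conj_mem r hr2 l
    have hnorm : LL A x ≤ normalizer ((B ⊔ R : Subgroup M) : Set M) := by
      intro l hl
      rw [mem_normalizer_iff]
      intro n
      constructor
      · intro hn
        have := hkey l hl hn
        rw [mem_comap] at this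
        simpa [MulAut.conj_apply] using this
      · intro hn
        have := hkey l⁻¹ (inv_mem hl) hn
        rw [mem_comap] at this
        simp only [MulEquiv.toMonoidHom_eq_coe, MonoidHom.coe_coe, MulAut.conj_apply] at this
        have h2 : l⁻¹ * (l * n * l⁻¹) * l⁻¹⁻¹ = n := by group
        rwa [h2] at this
    have hNp : IsPGroup p (B ⊔ R : Subgroup M) := by
      apply IsPGroup.to_sup_of_normal_right' (hAp.to_le inf_le_left) (hQp.to_le inf_le_right)
      intro b hb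
      rw [mem_normalizer_iff]
      intro r
      constructor
      · intro hr
        have hr1 : r ∈ LL A x := (mem_inf.1 hr).1
        have hr2 : r ∈ Q := (mem_inf.1 hr).2
        exact mem_inf.2 ⟨mul_mem (mul_mem (hBL hb) hr1) (inv_mem (hBL hb)), hQn.conj_mem r hr2 b⟩
      · intro hr
        have hr1 : b * r * b⁻¹ ∈ LL A x := (mem_inf.1 hr).1
        have hr2 : b * r * b⁻¹ ∈ Q := (mem_inf.1 hr).2
        refine mem_inf.2 ⟨?_, ?_⟩
        · have := mul_mem (mul_mem (inv_mem (hBL hb)) hr1) (hBL hb)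
          have h2 : b⁻¹ * (b * r * b⁻¹) * b = r := by group
          rwa [h2] at this
        · have := hQn.conj_mem _ hr2 b⁻¹
          have h2 : b⁻¹ * (b * r * b⁻¹) * b⁻¹⁻¹ = r := by group
          rwa [h2] at this
    have hsub : (B ⊔ R).subgroupOf (LL A x) ≤ Cfsg.pCore p ↥(LL A x) := by
      apply le_sSup
      refine ⟨normal_subgroupOf_of_le_normalizer hnorm, ?_⟩
      exact hNp.comap_of_injective (LL A x).subtype (subtype_injective _)
    have haN : a ∈ B ⊔ R := le_sup_left (b := R) (mem_inf.2 ⟨haA, mem_comap.2 haB⟩)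
    exact ⟨⟨a, hAL haA⟩, hsub (by rw [mem_subgroupOf]; exact haN), rfl⟩

theorem descent {x : M} (hAp : IsPGroup p A) (hK : (Nat.card Kb).Coprime p)
    (hAc : ∀ a ∈ A, ∀ b ∈ A, Commute (QuotientGroup.mk' Q a) (QuotientGroup.mk' Q b))
    (hB : Bb ≤ A.map (QuotientGroup.mk' Q)) (hS : Sel Q A Kb Bb x) :
    ∃ x', Sel Q A Kb Bb x' ∧ x' ∈ LL A x ∧ (orderOf x').Coprime p := by
  obtain ⟨hxK, hxB, a, ha, hna⟩ := hS
  have hlL : a⁻¹ * (x * a * x⁻¹) ∈ LL A x :=
    mul_mem (le_sup_left (b := A.map (MulAut.conj x).toMonoidHom) (inv_mem ha))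
      (le_sup_right (a := A) ⟨a, ha, by simp [MulAut.conj_apply]⟩)
  obtain ⟨c, hc⟩ : ∃ c, c = QuotientGroup.mk' Q (a⁻¹ * (x * a * x⁻¹)) := ⟨_, rfl⟩
  have hcdef : c = (QuotientGroup.mk' Q a)⁻¹ * QuotientGroup.mk' Q x * QuotientGroup.mk' Q a *
      (QuotientGroup.mk' Q x)⁻¹ := by
    rw [hc]; simp only [map_mul, map_inv, mul_assoc]
  have hcK : c ∈ Kb := by
    rw [hcdef]
    have h1 : (QuotientGroup.mk' Q a)⁻¹ * QuotientGroup.mk' Q x * ((QuotientGroup.mk' Q a)⁻¹)⁻¹ ∈ Kb :=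
      hKn.conj_mem _ hxK _
    rw [inv_inv] at h1
    exact mul_mem h1 (inv_mem hxK)
  have hcB : ∀ b ∈ Bb, Commute c b := by
    intro b hb
    rw [hc]
    exact cent_Bb hAc hB hxB _ hlL b hb
  have hco : (orderOf c).Coprime p := by
    have h1 := orderOf_dvd_natCard (⟨c, hcK⟩ : Kb)
    rw [Subgroup.orderOf_mk] at h1
    exact Nat.Coprime.coprime_dvd_left h1 hK
  have hnc : ¬ Commute (QuotientGroup.mk' Q a) c := by
    intro hcomm
    obtain ⟨k, hk⟩ := hAp ⟨a, ha⟩
    have hk' : (QuotientGroup.mk' Q a) ^ p ^ k = 1 := by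
      have h1 : a ^ p ^ k = 1 := congrArg Subtype.val hk
      rw [← map_pow, h1, map_one]
    have h1 := pow_eq_one_of_commute_comm _ _ c hcdef hcomm (p ^ k) hk'
    have h2 : orderOf c ∣ p ^ k := orderOf_dvd_of_pow_eq_one h1
    have h3 : orderOf c = 1 := Nat.eq_one_of_dvd_coprimes (hco.pow_right k) dvd_rfl h2
    rw [orderOf_eq_one_iff] at h3
    apply hna
    rw [hcdef] at h3
    have h4 := congrArg (fun t => QuotientGroup.mk' Q a * t * QuotientGroup.mk' Q x) h3
    simp only [mul_one] at h4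
    have h5 : QuotientGroup.mk' Q a * ((QuotientGroup.mk' Q a)⁻¹ * QuotientGroup.mk' Q x *
        QuotientGroup.mk' Q a * (QuotientGroup.mk' Q x)⁻¹) * QuotientGroup.mk' Q x =
        QuotientGroup.mk' Q x * QuotientGroup.mk' Q a := by group
    rw [h5] at h4
    exact h4.symm
  -- the `p'`-part of `l`
  obtain ⟨l, hl⟩ : ∃ l, l = a⁻¹ * (x * a * x⁻¹) := ⟨_, rfl⟩
  rw [← hl] at hlL hc
  have ho : orderOf l ≠ 0 := (orderOf_pos l).ne'
  have hPm : ordProj[p] (orderOf l) * ordCompl[p] (orderOf l) = orderOf l :=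
    Nat.ordProj_mul_ordCompl_eq_self _ _
  have hmcop : (ordCompl[p] (orderOf l)).Coprime p := (Nat.coprime_ordCompl hp.out ho).symm
  have hPcop : (ordProj[p] (orderOf l)).Coprime (orderOf c) := hco.symm.pow_left _
  obtain ⟨j, hj⟩ := exists_pow_eq_self_of_coprime hPcop
  refine ⟨l ^ (ordProj[p] (orderOf l) * j), ?_, pow_mem hlL _, ?_⟩
  · have hφ : QuotientGroup.mk' Q (l ^ (ordProj[p] (orderOf l) * j)) = c := by
      rw [map_pow, ← hc, pow_mul, hj]
    refine ⟨?_, ?_, a, ha, ?_⟩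
    · rw [hφ]; exact hcK
    · rw [hφ]; exact hcB
    · rw [hφ]; exact hnc
  · have h1 : (l ^ (ordProj[p] (orderOf l) * j)) ^ (ordCompl[p] (orderOf l)) = 1 := by
      rw [← pow_mul]
      have h2 : ordProj[p] (orderOf l) * j * ordCompl[p] (orderOf l) =
          ordProj[p] (orderOf l) * ordCompl[p] (orderOf l) * j := by ring
      rw [h2, hPm, pow_mul, pow_orderOf_eq_one, one_pow]
    exact Nat.Coprime.coprime_dvd_left (orderOf_dvd_of_pow_eq_one h1) hmcop

end setup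

section main

variable {M : Type*} [Group M] [Finite M] {p : ℕ} [hp : Fact p.Prime]

theorem two_conj (hM : Cfsg.IsPSolvable p M) (A : Subgroup M) (hA : IsPGroup p A)
    (hΦ : (frattini ↥A).map A.subtype ≤ Cfsg.pCore p M) (hnot : ¬ A ≤ Cfsg.pCore p M) :
    ∃ x ∈ (Cfsg.pPrimeCore p (M ⧸ Cfsg.pCore p M)).comap (QuotientGroup.mk' (Cfsg.pCore p M)),
      x ∈ RR p (LL A x) ∧
      RR p (LL A x) ≤ (Cfsg.pPrimeCore p (M ⧸ Cfsg.pCore p M)).comap
        (QuotientGroup.mk' (Cfsg.pCore p M)) ∧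
      ⁅RR p (LL A x), A⁆ = RR p (LL A x) ∧
      (A ⊓ (Cfsg.pCore p ↥(LL A x)).map (LL A x).subtype).relIndex A = p ∧
      ⁅A ⊓ (Cfsg.pCore p ↥(LL A x)).map (LL A x).subtype, LL A x⁆ ≤ Cfsg.pCore p M := by
  have hQp : IsPGroup p (Cfsg.pCore p M) := Cfsg.Agent.Helper19.pCore_isPGroup p
  have hKcop : (Nat.card (Cfsg.pPrimeCore p (M ⧸ Cfsg.pCore p M))).Coprime p :=
    Cfsg.Agent.Helper19.pPrimeCore_coprime p
  have hAc : ∀ a ∈ A, ∀ b ∈ A, Commute (QuotientGroup.mk' (Cfsg.pCore p M) a)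
      (QuotientGroup.mk' (Cfsg.pCore p M) b) := by
    intro a ha b hb
    change QuotientGroup.mk' (Cfsg.pCore p M) a * QuotientGroup.mk' (Cfsg.pCore p M) b =
      QuotientGroup.mk' (Cfsg.pCore p M) b * QuotientGroup.mk' (Cfsg.pCore p M) a
    rw [← map_mul, ← map_mul]
    apply (QuotientGroup.eq).2
    have h1 : (a * b)⁻¹ * (b * a) = ⁅b⁻¹, a⁻¹⁆ := by rw [commutatorElement_def]; group
    rw [h1]
    apply hΦ
    refine ⟨⁅(⟨b, hb⟩ : A)⁻¹, (⟨a, ha⟩ : A)⁻¹⁆, ?_, by simp [commutatorElement_def]⟩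
    apply Cfsg.Agent.Helper1.IsPGroup.commutator_le_frattini hA
    rw [commutator_def]
    exact commutator_mem_commutator (mem_top _) (mem_top _)
  have hAexp : ∀ a ∈ A, (QuotientGroup.mk' (Cfsg.pCore p M) a) ^ p = 1 := by
    intro a ha
    rw [← map_pow]
    apply (QuotientGroup.eq_one_iff _).2
    exact hΦ ⟨⟨a, ha⟩ ^ p, Cfsg.Agent.Helper1.IsPGroup.pow_mem_frattini hA ⟨a, ha⟩, rfl⟩
  have hAb : Cfsg.IsElementaryAbelian p (A.map (QuotientGroup.mk' (Cfsg.pCore p M))) := by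
    refine ⟨⟨⟨?_⟩⟩, ?_⟩
    · rintro ⟨u, hu⟩ ⟨v, hv⟩
      obtain ⟨a, ha, rfl⟩ := hu
      obtain ⟨b, hb, rfl⟩ := hv
      exact Subtype.ext (hAc a ha b hb).eq
    · rintro u ⟨a, ha, rfl⟩
      exact hAexp a ha
  have hOp : Cfsg.pCore p (M ⧸ Cfsg.pCore p M) = ⊥ := by
    have hN : (Cfsg.pCore p (M ⧸ Cfsg.pCore p M)).comap (QuotientGroup.mk' (Cfsg.pCore p M)) ≤
        Cfsg.pCore p M := by
      apply le_sSup
      refine ⟨(Cfsg.pCore_normal p _).comap _, ?_⟩
      apply IsPGroup.comap_of_ker_isPGroup (Cfsg.Agent.Helper19.pCore_isPGroup p)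
      rw [QuotientGroup.ker_mk']
      exact hQp
    rw [eq_bot_iff]
    intro u hu
    obtain ⟨m, rfl⟩ := QuotientGroup.mk'_surjective (Cfsg.pCore p M) u
    rw [mem_bot]
    exact (QuotientGroup.eq_one_iff _).2 (hN (mem_comap.2 hu))
  have hsolvb : Cfsg.IsPSolvable p (M ⧸ Cfsg.pCore p M) :=
    Cfsg.Agent.Lead.isPSolvable_quotient hM _
  have hHH := Cfsg.Agent.Helper7.centralizer_pPrimeCore_le_of_isPSolvable hsolvb hOp
  have hAbK : A.map (QuotientGroup.mk' (Cfsg.pCore p M)) ⊓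
      Cfsg.pPrimeCore p (M ⧸ Cfsg.pCore p M) = ⊥ := by
    apply Disjoint.eq_bot
    apply Subgroup.disjoint_of_coprime_natCard
    obtain ⟨k, hk⟩ := (Cfsg.Agent.Helper7.IsElementaryAbelian.isPGroup hAb).exists_card_eq
    rw [hk]
    exact (hKcop.symm).pow_left k
  obtain ⟨a₁, ha₁, ha₁Q⟩ := SetLike.not_le_iff_exists.1 hnot
  have hgen := Cfsg.Agent.Helper7.eq_iSup_inf_centralizer_hyperplane p
    (A.map (QuotientGroup.mk' (Cfsg.pCore p M))) (Cfsg.pPrimeCore p (M ⧸ Cfsg.pCore p M)) hAb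
    ((Nat.Prime.coprime_iff_not_dvd hp.out).1 hKcop.symm)
    (by rw [normalizer_eq_top]; exact le_top)
  obtain ⟨Bb, hBb, y, hyK, hyB, a, ha, hnc⟩ : ∃ Bb : Subgroup (M ⧸ Cfsg.pCore p M),
      (Bb ≤ A.map (QuotientGroup.mk' (Cfsg.pCore p M)) ∧
        Bb.relIndex (A.map (QuotientGroup.mk' (Cfsg.pCore p M))) ≤ p) ∧
      ∃ y ∈ Cfsg.pPrimeCore p (M ⧸ Cfsg.pCore p M), (∀ b ∈ Bb, Commute y b) ∧
        ∃ a ∈ A, ¬ Commute (QuotientGroup.mk' (Cfsg.pCore p M) a) y := by
    by_contra hcon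
    push Not at hcon
    have hle : Cfsg.pPrimeCore p (M ⧸ Cfsg.pCore p M) ≤
        centralizer ((A.map (QuotientGroup.mk' (Cfsg.pCore p M)) : Subgroup _) : Set _) := by
      refine hgen.le.trans (iSup_le fun B => ?_)
      intro y hy
      have hy1 := (mem_inf.1 hy).1
      have hy2 := (mem_inf.1 hy).2
      rw [mem_centralizer_iff]
      rintro _ ⟨a, ha, rfl⟩
      refine (hcon B.1 B.2 y hy1 ?_ a ha).eq
      intro b hb
      exact ((mem_centralizer_iff.1 hy2) b hb).symm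
    have h2 : A.map (QuotientGroup.mk' (Cfsg.pCore p M)) ≤
        Cfsg.pPrimeCore p (M ⧸ Cfsg.pCore p M) :=
      (le_centralizer_iff.1 hle).trans hHH
    have h3 : QuotientGroup.mk' (Cfsg.pCore p M) a₁ ∈
        A.map (QuotientGroup.mk' (Cfsg.pCore p M)) ⊓ Cfsg.pPrimeCore p (M ⧸ Cfsg.pCore p M) :=
      mem_inf.2 ⟨mem_map_of_mem _ ha₁, h2 (mem_map_of_mem _ ha₁)⟩
    rw [hAbK, mem_bot] at h3
    exact ha₁Q ((QuotientGroup.eq_one_iff _).1 h3)
  have hidx : Bb.relIndex (A.map (QuotientGroup.mk' (Cfsg.pCore p M))) = p := by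
    rcases Cfsg.Agent.Helper7.relIndex_eq_one_or_prime_of_le
      (Cfsg.Agent.Helper7.IsElementaryAbelian.isPGroup hAb) hBb.2 with h | h
    · exfalso
      have hle : A.map (QuotientGroup.mk' (Cfsg.pCore p M)) ≤ Bb := relIndex_eq_one.1 h
      exact hnc (hyB _ (hle (mem_map_of_mem _ ha))).symm
    · exact h
  obtain ⟨x₀, rfl⟩ := QuotientGroup.mk'_surjective (Cfsg.pCore p M) y
  have hS₀ : Sel (Cfsg.pCore p M) A (Cfsg.pPrimeCore p (M ⧸ Cfsg.pCore p M)) Bb x₀ :=
    ⟨hyK, hyB, a, ha, hnc⟩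
  -- minimal choice
  obtain ⟨x, hSx, hmin⟩ : ∃ x, Sel (Cfsg.pCore p M) A (Cfsg.pPrimeCore p (M ⧸ Cfsg.pCore p M)) Bb x ∧
      ∀ y, Sel (Cfsg.pCore p M) A (Cfsg.pPrimeCore p (M ⧸ Cfsg.pCore p M)) Bb y →
        Nat.card (LL A x) ≤ Nat.card (LL A y) := by
    classical
    have hP : ∃ n, ∃ x, Sel (Cfsg.pCore p M) A (Cfsg.pPrimeCore p (M ⧸ Cfsg.pCore p M)) Bb x ∧
        Nat.card (LL A x) = n := ⟨_, x₀, hS₀, rfl⟩
    obtain ⟨x, hx, hn⟩ := Nat.find_spec hP
    refine ⟨x, hx, fun y hy => ?_⟩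
    rw [hn]
    exact Nat.find_min' hP ⟨y, hy, rfl⟩
  obtain ⟨x', hSx', hx'L, hx'o⟩ := descent hA hKcop hAc hBb.1 hSx
  have hLle : LL A x' ≤ LL A x := by
    refine sup_le le_sup_left ?_
    rintro _ ⟨b, hb, rfl⟩
    simp only [MulEquiv.toMonoidHom_eq_coe, MonoidHom.coe_coe, MulAut.conj_apply]
    exact mul_mem (mul_mem hx'L (le_sup_left (b := A.map (MulAut.conj x).toMonoidHom) hb))
      (inv_mem hx'L)
  have hLeq : LL A x' = LL A x :=
    Subgroup.eq_of_le_of_card_ge hLle (hmin x' hSx')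
  have hx'L' : x' ∈ LL A x' := by rw [hLeq]; exact hx'L
  have hx'R : x' ∈ RR p (LL A x') := mem_pRes hx'L' hx'o
  have hcore := inf_core hA hQp hKcop hAc hBb.1 hidx hSx' hx'R
  refine ⟨x', mem_comap.2 hSx'.1, hx'R, RR_le_comap hA hSx'.1, comm_eq hA hx'R, ?_, ?_⟩
  · rw [hcore, inf_relIndex_left, relIndex_comap]
    exact hidx
  · rw [hcore, commutator_le]
    intro b hb l hl
    have hb2 : QuotientGroup.mk' (Cfsg.pCore p M) b ∈ Bb := mem_comap.1 (mem_inf.1 hb).2
    rw [← QuotientGroup.eq_one_iff, ← QuotientGroup.mk'_apply, map_commutatorElement,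
      commutatorElement_eq_one_iff_commute]
    exact (cent_Bb hAc hBb.1 hSx'.2.1 l hl _ hb2).symm

end main

end Cfsg.Agent.Helper9.TwoConj
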