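import Mathlib
import Cfsg.Prelude.Def_CaseTheorems
import Cfsg.Agent.Helper9.RankTwoFpfA
import Cfsg.Agent.Helper9.TwoConj
import Cfsg.Agent.Helper4.Zassenhaus3

set_option autoImplicit false
set_option linter.unusedSectionVars false
set_option linter.unusedVariables false
set_option linter.style.haveILetI false

/-! # A fixed-point-free `3`-element acting faithfully on a `2`-group of rank `≤ 2` has order `3` -/

namespace Cfsg.Agent.Helper9.RankTwoFpf

open Subgroup
open scoped commutatorElement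

variable {X : Type*} [Group X] [Finite X]

theorem commute_of_conj_eq {g x : X} (h : g * x * g⁻¹ = x) : Commute g x := by
  have h4 := congrArg (· * g) h
  simp only [mul_assoc, inv_mul_cancel, mul_one] at h4
  exact h4

/-- `H` is invariant under conjugation by `d`. -/
def Inv (d : X) (H : Subgroup X) : Prop := ∀ x ∈ H, d * x * d⁻¹ ∈ H

theorem Inv.pow {d : X} {H : Subgroup X} (h : Inv d H) (k : ℕ) : Inv (d ^ k) H := by
  induction k with
  | zero => intro x hx; simpa using hx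
  | succ k ih =>
    intro x hx
    have h1 := h _ (ih x hx)
    have h2 : d ^ (k + 1) * x * (d ^ (k + 1))⁻¹ = d * (d ^ k * x * (d ^ k)⁻¹) * d⁻¹ := by
      rw [pow_succ']; group
    rw [h2]; exact h1

theorem Inv.of_mem_zpowers {d : X} {H : Subgroup X} (h : Inv d H) {g : X} (hg : g ∈ zpowers d) :
    Inv g H := by
  rw [← mem_powers_iff_mem_zpowers, Submonoid.mem_powers_iff] at hg
  obtain ⟨k, rfl⟩ := hg
  exact h.pow k

theorem Inv.inv {d : X} {H : Subgroup X} (h : Inv d H) : Inv d⁻¹ H :=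
  h.of_mem_zpowers (inv_mem (mem_zpowers d))

theorem Inv.mem_normalizer {d : X} {H : Subgroup X} (h : Inv d H) : d ∈ normalizer (H : Set X) := by
  rw [mem_normalizer_iff]
  intro x
  refine ⟨h x, fun hx => ?_⟩
  have := h.inv _ hx
  have h2 : d⁻¹ * (d * x * d⁻¹) * d⁻¹⁻¹ = x := by group
  rwa [h2] at this

theorem Inv.of_mem_normalizer {d : X} {H : Subgroup X} (h : d ∈ normalizer (H : Set X)) : Inv d H :=
  fun x hx => (mem_normalizer_iff.1 h x).1 hx

/-- the commutator `[H, ⟨e⟩]` of a `d`-invariant subgroup is `d`-invariant when `d` commutes with `e`. -/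
theorem Inv.commutator {d e : X} {H : Subgroup X} (h : Inv d H) (hde : Commute d e) :
    Inv d ⁅H, zpowers e⁆ := by
  have hn : d ∈ normalizer ((⁅H, zpowers e⁆ : Subgroup X) : Set X) := by
    have h1 : normalizer (H : Set X) ⊓ normalizer ((zpowers e : Subgroup X) : Set X) ≤
        normalizer ((⁅H, zpowers e⁆ : Subgroup X) : Set X) := by
      intro g hg
      rw [mem_inf, mem_normalizer_iff_map_conj_eq, mem_normalizer_iff_map_conj_eq] at hg
      rw [mem_normalizer_iff_map_conj_eq, map_commutator, hg.1, hg.2]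
    apply h1
    refine mem_inf.2 ⟨h.mem_normalizer, ?_⟩
    have hzc : ∀ x ∈ zpowers e, Commute d x := by
      intro x hx
      have h2 : zpowers e ≤ centralizer {d} := by
        rw [zpowers_le, mem_centralizer_singleton_iff]; exact hde.eq.symm
      exact Commute.symm (mem_centralizer_singleton_iff.1 (h2 hx))
    rw [mem_normalizer_iff]
    intro x
    constructor
    · intro hx
      rw [(hzc x hx).eq]; simpa using hx
    · intro hx
      have h2 := hzc _ hx
      have h3 : x = d⁻¹ * (d * x * d⁻¹) * d := by group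
      rw [h3, h2.inv_left.eq]; simpa using hx
  exact Inv.of_mem_normalizer hn

section efacts

variable {d e : X} {n : ℕ} (hn : 2 ≤ n) (hd : orderOf d = 3 ^ n) (he : e = d ^ 3 ^ (n - 1))

include hn hd he in
theorem e_pow_three : e ^ 3 = 1 := by
  rw [he, ← pow_mul, ← pow_succ]
  have : n - 1 + 1 = n := by omega
  rw [this, ← hd, pow_orderOf_eq_one]

include hn hd he in
theorem e_ne_one : e ≠ 1 := by
  intro h
  rw [he] at h
  have h1 := orderOf_dvd_of_pow_eq_one h
  rw [hd, Nat.pow_dvd_pow_iff_le_right (by norm_num)] at h1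
  omega

include he in
theorem e_mem_zpowers : e ∈ zpowers d := by rw [he]; exact pow_mem (mem_zpowers d) _

include he in
theorem commute_d_e : Commute d e := by rw [he]; exact (Commute.refl d).pow_right _

include hn he in
theorem e_eq_cube_pow : e = (d ^ 3) ^ 3 ^ (n - 2) := by
  rw [he, ← pow_mul, ← pow_succ']
  congr 2; omega

include hn hd he in
theorem e_mem_zpowers_of_ne_one {g : X} (hg : g ∈ zpowers d) (hg1 : g ≠ 1) : e ∈ zpowers g := by
  have he3 := e_pow_three hn hd he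
  rw [← mem_powers_iff_mem_zpowers, Submonoid.mem_powers_iff] at hg
  obtain ⟨k, rfl⟩ := hg
  -- the order of `g` is `3 ^ j`, `j ≥ 1`
  have ho : orderOf (d ^ k) ∣ 3 ^ n := by rw [← hd]; exact orderOf_pow_dvd k
  obtain ⟨j, hjn, hj⟩ := (Nat.dvd_prime_pow Nat.prime_three).1 ho
  have hj1 : 1 ≤ j := by
    rcases Nat.eq_zero_or_pos j with h | h
    · rw [h, pow_zero, orderOf_eq_one_iff] at hj; exact absurd hj hg1
    · exact h
  -- `g' = g ^ 3 ^ (j-1)` has order 3
  have hg'3 : ((d ^ k) ^ 3 ^ (j - 1)) ^ 3 = 1 := by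
    rw [← pow_mul, ← pow_succ]
    have : j - 1 + 1 = j := by omega
    rw [this, ← hj, pow_orderOf_eq_one]
  have hg'1 : (d ^ k) ^ 3 ^ (j - 1) ≠ 1 := by
    intro h
    have h1 := orderOf_dvd_of_pow_eq_one h
    rw [hj, Nat.pow_dvd_pow_iff_le_right (by norm_num)] at h1
    omega
  have hg'mem : (d ^ k) ^ 3 ^ (j - 1) ∈ zpowers (d ^ k) := pow_mem (mem_zpowers _) _
  -- `g' = d ^ m` with `3 ^ (n-1) ∣ m`
  have hm : 3 ^ (n - 1) ∣ k * 3 ^ (j - 1) := by
    have h1 : d ^ (k * 3 ^ (j - 1) * 3) = 1 := by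
      rw [pow_mul, pow_mul]; exact hg'3
    have h2 := orderOf_dvd_of_pow_eq_one h1
    rw [hd] at h2
    have h3 : (3 : ℕ) ^ n = 3 ^ (n - 1) * 3 := by
      rw [← pow_succ]; congr 1; omega
    rw [h3] at h2
    exact Nat.dvd_of_mul_dvd_mul_right (by norm_num) h2
  obtain ⟨m', hm'⟩ := hm
  have hg'e : (d ^ k) ^ 3 ^ (j - 1) = e ^ m' := by
    rw [← pow_mul, hm', pow_mul, ← he]
  have hmod : e ^ m' = e ^ (m' % 3) := by
    conv_lhs => rw [← Nat.mod_add_div m' 3]
    rw [pow_add, pow_mul, he3, one_pow, mul_one]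
  rw [hg'e, hmod] at hg'1 hg'mem
  have hlt : m' % 3 < 3 := Nat.mod_lt _ (by norm_num)
  interval_cases h : m' % 3
  · simp at hg'1
  · simpa using hg'mem
  · have h2 : e = (e ^ 2) ^ 2 := by
      rw [← pow_mul]
      calc e = e ^ 3 * e := by rw [he3, one_mul]
        _ = e ^ (2 * 2) := by rw [← pow_succ]
    rw [h2]
    exact pow_mem hg'mem 2

end efacts

/-- the elements of order at most `2` in the centre of `P`. -/
def Zsub (P : Subgroup X) : Subgroup X where
  carrier := {z | z ∈ P ∧ (∀ x ∈ P, z * x = x * z) ∧ z ^ 2 = 1}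
  one_mem' := ⟨one_mem _, by simp, by simp⟩
  mul_mem' := by
    rintro a b ⟨ha, hac, ha2⟩ ⟨hb, hbc, hb2⟩
    refine ⟨mul_mem ha hb, fun x hx => ?_, ?_⟩
    · rw [mul_assoc, hbc x hx, ← mul_assoc, hac x hx, mul_assoc]
    · have h : Commute a b := hac b hb
      rw [h.mul_pow, ha2, hb2, one_mul]
  inv_mem' := by
    rintro a ⟨ha, hac, ha2⟩
    refine ⟨inv_mem ha, fun x hx => ?_, by rw [inv_pow, ha2, inv_one]⟩
    have h : Commute a x := hac x hx
    exact h.inv_left.eq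

theorem mem_Zsub {P : Subgroup X} {z : X} :
    z ∈ Zsub P ↔ z ∈ P ∧ (∀ x ∈ P, z * x = x * z) ∧ z ^ 2 = 1 := Iff.rfl

theorem Zsub_le (P : Subgroup X) : Zsub P ≤ P := fun _ h => h.1

theorem Zsub_inv {d : X} {P : Subgroup X} (h : Inv d P) : Inv d (Zsub P) := by
  rintro z ⟨hz, hzc, hz2⟩
  refine ⟨h z hz, fun x hx => ?_, ?_⟩
  · have h1 := hzc _ (h.inv x hx)
    simp only [inv_inv] at h1
    calc d * z * d⁻¹ * x = d * (z * (d⁻¹ * x * d)) * d⁻¹ := by group
      _ = d * ((d⁻¹ * x * d) * z) * d⁻¹ := by rw [h1]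
      _ = x * (d * z * d⁻¹) := by group
  · have : (d * z * d⁻¹) ^ 2 = d * z ^ 2 * d⁻¹ := by rw [pow_two, pow_two]; group
    rw [this, hz2]; group

theorem Zsub_ne_bot {P : Subgroup X} (hP2 : IsPGroup 2 P) (hP : P ≠ ⊥) : Zsub P ≠ ⊥ := by
  haveI : Nontrivial P := (Subgroup.nontrivial_iff_ne_bot P).2 hP
  haveI : Fact (Nat.Prime 2) := ⟨Nat.prime_two⟩
  haveI := hP2.center_nontrivial
  have hc2 : IsPGroup 2 (center ↥P) := hP2.to_subgroup _
  obtain ⟨k, hk⟩ := hc2.exists_card_eq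
  have hk1 : k ≠ 0 := by
    intro h
    rw [h, pow_zero] at hk
    have := Finite.one_lt_card (α := center ↥P)
    omega
  have hdvd : 2 ∣ Nat.card (center ↥P) := by rw [hk]; exact dvd_pow_self 2 hk1
  obtain ⟨z, hz⟩ := exists_prime_orderOf_dvd_card' 2 hdvd
  intro hbot
  have hzmem : ((z : ↥P) : X) ∈ Zsub P := by
    refine ⟨(z : ↥P).2, fun x hx => ?_, ?_⟩
    · have := (Subgroup.mem_center_iff.1 z.2) ⟨x, hx⟩
      exact (congrArg Subtype.val this).symm
    · have h1 : z ^ 2 = 1 := by rw [← hz]; exact pow_orderOf_eq_one z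
      have := congrArg (fun t : center ↥P => ((t : ↥P) : X)) h1
      simpa using this
  rw [hbot, mem_bot] at hzmem
  have h1 : z = 1 := by
    apply Subtype.ext; apply Subtype.ext; exact hzmem
  rw [h1, orderOf_one] at hz
  omega

/-- the subgroup generated by the squares of the elements of `P`. -/
def Msub (P : Subgroup X) : Subgroup X := closure {y | ∃ x ∈ P, y = x ^ 2}

theorem Msub_le (P : Subgroup X) : Msub P ≤ P := by
  unfold Msub
  rw [closure_le]
  rintro _ ⟨x, hx, rfl⟩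
  exact pow_mem hx 2

theorem sq_mem_Msub {P : Subgroup X} {x : X} (hx : x ∈ P) : x ^ 2 ∈ Msub P :=
  subset_closure ⟨x, hx, rfl⟩

theorem Msub_inv {g : X} {P : Subgroup X} (h : Inv g P) : Inv g (Msub P) := by
  intro x hx
  unfold Msub at hx ⊢
  induction hx using closure_induction with
  | mem y hy =>
    obtain ⟨x, hx, rfl⟩ := hy
    refine subset_closure ⟨g * x * g⁻¹, h x hx, ?_⟩
    rw [pow_two, pow_two]; group
  | one => simp
  | mul a b _ _ iha ihb =>
    have : g * (a * b) * g⁻¹ = (g * a * g⁻¹) * (g * b * g⁻¹) := by group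
    rw [this]; exact mul_mem iha ihb
  | inv a _ iha =>
    have : g * a⁻¹ * g⁻¹ = (g * a * g⁻¹)⁻¹ := by group
    rw [this]; exact inv_mem iha

theorem comm_mem_Msub {P : Subgroup X} {x y : X} (hx : x ∈ P) (hy : y ∈ P) : ⁅x, y⁆ ∈ Msub P := by
  have h : ⁅x, y⁆ = x ^ 2 * (x⁻¹ * y) ^ 2 * (y⁻¹) ^ 2 := by
    rw [commutatorElement_def, pow_two, pow_two, pow_two]; group
  rw [h]
  exact mul_mem (mul_mem (sq_mem_Msub hx) (sq_mem_Msub (mul_mem (inv_mem hx) hy)))
    (sq_mem_Msub (inv_mem hy))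

theorem card_Msub_lt {P : Subgroup X} (hP2 : IsPGroup 2 P) (hP : P ≠ ⊥) :
    Nat.card (Msub P) < Nat.card P := by
  haveI : Fact (Nat.Prime 2) := ⟨Nat.prime_two⟩
  obtain ⟨k, hk⟩ := hP2.exists_card_eq
  have hk0 : k ≠ 0 := by
    intro h
    rw [h, pow_zero] at hk
    exact hP (Subgroup.card_eq_one.1 hk)
  have hdvd : 2 ^ (k - 1) ∣ Nat.card ↥P := by
    rw [hk]; exact pow_dvd_pow 2 (Nat.sub_le k 1)
  obtain ⟨N, hN⟩ := Sylow.exists_subgroup_card_pow_prime 2 hdvd
  have hidx : N.index = 2 := by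
    have h1 := N.card_mul_index
    rw [hN, hk] at h1
    have h2 : (2 : ℕ) ^ k = 2 ^ (k - 1) * 2 := by
      rw [← pow_succ]; congr 1; omega
    rw [h2] at h1
    exact Nat.eq_of_mul_eq_mul_left (by positivity) h1
  have hle : Msub P ≤ N.map P.subtype := by
    unfold Msub
    rw [closure_le]
    rintro _ ⟨x, hx, rfl⟩
    exact ⟨⟨x, hx⟩ ^ 2, Subgroup.sq_mem_of_index_two hidx _, rfl⟩
  have hcardN : Nat.card (N.map P.subtype) = 2 ^ (k - 1) := by
    rw [Subgroup.card_map_of_injective (subtype_injective P), hN]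
  calc Nat.card (Msub P) ≤ Nat.card (N.map P.subtype) := Subgroup.card_le_of_le hle
    _ = 2 ^ (k - 1) := hcardN
    _ < 2 ^ k := Nat.pow_lt_pow_right (by norm_num) (by omega)
    _ = Nat.card P := hk.symm

section minimal

variable {d e : X} {n : ℕ} {P : Subgroup X}
  (hn : 2 ≤ n) (hd : orderOf d = 3 ^ n) (he : e = d ^ 3 ^ (n - 1))
  (hP2 : IsPGroup 2 P) (hInv : Inv d P)
  (hfpf : ∀ x ∈ P, Commute d x → x = 1)
  (hrank : ∀ E : Subgroup X, E ≤ P → (∀ u ∈ E, ∀ v ∈ E, u * v = v * u) →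
    (∀ u ∈ E, u ^ 2 = 1) → Nat.card E ≤ 4)
  (hne : e ∉ centralizer (P : Set X))
  (hmin : ∀ P2 : Subgroup X, P2 ≤ P → Inv d P2 → Nat.card P2 < Nat.card P →
    e ∈ centralizer (P2 : Set X))

include hn hd he hP2 hInv hne hmin in
theorem comm_eq_self : ⁅P, zpowers e⁆ = P := by
  have hInve : Inv e P := hInv.of_mem_zpowers (e_mem_zpowers he)
  have hEn : zpowers e ≤ normalizer (P : Set X) := zpowers_le.2 hInve.mem_normalizer
  have hRP : ⁅P, zpowers e⁆ ≤ P := le_normalizer_iff_commutator_le_left.1 hEn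
  by_contra hneq
  have hlt : Nat.card (⁅P, zpowers e⁆ : Subgroup X) < Nat.card P := by
    by_contra h
    push Not at h
    exact hneq (Subgroup.eq_of_le_of_card_ge hRP h)
  have hec := hmin _ hRP (hInv.commutator (commute_d_e he)) hlt
  apply hne
  rw [mem_centralizer_iff]
  intro x hx
  have hcR : e⁻¹ * x * e * x⁻¹ ∈ (⁅P, zpowers e⁆ : Subgroup X) := by
    rw [commutator_comm]
    have := commutator_mem_commutator (inv_mem (mem_zpowers e)) hx
    rwa [commutatorElement_def, inv_inv] at this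
  have hc : Commute e (e⁻¹ * x * e * x⁻¹) := ((mem_centralizer_iff.1 hec) _ hcR).symm
  have h3 := Cfsg.Agent.Helper9.TwoConj.pow_eq_one_of_commute_comm e x _ rfl hc 3
    (e_pow_three hn hd he)
  have hcP : e⁻¹ * x * e * x⁻¹ ∈ P := hRP hcR
  obtain ⟨k, hk⟩ := hP2 ⟨_, hcP⟩
  have hk' : (e⁻¹ * x * e * x⁻¹) ^ 2 ^ k = 1 := congrArg Subtype.val hk
  have h1 : orderOf (e⁻¹ * x * e * x⁻¹) ∣ 3 := orderOf_dvd_of_pow_eq_one h3
  have h2 : orderOf (e⁻¹ * x * e * x⁻¹) ∣ 2 ^ k := orderOf_dvd_of_pow_eq_one hk'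
  have h4 : orderOf (e⁻¹ * x * e * x⁻¹) = 1 :=
    Nat.eq_one_of_dvd_coprimes (Nat.Coprime.pow_right k (by norm_num : Nat.Coprime 3 2)) h1 h2
  rw [orderOf_eq_one_iff] at h4
  calc x * e = e * (e⁻¹ * x * e * x⁻¹) * x := by group
    _ = e * x := by rw [h4, mul_one]

include hrank in
theorem card_Zsub_le : Nat.card (Zsub P) ≤ 4 :=
  hrank (Zsub P) (Zsub_le P) (fun u hu v hv => hu.2.1 v (Zsub_le P hv)) (fun u hu => hu.2.2)

include hP2 hInv hfpf hrank hne in
theorem card_Zsub_eq : Nat.card (Zsub P) = 4 := by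
  have hPne : P ≠ ⊥ := by
    intro h
    apply hne
    rw [h, mem_centralizer_iff]
    intro x hx
    have : x = 1 := by simpa using hx
    rw [this, one_mul, mul_one]
  have hZne := Zsub_ne_bot hP2 hPne
  have hZ2 : IsPGroup 2 (Zsub P) := hP2.to_le (Zsub_le P)
  obtain ⟨j, hj⟩ := hZ2.exists_card_eq
  have hle := card_Zsub_le hrank
  have hj0 : j ≠ 0 := by
    intro h
    rw [h, pow_zero] at hj
    exact hZne (Subgroup.card_eq_one.1 hj)
  have hj2 : j ≤ 2 := by
    by_contra h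
    push Not at h
    have : 2 ^ 3 ≤ 2 ^ j := Nat.pow_le_pow_right (by norm_num) h
    omega
  have hj12 : j = 1 ∨ j = 2 := by omega
  rcases hj12 with h | h
  · exfalso
    rw [h, pow_one] at hj
    obtain ⟨⟨z, hz⟩, hz1⟩ := (Subgroup.ne_bot_iff_exists_ne_one).1 hZne
    have hz1' : z ≠ 1 := fun h => hz1 (Subtype.ext h)
    obtain ⟨w, hw, huniq⟩ := (Nat.card_eq_two_iff' (1 : ↥(Zsub P))).1 hj
    have hconj : d * z * d⁻¹ ∈ Zsub P := Zsub_inv hInv z hz
    have hconj1 : d * z * d⁻¹ ≠ 1 := by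
      intro h; apply hz1'; simpa using h
    have e1 := huniq ⟨z, hz⟩ hz1
    have e2 := huniq ⟨d * z * d⁻¹, hconj⟩ (fun h => hconj1 (congrArg Subtype.val h))
    have h3 : d * z * d⁻¹ = z := congrArg Subtype.val (e2.trans e1.symm)
    have hc : d * z = z * d := by
      have h4 := congrArg (· * d) h3
      simpa [mul_assoc] using h4
    exact hz1' (hfpf z (Zsub_le P hz) hc)
  · rw [hj, h]; norm_num

include hP2 hInv hfpf hrank hne in
theorem mem_Zsub_of_sq {x : X} (hx : x ∈ P) (hx2 : x ^ 2 = 1) : x ∈ Zsub P := by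
  have hZ4 := card_Zsub_eq hP2 hInv hfpf hrank hne
  -- `E = Z ⊔ ⟨x⟩` is commutative of exponent 2
  have hEP : Zsub P ⊔ zpowers x ≤ P := sup_le (Zsub_le P) (zpowers_le.2 hx)
  have hEx : Zsub P ⊔ zpowers x ≤ centralizer {x} := by
    refine sup_le ?_ ?_
    · intro z hz
      rw [mem_centralizer_singleton_iff]
      exact hz.2.1 x hx
    · rw [zpowers_le, mem_centralizer_singleton_iff]
  have hEc : ∀ u ∈ Zsub P ⊔ zpowers x, ∀ v ∈ Zsub P ⊔ zpowers x, u * v = v * u := by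
    intro u hu v hv
    have h1 : Zsub P ⊔ zpowers x ≤ centralizer {v} := by
      refine sup_le ?_ ?_
      · intro z hz
        rw [mem_centralizer_singleton_iff]
        exact hz.2.1 v (hEP hv)
      · rw [zpowers_le, mem_centralizer_singleton_iff]
        exact (mem_centralizer_singleton_iff.1 (hEx hv)).symm
    exact mem_centralizer_singleton_iff.1 (h1 hu)
  -- exponent 2
  let S2 : Subgroup X :=
    { carrier := {u | u ∈ Zsub P ⊔ zpowers x ∧ u ^ 2 = 1}
      one_mem' := ⟨one_mem _, one_pow 2⟩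
      mul_mem' := by
        rintro a b ⟨ha, ha2⟩ ⟨hb, hb2⟩
        refine ⟨mul_mem ha hb, ?_⟩
        have h : Commute a b := hEc a ha b hb
        rw [h.mul_pow, ha2, hb2, one_mul]
      inv_mem' := by
        rintro a ⟨ha, ha2⟩
        exact ⟨inv_mem ha, by rw [inv_pow, ha2, inv_one]⟩ }
  have hES2 : Zsub P ⊔ zpowers x ≤ S2 := by
    refine sup_le ?_ ?_
    · intro z hz
      exact ⟨le_sup_left (b := zpowers x) hz, hz.2.2⟩
    · rw [zpowers_le]
      exact ⟨le_sup_right (a := Zsub P) (mem_zpowers x), hx2⟩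
  have hcard := hrank _ hEP hEc (fun u hu => (hES2 hu).2)
  have heq : Zsub P = Zsub P ⊔ zpowers x :=
    Subgroup.eq_of_le_of_card_ge le_sup_left (by rw [hZ4]; exact hcard)
  rw [heq]
  exact le_sup_right (a := Zsub P) (mem_zpowers x)

include hP2 hInv hfpf hrank hne in
theorem cube_commute : ∀ z ∈ Zsub P, Commute (d ^ 3) z := by
  have hZ4 := card_Zsub_eq hP2 hInv hfpf hrank hne
  intro z hz
  by_cases hz1 : z = 1
  · rw [hz1]; exact Commute.one_right _
  have hIZ := Zsub_inv hInv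
  have hz' : d * z * d⁻¹ ∈ Zsub P := hIZ z hz
  have hz'' : d * (d * z * d⁻¹) * d⁻¹ ∈ Zsub P := hIZ _ hz'
  have hne1 : d * z * d⁻¹ ≠ z := by
    intro h
    apply hz1
    exact hfpf z (Zsub_le P hz) (commute_of_conj_eq h)
  have hz'1 : d * z * d⁻¹ ≠ 1 := by
    intro h; apply hz1; simpa using h
  have hzz : z * z = 1 := by rw [← pow_two]; exact hz.2.2
  have hz'z' : (d * z * d⁻¹) * (d * z * d⁻¹) = 1 := by rw [← pow_two]; exact hz'.2.2
  have hcomm : z * (d * z * d⁻¹) = (d * z * d⁻¹) * z := hz.2.1 _ (Zsub_le P hz')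
  have hprod1 : z * (d * z * d⁻¹) ≠ 1 := by
    intro h
    apply hne1
    calc d * z * d⁻¹ = (z * z) * (d * z * d⁻¹) := by rw [hzz, one_mul]
      _ = z * (z * (d * z * d⁻¹)) := by rw [mul_assoc]
      _ = z := by rw [h, mul_one]
  rcases four_group_elems (Zsub P) hZ4 hz hz' hz1 hz'1 hne1 hzz _ hz'' with h | h | h | h
  · exfalso
    apply hz'1
    have : d * z * d⁻¹ = d⁻¹ * (d * (d * z * d⁻¹) * d⁻¹) * d := by group
    rw [this, h]; group
  · -- `z'' = z`: then `z z'` is fixed by `d`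
    exfalso
    apply hprod1
    apply hfpf _ (mul_mem (Zsub_le P hz) (Zsub_le P hz'))
    have h5 : d * (z * (d * z * d⁻¹)) * d⁻¹ = z * (d * z * d⁻¹) := by
      calc d * (z * (d * z * d⁻¹)) * d⁻¹ = (d * z * d⁻¹) * (d * (d * z * d⁻¹) * d⁻¹) := by group
        _ = (d * z * d⁻¹) * z := by rw [h]
        _ = z * (d * z * d⁻¹) := hcomm.symm
    exact commute_of_conj_eq h5
  · exfalso
    apply hne1
    have : d * z * d⁻¹ = d⁻¹ * (d * (d * z * d⁻¹) * d⁻¹) * d := by group
    rw [this, h]; group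
  · -- `z'' = z z'`
    have h5 : d ^ 3 * z * (d ^ 3)⁻¹ = z := by
      calc d ^ 3 * z * (d ^ 3)⁻¹ = d * (d * (d * z * d⁻¹) * d⁻¹) * d⁻¹ := by
            rw [pow_succ, pow_two]; group
        _ = d * (z * (d * z * d⁻¹)) * d⁻¹ := by rw [h]
        _ = (d * z * d⁻¹) * (d * (d * z * d⁻¹) * d⁻¹) := by group
        _ = (d * z * d⁻¹) * (z * (d * z * d⁻¹)) := by rw [h]
        _ = (d * z * d⁻¹) * ((d * z * d⁻¹) * z) := by rw [hcomm]
        _ = z := by rw [← mul_assoc, hz'z', one_mul]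
    exact commute_of_conj_eq h5

include hn he hP2 hInv hfpf hrank hne in
theorem e_commute_Zsub : ∀ z ∈ Zsub P, Commute e z := by
  intro z hz
  rw [e_eq_cube_pow hn he]
  exact (cube_commute hP2 hInv hfpf hrank hne z hz).pow_left _

include hP2 hne in
theorem P_ne_bot : P ≠ ⊥ := by
  intro h
  apply hne
  rw [h, mem_centralizer_iff]
  intro x hx
  have : x = 1 := by simpa using hx
  rw [this, one_mul, mul_one]

include hn hd he hP2 hInv hne hmin in
theorem e_centralizes_Msub : zpowers e ≤ centralizer (Msub P : Set X) := by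
  have hMlt := card_Msub_lt hP2 (P_ne_bot hP2 hne)
  exact zpowers_le.2 (hmin _ (Msub_le P) (Msub_inv hInv) hMlt)

include hn hd he hP2 hInv hne hmin in
theorem Msub_central : ∀ m ∈ Msub P, ∀ x ∈ P, m * x = x * m := by
  have hEM := e_centralizes_Msub hn hd he hP2 hInv hne hmin
  have h1 : ⁅⁅zpowers e, Msub P⁆, P⁆ = ⊥ := by
    rw [(commutator_eq_bot_iff_le_centralizer).2 hEM, commutator_bot_left]
  have hPM : P ≤ normalizer (Msub P : Set X) := by
    intro g hg
    have hgP : Inv g P := fun x hx => mul_mem (mul_mem hg hx) (inv_mem hg)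
    exact (Msub_inv hgP).mem_normalizer
  have h2 : ⁅⁅Msub P, P⁆, zpowers e⁆ = ⊥ := by
    have h3 : ⁅Msub P, P⁆ ≤ Msub P := le_normalizer_iff_commutator_le_left.1 hPM
    have h4 : ⁅Msub P, zpowers e⁆ = ⊥ := by
      rw [commutator_comm]; exact commutator_eq_bot_iff_le_centralizer.2 hEM
    rw [eq_bot_iff, ← h4]; exact commutator_mono h3 le_rfl
  have h5 := commutator_commutator_eq_bot_of_rotate h1 h2
  rw [comm_eq_self hn hd he hP2 hInv hne hmin] at h5
  have h6 := commutator_eq_bot_iff_le_centralizer.1 h5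
  intro m hm x hx
  exact (mem_centralizer_iff.1 (h6 hx)) m hm

include hn hd he hP2 hInv hne hmin in
theorem comm_mem_Zsub : ∀ x ∈ P, ∀ y ∈ P, ⁅x, y⁆ ∈ Zsub P := by
  have hMc := Msub_central hn hd he hP2 hInv hne hmin
  intro x hx y hy
  have hcM : ⁅x, y⁆ ∈ Msub P := comm_mem_Msub hx hy
  refine ⟨Msub_le P hcM, hMc _ hcM, ?_⟩
  have h1 : x * y * x⁻¹ = ⁅x, y⁆ * y := by rw [commutatorElement_def]; group
  have h2 : x * y ^ 2 * x⁻¹ = (x * y * x⁻¹) ^ 2 := by rw [pow_two, pow_two]; group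
  have h3 : Commute ⁅x, y⁆ y := hMc _ hcM y hy
  have h4 : x * y ^ 2 * x⁻¹ = y ^ 2 := by
    have := hMc _ (sq_mem_Msub hy) x hx
    rw [← this]; group
  rw [h1, h3.mul_pow, h4] at h2
  exact (mul_eq_right.1 h2.symm)

include hn hd he hP2 hInv hne hmin in
theorem sq_mem_Zsub : ∀ x ∈ P, x ^ 2 ∈ Zsub P := by
  have hMc := Msub_central hn hd he hP2 hInv hne hmin
  have hcZ := comm_mem_Zsub hn hd he hP2 hInv hne hmin
  have hEM := e_centralizes_Msub hn hd he hP2 hInv hne hmin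
  have hInve : Inv e P := hInv.of_mem_zpowers (e_mem_zpowers he)
  let S4 : Subgroup X :=
    { carrier := {x | x ∈ P ∧ (x ^ 2) ^ 2 = 1}
      one_mem' := ⟨one_mem _, by simp⟩
      mul_mem' := by
        rintro a b ⟨ha, ha2⟩ ⟨hb, hb2⟩
        refine ⟨mul_mem ha hb, ?_⟩
        have hc := hcZ b hb a ha
        have h1 : Commute ⁅b, a⁆ a := hc.2.1 a ha
        rw [mul_sq_of_comm h1]
        have h2 : Commute ⁅b, a⁆ (a ^ 2) := hc.2.1 _ (pow_mem ha 2)
        have h3 : Commute (⁅b, a⁆ * a ^ 2) (b ^ 2) :=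
          (hMc _ (sq_mem_Msub hb) _ (mul_mem (Zsub_le P hc) (pow_mem ha 2))).symm
        rw [h3.mul_pow, h2.mul_pow, ha2, hb2, hc.2.2, one_mul, one_mul]
      inv_mem' := by
        rintro a ⟨ha, ha2⟩
        refine ⟨inv_mem ha, ?_⟩
        rw [inv_pow, inv_pow, ha2, inv_one] }
  have hle : ⁅P, zpowers e⁆ ≤ S4 := by
    rw [commutator_le]
    intro x hx g hg
    have hInvg : Inv g P := hInve.of_mem_zpowers hg
    have hwP : g * x⁻¹ * g⁻¹ ∈ P := hInvg _ (inv_mem hx)
    have h0 : ⁅x, g⁆ = x * (g * x⁻¹ * g⁻¹) := by rw [commutatorElement_def]; group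
    refine ⟨?_, ?_⟩
    · rw [h0]; exact mul_mem hx hwP
    · have hc := hcZ _ hwP x hx
      have h1 : Commute ⁅g * x⁻¹ * g⁻¹, x⁆ x := hc.2.1 x hx
      have h2 : (g * x⁻¹ * g⁻¹) ^ 2 = (x ^ 2)⁻¹ := by
        have h3 : (g * x⁻¹ * g⁻¹) ^ 2 = g * (x⁻¹) ^ 2 * g⁻¹ := by rw [pow_two, pow_two]; group
        have h4 : g * (x⁻¹) ^ 2 = (x⁻¹) ^ 2 * g :=
          ((mem_centralizer_iff.1 (hEM hg)) _ (sq_mem_Msub (inv_mem hx))).symm
        rw [h3, h4, mul_assoc, mul_inv_cancel, mul_one, inv_pow]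
      rw [h0, mul_sq_of_comm h1, h2, mul_assoc, mul_inv_cancel, mul_one]
      exact hc.2.2
  rw [comm_eq_self hn hd he hP2 hInv hne hmin] at hle
  intro x hx
  exact ⟨pow_mem hx 2, hMc _ (sq_mem_Msub hx), (hle hx).2⟩

include hn hd he hP2 hInv hfpf hrank hne hmin in
theorem minimal_false : False := by
  have hZ4 := card_Zsub_eq hP2 hInv hfpf hrank hne
  have hlt : Nat.card P < 256 :=
    card_lt P (Zsub P) (Zsub_le P) (fun z hz x hx => hz.2.1 x hx) hZ4 (fun z hz => hz.2.2)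
      (fun x hx hx2 => mem_Zsub_of_sq hP2 hInv hfpf hrank hne hx hx2)
      (comm_mem_Zsub hn hd he hP2 hInv hne hmin) (sq_mem_Zsub hn hd he hP2 hInv hne hmin)
  have heZ := e_commute_Zsub hn he hP2 hInv hfpf hrank hne
  have hde : Commute d e := commute_d_e he
  obtain ⟨C, hC⟩ : ∃ C : Subgroup X, C = P ⊓ centralizer {e} := ⟨_, rfl⟩
  have hmemC : ∀ x, x ∈ C ↔ x ∈ P ∧ Commute e x := by
    intro x
    rw [hC, mem_inf, mem_centralizer_singleton_iff]
    exact ⟨fun h => ⟨h.1, h.2.symm⟩, fun h => ⟨h.1, h.2.symm⟩⟩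
  have hZC : Zsub P ≤ C := fun z hz => (hmemC z).2 ⟨Zsub_le P hz, heZ z hz⟩
  have hCP : C ≤ P := fun x hx => ((hmemC x).1 hx).1
  have hCne : Nat.card C < Nat.card P := by
    by_contra h
    push Not at h
    have h1 : C = P := Subgroup.eq_of_le_of_card_ge hCP h
    apply hne
    rw [mem_centralizer_iff]
    intro x hx
    have : x ∈ C := by rw [h1]; exact hx
    exact ((hmemC x).1 this).2.eq.symm
  have hdvd : Nat.card (zpowers d) ∣ ((P : Set X) \ (C : Set X)).ncard := by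
    apply Cfsg.Agent.Helper4.card_dvd_ncard_of_free_conj
    · intro h hh x hx
      have hhe : Commute h e := by
        have h2 : zpowers d ≤ centralizer {e} := by
          rw [zpowers_le, mem_centralizer_singleton_iff]; exact hde.eq
        exact (mem_centralizer_singleton_iff.1 (h2 hh))
      refine ⟨(hInv.of_mem_zpowers hh) x hx.1, fun hmem => hx.2 ?_⟩
      have h3 : Commute e (h * x * h⁻¹) := ((hmemC _).1 hmem).2
      apply (hmemC x).2 ⟨hx.1, ?_⟩
      have h4 : x = h⁻¹ * (h * x * h⁻¹) * h := by group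
      rw [h4]
      exact ((hhe.symm.inv_right).mul_right h3).mul_right hhe.symm
    · intro h hh x hx hfix
      by_contra h1
      have h2 := e_mem_zpowers_of_ne_one hn hd he hh h1
      have h3 : zpowers h ≤ centralizer {x} := by
        rw [zpowers_le, mem_centralizer_singleton_iff]
        exact (commute_of_conj_eq hfix).eq
      have h4 : Commute e x := mem_centralizer_singleton_iff.1 (h3 h2)
      exact hx.2 ((hmemC x).2 ⟨hx.1, h4⟩)
  rw [Nat.card_zpowers, hd] at hdvd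
  have hncard : ((P : Set X) \ (C : Set X)).ncard = Nat.card P - Nat.card C := by
    rw [Set.ncard_sdiff (SetLike.coe_subset_coe.2 hCP) (Set.toFinite _)]
    rw [← Nat.card_coe_set_eq, ← Nat.card_coe_set_eq]
    rfl
  rw [hncard] at hdvd
  obtain ⟨k, hk⟩ := hP2.exists_card_eq
  obtain ⟨c, hc⟩ := (hP2.to_le hCP).exists_card_eq
  have hc2 : 2 ≤ c := by
    have h1 := Subgroup.card_dvd_of_le hZC
    rw [hZ4, hc] at h1
    exact (Nat.pow_dvd_pow_iff_le_right (by norm_num : 1 < 2)).1 (by simpa using h1)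
  rw [hk, hc] at hCne hdvd
  rw [hk] at hlt
  have hck : c < k := (Nat.pow_lt_pow_iff_right (by norm_num : 1 < 2)).1 hCne
  have hk7 : k ≤ 7 := by
    by_contra h
    push Not at h
    have : 2 ^ 8 ≤ 2 ^ k := Nat.pow_le_pow_right (by norm_num) h
    omega
  have h9 : 9 ∣ 2 ^ k - 2 ^ c := by
    refine Dvd.dvd.trans ?_ hdvd
    have : (9 : ℕ) = 3 ^ 2 := by norm_num
    rw [this]
    exact pow_dvd_pow 3 hn
  clear hdvd hlt hCne hk hc
  interval_cases k <;> interval_cases c <;> omega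

end minimal

/-- S3738 -/
theorem orderOf_eq_three (d : X) (n : ℕ) (hn : 1 ≤ n) (hd : orderOf d = 3 ^ n) (P : Subgroup X)
    (hP : IsPGroup 2 P) (hdP : d ∈ normalizer (P : Set X))
    (hfaith : zpowers d ⊓ centralizer (P : Set X) = ⊥) (hfpf : P ⊓ centralizer {d} = ⊥)
    (hrank : ∀ V : Subgroup X, V ≤ P → IsMulCommutative V → Cfsg.PRankLE 2 2 V) :
    orderOf d = 3 := by
  by_cases hn2 : n = 1
  · rw [hd, hn2, pow_one]
  exfalso
  have hn' : 2 ≤ n := by omega
  obtain ⟨e, he⟩ : ∃ e, e = d ^ 3 ^ (n - 1) := ⟨_, rfl⟩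
  have hfam : ∃ m, ∃ P1 : Subgroup X,
      (P1 ≤ P ∧ Inv d P1 ∧ e ∉ centralizer (P1 : Set X)) ∧ Nat.card P1 = m := by
    refine ⟨_, P, ⟨le_rfl, Inv.of_mem_normalizer hdP, ?_⟩, rfl⟩
    intro hc
    have : e ∈ zpowers d ⊓ centralizer (P : Set X) := mem_inf.2 ⟨e_mem_zpowers he, hc⟩
    rw [hfaith, mem_bot] at this
    exact e_ne_one hn' hd he this
  classical
  obtain ⟨P1, ⟨hP1P, hInv1, hne1⟩, hcard⟩ := Nat.find_spec hfam
  have hmin : ∀ P2 : Subgroup X, P2 ≤ P1 → Inv d P2 → Nat.card P2 < Nat.card P1 →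
      e ∈ centralizer (P2 : Set X) := by
    intro P2 hP2 hI hlt
    by_contra hnc
    have := Nat.find_min' hfam ⟨P2, ⟨hP2.trans hP1P, hI, hnc⟩, rfl⟩
    omega
  apply minimal_false hn' hd he (hP.to_le hP1P) hInv1 ?_ ?_ hne1 hmin
  · intro x hx hc
    have : x ∈ P ⊓ centralizer {d} :=
      mem_inf.2 ⟨hP1P hx, mem_centralizer_singleton_iff.2 hc.eq.symm⟩
    rw [hfpf, mem_bot] at this
    exact this
  · intro E hE hEc hE2
    have hEP := hE.trans hP1P
    have hcomm : IsMulCommutative E := ⟨⟨fun a b => Subtype.ext (hEc a a.2 b b.2)⟩⟩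
    have htop : IsMulCommutative (⊤ : Subgroup ↥E) :=
      ⟨⟨fun a b => Subtype.ext (hcomm.is_comm.comm a.1 b.1)⟩⟩
    have h1 := hrank E hEP hcomm ⊤ htop (fun a _ => by
      apply Subtype.ext
      simpa using hE2 a a.2)
    rw [Subgroup.card_top] at h1
    simpa using h1

end Cfsg.Agent.Helper9.RankTwoFpf
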