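import Mathlib
import Cfsg.Agent.Helper9.RankTwoFpfB

set_option autoImplicit false
set_option linter.unusedSectionVars false
set_option linter.unusedVariables false
set_option linter.style.haveILetI false

/-! # A minimal configuration: a `2`-group `P` acted on by a group `E` generated by elements of
order `3`, such that `E` centralizes `[P,E]` (if proper) and the subgroup generated by squares. -/

namespace Cfsg.Agent.Helper9.NoE8

open Subgroup Cfsg.Agent.Helper9.RankTwoFpf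
open scoped commutatorElement

variable {X : Type*} [Group X] [Finite X]

section special

variable {P E : Subgroup X} {𝒢 : Set X}
  (hP2 : IsPGroup 2 P) (hEn : ∀ g ∈ E, Inv g P) (hgen : E = closure 𝒢) (h3 : ∀ g ∈ 𝒢, g ^ 3 = 1)
  (hne : ¬ E ≤ centralizer (P : Set X))
  (m1 : ⁅P, E⁆ ≠ P → E ≤ centralizer ((⁅P, E⁆ : Subgroup X) : Set X))
  (m2 : E ≤ centralizer (Msub P : Set X))

include hP2 hEn hgen h3 hne m1 in
theorem comm_eq_self' : ⁅P, E⁆ = P := by
  have hEnorm : E ≤ normalizer (P : Set X) := fun g hg => (hEn g hg).mem_normalizer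
  have hRP : ⁅P, E⁆ ≤ P := le_normalizer_iff_commutator_le_left.1 hEnorm
  by_contra hneq
  have hec := m1 hneq
  apply hne
  rw [hgen, closure_le]
  intro g hg
  have hgE : g ∈ E := by rw [hgen]; exact subset_closure hg
  rw [SetLike.mem_coe, mem_centralizer_iff]
  intro x hx
  have hcR : g⁻¹ * x * g * x⁻¹ ∈ (⁅P, E⁆ : Subgroup X) := by
    rw [commutator_comm]
    have := commutator_mem_commutator (inv_mem hgE) hx
    rwa [commutatorElement_def, inv_inv] at this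
  have hc : Commute g (g⁻¹ * x * g * x⁻¹) := ((mem_centralizer_iff.1 (hec hgE)) _ hcR).symm
  have h3' := Cfsg.Agent.Helper9.TwoConj.pow_eq_one_of_commute_comm g x _ rfl hc 3 (h3 g hg)
  have hcP : g⁻¹ * x * g * x⁻¹ ∈ P := hRP hcR
  obtain ⟨k, hk⟩ := hP2 ⟨_, hcP⟩
  have hk' : (g⁻¹ * x * g * x⁻¹) ^ 2 ^ k = 1 := congrArg Subtype.val hk
  have h1 : orderOf (g⁻¹ * x * g * x⁻¹) ∣ 3 := orderOf_dvd_of_pow_eq_one h3'
  have h2 : orderOf (g⁻¹ * x * g * x⁻¹) ∣ 2 ^ k := orderOf_dvd_of_pow_eq_one hk'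
  have h4 : orderOf (g⁻¹ * x * g * x⁻¹) = 1 :=
    Nat.eq_one_of_dvd_coprimes (Nat.Coprime.pow_right k (by norm_num : Nat.Coprime 3 2)) h1 h2
  rw [orderOf_eq_one_iff] at h4
  calc x * g = g * (g⁻¹ * x * g * x⁻¹) * x := by group
    _ = g * x := by rw [h4, mul_one]

include hP2 hEn hgen h3 hne m1 m2 in
theorem Msub_central' : ∀ m ∈ Msub P, ∀ x ∈ P, m * x = x * m := by
  have h1 : ⁅⁅E, Msub P⁆, P⁆ = ⊥ := by
    rw [(commutator_eq_bot_iff_le_centralizer).2 m2, commutator_bot_left]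
  have hPM : P ≤ normalizer (Msub P : Set X) := by
    intro g hg
    have hgP : Inv g P := fun x hx => mul_mem (mul_mem hg hx) (inv_mem hg)
    exact (Msub_inv hgP).mem_normalizer
  have h2 : ⁅⁅Msub P, P⁆, E⁆ = ⊥ := by
    have h3 : ⁅Msub P, P⁆ ≤ Msub P := le_normalizer_iff_commutator_le_left.1 hPM
    have h4 : ⁅Msub P, E⁆ = ⊥ := by
      rw [commutator_comm]; exact commutator_eq_bot_iff_le_centralizer.2 m2
    rw [eq_bot_iff, ← h4]; exact commutator_mono h3 le_rfl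
  have h5 := commutator_commutator_eq_bot_of_rotate h1 h2
  rw [comm_eq_self' hP2 hEn hgen h3 hne m1] at h5
  have h6 := commutator_eq_bot_iff_le_centralizer.1 h5
  intro m hm x hx
  exact (mem_centralizer_iff.1 (h6 hx)) m hm

include hP2 hEn hgen h3 hne m1 m2 in
theorem comm_mem_Zsub' : ∀ x ∈ P, ∀ y ∈ P, ⁅x, y⁆ ∈ Zsub P := by
  have hMc := Msub_central' hP2 hEn hgen h3 hne m1 m2
  intro x hx y hy
  have hcM : ⁅x, y⁆ ∈ Msub P := comm_mem_Msub hx hy
  refine ⟨Msub_le P hcM, hMc _ hcM, ?_⟩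
  have h1 : x * y * x⁻¹ = ⁅x, y⁆ * y := by rw [commutatorElement_def]; group
  have h2 : x * y ^ 2 * x⁻¹ = (x * y * x⁻¹) ^ 2 := by rw [pow_two, pow_two]; group
  have h3 : Commute ⁅x, y⁆ y := hMc _ hcM y hy
  have h4 : x * y ^ 2 * x⁻¹ = y ^ 2 := by
    have := hMc _ (sq_mem_Msub hy) x hx
    rw [← this]; group
  rw [h1, h3.mul_pow, h4] at h2
  exact (mul_eq_right.1 h2.symm)

include hP2 hEn hgen h3 hne m1 m2 in
theorem sq_mem_Zsub' : ∀ x ∈ P, x ^ 2 ∈ Zsub P := by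
  have hMc := Msub_central' hP2 hEn hgen h3 hne m1 m2
  have hcZ := comm_mem_Zsub' hP2 hEn hgen h3 hne m1 m2
  let S4 : Subgroup X :=
    { carrier := {x | x ∈ P ∧ (x ^ 2) ^ 2 = 1}
      one_mem' := ⟨one_mem _, by simp⟩
      mul_mem' := by
        rintro a b ⟨ha, ha2⟩ ⟨hb, hb2⟩
        refine ⟨mul_mem ha hb, ?_⟩
        have hc := hcZ b hb a ha
        have h1 : Commute ⁅b, a⁆ a := hc.2.1 a ha
        rw [mul_sq_of_comm h1]
        have h2 : Commute ⁅b, a⁆ (a ^ 2) := hc.2.1 _ (pow_mem ha 2)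
        have h3 : Commute (⁅b, a⁆ * a ^ 2) (b ^ 2) :=
          (hMc _ (sq_mem_Msub hb) _ (mul_mem (Zsub_le P hc) (pow_mem ha 2))).symm
        rw [h3.mul_pow, h2.mul_pow, ha2, hb2, hc.2.2, one_mul, one_mul]
      inv_mem' := by
        rintro a ⟨ha, ha2⟩
        refine ⟨inv_mem ha, ?_⟩
        rw [inv_pow, inv_pow, ha2, inv_one] }
  have hle : ⁅P, E⁆ ≤ S4 := by
    rw [commutator_le]
    intro x hx g hg
    have hInvg : Inv g P := hEn g hg
    have hwP : g * x⁻¹ * g⁻¹ ∈ P := hInvg _ (inv_mem hx)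
    have h0 : ⁅x, g⁆ = x * (g * x⁻¹ * g⁻¹) := by rw [commutatorElement_def]; group
    refine ⟨?_, ?_⟩
    · rw [h0]; exact mul_mem hx hwP
    · have hc := hcZ _ hwP x hx
      have h1 : Commute ⁅g * x⁻¹ * g⁻¹, x⁆ x := hc.2.1 x hx
      have h2 : (g * x⁻¹ * g⁻¹) ^ 2 = (x ^ 2)⁻¹ := by
        have h3 : (g * x⁻¹ * g⁻¹) ^ 2 = g * (x⁻¹) ^ 2 * g⁻¹ := by rw [pow_two, pow_two]; group
        have h4 : g * (x⁻¹) ^ 2 = (x⁻¹) ^ 2 * g :=
          ((mem_centralizer_iff.1 (m2 hg)) _ (sq_mem_Msub (inv_mem hx))).symm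
        rw [h3, h4, mul_assoc, mul_inv_cancel, mul_one, inv_pow]
      rw [h0, mul_sq_of_comm h1, h2, mul_assoc, mul_inv_cancel, mul_one]
      exact hc.2.2
  rw [comm_eq_self' hP2 hEn hgen h3 hne m1] at hle
  intro x hx
  exact ⟨pow_mem hx 2, hMc _ (sq_mem_Msub hx), (hle hx).2⟩

end special

/-- every elementary abelian `2`-subgroup has order at most `4`. -/
def R2 (X : Type*) [Group X] : Prop :=
  ∀ E : Subgroup X, (∀ u ∈ E, ∀ v ∈ E, u * v = v * u) → (∀ u ∈ E, u ^ 2 = 1) → Nat.card E ≤ 4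

theorem r2_of_noE8
    (h : ¬ ∃ E : Subgroup X, Cfsg.IsElementaryAbelian 2 E ∧ Nat.card E = 8) : R2 X := by
  intro E hEc hE2
  haveI : Fact (Nat.Prime 2) := ⟨Nat.prime_two⟩
  have hEp : IsPGroup 2 E := by
    intro u
    refine ⟨1, ?_⟩
    apply Subtype.ext
    simpa using hE2 u u.2
  obtain ⟨k, hk⟩ := hEp.exists_card_eq
  by_contra hgt
  push Not at hgt
  have hk3 : 3 ≤ k := by
    by_contra h3
    push Not at h3
    have : 2 ^ k ≤ 2 ^ 2 := Nat.pow_le_pow_right (by norm_num) (by omega)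
    omega
  have hdvd : 2 ^ 3 ∣ Nat.card ↥E := by rw [hk]; exact pow_dvd_pow 2 hk3
  obtain ⟨E', hE'⟩ := Sylow.exists_subgroup_card_pow_prime 2 hdvd
  apply h
  refine ⟨E'.map E.subtype, ⟨⟨⟨?_⟩⟩, ?_⟩, ?_⟩
  · rintro ⟨_, a, ha, rfl⟩ ⟨_, b, hb, rfl⟩
    apply Subtype.ext
    exact hEc a a.2 b b.2
  · rintro _ ⟨a, ha, rfl⟩
    exact hE2 a a.2
  · rw [Subgroup.card_map_of_injective (subtype_injective E), hE']; norm_num

/-- a maximal elementary abelian `2`-subgroup contains every involution commuting with it. -/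
theorem mem_of_commute_sq (hR2 : R2 X) (E0 : Subgroup X) (hc : ∀ u ∈ E0, ∀ v ∈ E0, u * v = v * u)
    (h2 : ∀ u ∈ E0, u ^ 2 = 1) (h4 : Nat.card E0 = 4) {x : X} (hx2 : x ^ 2 = 1)
    (hxc : ∀ u ∈ E0, x * u = u * x) : x ∈ E0 := by
  have hEx : E0 ⊔ zpowers x ≤ centralizer {x} := by
    refine sup_le ?_ ?_
    · intro z hz
      rw [mem_centralizer_singleton_iff]
      exact (hxc z hz).symm
    · rw [zpowers_le, mem_centralizer_singleton_iff]
  have hEc : ∀ u ∈ E0 ⊔ zpowers x, ∀ v ∈ E0 ⊔ zpowers x, u * v = v * u := by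
    intro u hu v hv
    have h1 : E0 ⊔ zpowers x ≤ centralizer {v} := by
      refine sup_le ?_ ?_
      · intro z hz
        rw [mem_centralizer_singleton_iff]
        have h5 : E0 ⊔ zpowers x ≤ centralizer {z} := by
          refine sup_le ?_ ?_
          · intro z' hz'
            rw [mem_centralizer_singleton_iff]
            exact hc z' hz' z hz
          · rw [zpowers_le, mem_centralizer_singleton_iff]
            exact hxc z hz
        exact (mem_centralizer_singleton_iff.1 (h5 hv)).symm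
      · rw [zpowers_le, mem_centralizer_singleton_iff]
        exact (mem_centralizer_singleton_iff.1 (hEx hv)).symm
    exact mem_centralizer_singleton_iff.1 (h1 hu)
  let S2 : Subgroup X :=
    { carrier := {u | u ∈ E0 ⊔ zpowers x ∧ u ^ 2 = 1}
      one_mem' := ⟨one_mem _, one_pow 2⟩
      mul_mem' := by
        rintro a b ⟨ha, ha2⟩ ⟨hb, hb2⟩
        refine ⟨mul_mem ha hb, ?_⟩
        have h : Commute a b := hEc a ha b hb
        rw [h.mul_pow, ha2, hb2, one_mul]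
      inv_mem' := by
        rintro a ⟨ha, ha2⟩
        exact ⟨inv_mem ha, by rw [inv_pow, ha2, inv_one]⟩ }
  have hES2 : E0 ⊔ zpowers x ≤ S2 := by
    refine sup_le ?_ ?_
    · intro z hz
      exact ⟨le_sup_left (b := zpowers x) hz, h2 z hz⟩
    · rw [zpowers_le]
      exact ⟨le_sup_right (a := E0) (mem_zpowers x), hx2⟩
  have hcard := hR2 _ hEc (fun u hu => (hES2 hu).2)
  have heq : E0 = E0 ⊔ zpowers x :=
    Subgroup.eq_of_le_of_card_ge le_sup_left (by rw [h4]; exact hcard)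
  rw [heq]
  exact le_sup_right (a := E0) (mem_zpowers x)

section four

variable {d : X} {W : Subgroup X} (hW4 : Nat.card W = 4) (hW2 : ∀ w ∈ W, w ^ 2 = 1)
  (hWc : ∀ u ∈ W, ∀ v ∈ W, u * v = v * u) (hInv : Inv d W)
  (hfpf : ∀ w ∈ W, Commute d w → w = 1)

include hW4 hW2 hWc hInv hfpf in
theorem four_fpf {w : X} (hw : w ∈ W) (hw1 : w ≠ 1) :
    d * w * d⁻¹ ≠ w ∧ d * w * d⁻¹ ≠ 1 ∧ d * (d * w * d⁻¹) * d⁻¹ = w * (d * w * d⁻¹) ∧
      ∀ v ∈ W, v = 1 ∨ v = w ∨ v = d * w * d⁻¹ ∨ v = w * (d * w * d⁻¹) := by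
  have hz' : d * w * d⁻¹ ∈ W := hInv w hw
  have hz'' : d * (d * w * d⁻¹) * d⁻¹ ∈ W := hInv _ hz'
  have hne1 : d * w * d⁻¹ ≠ w := fun h => hw1 (hfpf w hw (commute_of_conj_eq h))
  have hz'1 : d * w * d⁻¹ ≠ 1 := by
    intro h; apply hw1; simpa using h
  have hzz : w * w = 1 := by rw [← pow_two]; exact hW2 w hw
  have hcomm : w * (d * w * d⁻¹) = (d * w * d⁻¹) * w := hWc w hw _ hz'
  have hprod1 : w * (d * w * d⁻¹) ≠ 1 := by
    intro h
    apply hne1
    calc d * w * d⁻¹ = (w * w) * (d * w * d⁻¹) := by rw [hzz, one_mul]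
      _ = w * (w * (d * w * d⁻¹)) := by rw [mul_assoc]
      _ = w := by rw [h, mul_one]
  have hall := four_group_elems W hW4 hw hz' hw1 hz'1 hne1 hzz
  refine ⟨hne1, hz'1, ?_, hall⟩
  rcases hall _ hz'' with h | h | h | h
  · exfalso
    apply hz'1
    have : d * w * d⁻¹ = d⁻¹ * (d * (d * w * d⁻¹) * d⁻¹) * d := by group
    rw [this, h]; group
  · exfalso
    apply hprod1
    apply hfpf _ (mul_mem hw hz')
    have h5 : d * (w * (d * w * d⁻¹)) * d⁻¹ = w * (d * w * d⁻¹) := by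
      calc d * (w * (d * w * d⁻¹)) * d⁻¹ = (d * w * d⁻¹) * (d * (d * w * d⁻¹) * d⁻¹) := by group
        _ = (d * w * d⁻¹) * w := by rw [h]
        _ = w * (d * w * d⁻¹) := hcomm.symm
    exact commute_of_conj_eq h5
  · exfalso
    apply hne1
    have : d * w * d⁻¹ = d⁻¹ * (d * (d * w * d⁻¹) * d⁻¹) * d := by group
    rw [this, h]; group
  · exact h

include hW4 hW2 hWc hInv hfpf in
/-- `d` acts irreducibly on `W`. -/
theorem four_irred {W0 : Subgroup X} (h0 : W0 ≤ W) (hI0 : Inv d W0) (hne : W0 ≠ ⊥) : W0 = W := by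
  obtain ⟨⟨w, hw⟩, hw1⟩ := (Subgroup.ne_bot_iff_exists_ne_one).1 hne
  have hw1' : w ≠ 1 := fun h => hw1 (Subtype.ext h)
  obtain ⟨_, _, _, hall⟩ := four_fpf hW4 hW2 hWc hInv hfpf (h0 hw) hw1'
  apply le_antisymm h0
  intro v hv
  rcases hall v hv with h | h | h | h
  · rw [h]; exact one_mem _
  · rw [h]; exact hw
  · rw [h]; exact hI0 w hw
  · rw [h]; exact mul_mem hw (hI0 w hw)

end four

/-- a nontrivial elementary abelian `2`-group with a fixed-point-free `d` has order `4`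
(when there is no `E₈`). -/
theorem card_eq_four (hR2 : R2 X) {d : X} {W : Subgroup X} (hW2 : ∀ w ∈ W, w ^ 2 = 1)
    (hWc : ∀ u ∈ W, ∀ v ∈ W, u * v = v * u) (hInv : Inv d W)
    (hfpf : ∀ w ∈ W, Commute d w → w = 1) (hne : W ≠ ⊥) : Nat.card W = 4 := by
  haveI : Fact (Nat.Prime 2) := ⟨Nat.prime_two⟩
  have hWp : IsPGroup 2 W := by
    intro u
    refine ⟨1, ?_⟩
    apply Subtype.ext
    simpa using hW2 u u.2
  obtain ⟨j, hj⟩ := hWp.exists_card_eq
  have hle := hR2 W hWc hW2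
  have hj0 : j ≠ 0 := by
    intro h
    rw [h, pow_zero] at hj
    exact hne (Subgroup.card_eq_one.1 hj)
  have hj2 : j ≤ 2 := by
    by_contra h
    push Not at h
    have : 2 ^ 3 ≤ 2 ^ j := Nat.pow_le_pow_right (by norm_num) h
    omega
  have hj12 : j = 1 ∨ j = 2 := by omega
  rcases hj12 with h | h
  · exfalso
    rw [h, pow_one] at hj
    obtain ⟨⟨z, hz⟩, hz1⟩ := (Subgroup.ne_bot_iff_exists_ne_one).1 hne
    have hz1' : z ≠ 1 := fun h => hz1 (Subtype.ext h)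
    obtain ⟨w, hw, huniq⟩ := (Nat.card_eq_two_iff' (1 : ↥W)).1 hj
    have hconj : d * z * d⁻¹ ∈ W := hInv z hz
    have hconj1 : d * z * d⁻¹ ≠ 1 := by
      intro h; apply hz1'; simpa using h
    have e1 := huniq ⟨z, hz⟩ hz1
    have e2 := huniq ⟨d * z * d⁻¹, hconj⟩ (fun h => hconj1 (congrArg Subtype.val h))
    have h3 : d * z * d⁻¹ = z := congrArg Subtype.val (e2.trans e1.symm)
    exact hz1' (hfpf z hz (commute_of_conj_eq h3))
  · rw [hj, h]; norm_num

end Cfsg.Agent.Helper9.NoE8
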