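import Mathlib
import Cfsg.Agent.Helper9.NoE8A
import Cfsg.Agent.Helper10.PGroupBasic
import Cfsg.Agent.Helper18.Dickson5
import Cfsg.Agent.Helper19.Cores
import Cfsg.Prelude.Def_CaseTheorems
import Cfsg.Prelude.Def_Transfer

set_option autoImplicit false
set_option linter.unusedSectionVars false
set_option linter.unusedVariables false
set_option linter.style.haveILetI false

/-! # S3739: a group of characteristic `2` type with an element of order `6` and a `3`-element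
acting fixed-point-freely on an elementary abelian `2`-subgroup has an `E₈`. -/

namespace Cfsg.Agent.Helper9.NoE8

open Subgroup Cfsg.Agent.Helper9.RankTwoFpf
open scoped commutatorElement

variable {X : Type*} [Group X] [Finite X]

theorem isPGroup_two_of_sq {Z1 : Subgroup X} (hZ2 : ∀ z ∈ Z1, z ^ 2 = 1) : IsPGroup 2 Z1 := by
  intro u
  refine ⟨1, ?_⟩
  apply Subtype.ext
  simpa using hZ2 u u.2

section four

variable (hR2 : R2 X) {d : X} {W : Subgroup X} (hW4 : Nat.card W = 4) (hW2 : ∀ w ∈ W, w ^ 2 = 1)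
  (hWc : ∀ u ∈ W, ∀ v ∈ W, u * v = v * u) (hInv : Inv d W)
  (hfpf : ∀ w ∈ W, Commute d w → w = 1)

include hR2 hW4 hW2 hWc in
/-- a `2`-group `T` normalizing `W` centralizes a nonidentity element of `W`. -/
theorem exists_fixed_of_two_group {T : Subgroup X} (hT : IsPGroup 2 T)
    (hTW : T ≤ normalizer (W : Set X)) : ∃ w ∈ W, w ≠ 1 ∧ ∀ t ∈ T, t * w = w * t := by
  haveI : Fact (Nat.Prime 2) := ⟨Nat.prime_two⟩
  have hWp : IsPGroup 2 W := isPGroup_two_of_sq hW2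
  have hB : IsPGroup 2 (T ⊔ W : Subgroup X) := IsPGroup.to_sup_of_normal_right' hT hWp hTW
  have hBn : (T ⊔ W : Subgroup X) ≤ normalizer (W : Set X) := sup_le hTW le_normalizer
  haveI hN : (W.subgroupOf (T ⊔ W)).Normal := normal_subgroupOf_of_le_normalizer hBn
  have hWne : W ≠ ⊥ := by
    intro h
    rw [h, Subgroup.card_bot] at hW4
    omega
  have hNne : W.subgroupOf (T ⊔ W) ≠ ⊥ := by
    intro h
    rw [subgroupOf_eq_bot, disjoint_iff, inf_of_le_left le_sup_right] at h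
    exact hWne h
  obtain ⟨z, hzN, hz1, hzc⟩ := Cfsg.Agent.Helper10.exists_ne_one_mem_inf_center hB _ hNne
  refine ⟨(z : X), mem_subgroupOf.1 hzN, fun h => hz1 (Subtype.ext h), fun t ht => ?_⟩
  have := (Subgroup.mem_center_iff.1 hzc) ⟨t, le_sup_left (b := W) ht⟩
  exact congrArg Subtype.val this

include hR2 hW4 hW2 hWc hInv hfpf in
theorem le_of_normalized {Z1 : Subgroup X} (hZ2 : ∀ z ∈ Z1, z ^ 2 = 1)
    (hWZ : W ≤ normalizer (Z1 : Set X)) (hIZ : Inv d Z1) (hZne : Z1 ≠ ⊥) : W ≤ Z1 := by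
  haveI : Fact (Nat.Prime 2) := ⟨Nat.prime_two⟩
  have hWp : IsPGroup 2 W := isPGroup_two_of_sq hW2
  have hZp : IsPGroup 2 Z1 := isPGroup_two_of_sq hZ2
  have hB : IsPGroup 2 (W ⊔ Z1 : Subgroup X) := IsPGroup.to_sup_of_normal_right' hWp hZp hWZ
  have hBn : (W ⊔ Z1 : Subgroup X) ≤ normalizer (Z1 : Set X) := sup_le hWZ le_normalizer
  haveI hN : (Z1.subgroupOf (W ⊔ Z1)).Normal := normal_subgroupOf_of_le_normalizer hBn
  have hNne : Z1.subgroupOf (W ⊔ Z1) ≠ ⊥ := by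
    intro h
    rw [subgroupOf_eq_bot, disjoint_iff, inf_of_le_left le_sup_right] at h
    exact hZne h
  obtain ⟨z, hzN, hz1, hzc⟩ := Cfsg.Agent.Helper10.exists_ne_one_mem_inf_center hB _ hNne
  have hzZ : (z : X) ∈ Z1 := mem_subgroupOf.1 hzN
  have hz1' : (z : X) ≠ 1 := fun h => hz1 (Subtype.ext h)
  have hzW : (z : X) ∈ W := by
    apply mem_of_commute_sq hR2 W hWc hW2 hW4 (hZ2 _ hzZ)
    intro u hu
    have := (Subgroup.mem_center_iff.1 hzc) ⟨u, le_sup_left (b := Z1) hu⟩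
    exact (congrArg Subtype.val this).symm
  have h0 : W ⊓ Z1 = W := by
    apply four_irred hW4 hW2 hWc hInv hfpf inf_le_left
    · intro x hx
      exact mem_inf.2 ⟨hInv x (mem_inf.1 hx).1, hIZ x (mem_inf.1 hx).2⟩
    · intro h
      have : (z : X) ∈ W ⊓ Z1 := mem_inf.2 ⟨hzW, hzZ⟩
      rw [h, mem_bot] at this
      exact hz1' this
  rw [← h0]
  exact inf_le_right

end four

/-- an element `c` with `c ^ 3 = 1` normalizing a four-group `W` and fixing a nonidentity element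
centralizes `W`. -/
theorem centralizes_of_fixed {c : X} {W : Subgroup X} (hW4 : Nat.card W = 4)
    (hW2 : ∀ w ∈ W, w ^ 2 = 1) (hc3 : c ^ 3 = 1) (hInv : Inv c W) {w0 : X} (hw0 : w0 ∈ W)
    (hw01 : w0 ≠ 1) (hfix : Commute c w0) : ∀ w ∈ W, Commute c w := by
  -- pick `w1 ∈ W \ {1, w0}`
  obtain ⟨w1, hw1, hw11, hw10⟩ : ∃ w1 ∈ W, w1 ≠ 1 ∧ w1 ≠ w0 := by
    by_contra h
    push Not at h
    have hsub : (W : Set X) ⊆ {1, w0} := by
      intro w hw
      by_cases h1 : w = 1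
      · left; exact h1
      · right; exact h w hw h1
    have h2 : (W : Set X).ncard ≤ ({1, w0} : Set X).ncard :=
      Set.ncard_le_ncard hsub (Set.toFinite _)
    have h3 : ({1, w0} : Set X).ncard ≤ 2 := Set.ncard_insert_le _ _ |>.trans (by simp)
    rw [← Nat.card_coe_set_eq] at h2
    have h4 : Nat.card (W : Set X) = 4 := hW4
    omega
  have hss : w0 * w0 = 1 := by rw [← pow_two]; exact hW2 w0 hw0
  have hall := four_group_elems W hW4 hw0 hw1 hw01 hw11 hw10 hss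
  have hconj0 : c * w0 * c⁻¹ = w0 := by rw [hfix.eq]; group
  have hcw1 : c * w1 * c⁻¹ ∈ W := hInv w1 hw1
  have hfix1 : Commute c w1 := by
    rcases hall _ hcw1 with h | h | h | h
    · exfalso; apply hw11; simpa using h
    · exfalso
      apply hw10
      have h5 : c * w1 * c⁻¹ = c * w0 * c⁻¹ := by rw [h, hconj0]
      simpa using h5
    · exact commute_of_conj_eq h
    · -- `c w1 c⁻¹ = w0 w1`: then `c² w1 c⁻² = w1`
      have h5 : c ^ 2 * w1 * (c ^ 2)⁻¹ = w1 := by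
        calc c ^ 2 * w1 * (c ^ 2)⁻¹ = c * (c * w1 * c⁻¹) * c⁻¹ := by rw [pow_two]; group
          _ = c * (w0 * w1) * c⁻¹ := by rw [h]
          _ = (c * w0 * c⁻¹) * (c * w1 * c⁻¹) := by group
          _ = w0 * (w0 * w1) := by rw [hconj0, h]
          _ = w1 := by rw [← mul_assoc, hss, one_mul]
      have h6 : Commute (c ^ 2) w1 := commute_of_conj_eq h5
      have h7 : c = (c ^ 2) ^ 2 := by
        rw [← pow_mul]
        calc c = c ^ 3 * c := by rw [hc3, one_mul]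
          _ = c ^ (2 * 2) := by rw [← pow_succ]
      rw [h7]; exact h6.pow_left 2
  intro w hw
  rcases hall w hw with h | h | h | h
  · rw [h]; exact Commute.one_right c
  · rw [h]; exact hfix
  · rw [h]; exact hfix1
  · rw [h]; exact hfix.mul_right hfix1

set_option maxHeartbeats 4000000 in
theorem fiber_arith (PU PC N a1 a2 a3 b1 b2 b3 s1 s2 s3 t1 t2 t3 : ℕ)
    (hPU : PU = 1 ∨ PU = 2 ∨ PU = 4 ∨ PU = 8 ∨ PU = 16 ∨ PU = 32 ∨ PU = 64 ∨ PU = 128)
    (hPC : PC = 1 ∨ PC = 2 ∨ PC = 4 ∨ PC = 8 ∨ PC = 16 ∨ PC = 32 ∨ PC = 64)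
    (hlt : PC < PU)
    (hU : PU = 4 + N + N + N) (hC : PC = 4 + a1 + a2 + a3)
    (e1 : N = a1 + b1) (e2 : N = a2 + b2) (e3 : N = a3 + b3)
    (hs1 : a1 = 4 * s1) (hs2 : a2 = 4 * s2) (hs3 : a3 = 4 * s3)
    (ht1 : b1 = 3 * t1) (ht2 : b2 = 3 * t2) (ht3 : b3 = 3 * t3) : False := by
  rcases hPU with rfl | rfl | rfl | rfl | rfl | rfl | rfl | rfl <;>
  rcases hPC with rfl | rfl | rfl | rfl | rfl | rfl | rfl <;> omega

theorem two_pow_cases {k : ℕ} (hk : k ≤ 7) :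
    2 ^ k = 1 ∨ 2 ^ k = 2 ∨ 2 ^ k = 4 ∨ 2 ^ k = 8 ∨ 2 ^ k = 16 ∨ 2 ^ k = 32 ∨ 2 ^ k = 64 ∨
      2 ^ k = 128 := by
  interval_cases k <;> simp

theorem two_pow_cases' {k : ℕ} (hk : k ≤ 6) :
    2 ^ k = 1 ∨ 2 ^ k = 2 ∨ 2 ^ k = 4 ∨ 2 ^ k = 8 ∨ 2 ^ k = 16 ∨ 2 ^ k = 32 ∨ 2 ^ k = 64 := by
  interval_cases k <;> simp

section fibers

variable {d c : X} {U W : Subgroup X}
  (hWU : W ≤ U) (hW4 : Nat.card W = 4) (hW2 : ∀ w ∈ W, w ^ 2 = 1)
  (hWc : ∀ u ∈ W, ∀ v ∈ W, u * v = v * u)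
  (hWcent : ∀ z ∈ W, ∀ x ∈ U, z * x = x * z)
  (hinv : ∀ x ∈ U, x ^ 2 = 1 → x ∈ W) (hsq : ∀ x ∈ U, x ^ 2 ∈ W)
  (hU2 : IsPGroup 2 U) (hUlt : Nat.card U < 256)
  (hdU : Inv d U) (hdW : Inv d W) (hfpf : ∀ w ∈ W, Commute d w → w = 1)
  (hc3 : c ^ 3 = 1) (hcU : Inv c U) (hcW : ∀ w ∈ W, Commute c w)
  (hcne : c ∉ centralizer (U : Set X))

/-- the fibre of the squaring map -/
def Fib (U : Subgroup X) (v : X) : Set X := {x | x ∈ U ∧ x ^ 2 = v}

include hdU in
theorem ncard_Fib_conj (v : X) : (Fib U (d * v * d⁻¹)).ncard = (Fib U v).ncard := by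
  have himg : Fib U (d * v * d⁻¹) = (fun x => d * x * d⁻¹) '' Fib U v := by
    ext y
    constructor
    · rintro ⟨hyU, hy2⟩
      refine ⟨d⁻¹ * y * d, ⟨?_, ?_⟩, by group⟩
      · have := hdU.inv y hyU
        simpa using this
      · have h1 : (d⁻¹ * y * d) ^ 2 = d⁻¹ * y ^ 2 * d := by rw [pow_two, pow_two]; group
        rw [h1, hy2]; group
    · rintro ⟨x, ⟨hxU, hx2⟩, rfl⟩
      refine ⟨hdU x hxU, ?_⟩
      have h1 : (d * x * d⁻¹) ^ 2 = d * x ^ 2 * d⁻¹ := by rw [pow_two, pow_two]; group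
      rw [h1, hx2]
  rw [himg]
  apply Set.ncard_image_of_injective
  intro a b hab
  simpa using hab

include hWU hW4 hW2 hinv hsq in
/-- decomposition of a subgroup between `W` and `U` into `W` and three fibres -/
theorem card_decomp {w w' w'' : X} (hw1 : w ≠ 1) (hw'1 : w' ≠ 1) (hw''1 : w'' ≠ 1)
    (hww' : w ≠ w') (hww'' : w ≠ w'') (hw'w'' : w' ≠ w'')
    (hall : ∀ v ∈ W, v = 1 ∨ v = w ∨ v = w' ∨ v = w'')
    (H : Subgroup X) (hWH : W ≤ H) (hHU : H ≤ U) :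
    Nat.card H = 4 + (Fib U w ∩ H).ncard + (Fib U w' ∩ H).ncard + (Fib U w'' ∩ H).ncard := by
  have hset : (H : Set X) = (((W : Set X) ∪ (Fib U w ∩ H)) ∪ (Fib U w' ∩ H)) ∪ (Fib U w'' ∩ H) := by
    ext x
    constructor
    · intro hx
      have hxU : x ∈ U := hHU hx
      rcases hall _ (hsq x hxU) with h | h | h | h
      · left; left; left; exact hinv x hxU h
      · left; left; right; exact ⟨⟨hxU, h⟩, hx⟩
      · left; right; exact ⟨⟨hxU, h⟩, hx⟩
      · right; exact ⟨⟨hxU, h⟩, hx⟩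
    · rintro (((hx | hx) | hx) | hx)
      · exact hWH hx
      · exact hx.2
      · exact hx.2
      · exact hx.2
  have hd1 : Disjoint (W : Set X) (Fib U w ∩ H) := by
    rw [Set.disjoint_left]
    intro x hx hx'
    exact hw1 (hx'.1.2.symm.trans (hW2 x hx))
  have hd2 : Disjoint ((W : Set X) ∪ (Fib U w ∩ H)) (Fib U w' ∩ H) := by
    rw [Set.disjoint_left]
    rintro x (hx | hx) hx'
    · exact hw'1 (hx'.1.2.symm.trans (hW2 x hx))
    · exact hww' (hx.1.2.symm.trans hx'.1.2)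
  have hd3 : Disjoint (((W : Set X) ∪ (Fib U w ∩ H)) ∪ (Fib U w' ∩ H)) (Fib U w'' ∩ H) := by
    rw [Set.disjoint_left]
    rintro x ((hx | hx) | hx) hx'
    · exact hw''1 (hx'.1.2.symm.trans (hW2 x hx))
    · exact hww'' (hx.1.2.symm.trans hx'.1.2)
    · exact hw'w'' (hx.1.2.symm.trans hx'.1.2)
  have hWn : (W : Set X).ncard = 4 := by rw [← Nat.card_coe_set_eq]; exact hW4
  have hHn : Nat.card H = (H : Set X).ncard := Nat.card_coe_set_eq (H : Set X)
  rw [hHn]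
  conv_lhs => rw [hset]
  rw [Set.ncard_union_eq hd3 (Set.toFinite _) (Set.toFinite _),
    Set.ncard_union_eq hd2 (Set.toFinite _) (Set.toFinite _),
    Set.ncard_union_eq hd1 (Set.toFinite _) (Set.toFinite _), hWn]

include hWU hW4 hW2 hWcent hcW in
theorem four_dvd_Fib_inter (v : X) :
    4 ∣ (Fib U v ∩ ((U ⊓ centralizer {c} : Subgroup X) : Set X)).ncard := by
  rw [← hW4]
  apply Cfsg.Agent.Helper18.Dickson.card_dvd_ncard_of_free (G := ↥W)
  · rintro ⟨z, hz⟩ x ⟨⟨hxU, hx2⟩, hxC⟩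
    have hzx : Commute z x := hWcent z hz x hxU
    refine ⟨⟨mul_mem (hWU hz) hxU, ?_⟩, mem_inf.2 ⟨mul_mem (hWU hz) hxU, ?_⟩⟩
    · change (z * x) ^ 2 = v
      rw [hzx.mul_pow, hW2 z hz, one_mul, hx2]
    · rw [mem_centralizer_singleton_iff]
      have h1 : Commute c x := (mem_centralizer_singleton_iff.1 (mem_inf.1 hxC).2).symm
      exact ((hcW z hz).mul_right h1).eq.symm
  · rintro ⟨z, hz⟩ x _ hfix
    apply Subtype.ext
    have h1 : z * x = x := hfix
    exact mul_eq_right.1 h1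

include hc3 hcU hcW hcne in
theorem three_dvd_Fib_diff {v : X} (hv : v ∈ W) :
    3 ∣ (Fib U v \ ((U ⊓ centralizer {c} : Subgroup X) : Set X)).ncard := by
  haveI : Fact (Nat.Prime 3) := ⟨Nat.prime_three⟩
  have hc1 : c ≠ 1 := by intro h; apply hcne; rw [h]; exact one_mem _
  have hord : orderOf c = 3 := orderOf_eq_prime hc3 hc1
  have hcard : Nat.card (zpowers c) = 3 := by rw [Nat.card_zpowers, hord]
  have hcomm_c : ∀ h ∈ zpowers c, Commute h c := by
    intro h hh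
    have h2 : zpowers c ≤ centralizer {c} := by
      rw [zpowers_le, mem_centralizer_singleton_iff]
    exact mem_centralizer_singleton_iff.1 (h2 hh)
  have hcomm_v : ∀ h ∈ zpowers c, Commute h v := by
    intro h hh
    have h2 : zpowers c ≤ centralizer {v} := by
      rw [zpowers_le, mem_centralizer_singleton_iff]; exact (hcW v hv).eq
    exact mem_centralizer_singleton_iff.1 (h2 hh)
  have hmemC : ∀ x, x ∈ (U ⊓ centralizer {c} : Subgroup X) ↔ x ∈ U ∧ Commute c x := by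
    intro x
    rw [mem_inf, mem_centralizer_singleton_iff]
    exact ⟨fun h => ⟨h.1, h.2.symm⟩, fun h => ⟨h.1, h.2.symm⟩⟩
  rw [← hcard]
  apply Cfsg.Agent.Helper4.card_dvd_ncard_of_free_conj
  · rintro h hh x ⟨⟨hxU, hx2⟩, hxC⟩
    refine ⟨⟨(hcU.of_mem_zpowers hh) x hxU, ?_⟩, ?_⟩
    · have h1 : (h * x * h⁻¹) ^ 2 = h * x ^ 2 * h⁻¹ := by rw [pow_two, pow_two]; group
      rw [h1, hx2, (hcomm_v h hh).eq]; group
    · intro hmem
      apply hxC
      have h3 : Commute c (h * x * h⁻¹) := ((hmemC _).1 hmem).2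
      apply (hmemC x).2 ⟨hxU, ?_⟩
      have h4 : x = h⁻¹ * (h * x * h⁻¹) * h := by group
      have hhc := hcomm_c h hh
      rw [h4]
      exact ((hhc.symm.inv_right).mul_right h3).mul_right hhc.symm
  · rintro h hh x ⟨⟨hxU, hx2⟩, hxC⟩ hfix
    by_contra h1
    apply hxC
    apply (hmemC x).2 ⟨hxU, ?_⟩
    have hhx : Commute h x := commute_of_conj_eq hfix
    rw [← mem_powers_iff_mem_zpowers, Submonoid.mem_powers_iff] at hh
    obtain ⟨k, rfl⟩ := hh
    have hmod : c ^ k = c ^ (k % 3) := by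
      conv_lhs => rw [← Nat.mod_add_div k 3]
      rw [pow_add, pow_mul, hc3, one_pow, mul_one]
    rw [hmod] at h1 hhx
    have hlt : k % 3 < 3 := Nat.mod_lt _ (by norm_num)
    interval_cases hk : k % 3
    · simp at h1
    · simpa using hhx
    · have h2 : c = (c ^ 2) ^ 2 := by
        rw [← pow_mul]
        calc c = c ^ 3 * c := by rw [hc3, one_mul]
          _ = c ^ (2 * 2) := by rw [← pow_succ]
      rw [h2]
      exact hhx.pow_left 2

include hWU hW4 hW2 hWc hWcent hinv hsq hU2 hUlt hdU hdW hfpf hc3 hcU hcW hcne in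
theorem fiber_false : False := by
  have hWne : W ≠ ⊥ := by
    intro h
    rw [h, Subgroup.card_bot] at hW4
    omega
  obtain ⟨⟨w, hw⟩, hw1⟩ := (Subgroup.ne_bot_iff_exists_ne_one).1 hWne
  have hw1' : w ≠ 1 := fun h => hw1 (Subtype.ext h)
  obtain ⟨hne1, hz'1, hz'', hall⟩ := four_fpf hW4 hW2 hWc hdW hfpf hw hw1'
  have hw'W : d * w * d⁻¹ ∈ W := hdW w hw
  have hzz : w * w = 1 := by rw [← pow_two]; exact hW2 w hw
  have hw''1 : w * (d * w * d⁻¹) ≠ 1 := by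
    intro h
    apply hne1
    calc d * w * d⁻¹ = (w * w) * (d * w * d⁻¹) := by rw [hzz, one_mul]
      _ = w * (w * (d * w * d⁻¹)) := by rw [mul_assoc]
      _ = w := by rw [h, mul_one]
  have hww'' : w ≠ w * (d * w * d⁻¹) := by
    intro h
    exact hz'1 (mul_eq_left.1 h.symm)
  have hw'w'' : d * w * d⁻¹ ≠ w * (d * w * d⁻¹) := by
    intro h
    exact hw1' (mul_eq_right.1 h.symm)
  have hN1 : (Fib U (d * w * d⁻¹)).ncard = (Fib U w).ncard := ncard_Fib_conj hdU w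
  have hN2 : (Fib U (w * (d * w * d⁻¹))).ncard = (Fib U (d * w * d⁻¹)).ncard := by
    rw [← hz'']; exact ncard_Fib_conj hdU _
  have hdecU := card_decomp hWU hW4 hW2 hinv hsq hw1' hz'1 hw''1 (Ne.symm hne1) hww'' hw'w'' hall
    U hWU le_rfl
  have hFU : ∀ v, Fib U v ∩ (U : Set X) = Fib U v := by
    intro v
    apply Set.inter_eq_left.2
    intro x hx
    exact hx.1
  rw [hFU, hFU, hFU, hN2, hN1] at hdecU
  have hWC : W ≤ (U ⊓ centralizer {c} : Subgroup X) := by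
    intro z hz
    exact mem_inf.2 ⟨hWU hz, mem_centralizer_singleton_iff.2 (hcW z hz).eq.symm⟩
  have hCU : (U ⊓ centralizer {c} : Subgroup X) ≤ U := inf_le_left
  have hdecC := card_decomp hWU hW4 hW2 hinv hsq hw1' hz'1 hw''1 (Ne.symm hne1) hww'' hw'w'' hall
    _ hWC hCU
  have hClt : Nat.card (U ⊓ centralizer {c} : Subgroup X) < Nat.card U := by
    by_contra h
    push Not at h
    have h1 : (U ⊓ centralizer {c} : Subgroup X) = U := Subgroup.eq_of_le_of_card_ge hCU h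
    apply hcne
    rw [mem_centralizer_iff]
    intro x hx
    have : x ∈ (U ⊓ centralizer {c} : Subgroup X) := by rw [h1]; exact hx
    exact (mem_centralizer_singleton_iff.1 (mem_inf.1 this).2)
  have hsplit : ∀ v, (Fib U v).ncard =
      (Fib U v ∩ ((U ⊓ centralizer {c} : Subgroup X) : Set X)).ncard +
      (Fib U v \ ((U ⊓ centralizer {c} : Subgroup X) : Set X)).ncard := fun v =>
    (Set.ncard_inter_add_ncard_sdiff_eq_ncard _ _ (Set.toFinite _)).symm
  have h4 := four_dvd_Fib_inter (c := c) hWU hW4 hW2 hWcent hcW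
  have h3 := fun {v : X} (hv : v ∈ W) => three_dvd_Fib_diff (U := U) hc3 hcU hcW hcne hv
  obtain ⟨s1, hs1⟩ := h4 w
  obtain ⟨s2, hs2⟩ := h4 (d * w * d⁻¹)
  obtain ⟨s3, hs3⟩ := h4 (w * (d * w * d⁻¹))
  obtain ⟨t1, ht1⟩ := h3 hw
  obtain ⟨t2, ht2⟩ := h3 hw'W
  obtain ⟨t3, ht3⟩ := h3 (mul_mem hw hw'W)
  have e1 := hsplit w
  have e2 := hsplit (d * w * d⁻¹)
  have e3 := hsplit (w * (d * w * d⁻¹))
  rw [hN1] at e2
  rw [hN2, hN1] at e3
  obtain ⟨k, hk⟩ := hU2.exists_card_eq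
  obtain ⟨j, hj⟩ := (hU2.to_le hCU).exists_card_eq
  rw [hk, hj] at hClt
  rw [hk] at hUlt hdecU
  rw [hj] at hdecC
  have hjk : j < k := (Nat.pow_lt_pow_iff_right (by norm_num : 1 < 2)).1 hClt
  have hk7 : k ≤ 7 := by
    by_contra h
    push Not at h
    have : 2 ^ 8 ≤ 2 ^ k := Nat.pow_le_pow_right (by norm_num) h
    omega
  exact fiber_arith (2 ^ k) (2 ^ j) _ _ _ _ _ _ _ s1 s2 s3 t1 t2 t3 (two_pow_cases hk7)
    (two_pow_cases' (by omega)) hClt hdecU hdecC e1 e2 e3 hs1 hs2 hs3 ht1 ht2 ht3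

end fibers

end Cfsg.Agent.Helper9.NoE8
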