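import Mathlib
import Cfsg.Agent.Helper9.NoE8B

set_option autoImplicit false
set_option linter.unusedSectionVars false
set_option linter.unusedVariables false
set_option linter.style.haveILetI false

namespace Cfsg.Agent.Helper9.NoE8

open Subgroup Cfsg.Agent.Helper9.RankTwoFpf
open scoped commutatorElement

/-- S3739 -/
theorem exists_E8 {G : Type*} [Group G] [Finite G]
    (hchar : centralizer (Cfsg.pCore 2 G : Set G) ≤ Cfsg.pCore 2 G)
    (hsix : ∃ g : G, orderOf g = 6) (d : G)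
    (W : Subgroup G) (hW : Cfsg.IsElementaryAbelian 2 W) (hW1 : W ≠ ⊥)
    (hdW : d ∈ normalizer (W : Set G)) (hfpf : W ⊓ centralizer {d} = ⊥) :
    ∃ E : Subgroup G, Cfsg.IsElementaryAbelian 2 E ∧ Nat.card E = 8 := by
  by_contra hno
  haveI : Fact (Nat.Prime 2) := ⟨Nat.prime_two⟩
  have hR2 : R2 G := r2_of_noE8 hno
  -- basic facts on `W`
  have hW2 : ∀ w ∈ W, w ^ 2 = 1 := hW.2
  have hWc : ∀ u ∈ W, ∀ v ∈ W, u * v = v * u := fun u hu v hv =>
    congrArg Subtype.val (hW.1.is_comm.comm ⟨u, hu⟩ ⟨v, hv⟩)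
  have hdWI : Inv d W := Inv.of_mem_normalizer hdW
  have hfpf' : ∀ w ∈ W, Commute d w → w = 1 := by
    intro w hw hc
    have : w ∈ W ⊓ centralizer {d} := mem_inf.2 ⟨hw, mem_centralizer_singleton_iff.2 hc.eq.symm⟩
    rw [hfpf, mem_bot] at this
    exact this
  have hW4 : Nat.card W = 4 := card_eq_four hR2 hW2 hWc hdWI hfpf' hW1
  -- the element of order 6
  obtain ⟨g, hg⟩ := hsix
  have h6 : g ^ 6 = 1 := by rw [← hg]; exact pow_orderOf_eq_one g
  have hc3 : (g ^ 2) ^ 3 = 1 := by rw [← pow_mul]; exact h6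
  have hc1 : g ^ 2 ≠ 1 := by
    intro h
    have := orderOf_dvd_of_pow_eq_one h
    rw [hg] at this; omega
  have ht2 : (g ^ 3) ^ 2 = 1 := by rw [← pow_mul]; exact h6
  have ht1 : g ^ 3 ≠ 1 := by
    intro h
    have := orderOf_dvd_of_pow_eq_one h
    rw [hg] at this; omega
  have hct : Commute (g ^ 2) (g ^ 3) := (Commute.refl g).pow_pow 2 3
  -- `Q = O_2(G)`
  have hQ2 : IsPGroup 2 (Cfsg.pCore 2 G) := Cfsg.Agent.Helper19.pCore_isPGroup 2
  have hQI : ∀ x : G, Inv x (Cfsg.pCore 2 G) := fun x y hy =>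
    (Cfsg.pCore_normal 2 G).conj_mem y hy x
  have hQne : Cfsg.pCore 2 G ≠ ⊥ := by
    intro h
    rw [h] at hchar
    have h1 : g ∈ centralizer (((⊥ : Subgroup G) : Subgroup G) : Set G) := by
      rw [mem_centralizer_iff]
      intro x hx
      have : x = 1 := by simpa using hx
      rw [this, one_mul, mul_one]
    have h2 := hchar h1
    rw [mem_bot] at h2
    rw [h2, orderOf_one] at hg
    omega
  -- `W = Ω₁(Z(Q))`
  have hZI : ∀ x : G, Inv x (Zsub (Cfsg.pCore 2 G)) := fun x => Zsub_inv (hQI x)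
  have hZne := Zsub_ne_bot hQ2 hQne
  have hWZ : W ≤ Zsub (Cfsg.pCore 2 G) :=
    le_of_normalized hR2 hW4 hW2 hWc hdWI hfpf' (fun z hz => hz.2.2)
      (fun w _ => (hZI w).mem_normalizer) (hZI d) hZne
  have hZW : W = Zsub (Cfsg.pCore 2 G) := by
    apply Subgroup.eq_of_le_of_card_ge hWZ
    rw [hW4]
    exact hR2 _ (fun u hu v hv => hu.2.1 v (Zsub_le _ hv)) (fun u hu => hu.2.2)
  have hWI : ∀ x : G, Inv x W := by rw [hZW]; exact hZI
  have hWQ : W ≤ Cfsg.pCore 2 G := by rw [hZW]; exact Zsub_le _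
  have hWcentQ : ∀ z ∈ W, ∀ x ∈ Cfsg.pCore 2 G, z * x = x * z := by
    intro z hz x hx
    rw [hZW] at hz
    exact hz.2.1 x hx
  -- `c = g^2` centralizes `W`
  have hcW : ∀ w ∈ W, Commute (g ^ 2) w := by
    by_cases htW : g ^ 3 ∈ W
    · exact centralizes_of_fixed hW4 hW2 hc3 (hWI _) htW ht1 hct
    · -- `t ∉ W`
      have hT : IsPGroup 2 (zpowers (g ^ 3)) := by
        apply isPGroup_two_of_sq
        intro z hz
        obtain ⟨k, rfl⟩ := mem_zpowers_iff.1 hz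
        rw [← zpow_natCast, ← zpow_mul, mul_comm, zpow_mul, zpow_natCast, ht2, one_zpow]
      have hTW : zpowers (g ^ 3) ≤ normalizer (W : Set G) :=
        zpowers_le.2 (hWI _).mem_normalizer
      obtain ⟨w0, hw0, hw01, hw0t⟩ := exists_fixed_of_two_group hR2 hW4 hW2 hWc hT hTW
      have htw0 : Commute (g ^ 3) w0 := hw0t _ (mem_zpowers _)
      have hcw0W : g ^ 2 * w0 * (g ^ 2)⁻¹ ∈ W := hWI _ w0 hw0
      have htcw0 : Commute (g ^ 3) (g ^ 2 * w0 * (g ^ 2)⁻¹) :=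
        ((hct.symm).mul_right htw0).mul_right hct.symm.inv_right
      have hfix : g ^ 2 * w0 * (g ^ 2)⁻¹ = w0 := by
        by_contra hne
        apply htW
        apply mem_of_commute_sq hR2 W hWc hW2 hW4 ht2
        have hcw01 : g ^ 2 * w0 * (g ^ 2)⁻¹ ≠ 1 := by
          intro h; apply hw01; simpa using h
        have hss : w0 * w0 = 1 := by rw [← pow_two]; exact hW2 w0 hw0
        intro u hu
        rcases four_group_elems W hW4 hw0 hcw0W hw01 hcw01 hne hss u hu with h | h | h | h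
        · rw [h, mul_one, one_mul]
        · rw [h]; exact htw0.eq
        · rw [h]; exact htcw0.eq
        · rw [h]; exact (htw0.mul_right htcw0).eq
      exact centralizes_of_fixed hW4 hW2 hc3 (hWI _) hw0 hw01 (commute_of_conj_eq hfix)
  -- `c` acts nontrivially on `Q`
  have hcQ : g ^ 2 ∉ centralizer (Cfsg.pCore 2 G : Set G) := by
    intro h
    have h1 := hchar h
    obtain ⟨k, hk⟩ := hQ2 ⟨_, h1⟩
    have hk' : (g ^ 2) ^ 2 ^ k = 1 := congrArg Subtype.val hk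
    have h2 : orderOf (g ^ 2) ∣ 3 := orderOf_dvd_of_pow_eq_one hc3
    have h3 : orderOf (g ^ 2) ∣ 2 ^ k := orderOf_dvd_of_pow_eq_one hk'
    have h4 : orderOf (g ^ 2) = 1 :=
      Nat.eq_one_of_dvd_coprimes (Nat.Coprime.pow_right k (by norm_num : Nat.Coprime 3 2)) h2 h3
    exact hc1 (orderOf_eq_one_iff.1 h4)
  -- minimal normal `U ≤ Q` on which `c` acts nontrivially
  have hfam : ∃ m, ∃ U : Subgroup G, (U ≤ Cfsg.pCore 2 G ∧ (∀ x : G, Inv x U) ∧
      g ^ 2 ∉ centralizer (U : Set G)) ∧ Nat.card U = m :=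
    ⟨_, _, ⟨le_rfl, hQI, hcQ⟩, rfl⟩
  classical
  obtain ⟨U, ⟨hUQ, hUI, hcU⟩, hcard⟩ := Nat.find_spec hfam
  have hmin : ∀ U2 : Subgroup G, U2 ≤ U → (∀ x : G, Inv x U2) → Nat.card U2 < Nat.card U →
      g ^ 2 ∈ centralizer (U2 : Set G) := by
    intro U2 hU2 hI hlt
    by_contra hnc
    have := Nat.find_min' hfam ⟨U2, ⟨hU2.trans hUQ, hI, hnc⟩, rfl⟩
    omega
  have hU2 : IsPGroup 2 U := hQ2.to_le hUQ
  have hUne : U ≠ ⊥ := by
    intro h
    apply hcU
    rw [h, mem_centralizer_iff]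
    intro x hx
    have : x = 1 := by simpa using hx
    rw [this, one_mul, mul_one]
  haveI hUn : U.Normal := ⟨fun n hn x => hUI x n hn⟩
  have h3 : ∀ x ∈ Group.conjugatesOfSet ({g ^ 2} : Set G), x ^ 3 = 1 := by
    intro x hx
    obtain ⟨a, ha, hax⟩ := Group.mem_conjugatesOfSet_iff.1 hx
    rw [Set.mem_singleton_iff] at ha
    obtain ⟨b, hb⟩ := isConj_iff.1 hax
    rw [← hb, ha]
    rw [conj_pow, hc3, mul_one, mul_inv_cancel]
  have hcE : g ^ 2 ∈ normalClosure ({g ^ 2} : Set G) :=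
    subset_normalClosure (Set.mem_singleton _)
  have hEn : ∀ x ∈ normalClosure ({g ^ 2} : Set G), Inv x U := fun x _ => hUI x
  have hne : ¬ normalClosure ({g ^ 2} : Set G) ≤ centralizer (U : Set G) := fun h => hcU (h hcE)
  have key : ∀ U2 : Subgroup G, U2 ≤ U → (∀ x : G, Inv x U2) → Nat.card U2 < Nat.card U →
      normalClosure ({g ^ 2} : Set G) ≤ centralizer (U2 : Set G) := by
    intro U2 hU2le hI hlt
    haveI : U2.Normal := ⟨fun n hn x => hI x n hn⟩
    apply normalClosure_le_normal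
    rw [Set.singleton_subset_iff]
    exact hmin U2 hU2le hI hlt
  have m1 : ⁅U, normalClosure ({g ^ 2} : Set G)⁆ ≠ U → normalClosure ({g ^ 2} : Set G) ≤
      centralizer ((⁅U, normalClosure ({g ^ 2} : Set G)⁆ : Subgroup G) : Set G) := by
    intro hneq
    have hle : ⁅U, normalClosure ({g ^ 2} : Set G)⁆ ≤ U := commutator_le_left _ _
    apply key _ hle
    · intro x y hy
      exact (inferInstance : (⁅U, normalClosure ({g ^ 2} : Set G)⁆).Normal).conj_mem y hy x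
    · by_contra h
      push Not at h
      exact hneq (Subgroup.eq_of_le_of_card_ge hle h)
  have m2 : normalClosure ({g ^ 2} : Set G) ≤ centralizer (Msub U : Set G) :=
    key _ (Msub_le U) (fun x => Msub_inv (hUI x)) (card_Msub_lt hU2 hUne)
  have hcomm := comm_mem_Zsub' hU2 hEn rfl h3 hne m1 m2
  have hsq := sq_mem_Zsub' hU2 hEn rfl h3 hne m1 m2
  -- `Ω₁(Z(U)) = W`
  have hZ1I : ∀ x : G, Inv x (Zsub U) := fun x => Zsub_inv (hUI x)
  have hZ1ne := Zsub_ne_bot hU2 hUne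
  have hWZ1 : W ≤ Zsub U :=
    le_of_normalized hR2 hW4 hW2 hWc hdWI hfpf' (fun z hz => hz.2.2)
      (fun w _ => (hZ1I w).mem_normalizer) (hZ1I d) hZ1ne
  have hZ1W : W = Zsub U := by
    apply Subgroup.eq_of_le_of_card_ge hWZ1
    rw [hW4]
    exact hR2 _ (fun u hu v hv => hu.2.1 v (Zsub_le _ hv)) (fun u hu => hu.2.2)
  have hWU : W ≤ U := hWZ1.trans (Zsub_le U)
  have hWcentU : ∀ z ∈ W, ∀ x ∈ U, z * x = x * z := fun z hz x hx => hWcentQ z hz x (hUQ hx)
  have hinvU : ∀ x ∈ U, x ^ 2 = 1 → x ∈ W := fun x hx hx2 =>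
    mem_of_commute_sq hR2 W hWc hW2 hW4 hx2 (fun u hu => (hWcentQ u hu x (hUQ hx)).symm)
  have hcommW : ∀ x ∈ U, ∀ y ∈ U, ⁅x, y⁆ ∈ W := by rw [hZ1W]; exact hcomm
  have hsqW : ∀ x ∈ U, x ^ 2 ∈ W := by rw [hZ1W]; exact hsq
  have hUlt := card_lt U W hWU hWcentU hW4 hW2 hinvU hcommW hsqW
  exact fiber_false hWU hW4 hW2 hWc hWcentU hinvU hsqW hU2 hUlt (hUI d) hdWI hfpf' hc3
    (hUI (g ^ 2)) hcW hcU

end Cfsg.Agent.Helper9.NoE8
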