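import Cfsg.Agent.Helper9.PUWDcore
import Cfsg.Agent.Helper3.PUDp2
import Cfsg.Agent.Helper13.PUD_UQ

/-!
# pu3pieces row W_D (helper9): official wrapper
-/

set_option autoImplicit false

namespace Cfsg.Agent.PU

open Subgroup
open scoped commutatorElement

variable {X : Type*} [Group X] (D : Dat X)

/-- `y ∈ Z_2` ACTS CUBICALLY ON `U`. -/
theorem W_D (hB : D.Base) (hN : D.NAT) (hs : D.IsS 2) {f : ℤ → X} (hf : D.GPath 2 6 f) (h0 : f 0 = 1) {y : X} (hy : y ∈ D.Zv f 2) :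
    (∀ v ∈ D.U, ⁅v, y⁆ ∈ D.U ∧ ⁅⁅v, y⁆, y⁆ ∈ D.Av f 1) ∧ (∀ φ ∈ D.Php f 2, ⁅φ, y⁆ ∈ D.Av f 1) ∧ D.Av f 1 ≤ D.Y ∧
      (∀ a ∈ D.Av f 1, ⁅a, y⁆ = 1) :=
  W_D_aux_core D hB hN hs (D_UU' D hB hN hs) (D_UQ D hB hN hs) hf h0 hy

end Cfsg.Agent.PU
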