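import Mathlib
import Cfsg.Prelude.Def_FusionSystem
import Cfsg.Agent.Helper25.FusionChain
import Cfsg.Agent.Helper25.OliverB

set_option autoImplicit false

/-! Piece X1 of S5239 (driver helper10): for a pearl `E` of order `9` in a saturated fusion system
on `S` of order `27`, the group `Aut_S(E)` (of order `3`, generated by a transvection `c` fixing a
nontrivial `z ∈ Z(S)`) is not normal in `Aut_F(E)`. -/

namespace Cfsg.Agent.Helper9.Pearl3

open Cfsg Cfsg.FusionSystem Cfsg.Agent.Helper25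

variable {Ω : Type*} [Group Ω] {S : Subgroup Ω} [Finite S]

theorem exists_aut_not_normalizing [Fact (Nat.Prime 3)] (hS : IsPGroup 3 S)
    (hcardS : Nat.card S = 27) (F : Cfsg.FusionSystem S) (hF : F.IsSaturated 3) (E : Subgroup Ω)
    (hE : F.IsEssential 3 E) (hcard : Nat.card E = 9) :
    ∃ α ∈ F.autGroup E, ∃ c ∈ F.autGroup E, ∃ z : ↥E, z ≠ 1 ∧ c z = z ∧ c ≠ 1 ∧ c ^ 3 = 1 ∧
      α * c * α⁻¹ ∉ Subgroup.zpowers c := by
  have hES : E ≤ S := hE.1.1
  have hC : centralizerIn S E ≤ E := hE.1.2 E (isConj_refl F hES)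
  -- `E` is abelian
  have hEcomm : ∀ a b : E, a * b = b * a := by
    have := IsPGroup.isMulCommutative_of_card_eq_prime_sq (p := 3) (G := E) (by rw [hcard]; norm_num)
    exact fun a b => this.is_comm.comm a b
  -- `E` is normal in `S`
  set A : Subgroup ↥S := E.subgroupOf S with hAdef
  have hA : Nat.card A = 9 := by
    rw [← hcard]
    exact Nat.card_congr (Subgroup.subgroupOfEquivOfLe hES).toEquiv
  have hidx : A.index = 3 := by
    have h := Subgroup.card_mul_index A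
    rw [hA, hcardS] at h
    omega
  have hAn : A.Normal := by
    apply Subgroup.normal_of_index_eq_minFac_card
    rw [hidx, hcardS]
    norm_num
  have hSN : S ≤ Subgroup.normalizer (E : Set Ω) :=
    (Subgroup.normal_subgroupOf_iff_le_normalizer hES).mp hAn
  -- an element `x ∈ S \\ E`
  obtain ⟨x, hxS, hxE⟩ : ∃ x ∈ S, x ∉ E := by
    by_contra hcon
    push Not at hcon
    have hSE : E = S := le_antisymm hES hcon
    rw [hSE, hcardS] at hcard
    omega
  have hxN : x ∈ Subgroup.normalizer (E : Set Ω) := hSN hxS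
  have hx3 : x ^ 3 ∈ E := by
    have := Subgroup.pow_index_mem A (⟨x, hxS⟩ : ↥S)
    rw [hidx] at this
    exact Subgroup.mem_subgroupOf.mp this
  let c : MulAut E := E.normalizerMonoidHom ⟨x, hxN⟩
  have hcS : c ∈ autInducedBy S E := by
    rw [autInducedBy_eq_map]
    exact ⟨⟨x, hxN⟩, hxS, rfl⟩
  have hcA : c ∈ F.autGroup E := autInducedBy_le_autGroup F hES hcS
  have hcval : ∀ y : E, ((c y : E) : Ω) = x * (y : Ω) * x⁻¹ := fun y => rfl
  have hcInn : c ∉ Inn E := fun h =>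
    hxE (mem_of_normalizerMonoidHom_mem_inn hES hC ⟨x, hxN⟩ hxS h)
  -- a nontrivial central element of `S`
  have hnt : Nontrivial ↥S := by
    rw [← Finite.one_lt_card_iff_nontrivial, hcardS]
    norm_num
  obtain ⟨z', hz'Z, hz'1⟩ : ∃ z' ∈ Subgroup.center ↥S, z' ≠ 1 := by
    have hZnt : Nontrivial (Subgroup.center ↥S) := hS.center_nontrivial
    obtain ⟨⟨w, hw⟩, hw1⟩ := exists_ne (1 : Subgroup.center ↥S)
    exact ⟨w, hw, fun h => hw1 (Subtype.ext h)⟩
  have hz'E : (z' : Ω) ∈ E := by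
    apply hC
    refine ⟨z'.2, ?_⟩
    show (z' : Ω) ∈ Subgroup.centralizer (E : Set Ω)
    rw [Subgroup.mem_centralizer_iff]
    intro e he
    have := Subgroup.mem_center_iff.mp hz'Z ⟨e, hES he⟩
    exact congrArg Subtype.val this
  have hcz : c ⟨(z' : Ω), hz'E⟩ = ⟨(z' : Ω), hz'E⟩ := by
    apply Subtype.ext
    rw [hcval]
    show x * (z' : Ω) * x⁻¹ = (z' : Ω)
    have := Subgroup.mem_center_iff.mp hz'Z ⟨x, hxS⟩
    have h1 : x * (z' : Ω) = (z' : Ω) * x := congrArg Subtype.val this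
    rw [h1]; group
  have hz1 : (⟨(z' : Ω), hz'E⟩ : E) ≠ 1 := by
    intro h
    apply hz'1
    apply Subtype.ext
    exact congrArg (fun e : E => (e : Ω)) h
  have hc1 : c ≠ 1 := fun h => hcInn (h ▸ Subgroup.one_mem _)
  have hc3 : c ^ 3 = 1 := by
    ext y
    have h1 : c ^ 3 = E.normalizerMonoidHom (⟨x, hxN⟩ ^ 3) := (map_pow _ _ _).symm
    rw [h1]
    show (((⟨x, hxN⟩ : Subgroup.normalizer (E : Set Ω)) ^ 3 : Subgroup.normalizer (E : Set Ω)) : Ω)
      * (y : Ω) * ((((⟨x, hxN⟩ : Subgroup.normalizer (E : Set Ω)) ^ 3 :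
        Subgroup.normalizer (E : Set Ω)) : Ω))⁻¹ = (y : Ω)
    rw [Subgroup.coe_pow]
    show x ^ 3 * (y : Ω) * (x ^ 3)⁻¹ = (y : Ω)
    have := hEcomm ⟨x ^ 3, hx3⟩ y
    have h2 : x ^ 3 * (y : Ω) = (y : Ω) * x ^ 3 := congrArg Subtype.val this
    rw [h2]; group
  -- `zpowers c` is not normal in `Aut_F(E)`
  by_contra hcon
  push Not at hcon
  have hall : ∀ α ∈ F.autGroup E, α * c * α⁻¹ ∈ Subgroup.zpowers c := by
    intro α hα
    exact hcon α hα c hcA ⟨(z' : Ω), hz'E⟩ hz1 hcz hc1 hc3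
  apply hcInn
  have hKle : Subgroup.zpowers c ≤ F.autGroup E := Subgroup.zpowers_le.mpr hcA
  have hKnorm : ∀ α ∈ F.autGroup E, ∀ k ∈ Subgroup.zpowers c, α * k * α⁻¹ ∈ Subgroup.zpowers c := by
    intro α hα k hk
    obtain ⟨j, rfl⟩ := Subgroup.mem_zpowers_iff.mp hk
    have : α * c ^ j * α⁻¹ = (α * c * α⁻¹) ^ j := by
      rw [conj_zpow]
    rw [this]
    exact Subgroup.zpow_mem _ (hall α hα) j
  have hKp : IsPGroup 3 (Subgroup.zpowers c) := by
    rintro ⟨k, hk⟩
    obtain ⟨j, rfl⟩ := Subgroup.mem_zpowers_iff.mp hk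
    refine ⟨1, ?_⟩
    apply Subtype.ext
    show (c ^ j) ^ (3 ^ 1) = 1
    rw [pow_one, ← zpow_natCast, ← zpow_mul, mul_comm, zpow_mul, zpow_natCast, hc3, one_zpow]
  exact opAutLeInn_of_isEssential F 3 hE (Subgroup.zpowers c) hKle hKnorm hKp
    (Subgroup.mem_zpowers c)

end Cfsg.Agent.Helper9.Pearl3
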