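import Mathlib
import Cfsg.Prelude.Def_FusionSystem
import Cfsg.Agent.S5111
import Cfsg.Agent.Helper9.PearlFB

set_option autoImplicit false

/-! Piece X3 of S5239 (driver helper10): a pearl `E` of order `9` and exponent `3` in a saturated
fusion system on `S` of order `27` whose inversion lies in `Aut_F(E)` forces `S` to have
exponent `3`. -/

namespace Cfsg.Agent.Helper9.Pearl3

open Cfsg Cfsg.FusionSystem Cfsg.Agent.Helper25

section Abstract

variable {X : Type*} [Group X] [Finite X]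

/-- Commutators in a group of order `27` are central. -/
theorem comm_mem_center_of_card (hX : Nat.card X = 27) (a b : X) :
    a * b * a⁻¹ * b⁻¹ ∈ Subgroup.center X := by
  have : Fact (Nat.Prime 3) := ⟨by norm_num⟩
  by_cases hc : IsMulCommutative X
  · have : a * b * a⁻¹ * b⁻¹ = 1 := by
      rw [mul_comm' a b]; group
    rw [this]; exact Subgroup.one_mem _
  · exact Cfsg.Agent.Helper9.Pearl.cube_comm_mem_center (p := 3) (by rw [hX]; norm_num) hc a b

/-- A group of order `27` with a self-centralizing subgroup `A` of order `9` and exponent `3`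
and an injective endomorphism inverting `A` has exponent `3`. -/
theorem cube_of_inverting (hX : Nat.card X = 27) (A : Subgroup X) (hA : Nat.card A = 9)
    (hexp : ∀ a ∈ A, a ^ 3 = 1) (hC : Subgroup.centralizer (A : Set X) ≤ A)
    (χ : X →* X) (hχ : Function.Injective χ) (hinv : ∀ a ∈ A, χ a = a⁻¹) :
    ∀ x : X, x ^ 3 = 1 := by
  classical
  have : Fact (Nat.Prime 3) := ⟨by norm_num⟩
  -- `A` is abelian
  have hAcomm : ∀ a ∈ A, ∀ b ∈ A, a * b = b * a := by
    have := IsPGroup.isMulCommutative_of_card_eq_prime_sq (p := 3) (G := A) (by rw [hA]; norm_num)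
    intro a ha b hb
    exact congrArg Subtype.val (this.is_comm.comm ⟨a, ha⟩ ⟨b, hb⟩)
  -- `A` has index `3`, hence is normal
  have hidx : A.index = 3 := by
    have h := Subgroup.card_mul_index A
    rw [hA, hX] at h
    omega
  have hAn : A.Normal := by
    apply Subgroup.normal_of_index_eq_minFac_card
    rw [hidx, hX]
    norm_num
  have hcen := comm_mem_center_of_card hX
  have hcard27 : ∀ x : X, x ^ 27 = 1 := by
    intro x
    rw [← hX]
    exact pow_card_eq_one'
  intro x
  by_cases hxA : x ∈ A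
  · exact hexp x hxA
  -- `x ^ 3 ∈ A`
  have hx3 : x ^ 3 ∈ A := by
    have := Subgroup.pow_index_mem A x
    rwa [hidx] at this
  -- trichotomy for `χ x` modulo `A`
  have hq : Nat.card (X ⧸ A) = 3 := by
    rw [← Subgroup.index_eq_card]; exact hidx
  have hg1 : (QuotientGroup.mk x : X ⧸ A) ≠ 1 := by
    intro h
    exact hxA ((QuotientGroup.eq_one_iff x).mp h)
  have hmem : (QuotientGroup.mk (χ x) : X ⧸ A) ∈ Submonoid.powers (QuotientGroup.mk x : X ⧸ A) :=
    mem_powers_of_prime_card hq hg1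
  have hord : orderOf (QuotientGroup.mk x : X ⧸ A) = 3 := by
    have h3 : (QuotientGroup.mk x : X ⧸ A) ^ 3 = 1 := by
      rw [← hq]; exact pow_card_eq_one'
    exact orderOf_eq_prime h3 hg1
  rw [mem_powers_iff_mem_range_orderOf, hord] at hmem
  obtain ⟨k, hk, hkeq⟩ := Finset.mem_image.mp hmem
  have hk3 : k < 3 := Finset.mem_range.mp hk
  have hkeq' : ((x ^ k : X) : X ⧸ A) = ((χ x : X) : X ⧸ A) := hkeq
  have hkA : (x ^ k)⁻¹ * χ x ∈ A := QuotientGroup.eq.mp hkeq'
  interval_cases k
  · -- `χ x ∈ A`: contradicts injectivity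
    exfalso
    rw [pow_zero, inv_one, one_mul] at hkA
    have h1 : χ ((χ x)⁻¹) = χ x := by
      rw [hinv _ (A.inv_mem hkA), inv_inv]
    have h2 : (χ x)⁻¹ = x := hχ h1
    exact hxA (h2 ▸ A.inv_mem hkA)
  · -- `χ x = x e₁`
    rw [pow_one] at hkA
    set e₁ := x⁻¹ * χ x with he₁
    have hχx : χ x = x * e₁ := by rw [he₁]; group
    -- `w = [e₁, x]` is central and lies in `A`
    have hw := hcen e₁ x
    set w := e₁ * x * e₁⁻¹ * x⁻¹ with hwdef
    have hwA : w ∈ A := by
      have : w = e₁ * (x * e₁⁻¹ * x⁻¹) := by rw [hwdef]; group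
      rw [this]
      exact A.mul_mem hkA (hAn.conj_mem _ (A.inv_mem hkA) x)
    have hex : e₁ * x = w * x * e₁ := by rw [hwdef]; group
    have hwc : ∀ y : X, y * w = w * y := fun y => (Subgroup.mem_center_iff.mp hw y)
    have hcube : (x * e₁) ^ 3 = x ^ 3 := by
      have h1 : (x * e₁) ^ 3 = x * (e₁ * x) * (e₁ * x) * e₁ := by
        rw [pow_succ, pow_two]; group
      rw [h1, hex]
      have h2 : x * (w * x * e₁) * (w * x * e₁) * e₁ = w * w * (x * x * (e₁ * x) * e₁ * e₁) := by
        calc x * (w * x * e₁) * (w * x * e₁) * e₁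
            = (x * w) * x * e₁ * w * x * e₁ * e₁ := by group
          _ = w * x * x * (e₁ * w) * x * e₁ * e₁ := by rw [hwc x]; group
          _ = w * x * x * (w * e₁) * x * e₁ * e₁ := by rw [hwc e₁]
          _ = w * ((x * x) * w) * e₁ * x * e₁ * e₁ := by group
          _ = w * (w * (x * x)) * e₁ * x * e₁ * e₁ := by rw [hwc (x * x)]
          _ = w * w * (x * x * (e₁ * x) * e₁ * e₁) := by group
      rw [h2, hex]
      have h3 : w * w * (x * x * (w * x * e₁) * e₁ * e₁) = w * w * ((x * x) * w) * x * (e₁ * e₁ * e₁) := by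
        group
      rw [h3, hwc (x * x)]
      have h4 : e₁ * e₁ * e₁ = 1 := by
        have := hexp e₁ hkA
        rw [pow_succ, pow_two] at this
        exact this
      have h5 : w * w * w = 1 := by
        have := hexp w hwA
        rw [pow_succ, pow_two] at this
        exact this
      rw [h4, mul_one]
      calc w * w * (w * (x * x)) * x = (w * w * w) * (x * x * x) := by group
        _ = x ^ 3 := by rw [h5, one_mul, pow_succ, pow_two]
    have h6 : χ (x ^ 3) = x ^ 3 := by
      rw [map_pow, hχx, hcube]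
    have h7 : (x ^ 3)⁻¹ = x ^ 3 := by
      rw [← hinv _ hx3, h6]
    have h8 : x ^ 6 = 1 := by
      have : x ^ 6 = x ^ 3 * x ^ 3 := by rw [← pow_add]
      rw [this]
      nth_rewrite 1 [← h7]
      exact inv_mul_cancel _
    have h9 := hcard27 x
    have hdvd6 : orderOf x ∣ 6 := orderOf_dvd_of_pow_eq_one h8
    have hdvd27 : orderOf x ∣ 27 := orderOf_dvd_of_pow_eq_one h9
    have hdvd3 : orderOf x ∣ 3 := by
      have := Nat.dvd_gcd hdvd6 hdvd27
      simpa using this
    exact orderOf_dvd_iff_pow_eq_one.mp hdvd3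
  · -- `χ x = x⁻¹ e₁`: contradiction
    exfalso
    have hx2 : (x ^ 2)⁻¹ * χ x ∈ A := hkA
    -- `x * χ x ∈ A`
    have hxx : x * χ x ∈ A := by
      have : x * χ x = x ^ 3 * ((x ^ 2)⁻¹ * χ x) := by
        rw [pow_succ x 2]; group
      rw [this]
      exact A.mul_mem hx3 hx2
    set e₁ := x * χ x with he₁
    have hχx : χ x = x⁻¹ * e₁ := by rw [he₁]; group
    -- some `e ∈ A` does not commute with `x`
    obtain ⟨e, heA, hne⟩ : ∃ e ∈ A, e * x ≠ x * e := by
      by_contra hcon
      push Not at hcon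
      apply hxA
      apply hC
      rw [Subgroup.mem_centralizer_iff]
      intro a ha
      exact hcon a ha
    have hw := hcen x e
    set w := x * e * x⁻¹ * e⁻¹ with hwdef
    have hwA : w ∈ A := by
      have : w = (x * e * x⁻¹) * e⁻¹ := by rw [hwdef]
      rw [this]
      exact A.mul_mem (hAn.conj_mem _ heA x) (A.inv_mem heA)
    have hw1 : w ≠ 1 := by
      intro h
      apply hne
      have : x * e = w * e * x := by rw [hwdef]; group
      rw [this, h, one_mul]
    have hwc : ∀ y : X, y * w = w * y := fun y => (Subgroup.mem_center_iff.mp hw y)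
    -- `χ w = w`
    have hχw : χ w = w := by
      have h1 : χ w = χ x * χ e * (χ x)⁻¹ * (χ e)⁻¹ := by
        rw [hwdef]; simp only [map_mul, map_inv]
      rw [h1, hinv e heA, hχx, inv_inv]
      have h2 : x⁻¹ * e₁ * e⁻¹ * (x⁻¹ * e₁)⁻¹ * e = x⁻¹ * (e₁ * e⁻¹) * e₁⁻¹ * x * e := by group
      rw [h2, hAcomm e₁ hxx e⁻¹ (A.inv_mem heA)]
      have h3 : x⁻¹ * (e⁻¹ * e₁) * e₁⁻¹ * x * e = x⁻¹ * e⁻¹ * x * e := by group
      rw [h3]
      -- `x⁻¹ e⁻¹ x e = w`
      have hA1 : x⁻¹ * e⁻¹ * x * e = e⁻¹ * (x⁻¹ * w * x) * e := by rw [hwdef]; group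
      have hA2 : x⁻¹ * w * x = w := by
        rw [mul_assoc, ← hwc x]; group
      have hA3 : e⁻¹ * w * e = w := by
        rw [mul_assoc, ← hwc e]; group
      rw [hA1, hA2, hA3]
    have h5 : w⁻¹ = w := by rw [← hinv w hwA, hχw]
    have h6 : w ^ 2 = 1 := by
      rw [pow_two]
      nth_rewrite 1 [← h5]
      exact inv_mul_cancel _
    have h7 : w ^ 3 = 1 := hexp w hwA
    apply hw1
    calc w = w ^ 3 * (w ^ 2)⁻¹ := by group
      _ = 1 := by rw [h6, h7]; group

end Abstract

section Fusion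

variable {Ω : Type*} [Group Ω] {S : Subgroup Ω} [Finite S]

/-- X3: if the inversion of a pearl `E` of order `9` and exponent `3` is an `F`-automorphism,
then `S` (of order `27`) has exponent `3`. -/
theorem pow_three_eq_one_of_inverting [Fact (Nat.Prime 3)] (hS : IsPGroup 3 S)
    (hcardS : Nat.card S = 27) (F : Cfsg.FusionSystem S) (hF : F.IsSaturated 3) (E : Subgroup Ω)
    (hE : F.IsEssential 3 E) (hcard : Nat.card E = 9) (hexp : ∀ x ∈ E, x ^ 3 = 1)
    (τ : MulAut ↥E) (hτ : τ ∈ F.autGroup E) (hinv : ∀ e : ↥E, τ e = e⁻¹) :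
    ∀ x : ↥S, x ^ 3 = 1 := by
  have hES : E ≤ S := hE.1.1
  have hrec : F.IsReceptive E := ((Cfsg.Agent.S5111.result 3 hS F).mp hF).2 E hE.2.1
  have hψ : autHom τ ∈ F.Hom E := (mem_autGroup_iff F hES τ).mp hτ
  obtain ⟨ψ', hψ', hext⟩ := hrec.2 E (autHom τ) hψ (autHom_range τ)
  set A : Subgroup ↥S := E.subgroupOf S with hAdef
  have hA : Nat.card A = 9 := by
    rw [← hcard]
    exact Nat.card_congr (Subgroup.subgroupOfEquivOfLe hES).toEquiv
  have hidx : A.index = 3 := by
    have h := Subgroup.card_mul_index A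
    rw [hA, hcardS] at h
    omega
  have hAn : A.Normal := by
    apply Subgroup.normal_of_index_eq_minFac_card
    rw [hidx, hcardS]
    norm_num
  have hSN : S ≤ Subgroup.normalizer (E : Set Ω) :=
    (Subgroup.normal_subgroupOf_iff_le_normalizer hES).mp hAn
  have hSe : S ≤ extender S E (autHom τ) := by
    intro g hg
    refine Subgroup.subset_closure ⟨hg, hSN hg, g, hg, fun x hx => ?_⟩
    show ((τ ⟨g * x * g⁻¹, hx⟩ : E) : Ω) = g * ((τ x : E) : Ω) * g⁻¹
    rw [hinv, hinv]
    show (g * (x : Ω) * g⁻¹)⁻¹ = g * (x : Ω)⁻¹ * g⁻¹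
    group
  have hχmem : ψ'.comp (Subgroup.inclusion hSe) ∈ F.Hom S := restrict_mem F hSe hψ'
  have hχS : ∀ x : S, (ψ'.comp (Subgroup.inclusion hSe)) x ∈ S := (F.le_of_mem hχmem).2
  let χ : ↥S →* ↥S := (ψ'.comp (Subgroup.inclusion hSe)).codRestrict S hχS
  have hχinj : Function.Injective χ := fun a b hab =>
    F.injective_of_mem hχmem (congrArg Subtype.val hab)
  have hχinv : ∀ a ∈ A, χ a = a⁻¹ := by
    intro a ha
    have haE : (a : Ω) ∈ E := Subgroup.mem_subgroupOf.mp ha
    apply Subtype.ext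
    show ψ' ⟨(a : Ω), hSe a.2⟩ = ((a⁻¹ : ↥S) : Ω)
    rw [hext (a : Ω) haE (hSe a.2)]
    show ((τ ⟨a, haE⟩ : E) : Ω) = _
    rw [hinv]
    rfl
  have hC : centralizerIn S E ≤ E := hE.1.2 E (isConj_refl F hES)
  have hCA : Subgroup.centralizer ((A : Subgroup ↥S) : Set ↥S) ≤ A := by
    intro x hx
    rw [hAdef, Subgroup.mem_subgroupOf]
    apply hC
    refine ⟨x.2, ?_⟩
    show (x : Ω) ∈ Subgroup.centralizer (E : Set Ω)
    rw [Subgroup.mem_centralizer_iff]
    intro e he
    rw [Subgroup.mem_centralizer_iff] at hx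
    have := hx ⟨e, hES he⟩ (by
      show (⟨e, hES he⟩ : ↥S) ∈ E.subgroupOf S
      rw [Subgroup.mem_subgroupOf]
      exact he)
    exact congrArg Subtype.val this
  have hexpA : ∀ a ∈ A, a ^ 3 = 1 := by
    intro a ha
    apply Subtype.ext
    have := hexp (a : Ω) (Subgroup.mem_subgroupOf.mp ha)
    simpa using this
  exact cube_of_inverting hcardS A hA hexpA hCA χ hχinj hχinv

end Fusion

end Cfsg.Agent.Helper9.Pearl3
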