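import Mathlib
import Cfsg.Agent.Helper9.PlA

/-! Abstract Pauli systems: a family `P : (Fin n ⊕ Fin n → ZMod 2) → A` in a `ZMod 3`-algebra which
is a basis and multiplies with the standard cocycle. -/

set_option autoImplicit false

open Module

namespace Cfsg.Agent.Helper9.Pl

abbrev K3 := ZMod 3
abbrev Uc (n : ℕ) := (Fin n ⊕ Fin n) → ZMod 2

variable {n : ℕ}

def xa (u : Uc n) : Fin n → ZMod 2 := fun i => u (Sum.inl i)
def zb (u : Uc n) : Fin n → ZMod 2 := fun i => u (Sum.inr i)

theorem xa_add (u v : Uc n) : xa (u + v) = xa u + xa v := rfl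
theorem zb_add (u v : Uc n) : zb (u + v) = zb u + zb v := rfl
theorem xa_zero : xa (0 : Uc n) = 0 := rfl
theorem zb_zero : zb (0 : Uc n) = 0 := rfl

def bet (u v : Uc n) : ZMod 2 := dotProduct (zb u) (xa v)
def qq (u : Uc n) : ZMod 2 := dotProduct (xa u) (zb u)
def BB (u v : Uc n) : ZMod 2 := bet u v + bet v u

theorem bet_self (u : Uc n) : bet u u = qq u := dotProduct_comm _ _
theorem bet_add_left (u v w : Uc n) : bet (u + v) w = bet u w + bet v w := by
  simp only [bet, zb_add, add_dotProduct]
theorem bet_add_right (u v w : Uc n) : bet u (v + w) = bet u v + bet u w := by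
  simp only [bet, xa_add, dotProduct_add]
theorem bet_zero_left (w : Uc n) : bet 0 w = 0 := by simp only [bet, zb_zero, zero_dotProduct]
theorem bet_zero_right (w : Uc n) : bet w 0 = 0 := by simp only [bet, xa_zero, dotProduct_zero]
theorem bet_smul_left (c : ZMod 2) (u w : Uc n) : bet (c • u) w = c • bet u w := by
  simp only [bet]
  have : zb (c • u) = c • zb u := rfl
  rw [this, smul_dotProduct]
theorem bet_smul_right (c : ZMod 2) (u w : Uc n) : bet u (c • w) = c • bet u w := by
  simp only [bet]
  have : xa (c • w) = c • xa w := rfl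
  rw [this, dotProduct_smul]

theorem BB_comm (u v : Uc n) : BB u v = BB v u := add_comm _ _
theorem BB_self (u : Uc n) : BB u u = 0 := z2_add_self _
theorem BB_add_right (u v w : Uc n) : BB u (v + w) = BB u v + BB u w := by
  simp only [BB, bet_add_left, bet_add_right]; ring
theorem BB_zero_right (u : Uc n) : BB u 0 = 0 := by
  simp only [BB, bet_zero_left, bet_zero_right, add_zero]

theorem add_self_uc (u : Uc n) : u + u = 0 := by
  funext i; exact z2_add_self _

/-- the bilinear form `bet`. -/
def betL : Uc n →ₗ[ZMod 2] Uc n →ₗ[ZMod 2] ZMod 2 :=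
  LinearMap.mk₂ (ZMod 2) bet bet_add_left bet_smul_left bet_add_right bet_smul_right

theorem betL_apply (u v : Uc n) : betL u v = bet u v := rfl

/-- nondegeneracy of `BB`. -/
theorem exists_BB_eq_one {u : Uc n} (hu : u ≠ 0) : ∃ w : Uc n, BB w u = 1 := by
  classical
  obtain ⟨i, hi⟩ : ∃ i, u i ≠ 0 := by
    by_contra h
    apply hu
    funext j
    by_contra hj
    exact h ⟨j, hj⟩
  have hi1 : u i = 1 := by
    rcases z2_cases (u i) with h | h
    · exact absurd h hi
    · exact h
  rcases i with i | i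
  · refine ⟨Pi.single (Sum.inr i) 1, ?_⟩
    have h1 : zb (Pi.single (Sum.inr i) 1 : Uc n) = Pi.single i 1 := by
      funext j
      simp only [zb, Pi.single_apply, Sum.inr.injEq]
    have h2 : xa (Pi.single (Sum.inr i) 1 : Uc n) = 0 := by
      funext j
      simp only [xa, Pi.single_apply, reduceCtorEq, if_false, Pi.zero_apply]
    simp only [BB, bet, h1, h2, dotProduct_zero, single_dotProduct, one_mul, add_zero]
    exact hi1
  · refine ⟨Pi.single (Sum.inl i) 1, ?_⟩
    have h1 : xa (Pi.single (Sum.inl i) 1 : Uc n) = Pi.single i 1 := by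
      funext j
      simp only [xa, Pi.single_apply, Sum.inl.injEq]
    have h2 : zb (Pi.single (Sum.inl i) 1 : Uc n) = 0 := by
      funext j
      simp only [zb, Pi.single_apply, reduceCtorEq, if_false, Pi.zero_apply]
    simp only [BB, bet, h1, h2, zero_dotProduct, dotProduct_single, mul_one, zero_add]
    exact hi1

theorem z2_rearr : ∀ a b c d e : ZMod 2, a + b + c = d + e → e + a = b + c + d := by decide

theorem sg_smul_cases {M : Type*} [AddCommGroup M] [Module K3 M] (t : ZMod 2) (x : M) :
    sg t • x = x ∨ sg t • x = -x := by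
  rcases sg_cases t with h1 | h1
  · left; rw [h1, one_smul]
  · right; rw [h1, neg_smul, one_smul]

/-- a Pauli system. -/
structure PSys (n : ℕ) (A : Type*) [Ring A] [Algebra K3 A] (P : Uc n → A) : Prop where
  mul : ∀ u v, P u * P v = sg (bet u v) • P (u + v)
  one : P 0 = 1
  li : LinearIndependent K3 P
  span : ⊤ ≤ Submodule.span K3 (Set.range P)
  inner : ∀ f : A ≃ₐ[K3] A, ∃ T : Aˣ, ∀ x, f x = ↑T * x * ↑T⁻¹

namespace PSys

variable {A : Type*} [Ring A] [Algebra K3 A] {P : Uc n → A} (h : PSys n A P)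
include h

/-- the basis. -/
noncomputable def basis : Basis (Uc n) K3 A := Basis.mk h.li h.span

theorem basis_apply (u : Uc n) : h.basis u = P u := by
  rw [basis, Basis.mk_apply]

theorem sq (u : Uc n) : P u * P u = sg (qq u) • 1 := by
  rw [h.mul, add_self_uc, bet_self, h.one]

theorem mul_inv' (u : Uc n) : P u * (sg (qq u) • P u) = 1 := by
  rw [mul_smul_comm, h.sq, smul_smul, sg_mul_self, one_smul]

theorem inv_mul' (u : Uc n) : (sg (qq u) • P u) * P u = 1 := by
  rw [smul_mul_assoc, h.sq, smul_smul, sg_mul_self, one_smul]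

/-- `P u` as a unit. -/
def Pu (u : Uc n) : Aˣ := ⟨P u, sg (qq u) • P u, h.mul_inv' u, h.inv_mul' u⟩

theorem Pu_val (u : Uc n) : ((h.Pu u : Aˣ) : A) = P u := rfl
theorem Pu_inv_val (u : Uc n) : (((h.Pu u)⁻¹ : Aˣ) : A) = sg (qq u) • P u := rfl

theorem comm (u v : Uc n) : P u * P v = sg (BB u v) • (P v * P u) := by
  rw [h.mul u v, h.mul v u, smul_smul, add_comm v u, BB, sg_add, mul_assoc, sg_mul_self, mul_one]

theorem conj (v w : Uc n) : P v * P w * (sg (qq v) • P v) = sg (BB v w) • P w := by
  rw [h.comm v w, smul_mul_assoc, mul_assoc, h.mul_inv', mul_one]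

theorem P_eq_smul {u v : Uc n} {c : K3} (he : P u = c • P v) : u = v := by
  classical
  by_contra huv
  have h1 := congrArg (fun x => h.basis.repr x u) he
  simp only [map_smul, ← h.basis_apply, Basis.repr_self, Finsupp.smul_apply,
    Finsupp.single_eq_same] at h1
  rw [Finsupp.single_eq_of_ne (fun hh => huv hh)] at h1
  simp at h1

theorem P_ne_zero (u : Uc n) : P u ≠ 0 := h.li.ne_zero u

theorem smul_P_inj {u : Uc n} {c d : K3} (he : c • P u = d • P u) : c = d := by
  have h1 : (c - d) • P u = 0 := by rw [sub_smul, he, sub_self]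
  rcases smul_eq_zero.mp h1 with h2 | h2
  · exact sub_eq_zero.mp h2
  · exact absurd h2 (h.P_ne_zero u)

theorem one_ne_zero' : (1 : A) ≠ 0 := by rw [← h.one]; exact h.P_ne_zero 0

theorem neg_one_ne_one : (-1 : A) ≠ 1 := by
  intro he
  have h1 : ((-1 : K3)) • P 0 = (1 : K3) • P 0 := by
    rw [neg_smul, one_smul, h.one, he]
  have := h.smul_P_inj h1
  revert this; decide

theorem P_pm_inj {u v : Uc n} (he : P u = P v ∨ P u = -P v) : u = v := by
  rcases he with he | he
  · exact h.P_eq_smul (c := 1) (by rw [one_smul]; exact he)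
  · exact h.P_eq_smul (c := -1) (by rw [neg_smul, one_smul]; exact he)

/-- elements commuting with all `P u` are scalars. -/
theorem central_scalar (x : A) (hx : ∀ u, x * P u = P u * x) : ∃ c : K3, x = c • 1 := by
  classical
  have key : ∀ w u : Uc n, ∀ y : A,
      h.basis.repr (P w * y * (sg (qq w) • P w)) u = sg (BB w u) * h.basis.repr y u := by
    intro w u
    let L1 : A →ₗ[K3] K3 := (Finsupp.lapply u).comp (h.basis.repr.toLinearMap.comp
      ((LinearMap.mulLeft K3 (P w)).comp (LinearMap.mulRight K3 (sg (qq w) • P w))))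
    let L2 : A →ₗ[K3] K3 := sg (BB w u) • (Finsupp.lapply u).comp h.basis.repr.toLinearMap
    have hL : L1 = L2 := by
      apply h.basis.ext
      intro v
      show h.basis.repr (P w * (h.basis v * (sg (qq w) • P w))) u
        = sg (BB w u) * h.basis.repr (h.basis v) u
      rw [h.basis_apply, ← mul_assoc, h.conj, map_smul, ← h.basis_apply, Basis.repr_self,
        Finsupp.smul_apply, smul_eq_mul]
      by_cases hvu : v = u
      · rw [hvu]
      · rw [Finsupp.single_eq_of_ne (fun hh => hvu hh.symm), mul_zero, mul_zero]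
    intro y
    have := congrArg (fun L : A →ₗ[K3] K3 => L y) hL
    simpa [L1, L2, mul_assoc] using this
  have hfix : ∀ w : Uc n, P w * x * (sg (qq w) • P w) = x := by
    intro w
    rw [← hx w, mul_assoc, h.mul_inv', mul_one]
  have hzero : ∀ u : Uc n, u ≠ 0 → h.basis.repr x u = 0 := by
    intro u hu
    obtain ⟨w, hw⟩ := exists_BB_eq_one hu
    have h1 := key w u x
    rw [hfix w, hw, sg_one] at h1
    apply k3_self_neg
    rw [neg_one_mul] at h1
    exact h1
  refine ⟨h.basis.repr x 0, ?_⟩
  apply h.basis.repr.injective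
  rw [map_smul, ← h.one, ← h.basis_apply, Basis.repr_self]
  ext u
  by_cases hu : u = 0
  · subst hu; simp
  · rw [hzero u hu, Finsupp.smul_apply, Finsupp.single_eq_of_ne hu, smul_zero]

/-- every isometry of `qq` is induced by conjugation with a unit. -/
theorem exists_conj (k : Uc n ≃ₗ[ZMod 2] Uc n) (hk : ∀ u, qq (k u) = qq u) :
    ∃ T : Aˣ, ∀ u, ∃ t : ZMod 2, ↑T * P u * ↑T⁻¹ = sg t • P (k u) := by
  classical
  let _ : LinearOrder (Fin n ⊕ Fin n) := LinearOrder.lift' toLex toLex.injective
  let δ : Uc n →ₗ[ZMod 2] Uc n →ₗ[ZMod 2] ZMod 2 :=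
    (betL.compl₁₂ k.toLinearMap k.toLinearMap) + betL
  have hδ : ∀ u v, δ u v = bet (k u) (k v) + bet u v := fun u v => rfl
  obtain ⟨s, hs⟩ := exists_quad δ (fun u => by rw [hδ, bet_self, bet_self, hk]; exact z2_add_self _)
  have hs0 : s 0 = 0 := by
    have h1 := hs 0 0
    rw [hδ, map_zero, bet_zero_left, add_zero, add_zero] at h1
    have h2 := z2_add_self (s 0)
    rw [h2, zero_add] at h1
    exact h1
  let α : A →ₗ[K3] A := h.basis.constr K3 (fun u => sg (s u) • P (k u))
  have hα : ∀ u, α (P u) = sg (s u) • P (k u) := by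
    intro u
    rw [← h.basis_apply u]
    exact h.basis.constr_basis K3 _ u
  have hmul : ∀ x y, α (x * y) = α x * α y := by
    let L1 : A →ₗ[K3] A →ₗ[K3] A := (LinearMap.mul K3 A).compr₂ α
    let L2 : A →ₗ[K3] A →ₗ[K3] A := (LinearMap.mul K3 A).compl₁₂ α α
    have hL : L1 = L2 := by
      apply h.basis.ext; intro u
      apply h.basis.ext; intro v
      show α (h.basis u * h.basis v) = α (h.basis u) * α (h.basis v)
      rw [h.basis_apply, h.basis_apply, hα, hα, h.mul, map_smul, hα, smul_mul_assoc,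
        mul_smul_comm, h.mul, smul_smul, smul_smul, smul_smul, map_add]
      congr 1
      have h1 := z2_rearr _ _ _ _ _ ((hs u v).trans (hδ u v))
      have h2 := congrArg sg h1
      rw [sg_add, sg_add, sg_add] at h2
      rw [h2]
    intro x y
    exact congrArg (fun L : A →ₗ[K3] A →ₗ[K3] A => L x y) hL
  have hone : α 1 = 1 := by
    rw [← h.one, hα, hs0, sg_zero, one_smul, map_zero]
  let αA : A →ₐ[K3] A := AlgHom.ofLinearMap α hone hmul
  have _ : Module.Finite K3 A := Module.Finite.of_basis h.basis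
  have hsurj : Function.Surjective α := by
    rw [← LinearMap.range_eq_top, eq_top_iff]
    refine le_trans h.span ?_
    rw [Submodule.span_le]
    rintro _ ⟨w, rfl⟩
    refine ⟨sg (s (k.symm w)) • P (k.symm w), ?_⟩
    rw [map_smul, hα, smul_smul, sg_mul_self, one_smul, LinearEquiv.apply_symm_apply]
  have hinj : Function.Injective α := LinearMap.injective_iff_surjective.mpr hsurj
  let αE : A ≃ₐ[K3] A := AlgEquiv.ofBijective αA ⟨hinj, hsurj⟩
  obtain ⟨T, hT⟩ := h.inner αE
  refine ⟨T, fun u => ⟨s u, ?_⟩⟩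
  rw [← hT]; exact hα u

end PSys

end Cfsg.Agent.Helper9.Pl
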