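import Mathlib
import Cfsg.Agent.Helper9.PlB

/-! The concrete Pauli system on functions `(Fin n → ZMod 2) → ZMod 3`. -/

set_option autoImplicit false

open Module

namespace Cfsg.Agent.Helper9.Pl

abbrev Xn (n : ℕ) := Fin n → ZMod 2
abbrev Vn (n : ℕ) := Xn n → K3

variable {n : ℕ}

theorem add_self_xn (a : Xn n) : a + a = 0 := by
  funext i; exact z2_add_self _

theorem add_add_eq_iff (y a b : Xn n) : y + a + b = y ↔ b = a := by
  constructor
  · intro h
    have h1 : a + b = 0 := by
      have this : y + (y + a + b) = y + y := congrArg (fun t => y + t) h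
      rw [add_assoc, ← add_assoc y y, add_self_xn, zero_add] at this
      exact this
    calc b = a + (a + b) := by rw [← add_assoc, add_self_xn, zero_add]
      _ = a := by rw [h1, add_zero]
  · rintro rfl
    rw [add_assoc, add_self_xn, add_zero]

theorem uc_ext {u v : Uc n} (h1 : xa u = xa v) (h2 : zb u = zb v) : u = v := by
  funext i
  rcases i with i | i
  · exact congrFun h1 i
  · exact congrFun h2 i

/-- the Pauli operator `X^a Z^b`. -/
def Pop (u : Uc n) : Module.End K3 (Vn n) where
  toFun φ := fun x => sg (dotProduct (zb u) (x + xa u)) * φ (x + xa u)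
  map_add' φ ψ := by funext x; simp only [Pi.add_apply]; ring
  map_smul' c φ := by
    funext x; simp only [Pi.smul_apply, smul_eq_mul, RingHom.id_apply]; ring

theorem Pop_apply (u : Uc n) (φ : Vn n) (x : Xn n) :
    Pop u φ x = sg (dotProduct (zb u) (x + xa u)) * φ (x + xa u) := rfl

theorem Pop_mul (u v : Uc n) : Pop u * Pop v = sg (bet u v) • Pop (u + v) := by
  apply LinearMap.ext; intro φ; funext x
  rw [Module.End.mul_apply, Pop_apply, Pop_apply, LinearMap.smul_apply, Pi.smul_apply, Pop_apply,
    smul_eq_mul, xa_add, zb_add, ← add_assoc x, ← mul_assoc, ← mul_assoc, ← sg_add, ← sg_add]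
  congr 2
  simp only [bet, dotProduct_add, add_dotProduct]
  linear_combination (-(dotProduct (zb u) (xa v))) * z2_two

theorem Pop_one : Pop (0 : Uc n) = 1 := by
  apply LinearMap.ext; intro φ; funext x
  rw [Pop_apply, xa_zero, zb_zero, zero_dotProduct, sg_zero, one_mul, add_zero]
  rfl

theorem Pop_li : LinearIndependent K3 (Pop : Uc n → Module.End K3 (Vn n)) := by
  classical
  rw [Fintype.linearIndependent_iff]
  intro c hc u₀
  have h1 : ∀ y : Xn n,
      ∑ u : Uc n, c u * (if xa u = xa u₀ then sg (dotProduct (zb u) y) else 0) = 0 := by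
    intro y
    have h := congrArg (fun T : Module.End K3 (Vn n) => T (Pi.single y 1) (y + xa u₀)) hc
    simp only [LinearMap.sum_apply, Finset.sum_apply, LinearMap.smul_apply, Pi.smul_apply,
      smul_eq_mul, LinearMap.zero_apply, Pi.zero_apply] at h
    refine (Finset.sum_congr rfl ?_).trans h
    intro u _
    rw [Pop_apply, Pi.single_apply]
    by_cases hu : xa u = xa u₀
    · rw [if_pos hu, if_pos ((add_add_eq_iff _ _ _).mpr hu), mul_one, hu, add_assoc,
        add_self_xn, add_zero]
    · rw [if_neg hu, if_neg (fun hh => hu ((add_add_eq_iff _ _ _).mp hh)), mul_zero, mul_zero,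
        mul_zero]
  have h2 : ∑ y : Xn n, sg (dotProduct (zb u₀) y) *
      ∑ u : Uc n, c u * (if xa u = xa u₀ then sg (dotProduct (zb u) y) else 0) = 0 := by
    apply Finset.sum_eq_zero; intro y _
    rw [h1 y, mul_zero]
  have h3 : ∑ y : Xn n, sg (dotProduct (zb u₀) y) *
      ∑ u : Uc n, c u * (if xa u = xa u₀ then sg (dotProduct (zb u) y) else 0)
      = ∑ u : Uc n, c u * (if xa u = xa u₀ ∧ zb u = zb u₀ then (2 : K3) ^ n else 0) := by
    simp only [Finset.mul_sum]
    rw [Finset.sum_comm]
    apply Finset.sum_congr rfl; intro u _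
    by_cases hu : xa u = xa u₀
    · simp only [if_pos hu]
      have h4 : ∀ y : Xn n, sg (dotProduct (zb u₀) y) * (c u * sg (dotProduct (zb u) y))
          = c u * sg (dotProduct (zb u₀ + zb u) y) := by
        intro y
        rw [add_dotProduct, sg_add]; ring
      simp only [h4, ← Finset.mul_sum]
      congr 1
      by_cases hz : zb u = zb u₀
      · rw [if_pos ⟨hu, hz⟩, hz, add_self_xn]
        exact sum_sg_dot_zero
      · rw [if_neg (fun hh => hz hh.2)]
        apply sum_sg_dot
        intro hh
        apply hz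
        calc zb u = zb u₀ + (zb u₀ + zb u) := by rw [← add_assoc, add_self_xn, zero_add]
          _ = zb u₀ := by rw [hh, add_zero]
    · simp only [if_neg hu, if_neg (fun hh : xa u = xa u₀ ∧ zb u = zb u₀ => hu hh.1), mul_zero,
        Finset.sum_const_zero]
  rw [h3] at h2
  rw [Finset.sum_eq_single u₀] at h2
  · rw [if_pos ⟨rfl, rfl⟩] at h2
    rcases mul_eq_zero.mp h2 with h5 | h5
    · exact h5
    · exact absurd h5 (two_pow_ne_zero n)
  · intro u _ hu
    rw [if_neg (fun hh => hu (uc_ext hh.1 hh.2)), mul_zero]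
  · intro hh; exact absurd (Finset.mem_univ _) hh

theorem finrank_End : finrank K3 (Module.End K3 (Vn n)) = Fintype.card (Uc n) := by
  rw [Module.finrank_linearMap, Module.finrank_fintype_fun_eq_card]
  simp only [Fintype.card_fun, ZMod.card, Fintype.card_fin, Fintype.card_sum]
  rw [pow_add]

theorem Pop_span : ⊤ ≤ Submodule.span K3 (Set.range (Pop : Uc n → Module.End K3 (Vn n))) := by
  rw [Pop_li.span_eq_top_of_card_eq_finrank' finrank_End.symm]

theorem inner_End (f : Module.End K3 (Vn n) ≃ₐ[K3] Module.End K3 (Vn n)) :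
    ∃ T : (Module.End K3 (Vn n))ˣ, ∀ x, f x = ↑T * x * ↑T⁻¹ := by
  obtain ⟨T, hT⟩ := f.eq_linearEquivConjAlgEquiv
  refine ⟨LinearMap.GeneralLinearGroup.ofLinearEquiv T, fun x => ?_⟩
  rw [hT, LinearEquiv.conjAlgEquiv_apply]
  rfl

theorem psys_Pop : PSys n (Module.End K3 (Vn n)) Pop :=
  ⟨Pop_mul, Pop_one, Pop_li, Pop_span, inner_End⟩

instance finite_End : Finite (Module.End K3 (Vn n)) :=
  Finite.of_injective (fun f : Module.End K3 (Vn n) => (f : Vn n → Vn n)) DFunLike.coe_injective

end Cfsg.Agent.Helper9.Pl
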