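import Mathlib
import Cfsg.Agent.Helper9.PlB

/-! The Clifford-type group `R0` normalising the Pauli group `Q0` inside the units of a Pauli
system, with `R0 / Q0 ≃ K` for a group `K` of isometries. -/

set_option autoImplicit false

open Module

namespace Cfsg.Agent.Helper9.Pl

variable {n : ℕ} {A : Type*} [Ring A] [Algebra K3 A] {P : Uc n → A}
variable {K : Type*} [Group K] {act : K → (Uc n ≃ₗ[ZMod 2] Uc n)}

/-- hypotheses on the action. -/
structure ActHyp (act : K → (Uc n ≃ₗ[ZMod 2] Uc n)) : Prop where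
  mul : ∀ k l u, act (k * l) u = act k (act l u)
  qq : ∀ k u, qq (act k u) = qq u
  inj : ∀ k l, (∀ u, act k u = act l u) → k = l

theorem ActHyp.one (hA : ActHyp act) (u : Uc n) : act 1 u = u := by
  have h1 := hA.mul 1 1 u
  rw [one_mul] at h1
  exact ((act 1).injective h1).symm

theorem ActHyp.apply_inv (hA : ActHyp act) (k : K) (u : Uc n) : act k (act k⁻¹ u) = u := by
  rw [← hA.mul, mul_inv_cancel, hA.one]

theorem ActHyp.inv_apply (hA : ActHyp act) (k : K) (u : Uc n) : act k⁻¹ (act k u) = u := by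
  rw [← hA.mul, inv_mul_cancel, hA.one]

theorem sg3 : ∀ t q : ZMod 2, sg t * sg (t + q) * sg q = 1 := by decide

theorem smul_sg_cancel {M : Type*} [AddCommGroup M] [Module K3 M] (t : ZMod 2) {x y : M}
    (he : sg t • x = y) : x = sg t • y := by
  rw [← he, smul_smul, sg_mul_self, one_smul]

/-- `g = ± P u`. -/
def Rep (P : Uc n → A) (g : Aˣ) (u : Uc n) : Prop := ∃ t : ZMod 2, (g : A) = sg t • P u

/-- `g` induces `act k` on the Pauli operators up to sign. -/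
def Ind (P : Uc n → A) (act : K → (Uc n ≃ₗ[ZMod 2] Uc n)) (g : Aˣ) (k : K) : Prop :=
  ∀ u, ∃ t : ZMod 2, (g : A) * P u * ((g⁻¹ : Aˣ) : A) = sg t • P (act k u)

theorem ind_one (hA : ActHyp act) : Ind P act (1 : Aˣ) 1 := by
  intro u
  refine ⟨0, ?_⟩
  rw [sg_zero, one_smul, hA.one, inv_one, Units.val_one, one_mul, mul_one]

theorem ind_mul (hA : ActHyp act) {g g' : Aˣ} {k l : K} (hg : Ind P act g k)
    (hg' : Ind P act g' l) : Ind P act (g * g') (k * l) := by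
  intro u
  obtain ⟨t', ht'⟩ := hg' u
  obtain ⟨t, ht⟩ := hg (act l u)
  refine ⟨t' + t, ?_⟩
  calc ((g * g' : Aˣ) : A) * P u * (((g * g')⁻¹ : Aˣ) : A)
      = ↑g * (↑g' * P u * ↑g'⁻¹) * ↑g⁻¹ := by
        rw [mul_inv_rev, Units.val_mul, Units.val_mul]; simp only [mul_assoc]
    _ = sg t' • (↑g * P (act l u) * ↑g⁻¹) := by rw [ht', mul_smul_comm, smul_mul_assoc]
    _ = sg (t' + t) • P (act (k * l) u) := by rw [ht, smul_smul, ← sg_add, hA.mul]

theorem ind_inv (hA : ActHyp act) {g : Aˣ} {k : K} (hg : Ind P act g k) :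
    Ind P act g⁻¹ k⁻¹ := by
  intro u
  obtain ⟨t, ht⟩ := hg (act k⁻¹ u)
  rw [hA.apply_inv] at ht
  refine ⟨t, ?_⟩
  have h1 : P u = sg t • ((g : A) * P (act k⁻¹ u) * ↑g⁻¹) := by
    rw [ht, smul_smul, sg_mul_self, one_smul]
  calc ((g⁻¹ : Aˣ) : A) * P u * (((g⁻¹)⁻¹ : Aˣ) : A)
      = sg t • (↑g⁻¹ * ((g : A) * P (act k⁻¹ u) * ↑g⁻¹) * ↑g) := by
        rw [inv_inv, h1, mul_smul_comm, smul_mul_assoc]
    _ = sg t • P (act k⁻¹ u) := by
        congr 1
        rw [← mul_assoc, ← mul_assoc, Units.inv_mul, one_mul, mul_assoc, Units.inv_mul, mul_one]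

/-- the group of units inducing elements of `K`. -/
def R0 (P : Uc n → A) (hA : ActHyp act) : Subgroup Aˣ where
  carrier := {g | ∃ k, Ind P act g k}
  mul_mem' := by
    rintro g g' ⟨k, hk⟩ ⟨l, hl⟩
    exact ⟨k * l, ind_mul hA hk hl⟩
  one_mem' := ⟨1, ind_one hA⟩
  inv_mem' := by
    rintro g ⟨k, hk⟩
    exact ⟨k⁻¹, ind_inv hA hk⟩

theorem mem_R0 (hA : ActHyp act) {g : Aˣ} : g ∈ R0 P hA ↔ ∃ k, Ind P act g k := Iff.rfl

namespace PSys

variable (h : PSys n A P)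
include h

theorem rep_unique {g : Aˣ} {u v : Uc n} (hu : Rep P g u) (hv : Rep P g v) : u = v := by
  obtain ⟨t, ht⟩ := hu
  obtain ⟨t', ht'⟩ := hv
  have h1 : sg t • P u = sg t' • P v := by rw [← ht, ← ht']
  have h2 := smul_sg_cancel t h1
  rw [smul_smul] at h2
  exact h.P_eq_smul h2

theorem rep_one : Rep P (1 : Aˣ) 0 := ⟨0, by rw [sg_zero, one_smul, h.one]; rfl⟩

theorem rep_mul {g g' : Aˣ} {u v : Uc n} (hu : Rep P g u) (hv : Rep P g' v) :
    Rep P (g * g') (u + v) := by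
  obtain ⟨t, ht⟩ := hu
  obtain ⟨t', ht'⟩ := hv
  refine ⟨t + t' + bet u v, ?_⟩
  rw [Units.val_mul, ht, ht', smul_mul_assoc, mul_smul_comm, h.mul, smul_smul, smul_smul, sg_add,
    sg_add, mul_assoc]

theorem inv_val_of_rep {g : Aˣ} {t : ZMod 2} {u : Uc n} (hg : (g : A) = sg t • P u) :
    ((g⁻¹ : Aˣ) : A) = sg (t + qq u) • P u := by
  apply Units.inv_eq_of_mul_eq_one_right
  rw [hg, smul_mul_assoc, mul_smul_comm, h.sq, smul_smul, smul_smul, sg3, one_smul]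

theorem rep_inv {g : Aˣ} {u : Uc n} (hu : Rep P g u) : Rep P g⁻¹ u := by
  obtain ⟨t, ht⟩ := hu
  exact ⟨t + qq u, h.inv_val_of_rep ht⟩

theorem conj_rep {g : Aˣ} {t : ZMod 2} {v : Uc n} (hg : (g : A) = sg t • P v) (u : Uc n) :
    (g : A) * P u * ((g⁻¹ : Aˣ) : A) = sg (BB v u) • P u := by
  rw [h.inv_val_of_rep hg, hg, smul_mul_assoc, smul_mul_assoc, mul_smul_comm, smul_smul,
    h.comm v u, smul_mul_assoc, mul_assoc, h.sq, mul_smul_comm, mul_one, smul_smul, smul_smul]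
  congr 1
  have := sg3 t (qq v)
  linear_combination (sg (BB v u)) * this

theorem ind_unique (hA : ActHyp act) {g : Aˣ} {k l : K} (hk : Ind P act g k)
    (hl : Ind P act g l) : k = l := by
  apply hA.inj
  intro u
  obtain ⟨t, ht⟩ := hk u
  obtain ⟨t', ht'⟩ := hl u
  have h1 : sg t • P (act k u) = sg t' • P (act l u) := by rw [← ht, ← ht']
  have h2 := smul_sg_cancel t h1
  rw [smul_smul] at h2
  exact h.P_eq_smul h2

theorem ind_of_rep (hA : ActHyp act) {g : Aˣ} {v : Uc n} (hv : Rep P g v) : Ind P act g 1 := by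
  obtain ⟨t, ht⟩ := hv
  intro u
  exact ⟨BB v u, by rw [h.conj_rep ht, hA.one]⟩

/-- the Pauli group `{± P u}`. -/
def Q0 : Subgroup Aˣ where
  carrier := {g | ∃ u, Rep P g u}
  mul_mem' := by
    rintro g g' ⟨u, hu⟩ ⟨v, hv⟩
    exact ⟨u + v, h.rep_mul hu hv⟩
  one_mem' := ⟨0, h.rep_one⟩
  inv_mem' := by
    rintro g ⟨u, hu⟩
    exact ⟨u, h.rep_inv hu⟩

theorem mem_Q0 {g : Aˣ} : g ∈ h.Q0 ↔ ∃ u, Rep P g u := Iff.rfl

theorem Q0_le_R0 (hA : ActHyp act) : h.Q0 ≤ R0 P hA := by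
  rintro g ⟨v, hv⟩
  exact ⟨1, h.ind_of_rep hA hv⟩

/-- the projection to `K`. -/
noncomputable def pi0 (hA : ActHyp act) : R0 P hA →* K where
  toFun g := Classical.choose g.2
  map_one' := h.ind_unique hA (Classical.choose_spec (1 : R0 P hA).2) (ind_one hA)
  map_mul' g g' := h.ind_unique hA (Classical.choose_spec (g * g').2)
    (ind_mul hA (Classical.choose_spec g.2) (Classical.choose_spec g'.2))

theorem pi0_spec (hA : ActHyp act) (g : R0 P hA) : Ind P act (g : Aˣ) (h.pi0 hA g) :=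
  Classical.choose_spec g.2

theorem pi0_eq (hA : ActHyp act) (g : R0 P hA) {k : K} (hk : Ind P act (g : Aˣ) k) :
    h.pi0 hA g = k := h.ind_unique hA (h.pi0_spec hA g) hk

theorem pi0_surjective (hA : ActHyp act) : Function.Surjective (h.pi0 hA) := by
  intro k
  obtain ⟨T, hT⟩ := h.exists_conj (act k) (hA.qq k)
  exact ⟨⟨T, ⟨k, hT⟩⟩, h.pi0_eq hA _ hT⟩

end PSys

end Cfsg.Agent.Helper9.Pl
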