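import Mathlib
import Cfsg.Agent.Helper9.PlD
import Cfsg.Agent.S5396

/-! Kernel of `pi0`, the character `chi0 : Q0 → U`, and extraspeciality of `Q0`. -/

set_option autoImplicit false

open Module

namespace Cfsg.Agent.Helper9.Pl

variable {n : ℕ} {A : Type*} [Ring A] [Algebra K3 A] {P : Uc n → A}
variable {K : Type*} [Group K] {act : K → (Uc n ≃ₗ[ZMod 2] Uc n)}

namespace PSys

variable (h : PSys n A P)
include h

theorem not_commute_of_BB {u w : Uc n} (hw : BB w u = 1) : P u * P w ≠ P w * P u := by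
  intro he
  have h1 := h.comm w u
  rw [hw, sg_one, neg_smul, one_smul, ← he] at h1
  have h2 : (2 : K3) • (P u * P w) = 0 := by
    rw [two_smul]
    nth_rewrite 1 [h1]
    exact neg_add_cancel _
  rcases smul_eq_zero.mp h2 with h3 | h3
  · revert h3; decide
  · rw [h.mul] at h3
    rcases smul_eq_zero.mp h3 with h4 | h4
    · exact sg_ne_zero _ h4
    · exact h.P_ne_zero _ h4

/-- elements inducing the identity are in the Pauli group. -/
theorem rep_of_ind_one (hA : ActHyp act) {g : Aˣ} (hg : Ind P act g 1) : ∃ v, Rep P g v := by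
  classical
  have hg' : ∀ u, ∃ t : ZMod 2, (g : A) * P u * ((g⁻¹ : Aˣ) : A) = sg t • P u := by
    intro u
    obtain ⟨t, ht⟩ := hg u
    rw [hA.one] at ht
    exact ⟨t, ht⟩
  choose lam hlam using hg'
  have hconj : ∀ x y : A, (g : A) * (x * y) * ((g⁻¹ : Aˣ) : A)
      = ((g : A) * x * ((g⁻¹ : Aˣ) : A)) * ((g : A) * y * ((g⁻¹ : Aˣ) : A)) := by
    intro x y
    have : ((g⁻¹ : Aˣ) : A) * ((g : A) * y * ((g⁻¹ : Aˣ) : A)) = y * ((g⁻¹ : Aˣ) : A) := by
      rw [← mul_assoc, ← mul_assoc, Units.inv_mul, one_mul]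
    rw [mul_assoc ((g : A) * x), this]
    simp only [mul_assoc]
  have hadd : ∀ u v, lam (u + v) = lam u + lam v := by
    intro u v
    apply sg_injective
    apply h.smul_P_inj (u := u + v)
    have h1 : P (u + v) = sg (bet u v) • (P u * P v) := smul_sg_cancel _ (h.mul u v).symm
    rw [← hlam (u + v)]
    nth_rewrite 1 [h1]
    rw [mul_smul_comm, smul_mul_assoc, hconj, hlam u, hlam v, smul_mul_assoc, mul_smul_comm,
      h.mul, smul_smul, smul_smul, smul_smul, sg_add]
    congr 1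
    have := sg_mul_self (bet u v)
    linear_combination (sg (lam u) * sg (lam v)) * this
  let lamL : Uc n →ₗ[ZMod 2] ZMod 2 := (AddMonoidHom.mk' lam hadd).toZModLinearMap 2
  have hlamL : ∀ u, lamL u = lam u := fun u => rfl
  let e : (Fin n ⊕ Fin n) → Uc n := fun i j => if i = j then 1 else 0
  let v : Uc n := Sum.elim (fun i => lam (e (Sum.inr i))) (fun i => lam (e (Sum.inl i)))
  have hv : ∀ u, lam u = BB v u := by
    intro u
    rw [← hlamL, LinearMap.pi_apply_eq_sum_univ lamL u, Fintype.sum_sum_type]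
    simp only [BB, bet, dotProduct, smul_eq_mul, hlamL]
    congr 1
    · apply Finset.sum_congr rfl; intro i _
      show u (Sum.inl i) * lam (e (Sum.inl i)) = lam (e (Sum.inl i)) * u (Sum.inl i)
      exact mul_comm _ _
  have hgu : ∀ u, (g : A) * P u = sg (lam u) • (P u * (g : A)) := by
    intro u
    rw [← smul_mul_assoc, ← hlam u, mul_assoc, Units.inv_mul, mul_one]
  have hx : ∀ u, ((g : A) * (sg (qq v) • P v)) * P u = P u * ((g : A) * (sg (qq v) • P v)) := by
    intro u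
    rw [mul_assoc, smul_mul_assoc, h.comm v u, mul_smul_comm, mul_smul_comm, ← mul_assoc, hgu u,
      smul_mul_assoc, smul_smul, smul_smul, hv u, mul_smul_comm, mul_assoc, mul_assoc]
    rw [sg_mul_self, mul_one, mul_smul_comm]
  obtain ⟨c, hc⟩ := h.central_scalar _ hx
  have hgc : (g : A) = c • P v := by
    have h1 : (g : A) = ((g : A) * (sg (qq v) • P v)) * P v := by
      rw [mul_assoc, h.inv_mul', mul_one]
    rw [h1, hc, smul_mul_assoc, one_mul]
  have hc0 : c ≠ 0 := by
    rintro rfl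
    rw [zero_smul] at hgc
    have h1 := Units.mul_inv g
    rw [hgc, zero_mul] at h1
    exact h.one_ne_zero' h1.symm
  refine ⟨v, ?_⟩
  rcases k3_cases c hc0 with rfl | rfl
  · exact ⟨0, by rw [sg_zero]; exact hgc⟩
  · exact ⟨1, by rw [sg_one]; exact hgc⟩

theorem mem_ker_pi0 (hA : ActHyp act) (g : R0 P hA) :
    g ∈ (h.pi0 hA).ker ↔ (g : Aˣ) ∈ h.Q0 := by
  rw [MonoidHom.mem_ker]
  constructor
  · intro hg
    have h1 := h.pi0_spec hA g
    rw [hg] at h1
    exact h.rep_of_ind_one hA h1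
  · rintro ⟨v, hv⟩
    exact h.pi0_eq hA g (h.ind_of_rep hA hv)

/-- the projection of the Pauli group onto `U`. -/
noncomputable def chi0 : h.Q0 →* Multiplicative (Uc n) where
  toFun g := Multiplicative.ofAdd (Classical.choose g.2)
  map_one' := by
    show Multiplicative.ofAdd _ = Multiplicative.ofAdd 0
    rw [h.rep_unique (Classical.choose_spec (1 : h.Q0).2) h.rep_one]
  map_mul' g g' := by
    rw [← ofAdd_add]
    rw [h.rep_unique (Classical.choose_spec (g * g').2)
      (h.rep_mul (Classical.choose_spec g.2) (Classical.choose_spec g'.2))]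

theorem chi0_spec (g : h.Q0) : Rep P (g : Aˣ) (Multiplicative.toAdd (h.chi0 g)) :=
  Classical.choose_spec g.2

theorem chi0_eq (g : h.Q0) {u : Uc n} (hu : Rep P (g : Aˣ) u) :
    h.chi0 g = Multiplicative.ofAdd u := by
  show Multiplicative.ofAdd _ = Multiplicative.ofAdd u
  rw [h.rep_unique (Classical.choose_spec g.2) hu]

theorem Pu_mem (u : Uc n) : h.Pu u ∈ h.Q0 := ⟨u, 0, by rw [sg_zero, one_smul]; rfl⟩

theorem chi0_surjective : Function.Surjective h.chi0 := by
  intro u
  exact ⟨⟨h.Pu (Multiplicative.toAdd u), h.Pu_mem _⟩,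
    h.chi0_eq _ ⟨0, by rw [sg_zero, one_smul]; rfl⟩⟩

theorem chi0_conj (hA : ActHyp act) (r : R0 P hA) (a : h.Q0)
    (hm : (r : Aˣ) * (a : Aˣ) * (r : Aˣ)⁻¹ ∈ h.Q0) :
    h.chi0 ⟨_, hm⟩ = Multiplicative.ofAdd (act (h.pi0 hA r) (Multiplicative.toAdd (h.chi0 a))) := by
  apply h.chi0_eq
  obtain ⟨t, ht⟩ := h.chi0_spec a
  obtain ⟨t', ht'⟩ := h.pi0_spec hA r (Multiplicative.toAdd (h.chi0 a))
  refine ⟨t + t', ?_⟩
  show (((r : Aˣ) * (a : Aˣ) * (r : Aˣ)⁻¹ : Aˣ) : A) = _
  rw [Units.val_mul, Units.val_mul, ht, mul_smul_comm, smul_mul_assoc, ht', smul_smul, sg_add]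

theorem sq_eq_one_iff (a : h.Q0) : a * a = 1 ↔ qq (Multiplicative.toAdd (h.chi0 a)) = 0 := by
  obtain ⟨t, ht⟩ := h.chi0_spec a
  have h1 : (((a * a : h.Q0) : Aˣ) : A) = sg (qq (Multiplicative.toAdd (h.chi0 a))) • 1 := by
    show ((a : Aˣ) : A) * ((a : Aˣ) : A) = _
    rw [ht, smul_mul_assoc, mul_smul_comm, h.sq, smul_smul, smul_smul, sg_mul_self, one_mul]
  constructor
  · intro he
    rw [he] at h1
    have h2 : (1 : K3) • P 0 = sg (qq (Multiplicative.toAdd (h.chi0 a))) • P 0 := by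
      rw [h.one, one_smul, ← h1]; rfl
    exact (sg_eq_one_iff _).mp (h.smul_P_inj h2).symm
  · intro he
    rw [he, sg_zero, one_smul] at h1
    exact Subtype.ext (Units.ext h1)

/-- the central involution. -/
def z0 : h.Q0 := ⟨-1, ⟨0, 1, by rw [sg_one, neg_smul, one_smul, h.one]; rfl⟩⟩

theorem z0_val : (((h.z0 : h.Q0) : Aˣ) : A) = -1 := rfl

theorem rep_zero_of_central {g : h.Q0} (hg : ∀ x : h.Q0, g * x = x * g) :
    Rep P (g : Aˣ) 0 := by
  obtain ⟨u, t, ht⟩ := g.2
  by_cases hu : u = 0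
  · subst hu; exact ⟨t, ht⟩
  · exfalso
    obtain ⟨w, hw⟩ := exists_BB_eq_one hu
    have h1 := hg ⟨h.Pu w, h.Pu_mem w⟩
    have h2 : ((g : Aˣ) : A) * P w = P w * ((g : Aˣ) : A) :=
      congrArg (fun x : h.Q0 => ((x : Aˣ) : A)) h1
    rw [ht, smul_mul_assoc, mul_smul_comm] at h2
    have h3 := smul_sg_cancel t h2
    rw [smul_smul, sg_mul_self, one_smul] at h3
    exact h.not_commute_of_BB hw h3

theorem es2_Q0 (hn : 1 ≤ n) : Cfsg.Agent.Helper3.ES2 h.Q0 h.z0 where
  ne_one := by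
    intro he
    apply h.neg_one_ne_one
    have := congrArg (fun g : h.Q0 => ((g : Aˣ) : A)) he
    exact this
  central := by
    intro g
    apply Subtype.ext
    apply Units.ext
    show ((g : Aˣ) : A) * (-1) = (-1) * ((g : Aˣ) : A)
    rw [mul_neg, mul_one, neg_mul, one_mul]
  center_sub := by
    intro g hg
    obtain ⟨t, ht⟩ := h.rep_zero_of_central hg
    rw [h.one] at ht
    rcases z2_cases t with rfl | rfl
    · left
      apply Subtype.ext; apply Units.ext
      rw [ht, sg_zero, one_smul]; rfl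
    · right
      apply Subtype.ext; apply Units.ext
      rw [ht, sg_one, neg_smul, one_smul]; rfl
  sq := by
    intro x
    obtain ⟨u, t, ht⟩ := x.2
    have h1 : (((x ^ 2 : h.Q0) : Aˣ) : A) = sg (qq u) • 1 := by
      rw [pow_two]
      show ((x : Aˣ) : A) * ((x : Aˣ) : A) = _
      rw [ht, smul_mul_assoc, mul_smul_comm, h.sq, smul_smul, smul_smul, sg_mul_self, one_mul]
    rcases z2_cases (qq u) with hq | hq
    · left
      apply Subtype.ext; apply Units.ext
      rw [h1, hq, sg_zero, one_smul]; rfl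
    · right
      apply Subtype.ext; apply Units.ext
      rw [h1, hq, sg_one, neg_smul, one_smul]; rfl
  comm := by
    intro x y
    obtain ⟨u, t, ht⟩ := x.2
    obtain ⟨v, t', ht'⟩ := y.2
    have h1 : (((x * y : h.Q0) : Aˣ) : A) = sg (BB u v) • (((y * x : h.Q0) : Aˣ) : A) := by
      show ((x : Aˣ) : A) * ((y : Aˣ) : A) = sg (BB u v) • (((y : Aˣ) : A) * ((x : Aˣ) : A))
      rw [ht, ht', smul_mul_assoc, mul_smul_comm, smul_mul_assoc, mul_smul_comm, h.comm u v,
        smul_smul, smul_smul, smul_smul, smul_smul]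
      congr 1; ring
    rcases z2_cases (BB u v) with hb | hb
    · left
      apply Subtype.ext; apply Units.ext
      rw [h1, hb, sg_zero, one_smul]
    · right
      apply Subtype.ext; apply Units.ext
      rw [h1, hb, sg_one, neg_smul, one_smul]
      show -(((y * x : h.Q0) : Aˣ) : A) = (((y * x : h.Q0) : Aˣ) : A) * (-1)
      rw [mul_neg, mul_one]
  nonab := by
    classical
    have hu : (Pi.single (Sum.inl ⟨0, hn⟩) 1 : Uc n) ≠ 0 := by
      intro he
      have := congrFun he (Sum.inl ⟨0, hn⟩)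
      rw [Pi.single_eq_same, Pi.zero_apply] at this
      exact absurd this (by decide)
    obtain ⟨w, hw⟩ := exists_BB_eq_one hu
    refine ⟨⟨h.Pu _, h.Pu_mem (Pi.single (Sum.inl ⟨0, hn⟩) 1)⟩, ⟨h.Pu w, h.Pu_mem w⟩, ?_⟩
    intro he
    apply h.not_commute_of_BB hw
    exact congrArg (fun x : h.Q0 => ((x : Aˣ) : A)) he

theorem isExtraspecial_Q0 [Finite A] (hn : 1 ≤ n) : Cfsg.IsExtraspecial 2 h.Q0 :=
  Cfsg.Agent.S5396.isExtraspecial_of_es2 (h.es2_Q0 hn)

theorem chi0_ker : h.chi0.ker = Subgroup.center h.Q0 := by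
  ext g
  rw [MonoidHom.mem_ker, Subgroup.mem_center_iff]
  constructor
  · intro hg x
    have h1 := h.chi0_spec g
    rw [hg] at h1
    obtain ⟨t, ht⟩ := h1
    rw [toAdd_one, h.one] at ht
    apply Subtype.ext; apply Units.ext
    show ((x : Aˣ) : A) * ((g : Aˣ) : A) = ((g : Aˣ) : A) * ((x : Aˣ) : A)
    rw [ht, mul_smul_comm, smul_mul_assoc, mul_one, one_mul]
  · intro hg
    have h1 : Rep P (g : Aˣ) 0 := h.rep_zero_of_central (fun x => (hg x).symm)
    rw [h.chi0_eq g h1]; rfl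

theorem card_Q0 [Finite A] (hn : 1 ≤ n) : Nat.card h.Q0 = 2 ^ (2 * n + 1) := by
  have h1 := Subgroup.card_eq_card_quotient_mul_card_subgroup h.chi0.ker
  have h2 : Nat.card (h.Q0 ⧸ h.chi0.ker) = Nat.card (Multiplicative (Uc n)) :=
    Nat.card_congr (QuotientGroup.quotientKerEquivOfSurjective h.chi0 h.chi0_surjective).toEquiv
  have h3 : Nat.card h.chi0.ker = 2 := by
    rw [h.chi0_ker]; exact (h.isExtraspecial_Q0 hn).2
  have h4 : Nat.card (Multiplicative (Uc n)) = 2 ^ (2 * n) := by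
    show Nat.card (Uc n) = _
    rw [Nat.card_eq_fintype_card]
    simp only [Fintype.card_fun, ZMod.card, Fintype.card_fin, Fintype.card_sum]
    congr 1; ring
  rw [h1, h2, h3, h4, pow_succ]

end PSys

end Cfsg.Agent.Helper9.Pl
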