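import Mathlib
import Cfsg.Agent.Helper9.PlC
import Cfsg.Agent.Helper9.PlE
import Cfsg.Agent.Helper13.OrthEmbed
import Cfsg.Agent.Helper3.ExtraspecialEquiv

/-! Existence of the extension `2^{1+2n}_+ . K` for `K ≤ O^+_{2n}(2)`. -/

set_option autoImplicit false

open Module

namespace Cfsg.Agent.Helper9.Pl

theorem qq_eq_quadFormPlus {n : ℕ} (w : Uc n) : qq w = Cfsg.quadFormPlus n (ZMod 2) w := rfl

theorem exists_extension {K : Type*} [Group K] {U : Type*} [AddCommGroup U] [Module (ZMod 2) U]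
    [Module.Finite (ZMod 2) U] (n : ℕ) (hn1 : 1 ≤ n) (hn : Module.finrank (ZMod 2) U = 2 * n)
    (ρ : Representation (ZMod 2) K U) (hρ : Function.Injective ρ) (q : QuadraticForm (ZMod 2) U)
    (hq : ∀ (k : K) (u : U), q (ρ k u) = q u) (hnd : (QuadraticMap.polarBilin q).Nondegenerate)
    (hplus : ∃ W : Submodule (ZMod 2) U, Module.finrank (ZMod 2) ↥W = n ∧ ∀ w ∈ W, q w = 0) :
    ∃ (R : Type) (_ : Group R) (_ : Finite R) (Q : Subgroup R) (hN : Q.Normal) (e : R ⧸ Q ≃* K)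
      (χ : ↥Q →* Multiplicative U), Cfsg.IsExtraspecial 2 ↥Q ∧ Nat.card ↥Q = 2 ^ (2 * n + 1) ∧
      Function.Surjective χ ∧ χ.ker = Subgroup.center ↥Q ∧
      (∀ (r : R) (a : ↥Q), χ ⟨r * a * r⁻¹, hN.conj_mem (a : R) a.2 r⟩ =
        Multiplicative.ofAdd (ρ (e (r : R ⧸ Q)) (Multiplicative.toAdd (χ a)))) ∧
      ∀ a : ↥Q, a * a = 1 ↔ q (Multiplicative.toAdd (χ a)) = 0 := by
  classical
  obtain ⟨W, hWn, hW0⟩ := hplus
  obtain ⟨φ, hφ⟩ := Cfsg.Agent.Helper13.exists_isometry_plus hn q hnd W hW0 hWn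
  have hφq : ∀ v : U, qq (φ v) = q v := fun v => hφ v
  have hρ1 : ∀ k : K, (ρ k).comp (ρ k⁻¹) = LinearMap.id := by
    intro k
    rw [← Module.End.mul_eq_comp, ← map_mul, mul_inv_cancel, map_one]; rfl
  have hρ2 : ∀ k : K, (ρ k⁻¹).comp (ρ k) = LinearMap.id := by
    intro k
    rw [← Module.End.mul_eq_comp, ← map_mul, inv_mul_cancel, map_one]; rfl
  let ρLE : K → (U ≃ₗ[ZMod 2] U) := fun k => LinearEquiv.ofLinearMap (ρ k) (ρ k⁻¹) (hρ1 k) (hρ2 k)
  let act : K → (Uc n ≃ₗ[ZMod 2] Uc n) := fun k => (φ.symm.trans (ρLE k)).trans φ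
  have hact : ∀ k u, act k u = φ (ρ k (φ.symm u)) := fun k u => rfl
  have hA : ActHyp act := by
    refine ⟨?_, ?_, ?_⟩
    · intro k l u
      rw [hact, hact, hact, map_mul, Module.End.mul_apply, LinearEquiv.symm_apply_apply]
    · intro k u
      rw [hact, hφq, hq, ← hφq, LinearEquiv.apply_symm_apply]
    · intro k l hkl
      apply hρ
      apply LinearMap.ext
      intro v
      have h1 := hkl (φ v)
      rw [hact, hact, LinearEquiv.symm_apply_apply] at h1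
      exact φ.injective h1
  have h : PSys n (Module.End K3 (Vn n)) Pop := psys_Pop
  let Q : Subgroup ↥(R0 Pop hA) := (h.Q0).subgroupOf (R0 Pop hA)
  have hker : (h.pi0 hA).ker = Q := by
    ext g
    rw [h.mem_ker_pi0, Subgroup.mem_subgroupOf]
  have hN : Q.Normal := hker ▸ (inferInstance : (h.pi0 hA).ker.Normal)
  let e : ↥(R0 Pop hA) ⧸ Q ≃* K := (QuotientGroup.quotientMulEquivOfEq hker.symm).trans
    (QuotientGroup.quotientKerEquivOfSurjective (h.pi0 hA) (h.pi0_surjective hA))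
  have he : ∀ r : ↥(R0 Pop hA), e (r : ↥(R0 Pop hA) ⧸ Q) = h.pi0 hA r := fun r => rfl
  let ι : ↥Q ≃* ↥h.Q0 := Subgroup.subgroupOfEquivOfLe (h.Q0_le_R0 hA)
  have hι : ∀ a : ↥Q, ((ι a : h.Q0) : (Module.End K3 (Vn n))ˣ) = ((a : ↥(R0 Pop hA)) : _) :=
    fun a => rfl
  let ψ : Multiplicative (Uc n) →* Multiplicative U :=
    AddMonoidHom.toMultiplicative (φ.symm : Uc n →+ U)
  have hψ : ∀ w, ψ w = Multiplicative.ofAdd (φ.symm (Multiplicative.toAdd w)) := fun w => rfl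
  let χ : ↥Q →* Multiplicative U := ψ.comp (h.chi0.comp ι.toMonoidHom)
  have hχ : ∀ a : ↥Q, χ a = Multiplicative.ofAdd (φ.symm (Multiplicative.toAdd (h.chi0 (ι a)))) :=
    fun a => rfl
  refine ⟨↥(R0 Pop hA), inferInstance, inferInstance, Q, hN, e, χ, ?_, ?_, ?_, ?_, ?_, ?_⟩
  · exact Cfsg.Agent.Helper3.ExtraspecialEquiv.isExtraspecial_of_mulEquiv ι.symm
      (h.isExtraspecial_Q0 hn1)
  · rw [Nat.card_congr ι.toEquiv]
    exact h.card_Q0 hn1
  · intro u
    obtain ⟨w, hw⟩ := h.chi0_surjective (Multiplicative.ofAdd (φ (Multiplicative.toAdd u)))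
    refine ⟨ι.symm w, ?_⟩
    rw [hχ, MulEquiv.apply_symm_apply, hw, toAdd_ofAdd, LinearEquiv.symm_apply_apply, ofAdd_toAdd]
  · ext a
    rw [MonoidHom.mem_ker, hχ]
    have h1 : (Multiplicative.ofAdd (φ.symm (Multiplicative.toAdd (h.chi0 (ι a)))) = 1)
        ↔ h.chi0 (ι a) = 1 := by
      constructor
      · intro h2
        have h3 : φ.symm (Multiplicative.toAdd (h.chi0 (ι a))) = 0 := h2
        have h4 : Multiplicative.toAdd (h.chi0 (ι a)) = 0 := by
          rw [← map_zero φ.symm] at h3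
          exact φ.symm.injective h3
        exact h4
      · intro h2
        rw [h2, toAdd_one, map_zero]; rfl
    rw [h1, ← MonoidHom.mem_ker, h.chi0_ker,
      ← Cfsg.Agent.Helper3.ExtraspecialEquiv.map_center_equiv ι]
    exact Subgroup.mem_map_iff_mem ι.injective
  · intro r a
    rw [he, hχ, hχ, toAdd_ofAdd]
    have hm : (r : (Module.End K3 (Vn n))ˣ) * ((ι a : h.Q0) : (Module.End K3 (Vn n))ˣ) *
        (r : (Module.End K3 (Vn n))ˣ)⁻¹ ∈ h.Q0 := by
      have := hN.conj_mem (a : ↥(R0 Pop hA)) a.2 r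
      exact this
    have h1 : ι ⟨r * a * r⁻¹, hN.conj_mem (a : ↥(R0 Pop hA)) a.2 r⟩ = ⟨_, hm⟩ := rfl
    rw [h1, h.chi0_conj hA r (ι a) hm, toAdd_ofAdd, hact, LinearEquiv.symm_apply_apply]
  · intro a
    rw [hχ, toAdd_ofAdd, ← hφq, LinearEquiv.apply_symm_apply, ← h.sq_eq_one_iff]
    constructor
    · intro h1
      rw [← map_mul, h1, map_one]
    · intro h1
      apply ι.injective
      rw [map_mul, h1, map_one]

end Cfsg.Agent.Helper9.Pl
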