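import Mathlib

set_option autoImplicit false

namespace Cfsg.Agent.Helper9

open Subgroup

universe u

/-- A `p`-subgroup normalizing a subgroup of order `p` centralizes it. -/
theorem le_centralizer_of_le_normalizer_of_card_prime {G : Type u} [Group G] [Finite G] {p : ℕ}
    [Fact p.Prime] (Z H : Subgroup G) (hZ : Nat.card Z = p) (hH : IsPGroup p H)
    (hHZ : H ≤ normalizer (Z : Set G)) : H ≤ centralizer (Z : Set G) := by
  have hp : p.Prime := Fact.out
  have hcyc : IsCyclic Z := isCyclic_of_prime_card hZ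
  intro h hh
  obtain ⟨k, hk⟩ := hH ⟨h, hh⟩
  have hk' : h ^ p ^ k = 1 := by
    have := congrArg Subtype.val hk
    simpa using this
  have hpow : (⟨h, hHZ hh⟩ : normalizer (Z : Set G)) ^ p ^ k = 1 := by
    apply Subtype.ext
    simpa using hk'
  have h1 : orderOf (Z.normalizerMonoidHom ⟨h, hHZ hh⟩) ∣ p ^ k :=
    (orderOf_map_dvd _ _).trans (orderOf_dvd_of_pow_eq_one hpow)
  have h2 : orderOf (Z.normalizerMonoidHom ⟨h, hHZ hh⟩) ∣ p - 1 := by
    have hc := IsCyclic.card_mulAut Z
    rw [hZ, Nat.totient_prime hp] at hc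
    rw [← hc]
    exact orderOf_dvd_natCard _
  have hcop : Nat.Coprime (p ^ k) (p - 1) := by
    apply Nat.Coprime.pow_left
    rw [Nat.Prime.coprime_iff_not_dvd hp]
    intro hd
    have h1 : 1 < p := hp.one_lt
    have := Nat.le_of_dvd (by omega) hd
    omega
  have h3 : orderOf (Z.normalizerMonoidHom ⟨h, hHZ hh⟩) = 1 :=
    Nat.eq_one_of_dvd_coprimes hcop h1 h2
  have h4 : (⟨h, hHZ hh⟩ : normalizer (Z : Set G)) ∈ Z.normalizerMonoidHom.ker :=
    MonoidHom.mem_ker.mpr (orderOf_eq_one_iff.mp h3)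
  rw [normalizerMonoidHom_ker, mem_subgroupOf] at h4
  exact h4

end Cfsg.Agent.Helper9
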