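import Mathlib
import Cfsg.Prelude.Def_HallClasses

/-! Pronormality: relative form `PrnIn`, and the core lemma for extension criteria
(Kondrat'ev–Maslova–Revin style). -/

namespace Cfsg.Agent.Helper9.Pron

open Subgroup

variable {G : Type*} [Group G]

/-- The conjugate `g H g⁻¹`, as written in the frozen statements. -/
abbrev cj (g : G) (H : Subgroup G) : Subgroup G := H.map (MulAut.conj g).toMonoidHom

theorem mem_cj {H : Subgroup G} {g y : G} : y ∈ cj g H ↔ g⁻¹ * y * g ∈ H := by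
  constructor
  · rintro ⟨h, hh, rfl⟩
    have : g⁻¹ * ((MulAut.conj g).toMonoidHom h) * g = h := by
      simp [MulAut.conj_apply, mul_assoc]
    rw [this]; exact hh
  · intro h
    exact ⟨g⁻¹ * y * g, h, by simp [MulAut.conj_apply, mul_assoc]⟩

theorem conj_mem_cj {H : Subgroup G} (g : G) {h : G} (hh : h ∈ H) : g * h * g⁻¹ ∈ cj g H :=
  ⟨h, hh, by simp [MulAut.conj_apply]⟩

theorem cj_cj (g h : G) (H : Subgroup G) : cj g (cj h H) = cj (g * h) H := by
  ext y
  simp only [mem_cj]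
  have : h⁻¹ * (g⁻¹ * y * g) * h = (g * h)⁻¹ * y * (g * h) := by group
  rw [this]

theorem cj_one (H : Subgroup G) : cj 1 H = H := by
  ext y; simp [mem_cj]

theorem cj_mono (g : G) {H K : Subgroup G} (h : H ≤ K) : cj g H ≤ cj g K := Subgroup.map_mono h

theorem cj_sup (g : G) (H K : Subgroup G) : cj g (H ⊔ K) = cj g H ⊔ cj g K := Subgroup.map_sup _ _ _

theorem cj_of_mem {H : Subgroup G} {g : G} (hg : g ∈ H) : cj g H = H := by
  ext y
  rw [mem_cj]
  constructor
  · intro h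
    have := H.mul_mem (H.mul_mem hg h) (H.inv_mem hg)
    simpa [mul_assoc] using this
  · intro h
    exact H.mul_mem (H.mul_mem (H.inv_mem hg) h) hg

theorem cj_mul_of_mem {H : Subgroup G} (g : G) {h : G} (hh : h ∈ H) : cj (g * h) H = cj g H := by
  rw [← cj_cj, cj_of_mem hh]

theorem cj_le_of_mem {H L : Subgroup G} {g : G} (hg : g ∈ L) (hH : H ≤ L) : cj g H ≤ L := by
  intro y hy
  rw [mem_cj] at hy
  have h1 : g * (g⁻¹ * y * g) * g⁻¹ ∈ L := L.mul_mem (L.mul_mem hg (hH hy)) (L.inv_mem hg)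
  have h2 : g * (g⁻¹ * y * g) * g⁻¹ = y := by group
  rwa [h2] at h1

theorem cj_inv_cj (g : G) (H : Subgroup G) : cj g⁻¹ (cj g H) = H := by
  rw [cj_cj, inv_mul_cancel, cj_one]

theorem cj_cj_inv (g : G) (H : Subgroup G) : cj g (cj g⁻¹ H) = H := by
  rw [cj_cj, mul_inv_cancel, cj_one]

theorem mem_normalizer_iff_cj {H : Subgroup G} {g : G} :
    g ∈ normalizer (H : Set G) ↔ cj g H = H := by
  rw [Subgroup.mem_normalizer_iff'']
  constructor
  · intro h
    ext y
    rw [mem_cj]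
    exact (h y).symm
  · intro h y
    rw [← mem_cj, h]

theorem cj_normal (A : Subgroup G) [A.Normal] (g : G) : cj g A = A := by
  rw [← mem_normalizer_iff_cj, normalizer_eq_top]; trivial

theorem cj_inf (g : G) (H K : Subgroup G) : cj g (H ⊓ K) = cj g H ⊓ cj g K := by
  ext y; simp only [mem_cj, mem_inf]

theorem cj_normalizer (g : G) (H : Subgroup G) :
    cj g (normalizer (H : Set G)) = normalizer ((cj g H : Subgroup G) : Set G) := by
  ext y
  rw [mem_cj, mem_normalizer_iff_cj, mem_normalizer_iff_cj]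
  constructor
  · intro h
    have : cj g (cj (g⁻¹ * y * g) H) = cj g H := by rw [h]
    rw [cj_cj] at this
    rw [cj_cj]
    have e : g * (g⁻¹ * y * g) = y * g := by group
    rwa [e] at this
  · intro h
    rw [cj_cj] at h
    have : cj g⁻¹ (cj (y * g) H) = cj g⁻¹ (cj g H) := by rw [h]
    rw [cj_cj, cj_inv_cj] at this
    have e : g⁻¹ * (y * g) = g⁻¹ * y * g := by group
    rwa [e] at this

/-- Relative pronormality: `H` and its conjugates by elements of `M` are conjugate in their join. -/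
def PrnIn (H M : Subgroup G) : Prop :=
  ∀ g ∈ M, ∃ x ∈ H ⊔ cj g H, cj g H = cj x H

theorem isPronormal_iff_prnIn_top (H : Subgroup G) : Cfsg.IsPronormal H ↔ PrnIn H ⊤ := by
  constructor
  · intro h g _; exact h g
  · intro h g; exact h g (mem_top g)

theorem PrnIn.mono {H M M' : Subgroup G} (h : PrnIn H M) (hM : M' ≤ M) : PrnIn H M' :=
  fun g hg => h g (hM hg)

/-- Conjugation transport of relative pronormality. -/
theorem PrnIn.cj {H M : Subgroup G} (h : PrnIn H M) (c : G) : PrnIn (cj c H) (cj c M) := by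
  intro g hg
  rw [mem_cj] at hg
  obtain ⟨x, hx, hHx⟩ := h _ hg
  refine ⟨c * x * c⁻¹, ?_, ?_⟩
  · have h1 : c * x * c⁻¹ ∈ Pron.cj c (H ⊔ Pron.cj (c⁻¹ * g * c) H) := conj_mem_cj c hx
    rw [cj_sup, cj_cj] at h1
    have e : c * (c⁻¹ * g * c) = g * c := by group
    rw [e] at h1
    rw [cj_cj]
    exact h1
  · rw [cj_cj, cj_cj]
    have e1 : g * c = c * (c⁻¹ * g * c) := by group
    have e2 : c * x * c⁻¹ * c = c * x := by group
    rw [e1, e2, ← cj_cj, hHx, cj_cj]

/-- **Core lemma.** -/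
theorem core (A : Subgroup G) [A.Normal] (H T0 : Subgroup G) (hT0 : T0 ≤ H ⊓ A)
    (hB : PrnIn (H ⊓ A) A)
    (hconj : ∀ g : G, cj g T0 ≤ H ⊓ A → ∃ b ∈ H ⊓ A, cj (b * g) T0 = T0)
    (hN : PrnIn (H ⊓ normalizer (T0 : Set G)) (normalizer (T0 : Set G))) :
    ∀ a ∈ A, ∃ z ∈ H ⊔ cj a H, cj a H = cj z H := by
  intro a ha
  set B := H ⊓ A with hBdef
  set L := H ⊔ cj a H with hL
  have hBH : B ≤ H := inf_le_left
  have hBA : B ≤ A := inf_le_right
  have hHL : H ≤ L := le_sup_left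
  have haHL : cj a H ≤ L := le_sup_right
  -- `H` normalizes `B`
  have hHB : ∀ h ∈ H, cj h B = B := by
    intro h hh
    rw [hBdef, cj_inf, cj_of_mem hh, cj_normal]
  -- Step 1
  obtain ⟨y, hy, hay⟩ := hB a ha
  have hyL : y ∈ L := (sup_le_sup hBH (cj_mono a hBH)) hy
  have hyA : y ∈ A := by
    have : B ⊔ cj a B ≤ A := sup_le hBA (by
      calc cj a B ≤ cj a A := cj_mono a hBA
        _ = A := cj_normal A a)
    exact this hy
  set a1 := y⁻¹ * a with ha1
  have ha1A : a1 ∈ A := A.mul_mem (A.inv_mem hyA) ha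
  have ha1B : cj a1 B = B := by
    rw [ha1, ← cj_cj, hay, cj_inv_cj]
  -- Step 2
  have hT1 : cj a1 T0 ≤ B := by
    calc cj a1 T0 ≤ cj a1 B := cj_mono a1 hT0
      _ = B := ha1B
  obtain ⟨b, hb, hbT⟩ := hconj a1 hT1
  set a2 := b * a1 with ha2
  have ha2B : cj a2 B = B := by
    rw [ha2, ← cj_cj, ha1B, cj_of_mem hb]
  have ha2N : a2 ∈ normalizer (T0 : Set G) := mem_normalizer_iff_cj.mpr hbT
  -- Step 3
  have ha2H : cj a2 H = cj y⁻¹ (cj a H) := by
    have hb' : b ∈ cj a1 H := by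
      have : b ∈ cj a1 B := by rw [ha1B]; exact hb
      exact cj_mono a1 hBH this
    rw [ha2, ← cj_cj, cj_of_mem hb', ha1, cj_cj]
  -- Step 4
  set H1 := H ⊓ normalizer (T0 : Set G) with hH1
  obtain ⟨z, hz, hzH1⟩ := hN a2 ha2N
  have hH1H : H1 ≤ H := inf_le_left
  have hzNB : z ∈ normalizer (B : Set G) := by
    have hle : H1 ⊔ cj a2 H1 ≤ normalizer (B : Set G) := by
      have h1 : H1 ≤ normalizer (B : Set G) := fun h hh =>
        mem_normalizer_iff_cj.mpr (hHB h (hH1H hh))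
      refine sup_le h1 ?_
      calc cj a2 H1 ≤ cj a2 (normalizer (B : Set G)) := cj_mono a2 h1
        _ = normalizer ((cj a2 B : Subgroup G) : Set G) := cj_normalizer a2 B
        _ = normalizer (B : Set G) := by rw [ha2B]
    exact hle hz
  have hzL : z ∈ L := by
    have hle : H1 ⊔ cj a2 H1 ≤ L := by
      refine sup_le (hH1H.trans hHL) ?_
      calc cj a2 H1 ≤ cj a2 H := cj_mono a2 hH1H
        _ = cj y⁻¹ (cj a H) := ha2H
        _ ≤ L := cj_le_of_mem (L.inv_mem hyL) haHL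
    exact hle hz
  -- Step 5: Frattini
  have hFr : H = B ⊔ H1 := by
    apply le_antisymm
    · intro h hh
      have h1 : cj h T0 ≤ B := by
        calc cj h T0 ≤ cj h B := cj_mono h hT0
          _ = B := hHB h hh
      obtain ⟨b', hb', hb'T⟩ := hconj h h1
      have h2 : b' * h ∈ H1 :=
        mem_inf.mpr ⟨H.mul_mem (hBH hb') hh, mem_normalizer_iff_cj.mpr hb'T⟩
      have e : h = b'⁻¹ * (b' * h) := by group
      rw [e]
      exact mul_mem (mem_sup_left (B.inv_mem hb')) (mem_sup_right h2)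
    · exact sup_le hBH hH1H
  have h5 : cj a2 H = cj z H := by
    conv_lhs => rw [hFr]
    conv_rhs => rw [hFr]
    rw [cj_sup, cj_sup, ha2B, hzH1, mem_normalizer_iff_cj.mp hzNB]
  -- Step 6
  refine ⟨y * z, L.mul_mem hyL hzL, ?_⟩
  have : cj a H = cj y (cj a2 H) := by rw [ha2H, cj_cj_inv]
  rw [this, h5, cj_cj]

end Cfsg.Agent.Helper9.Pron
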