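import Mathlib
import Cfsg.Agent.Helper9.PronA

/-! Pronormality: transport to subgroups / quotients, maximal `p`-subgroups. -/

namespace Cfsg.Agent.Helper9.Pron

open Subgroup

variable {G : Type*} [Group G]

theorem map_cj {G' : Type*} [Group G'] (f : G →* G') (g : G) (K : Subgroup G) :
    (cj g K).map f = cj (f g) (K.map f) := by
  ext y
  constructor
  · rintro ⟨z, hz, rfl⟩
    rw [SetLike.mem_coe, mem_cj] at hz
    rw [mem_cj]
    refine ⟨g⁻¹ * z * g, hz, ?_⟩
    simp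
  · intro hy
    rw [mem_cj] at hy
    obtain ⟨k, hk, hky⟩ := hy
    refine ⟨g * k * g⁻¹, conj_mem_cj g hk, ?_⟩
    rw [map_mul, map_mul, hky, map_inv]
    group

/-- Pronormality passes to and from a quotient when the subgroup contains the kernel. -/
theorem isPronormal_map_iff {G' : Type*} [Group G'] (f : G →* G') (hf : Function.Surjective f)
    (K : Subgroup G) (hK : f.ker ≤ K) :
    Cfsg.IsPronormal (K.map f) ↔ Cfsg.IsPronormal K := by
  rw [isPronormal_iff_prnIn_top, isPronormal_iff_prnIn_top]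
  constructor
  · intro h g _
    obtain ⟨xb, hxb, hxbK⟩ := h (f g) (mem_top _)
    rw [← map_cj, ← Subgroup.map_sup] at hxb
    obtain ⟨x, hx, rfl⟩ := hxb
    refine ⟨x, hx, ?_⟩
    rw [← map_cj, ← map_cj, Subgroup.map_eq_map_iff] at hxbK
    have hker : ∀ c : G, f.ker ≤ cj c K := by
      intro c
      calc f.ker = cj c f.ker := (cj_normal f.ker c).symm
        _ ≤ cj c K := cj_mono c hK
    rwa [sup_eq_left.mpr (hker g), sup_eq_left.mpr (hker x)] at hxbK
  · intro h g' _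
    obtain ⟨g, rfl⟩ := hf g'
    obtain ⟨x, hx, hxK⟩ := h g (mem_top _)
    refine ⟨f x, ?_, ?_⟩
    · rw [← map_cj, ← Subgroup.map_sup]
      exact ⟨x, hx, rfl⟩
    · rw [← map_cj, ← map_cj, hxK]

theorem map_subtype_cj (M K : Subgroup G) (hKM : K ≤ M) (a : M) :
    (cj a (K.subgroupOf M)).map M.subtype = cj (a : G) K := by
  rw [map_cj, Subgroup.map_subgroupOf_eq_of_le hKM]
  rfl

/-- Pronormality in a subgroup `M` in terms of `PrnIn`. -/
theorem isPronormal_subgroupOf_iff (M K : Subgroup G) (hKM : K ≤ M) :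
    Cfsg.IsPronormal (K.subgroupOf M) ↔ PrnIn K M := by
  rw [isPronormal_iff_prnIn_top]
  constructor
  · intro h g hg
    obtain ⟨x, hx, hxK⟩ := h ⟨g, hg⟩ (mem_top _)
    refine ⟨(x : G), ?_, ?_⟩
    · have : (x : G) ∈ (K.subgroupOf M ⊔ cj ⟨g, hg⟩ (K.subgroupOf M)).map M.subtype :=
        ⟨x, hx, rfl⟩
      rw [Subgroup.map_sup, map_subtype_cj M K hKM, Subgroup.map_subgroupOf_eq_of_le hKM] at this
      exact this
    · have := congrArg (Subgroup.map M.subtype) hxK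
      rw [map_subtype_cj M K hKM, map_subtype_cj M K hKM] at this
      exact this
  · intro h g _
    obtain ⟨x, hx, hxK⟩ := h (g : G) g.2
    have hxM : x ∈ M := by
      have : K ⊔ cj (g : G) K ≤ M := sup_le hKM (cj_le_of_mem g.2 hKM)
      exact this hx
    refine ⟨⟨x, hxM⟩, ?_, ?_⟩
    · have h1 : (K.subgroupOf M ⊔ cj g (K.subgroupOf M)).map M.subtype = K ⊔ cj (g : G) K := by
        rw [Subgroup.map_sup, map_subtype_cj M K hKM, Subgroup.map_subgroupOf_eq_of_le hKM]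
      rw [← h1] at hx
      obtain ⟨x', hx', hxx'⟩ := hx
      have : x' = ⟨x, hxM⟩ := Subtype.ext hxx'
      rw [← this]; exact hx'
    · apply Subgroup.map_injective M.subtype_injective
      rw [map_subtype_cj M K hKM, map_subtype_cj M K hKM]
      exact hxK

/-- Pronormality of a subgroup `K'` of `↥M`, in terms of `PrnIn`. -/
theorem isPronormal_iff_prnIn_map (M : Subgroup G) (K' : Subgroup M) :
    Cfsg.IsPronormal K' ↔ PrnIn (K'.map M.subtype) M := by
  have hle : K'.map M.subtype ≤ M := Subgroup.map_subtype_le K'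
  rw [← isPronormal_subgroupOf_iff M _ hle]
  have : (K'.map M.subtype).subgroupOf M = K' :=
    Subgroup.comap_map_eq_self_of_injective M.subtype_injective K'
  rw [this]

/-- `T` is a maximal `p`-subgroup of `A`. -/
def MaxP (p : ℕ) (T A : Subgroup G) : Prop :=
  IsPGroup p T ∧ T ≤ A ∧ ∀ Q : Subgroup G, IsPGroup p Q → T ≤ Q → Q ≤ A → Q = T

theorem maxP_of_sylow {p : ℕ} (A : Subgroup G) (P : Sylow p A) :
    MaxP p ((P : Subgroup A).map A.subtype) A := by
  refine ⟨P.isPGroup'.map A.subtype, Subgroup.map_subtype_le _, ?_⟩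
  intro Q hQ hTQ hQA
  have h1 : IsPGroup p (Q.subgroupOf A) := hQ.comap_subtype
  have h2 : (P : Subgroup A) ≤ Q.subgroupOf A := by
    intro x hx
    rw [Subgroup.mem_subgroupOf]
    exact hTQ ⟨x, hx, rfl⟩
  have h3 : Q.subgroupOf A = P := P.is_maximal' h1 h2
  rw [← h3, Subgroup.map_subgroupOf_eq_of_le hQA]

theorem maxP_top_of_sylow {p : ℕ} (S : Sylow p G) : MaxP p (S : Subgroup G) ⊤ :=
  ⟨S.isPGroup', le_top, fun _ hQ hSQ _ => S.is_maximal' hQ hSQ⟩

theorem MaxP.cj {p : ℕ} {T A : Subgroup G} (h : MaxP p T A) [A.Normal] (g : G) :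
    MaxP p (cj g T) A := by
  obtain ⟨h1, h2, h3⟩ := h
  refine ⟨h1.map _, ?_, ?_⟩
  · calc Pron.cj g T ≤ Pron.cj g A := cj_mono g h2
      _ = A := cj_normal A g
  · intro Q hQ hTQ hQA
    have e : Pron.cj g⁻¹ Q = T := by
      apply h3 _ (hQ.map _)
      · calc T = Pron.cj g⁻¹ (Pron.cj g T) := (cj_inv_cj g T).symm
          _ ≤ Pron.cj g⁻¹ Q := cj_mono _ hTQ
      · calc Pron.cj g⁻¹ Q ≤ Pron.cj g⁻¹ A := cj_mono _ hQA
          _ = A := cj_normal A _
    rw [← e, cj_cj_inv]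

/-- A maximal `p`-subgroup of `A` is a Sylow `p`-subgroup of any intermediate `B`. -/
theorem MaxP.exists_sylow {p : ℕ} {T A : Subgroup G} (h : MaxP p T A) (B : Subgroup G)
    (hTB : T ≤ B) (hBA : B ≤ A) : ∃ P : Sylow p B, (P : Subgroup B) = T.subgroupOf B := by
  obtain ⟨h1, h2, h3⟩ := h
  refine ⟨⟨T.subgroupOf B, h1.comap_subtype, ?_⟩, rfl⟩
  intro Q' hQ' hTQ'
  have hQ : IsPGroup p (Q'.map B.subtype) := hQ'.map _
  have hle : Q'.map B.subtype ≤ B := Subgroup.map_subtype_le _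
  have hTQ : T ≤ Q'.map B.subtype := by
    intro t ht
    exact ⟨⟨t, hTB ht⟩, hTQ' (Subgroup.mem_subgroupOf.mpr ht), rfl⟩
  have e := h3 _ hQ hTQ (hle.trans hBA)
  rw [← e]
  exact (Subgroup.comap_map_eq_self_of_injective B.subtype_injective Q').symm

/-- Two maximal `p`-subgroups of `A` contained in `B ≤ A` are conjugate in `B`. -/
theorem MaxP.conj_in [Finite G] {p : ℕ} [Fact p.Prime] {T0 T1 A : Subgroup G}
    (h0 : MaxP p T0 A) (h1 : MaxP p T1 A) (B : Subgroup G) (hT0 : T0 ≤ B) (hT1 : T1 ≤ B)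
    (hBA : B ≤ A) : ∃ b ∈ B, Pron.cj b T1 = T0 := by
  obtain ⟨P0, hP0⟩ := h0.exists_sylow B hT0 hBA
  obtain ⟨P1, hP1⟩ := h1.exists_sylow B hT1 hBA
  obtain ⟨b, hb⟩ := MulAction.exists_smul_eq B P1 P0
  refine ⟨(b : G), b.2, ?_⟩
  have e : ((b • P1 : Sylow p B) : Subgroup B) = Pron.cj b (P1 : Subgroup B) := rfl
  have e2 := congrArg (fun P : Sylow p B => ((P : Subgroup B)).map B.subtype) hb
  simp only [e, hP1, hP0] at e2
  rw [map_subtype_cj B T1 hT1, Subgroup.map_subgroupOf_eq_of_le hT0] at e2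
  exact e2

/-- Sylow subgroups are pronormal. -/
theorem sylow_isPronormal [Finite G] {p : ℕ} [Fact p.Prime] (S : Sylow p G) :
    Cfsg.IsPronormal (S : Subgroup G) := by
  intro g
  have h0 : MaxP p (Pron.cj g (S : Subgroup G)) ⊤ := (maxP_top_of_sylow S).cj g
  obtain ⟨b, hb, hbS⟩ := h0.conj_in (maxP_top_of_sylow S) ((S : Subgroup G) ⊔ Pron.cj g S)
    le_sup_right le_sup_left le_top
  exact ⟨b, hb, hbS.symm⟩

end Cfsg.Agent.Helper9.Pron
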