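import Mathlib
import Cfsg.Agent.Helper9.PronB

/-! Pronormality of overgroups of Sylow subgroups: extension criteria. -/

namespace Cfsg.Agent.Helper9.Pron

open Subgroup

variable {G : Type*} [Group G] [Finite G] {p : ℕ} [Fact p.Prime]

omit [Finite G] [Fact p.Prime] in
theorem sylow_smul_coe (g : G) (S : Sylow p G) :
    ((g • S : Sylow p G) : Subgroup G) = cj g (S : Subgroup G) := rfl

/-- From the hypothesis on the quotient `M/T` to relative pronormality in `M`. -/
theorem prnIn_of_quot (M T : Subgroup G) [(T.subgroupOf M).Normal] (hT : IsPGroup p T)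
    (hTM : T ≤ M)
    (hq : ∀ K : Subgroup (↥M ⧸ T.subgroupOf M),
      (∃ P : Sylow p (↥M ⧸ T.subgroupOf M), (P : Subgroup (↥M ⧸ T.subgroupOf M)) ≤ K) →
        Cfsg.IsPronormal K)
    (H1 : Subgroup G) (hH1 : H1 ≤ M) (S : Sylow p G) (hS : (S : Subgroup G) ≤ H1) :
    PrnIn H1 M := by
  have hSM : (S : Subgroup G) ≤ M := hS.trans hH1
  have hT'S' : T.subgroupOf M ≤ (S.subtype hSM : Sylow p M) :=
    IsPGroup.le_sylow_of_normal (N := T.subgroupOf M) (hT.comap_subtype) (S.subtype hSM)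
  have hTS : T ≤ S := by
    intro t ht
    have h1 : (⟨t, hTM ht⟩ : M) ∈ T.subgroupOf M := Subgroup.mem_subgroupOf.mpr ht
    have h2 := hT'S' h1
    have h3 : (⟨t, hTM ht⟩ : M) ∈ ((S.subtype hSM : Sylow p M) : Subgroup M) := h2
    rw [Sylow.coe_subtype, Subgroup.mem_subgroupOf] at h3
    exact h3
  have hTH1 : T ≤ H1 := hTS.trans hS
  have hker : (QuotientGroup.mk' (T.subgroupOf M)).ker ≤ H1.subgroupOf M := by
    rw [QuotientGroup.ker_mk']
    intro x hx
    rw [Subgroup.mem_subgroupOf] at hx ⊢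
    exact hTH1 hx
  have hf := QuotientGroup.mk'_surjective (T.subgroupOf M)
  have hP : ∃ P : Sylow p (↥M ⧸ T.subgroupOf M),
      (P : Subgroup (↥M ⧸ T.subgroupOf M)) ≤
        (H1.subgroupOf M).map (QuotientGroup.mk' (T.subgroupOf M)) := by
    refine ⟨(S.subtype hSM).mapSurjective hf, ?_⟩
    rw [Sylow.coe_mapSurjective, Sylow.coe_subtype]
    apply Subgroup.map_mono
    intro x hx
    rw [Subgroup.mem_subgroupOf] at hx ⊢
    exact hS hx
  have h1 := hq _ hP
  rw [isPronormal_map_iff _ hf _ hker] at h1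
  exact (isPronormal_subgroupOf_iff M H1 hH1).mp h1

/-- From pronormality of Sylow overgroups in `G` to the quotient `M/T`, when `M` contains a
Sylow subgroup of `G`. -/
theorem quot_of_prn (M T : Subgroup G) [(T.subgroupOf M).Normal] (S0 : Sylow p G)
    (hS0 : (S0 : Subgroup G) ≤ M)
    (hG : ∀ K : Subgroup G, (∃ P : Sylow p G, (P : Subgroup G) ≤ K) → Cfsg.IsPronormal K) :
    ∀ K : Subgroup (↥M ⧸ T.subgroupOf M),
      (∃ P : Sylow p (↥M ⧸ T.subgroupOf M), (P : Subgroup (↥M ⧸ T.subgroupOf M)) ≤ K) →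
        Cfsg.IsPronormal K := by
  rintro Kb ⟨Pb, hPb⟩
  have hf := QuotientGroup.mk'_surjective (T.subgroupOf M)
  set f := QuotientGroup.mk' (T.subgroupOf M) with hfdef
  set K' := Kb.comap f with hK'
  have hK'map : K'.map f = Kb := Subgroup.map_comap_eq_self_of_surjective hf Kb
  have hker : f.ker ≤ K' := by
    intro x hx
    rw [hK', Subgroup.mem_comap, MonoidHom.mem_ker.mp hx]
    exact Kb.one_mem
  rw [← hK'map, isPronormal_map_iff f hf K' hker, isPronormal_iff_prnIn_map]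
  have hover : ∃ P : Sylow p G, (P : Subgroup G) ≤ K'.map M.subtype := by
    obtain ⟨nb, hnb⟩ := MulAction.exists_smul_eq (↥M ⧸ T.subgroupOf M)
      ((S0.subtype hS0).mapSurjective hf) Pb
    obtain ⟨n, rfl⟩ := hf nb
    have e1 : (Pb : Subgroup (↥M ⧸ T.subgroupOf M)) =
        (cj n ((S0.subtype hS0 : Sylow p M) : Subgroup M)).map f := by
      rw [← hnb, sylow_smul_coe, Sylow.coe_mapSurjective, map_cj]
    have h1 : cj n ((S0.subtype hS0 : Sylow p M) : Subgroup M) ≤ K' := by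
      rw [hK', ← Subgroup.map_le_iff_le_comap, ← e1]
      exact hPb
    refine ⟨(n : G) • S0, ?_⟩
    rw [sylow_smul_coe, ← map_subtype_cj M _ hS0 n]
    apply Subgroup.map_mono
    rw [Sylow.coe_subtype] at h1
    exact h1
  exact ((isPronormal_iff_prnIn_top _).mp (hG _ hover)).mono le_top

/-- Key application: conjugation by elements of `A`. -/
theorem conj_by_normal (A : Subgroup G) [A.Normal]
    (hA : ∀ K : Subgroup A, (∃ P : Sylow p A, (P : Subgroup A) ≤ K) → Cfsg.IsPronormal K)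
    (T : Subgroup G) (hT : MaxP p T A)
    (hN : ∀ H1 : Subgroup G, H1 ≤ normalizer (T : Set G) →
      (∃ S : Sylow p G, (S : Subgroup G) ≤ H1) → PrnIn H1 (normalizer (T : Set G)))
    (H : Subgroup G) (S : Sylow p G) (hS : (S : Subgroup G) ≤ H) :
    ∀ a ∈ A, ∃ z ∈ H ⊔ cj a H, cj a H = cj z H := by
  obtain ⟨Q, hTQ⟩ := hT.1.exists_le_sylow
  obtain ⟨g, hg⟩ := MulAction.exists_smul_eq G Q S
  have hgQ : cj g (Q : Subgroup G) = S := by rw [← sylow_smul_coe, hg]
  set T0 := cj g T with hT0def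
  have hT0S : T0 ≤ S := by rw [← hgQ]; exact cj_mono g hTQ
  have hT0 : MaxP p T0 A := hT.cj g
  have hT0HA : T0 ≤ H ⊓ A := le_inf (hT0S.trans hS) hT0.2.1
  have hSA : (S : Subgroup G) ⊓ A = T0 :=
    hT0.2.2 _ (S.isPGroup'.to_le inf_le_left) (le_inf hT0S hT0.2.1) inf_le_right
  have hSN : (S : Subgroup G) ≤ normalizer (T0 : Set G) := by
    intro s hs
    rw [mem_normalizer_iff_cj, ← hSA, cj_inf, cj_of_mem hs, cj_normal]
  -- hB
  have hB : PrnIn (H ⊓ A) A := by
    obtain ⟨P, hP⟩ := hT0.exists_sylow A hT0.2.1 le_rfl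
    have h1 : Cfsg.IsPronormal ((H ⊓ A).subgroupOf A) := by
      apply hA _ ⟨P, ?_⟩
      rw [hP]
      intro x hx
      rw [Subgroup.mem_subgroupOf] at hx ⊢
      exact hT0HA hx
    exact (isPronormal_subgroupOf_iff A (H ⊓ A) inf_le_right).mp h1
  -- hconj
  have hconj : ∀ g' : G, cj g' T0 ≤ H ⊓ A → ∃ b ∈ H ⊓ A, cj (b * g') T0 = T0 := by
    intro g' hg'
    obtain ⟨b, hb, hbT⟩ := hT0.conj_in (hT0.cj g') (H ⊓ A) hT0HA hg' inf_le_right
    exact ⟨b, hb, by rw [← cj_cj]; exact hbT⟩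
  -- hN0
  have hN0 : PrnIn (H ⊓ normalizer (T0 : Set G)) (normalizer (T0 : Set G)) := by
    have e0 : normalizer (T0 : Set G) = cj g (normalizer (T : Set G)) := by
      rw [cj_normalizer]
    have hle : cj g⁻¹ (H ⊓ normalizer (T0 : Set G)) ≤ normalizer (T : Set G) := by
      calc cj g⁻¹ (H ⊓ normalizer (T0 : Set G)) ≤ cj g⁻¹ (normalizer (T0 : Set G)) :=
            cj_mono _ inf_le_right
        _ = normalizer (T : Set G) := by rw [e0, cj_inv_cj]
    have hov : ∃ S' : Sylow p G, (S' : Subgroup G) ≤ cj g⁻¹ (H ⊓ normalizer (T0 : Set G)) := by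
      refine ⟨g⁻¹ • S, ?_⟩
      rw [sylow_smul_coe]
      exact cj_mono _ (le_inf hS hSN)
    have h1 := (hN _ hle hov).cj g
    rw [cj_cj_inv, ← e0] at h1
    exact h1
  exact core A H T0 hT0HA hB hconj hN0

end Cfsg.Agent.Helper9.Pron
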