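import Mathlib
import Cfsg.Agent.Helper9.PronC

/-! Pronormality of overgroups of Sylow subgroups: the two extension criteria. -/

namespace Cfsg.Agent.Helper9.Pron

open Subgroup

variable {G : Type*} [Group G]

/-- Reduction to conjugation by elements of `N_G(S)` for a pronormal `S ≤ H`. -/
theorem isPronormal_of_normalizer {S H : Subgroup G} (hSH : S ≤ H) (hS : Cfsg.IsPronormal S)
    (h : ∀ g ∈ normalizer (S : Set G), ∃ w ∈ H ⊔ cj g H, cj g H = cj w H) :
    Cfsg.IsPronormal H := by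
  rw [isPronormal_iff_prnIn_top] at hS ⊢
  intro g _
  obtain ⟨x, hx, hSx⟩ := hS g (mem_top _)
  set J := H ⊔ cj g H with hJ
  have hxJ : x ∈ J := (sup_le_sup hSH (cj_mono g hSH)) hx
  have hn : x⁻¹ * g ∈ normalizer (S : Set G) := by
    rw [mem_normalizer_iff_cj, ← cj_cj, hSx, cj_inv_cj]
  obtain ⟨w, hw, hHw⟩ := h _ hn
  refine ⟨x * w, J.mul_mem hxJ ?_, ?_⟩
  · have hle : H ⊔ cj (x⁻¹ * g) H ≤ J := by
      refine sup_le le_sup_left ?_
      rw [← cj_cj]
      exact cj_le_of_mem (J.inv_mem hxJ) le_sup_right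
    exact hle hw
  · have e : cj g H = cj x (cj (x⁻¹ * g) H) := by
      rw [cj_cj]; congr 1; group
    rw [e, hHw, cj_cj]

variable [Finite G] {p : ℕ} [Fact p.Prime]

/-- The forward direction shared by both criteria. -/
theorem forward (A : Subgroup G) [A.Normal] (T : Subgroup G) (hT : MaxP p T A)
    [(T.subgroupOf (normalizer (T : Set G))).Normal]
    (hG : ∀ K : Subgroup G, (∃ P : Sylow p G, (P : Subgroup G) ≤ K) → Cfsg.IsPronormal K) :
    ∀ K : Subgroup (↥(normalizer (T : Set G)) ⧸ T.subgroupOf (normalizer (T : Set G))),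
      (∃ P : Sylow p (↥(normalizer (T : Set G)) ⧸ T.subgroupOf (normalizer (T : Set G))),
        (P : Subgroup (↥(normalizer (T : Set G)) ⧸ T.subgroupOf (normalizer (T : Set G)))) ≤ K) →
        Cfsg.IsPronormal K := by
  obtain ⟨Q, hTQ⟩ := hT.1.exists_le_sylow
  have hQA : (Q : Subgroup G) ⊓ A = T :=
    hT.2.2 _ (Q.isPGroup'.to_le inf_le_left) (le_inf hTQ hT.2.1) inf_le_right
  have hQN : (Q : Subgroup G) ≤ normalizer (T : Set G) := by
    intro s hs
    rw [mem_normalizer_iff_cj, ← hQA, cj_inf, cj_of_mem hs, cj_normal]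
  exact quot_of_prn _ T Q hQN hG

/-- Conjugation by elements of `A`, from the hypotheses on `A` and on `N_G(T)/T`. -/
theorem key (A : Subgroup G) [A.Normal]
    (hA : ∀ K : Subgroup A, (∃ P : Sylow p A, (P : Subgroup A) ≤ K) → Cfsg.IsPronormal K)
    (T : Subgroup G) (hT : MaxP p T A)
    [(T.subgroupOf (normalizer (T : Set G))).Normal]
    (hq : ∀ K : Subgroup (↥(normalizer (T : Set G)) ⧸ T.subgroupOf (normalizer (T : Set G))),
      (∃ P : Sylow p (↥(normalizer (T : Set G)) ⧸ T.subgroupOf (normalizer (T : Set G))),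
        (P : Subgroup (↥(normalizer (T : Set G)) ⧸ T.subgroupOf (normalizer (T : Set G)))) ≤ K) →
        Cfsg.IsPronormal K)
    (H : Subgroup G) (S : Sylow p G) (hS : (S : Subgroup G) ≤ H) :
    ∀ a ∈ A, ∃ z ∈ H ⊔ cj a H, cj a H = cj z H := by
  apply conj_by_normal A hA T hT _ H S hS
  rintro H1 hH1 ⟨S', hS'⟩
  exact prnIn_of_quot (normalizer (T : Set G)) T hT.1 le_normalizer hq H1 hH1 S' hS'

/-- Criterion with self-normalizing Sylow subgroups in `G/A`. -/
theorem crit_selfnorm (A : Subgroup G) [A.Normal]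
    (hA : ∀ K : Subgroup A, (∃ P : Sylow p A, (P : Subgroup A) ≤ K) → Cfsg.IsPronormal K)
    (hQ : ∀ P : Sylow p (G ⧸ A), normalizer ((P : Subgroup (G ⧸ A)) : Set (G ⧸ A)) = P)
    (T : Subgroup G) (hT : MaxP p T A)
    [(T.subgroupOf (normalizer (T : Set G))).Normal]
    (hq : ∀ K : Subgroup (↥(normalizer (T : Set G)) ⧸ T.subgroupOf (normalizer (T : Set G))),
      (∃ P : Sylow p (↥(normalizer (T : Set G)) ⧸ T.subgroupOf (normalizer (T : Set G))),
        (P : Subgroup (↥(normalizer (T : Set G)) ⧸ T.subgroupOf (normalizer (T : Set G)))) ≤ K) →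
        Cfsg.IsPronormal K) :
    ∀ K : Subgroup G, (∃ P : Sylow p G, (P : Subgroup G) ≤ K) → Cfsg.IsPronormal K := by
  rintro K ⟨S, hS⟩
  apply isPronormal_of_normalizer hS (sylow_isPronormal S)
  intro g hg
  have hf := QuotientGroup.mk'_surjective A
  have h1 : QuotientGroup.mk' A g ∈
      normalizer ((((S.mapSurjective hf : Sylow p (G ⧸ A)) : Subgroup (G ⧸ A))) : Set (G ⧸ A)) := by
    rw [Sylow.coe_mapSurjective]
    exact Subgroup.le_normalizer_map _ ⟨g, hg, rfl⟩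
  rw [hQ, Sylow.coe_mapSurjective] at h1
  obtain ⟨s, hs, hsg⟩ := h1
  have ha : g * s⁻¹ ∈ A := by
    rw [← QuotientGroup.eq_one_iff, QuotientGroup.mk_mul, QuotientGroup.mk_inv]
    have : (QuotientGroup.mk s : G ⧸ A) = QuotientGroup.mk g := hsg
    rw [this, mul_inv_cancel]
  have hs' : s ∈ (S : Subgroup G) := hs
  have e : cj g K = cj (g * s⁻¹) K := by
    have : g = (g * s⁻¹) * s := by group
    conv_lhs => rw [this]
    exact cj_mul_of_mem _ (hS hs')
  rw [e]
  exact key A hA T hT hq K S hS _ ha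

/-- Criterion with pronormal Sylow overgroups in `G/A`. -/
theorem crit_quot (A : Subgroup G) [A.Normal]
    (hA : ∀ K : Subgroup A, (∃ P : Sylow p A, (P : Subgroup A) ≤ K) → Cfsg.IsPronormal K)
    (hQ : ∀ K : Subgroup (G ⧸ A), (∃ P : Sylow p (G ⧸ A), (P : Subgroup (G ⧸ A)) ≤ K) →
      Cfsg.IsPronormal K)
    (T : Subgroup G) (hT : MaxP p T A)
    [(T.subgroupOf (normalizer (T : Set G))).Normal]
    (hq : ∀ K : Subgroup (↥(normalizer (T : Set G)) ⧸ T.subgroupOf (normalizer (T : Set G))),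
      (∃ P : Sylow p (↥(normalizer (T : Set G)) ⧸ T.subgroupOf (normalizer (T : Set G))),
        (P : Subgroup (↥(normalizer (T : Set G)) ⧸ T.subgroupOf (normalizer (T : Set G)))) ≤ K) →
        Cfsg.IsPronormal K)
    (hnorm : ∀ K : Subgroup G, (∃ P : Sylow p G, (P : Subgroup G) ≤ K) →
      (normalizer (K : Set G)).map (QuotientGroup.mk' A) =
        normalizer ((K.map (QuotientGroup.mk' A) : Subgroup (G ⧸ A)) : Set (G ⧸ A))) :
    ∀ K : Subgroup G, (∃ P : Sylow p G, (P : Subgroup G) ≤ K) → Cfsg.IsPronormal K := by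
  rintro K ⟨S, hS⟩
  have hf := QuotientGroup.mk'_surjective A
  set f := QuotientGroup.mk' A with hfdef
  have hKb : Cfsg.IsPronormal (K.map f) := by
    apply hQ
    refine ⟨S.mapSurjective hf, ?_⟩
    rw [Sylow.coe_mapSurjective]
    exact Subgroup.map_mono hS
  rw [isPronormal_iff_prnIn_top] at hKb ⊢
  intro g _
  obtain ⟨xb, hxb, hxbK⟩ := hKb (f g) (mem_top _)
  rw [← map_cj, ← Subgroup.map_sup] at hxb
  obtain ⟨x, hx, rfl⟩ := hxb
  set L := K ⊔ cj g K with hL
  -- g' := x⁻¹ g normalizes the image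
  have h1 : f (x⁻¹ * g) ∈ normalizer ((K.map f : Subgroup (G ⧸ A)) : Set (G ⧸ A)) := by
    rw [mem_normalizer_iff_cj, map_mul, ← cj_cj, hxbK, cj_cj, map_inv, inv_mul_cancel, cj_one]
  rw [← hnorm K ⟨S, hS⟩] at h1
  obtain ⟨n, hn, hng⟩ := h1
  have ha : (x⁻¹ * g) * n⁻¹ ∈ A := by
    rw [← QuotientGroup.eq_one_iff]
    have : f ((x⁻¹ * g) * n⁻¹) = 1 := by
      rw [map_mul, map_inv, hng, mul_inv_cancel]
    exact this
  have e1 : cj (x⁻¹ * g) K = cj ((x⁻¹ * g) * n⁻¹) K := by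
    have e : x⁻¹ * g = ((x⁻¹ * g) * n⁻¹) * n := by group
    conv_lhs => rw [e, ← cj_cj, mem_normalizer_iff_cj.mp hn]
  obtain ⟨z, hz, hzK⟩ := key A hA T hT hq K S hS _ ha
  rw [← e1] at hz hzK
  have hzL : z ∈ L := by
    have hle : K ⊔ cj (x⁻¹ * g) K ≤ L := by
      refine sup_le le_sup_left ?_
      rw [← cj_cj]
      exact cj_le_of_mem (L.inv_mem hx) le_sup_right
    exact hle hz
  refine ⟨x * z, L.mul_mem hx hzL, ?_⟩
  have e : cj g K = cj x (cj (x⁻¹ * g) K) := by
    rw [cj_cj]; congr 1; group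
  rw [e, hzK, cj_cj]

omit [Finite G] in
/-- Normalizers of pronormal subgroups map onto normalizers in quotients. -/
theorem map_normalizer_of_isPronormal (A : Subgroup G) [A.Normal] (K : Subgroup G)
    (hK : Cfsg.IsPronormal K) :
    (normalizer (K : Set G)).map (QuotientGroup.mk' A) =
      normalizer ((K.map (QuotientGroup.mk' A) : Subgroup (G ⧸ A)) : Set (G ⧸ A)) := by
  apply le_antisymm (Subgroup.le_normalizer_map _)
  intro gb hgb
  obtain ⟨g, rfl⟩ := QuotientGroup.mk'_surjective A gb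
  rw [mem_normalizer_iff_cj, ← map_cj] at hgb
  rw [isPronormal_iff_prnIn_top] at hK
  obtain ⟨x, hx, hxK⟩ := hK g (mem_top _)
  -- cj g K ≤ K ⊔ A
  have h1 : cj g K ≤ K ⊔ A := by
    have := Subgroup.comap_map_eq (QuotientGroup.mk' A) K
    rw [QuotientGroup.ker_mk'] at this
    rw [← this, ← hgb, ← Subgroup.map_le_iff_le_comap]
  have hxKA : x ∈ A ⊔ K := by
    rw [sup_comm]
    exact (sup_le le_sup_left h1) hx
  rw [Subgroup.mem_sup_of_normal_left] at hxKA
  obtain ⟨a, ha, k, hk, rfl⟩ := hxKA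
  rw [cj_mul_of_mem a hk] at hxK
  refine ⟨a⁻¹ * g, ?_, ?_⟩
  · rw [SetLike.mem_coe, mem_normalizer_iff_cj, ← cj_cj, hxK, cj_inv_cj]
  · rw [map_mul, map_inv]
    have : QuotientGroup.mk' A a = 1 := by
      rw [QuotientGroup.mk'_apply, QuotientGroup.eq_one_iff]; exact ha
    rw [this, inv_one, one_mul]

end Cfsg.Agent.Helper9.Pron
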