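import Mathlib
import Cfsg.Agent.Helper25.QPDefs2
import Cfsg.Agent.Helper25.QPAct
import Cfsg.Agent.Helper4.QPROOT
import Cfsg.Agent.Helper23.QPTRANS
import Cfsg.Agent.Helper7.QPOPP
import Cfsg.Agent.Helper9.QPS5065U
import Cfsg.Agent.Helper18.QP68Main

set_option autoImplicit false
set_option linter.unusedSimpArgs false
set_option linter.unusedVariables false
set_option linter.unusedSectionVars false

/-! Quadratic pairs, towards S5074 / S5063: **Case 2** of the peeling argument.
If `a` is the nilpotent part of a member of `𝒬(G)` and `a b` is nilpotent for EVERY root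
element `1 + b` (`b` a member of `Qd G d`, `d` the minimal rank), then `a` commutes with every such
`b`; hence `1 + a` centralizes `G₀ = ⟨Σ⟩`. -/

noncomputable section

universe u v

namespace Cfsg.Agent.QPP

open Cfsg Cfsg.Agent.Helper25.QP Cfsg.Agent.Helper25.QuadPair Cfsg.Agent.QP68

section ring

variable {k : Type*} [Field k] {R : Type*} [Ring R] [Algebra k R]

/-- all products of the words `x u + y (a u - u a)` vanish when `a² = u² = u a u = 0` -/
theorem CASE2_aux_WW {a w : R} (haa : a * a = 0) (hww : w * w = 0) (hwaw : w * a * w = 0)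
    (x y x' y' : k) :
    (x • w + y • (a * w - w * a)) * (x' • w + y' • (a * w - w * a)) = 0 := by
  have haa' : ∀ z : R, a * (a * z) = 0 := fun z => by rw [← mul_assoc, haa, zero_mul]
  have hww' : ∀ z : R, w * (w * z) = 0 := fun z => by rw [← mul_assoc, hww, zero_mul]
  have hwaw0 : w * (a * w) = 0 := by simpa only [mul_assoc] using hwaw
  have hwaw' : ∀ z : R, w * (a * (w * z)) = 0 := fun z => by
    rw [← mul_assoc, ← mul_assoc, hwaw, zero_mul]
  simp only [mul_add, add_mul, mul_sub, sub_mul, smul_mul_assoc, mul_smul_comm, mul_assoc,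
    haa, haa', hww, hww', hwaw0, hwaw', mul_zero, smul_zero, sub_zero, add_zero, zero_add, sub_self]

/-- the commutator of `b` with its conjugate by `1 + a` -/
theorem CASE2_aux_comm {a b : R} (hbb : b * b = 0) :
    b * (b + (b * a - a * b) - a * b * a) - (b + (b * a - a * b) - a * b * a) * b
      = (-2 : k) • (b * a * b) + (1 : k) • (a * (b * a * b) - (b * a * b) * a) := by
  have hbb' : ∀ z : R, b * (b * z) = 0 := fun z => by rw [← mul_assoc, hbb, zero_mul]
  have e : b * (b + (b * a - a * b) - a * b * a) - (b + (b * a - a * b) - a * b * a) * b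
      = - (b * a * b) - b * a * b * a - (b * a * b - a * b * a * b) := by
    simp only [mul_add, add_mul, mul_sub, sub_mul, mul_assoc, hbb, hbb', mul_zero, zero_sub,
      sub_zero, zero_add]
  rw [e, one_smul, neg_smul, two_smul]
  simp only [mul_assoc]
  abel

end ring

section mod

variable {k : Type u} [Field k] {M : Type v} [AddCommGroup M] [Module k M]

local notation "GLkM" => LinearMap.GeneralLinearGroup k M

/-- Step 1: if `a b` is nilpotent and `b` has minimal rank then `b a b = 0`. -/
theorem CASE2_bab [FiniteDimensional k M] {G : Subgroup GLkM} {d : ℕ} (h2 : (2 : k) ≠ 0)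
    (hmin : MinRank G d) {a b : Module.End k M} (ha : QFam G a) (hb : Qd G d b)
    (hn : IsNilpotent (a * b)) : b * a * b = 0 := by
  obtain ⟨n0, hn0⟩ := hn
  have hbb := hb.1.1
  -- a uniform exponent
  obtain ⟨n, hn2, hnn⟩ : ∃ n : ℕ, 2 ≤ n ∧ n0 ≤ n := ⟨max n0 2, le_max_right _ _, le_max_left _ _⟩
  have key : ∀ a' : Module.End k M, QFam G a' → (b * a') ^ (n + 1) = 0 →
      QFam G (b * (b + (b * a' - a' * b) - a' * b * a') - (b + (b * a' - a' * b) - a' * b * a') * b)
        ∧ b * a' * b * a' * b = 0 := by
    intro a' ha' hp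
    obtain ⟨hq, hr⟩ := conj_one_mem hb.1 ha'
    have hz := conj_pow_eq_zero hbb hn2 hp
    have hs := star h2 hmin n hb.1 hq hb.2 (hr.trans hb.2) hz
    refine ⟨QFam_comm hb.1 hq hs.1 hs.2, ?_⟩
    have := hs.1
    rw [a_conj_a hbb, neg_eq_zero] at this
    exact this
  have hp1 : (b * a) ^ (n + 1) = 0 := by
    rw [mul_pow_succ_shift, pow_eq_zero_of_le hnn hn0, mul_zero, zero_mul]
  have hp2 : (b * (-a)) ^ (n + 1) = 0 := by
    rw [mul_neg, neg_pow, hp1, mul_zero]
  obtain ⟨hW1, h5⟩ := key a ha hp1
  obtain ⟨hW2, -⟩ := key (-a) ha.neg hp2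
  rw [CASE2_aux_comm (k := k) hbb] at hW1 hW2
  -- rewrite the second word in terms of `a`
  have e2 : (-2 : k) • (b * -a * b) + (1 : k) • (-a * (b * -a * b) - b * -a * b * -a)
      = (2 : k) • (b * a * b) + (1 : k) • (a * (b * a * b) - (b * a * b) * a) := by
    simp only [mul_neg, neg_mul, neg_neg, smul_neg, neg_smul]
  rw [e2] at hW2
  have hz : (b * a) * (b * a * b) = 0 := by simpa only [mul_assoc] using h5
  set w := b * a * b with hw
  have hww : w * w = 0 := by
    rw [hw]
    have : b * a * b * (b * a * b) = b * a * (b * b) * a * b := by simp only [mul_assoc]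
    rw [this, hbb]; simp
  have hwaw : w * a * w = 0 := by
    rw [hw]
    have : b * a * b * a * (b * a * b) = (b * a * b * a * b) * a * b := by simp only [mul_assoc]
    rw [this, h5]; simp
  have h4 : QFam G ((4 : k) • w) := by
    have e : (4 : k) • w = ((2 : k) • w + (1 : k) • (a * w - w * a))
        - ((-2 : k) • w + (1 : k) • (a * w - w * a)) := by module
    rw [e]
    exact hW2.sub hW1 (CASE2_aux_WW ha.1 hww hwaw _ _ _ _) (CASE2_aux_WW ha.1 hww hwaw _ _ _ _)
  have h40 : (4 : k) ≠ 0 := by
    have : (4 : k) = 2 * 2 := by norm_num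
    rw [this]; exact mul_ne_zero h2 h2
  have hq : QFam G w := by
    have := h4.smul (4 : k)⁻¹
    rwa [smul_smul, inv_mul_cancel₀ h40, one_smul] at this
  by_contra h
  have h1 := hmin _ hq h
  have hle : LinearMap.range w ≤ LinearMap.range b := by
    rw [hw, mul_assoc]
    exact LinearMap.range_comp_le_range _ _
  have heq : LinearMap.range w = LinearMap.range b :=
    Submodule.eq_of_le_of_finrank_le hle (by rw [hb.2]; exact h1)
  apply h
  apply LinearMap.ext
  intro m
  have hm : b m ∈ LinearMap.range w := by rw [heq]; exact ⟨m, rfl⟩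
  obtain ⟨m', hm'⟩ := hm
  have : w m = (b * a) (b m) := by rw [hw]; rfl
  rw [this, ← hm']
  have := LinearMap.congr_fun hz m'
  simpa using this

/-- Step 2: a nonzero member of `Qd G d` is never killed on both sides by all members. -/
theorem CASE2_notCC [FiniteDimensional k M] (hk2 : ringChar k ≠ 2) (hk3 : Nat.card k ≠ 3)
    {G : Subgroup GLkM} {d : ℕ} (hG : IsIrreducibleFor G) (hmin : MinRank G d)
    {x : Module.End k M} (hx : Qd G d x) (hx0 : x ≠ 0)
    (hcc : ∀ b : Module.End k M, Qd G d b → b * x * b = 0) : False := by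
  -- the root element `σ = 1 + x`
  set σ : GLkM := unipUnit x hx.1.1 with hσdef
  have hval : (σ : Module.End k M) - 1 = x := by
    rw [hσdef, val_unipUnit]; abel
  have hval' : ((σ : M →ₗ[k] M) - 1) = x := hval
  have hQ : σ ∈ quadraticElements G := QFam.mem_quadraticElements hx.1 hx0
  have hrk : commutatorRank σ = d := by
    unfold commutatorRank
    rw [hval']; exact hx.2
  have hσ : σ ∈ minimalQuadraticElements G := by
    refine ⟨hQ, fun ρ hρ => ?_⟩
    rw [hrk]
    have hq := QFam.of_mem_quadraticElements hρ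
    have h0 : (ρ : Module.End k M) - 1 ≠ 0 := hρ.2.1.2
    exact hmin _ hq h0
  obtain ⟨g, hg, hnu⟩ := OPPN hG (fun A hA => SIG_le hA) (fun A hA => SIG_ne_bot hA)
    (fun A hA g hg => SIG_conj hA hg) (SIG_mem hσ)
  obtain ⟨hτ, hconj⟩ := ROOT_conj hσ hg
  rw [hconj] at hnu
  have hN : ¬ AllUnip (sameActionSubgroup G σ) (sameActionSubgroup G (g * σ * g⁻¹)) :=
    fun h => hnu (S5065U hk2 hk3 hσ hτ h)
  have hopp := OPP hk2 hk3 hσ hτ hN
  rw [hval] at hopp
  set y : Module.End k M := ((g * σ * g⁻¹ : GLkM) : Module.End k M) - 1 with hy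
  have hyq : Qd G d y := by
    have := (TRANS_Qd hτ).2
    rwa [← TRANS_rank hσ hτ, hrk] at this
  have hyxy := hcc y hyq
  obtain ⟨h1, h2⟩ := hopp
  -- `y = 0`
  have hy0 : y = 0 := by
    apply LinearMap.ext
    intro m
    have e1 : x (y m) ∈ LinearMap.ker y ⊓ LinearMap.range x := by
      refine ⟨LinearMap.mem_ker.2 ?_, ⟨y m, rfl⟩⟩
      have := LinearMap.congr_fun hyxy m
      simpa using this
    rw [h2.inf_eq_bot, Submodule.mem_bot] at e1
    have e2 : y m ∈ LinearMap.ker x ⊓ LinearMap.range y := ⟨LinearMap.mem_ker.2 e1, ⟨m, rfl⟩⟩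
    rw [h1.inf_eq_bot, Submodule.mem_bot] at e2
    simpa using e2
  -- hence `ker x = ⊤`
  have htop : LinearMap.ker x = ⊤ := by
    have := h1.sup_eq_top
    rw [hy0, LinearMap.range_zero, sup_bot_eq] at this
    exact this
  exact hx0 (LinearMap.ker_eq_top.1 htop)

/-- conjugation by an element of `G` preserves `Qd G d` -/
theorem CASE2_Qd_conj [FiniteDimensional k M] {G : Subgroup GLkM} {d : ℕ} {b h h' : Module.End k M}
    (hb : Qd G d b) (hh : InG G h) (h1 : h * h' = 1) (h2 : h' * h = 1) : Qd G d (h' * b * h) :=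
  ⟨hb.1.conj hh h1 h2, (finrank_range_conj h1 h2).trans hb.2⟩

/-- **Case 2**: a member `a` with `a b` nilpotent for every root element `b` commutes with every
root element. -/
theorem CASE2 [FiniteDimensional k M] (hk2 : ringChar k ≠ 2) (hk3 : Nat.card k ≠ 3)
    {G : Subgroup GLkM} {d : ℕ} (hG : IsIrreducibleFor G) (hmin : MinRank G d)
    {a : Module.End k M} (ha : QFam G a)
    (hnil : ∀ b : Module.End k M, Qd G d b → IsNilpotent (a * b)) :
    ∀ b : Module.End k M, Qd G d b → a * b = b * a := by
  have h2 : (2 : k) ≠ 0 := Ring.two_ne_zero hk2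
  have haa := ha.1
  have hbab : ∀ b : Module.End k M, Qd G d b → b * a * b = 0 := fun b hb =>
    CASE2_bab h2 hmin ha hb (hnil b hb)
  -- the class `P`
  set P : Module.End k M → Prop := fun x => ∀ b : Module.End k M, Qd G d b → b * x * b = 0 with hP
  have hPa : P a := hbab
  have hPsub : ∀ x y, P x → P y → P (x - y) := fun x y hx hy b hb => by
    rw [mul_sub, sub_mul, hx b hb, hy b hb, sub_zero]
  have hPsmul : ∀ (c : k) x, P x → P (c • x) := fun c x hx b hb => by
    rw [mul_smul_comm, smul_mul_assoc, hx b hb, smul_zero]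
  have hPconj : ∀ x N : Module.End k M, QFam G N → P x → P ((1 - N) * x * (1 + N)) := by
    intro x N hN hx b hb
    have e1 : (1 + N) * (1 - N) = 1 := by
      have : (1 + N) * (1 - N) = 1 - N * N := by noncomm_ring
      rw [this, hN.1, sub_zero]
    have e2 : (1 - N) * (1 + N) = 1 := by
      have : (1 - N) * (1 + N) = 1 - N * N := by noncomm_ring
      rw [this, hN.1, sub_zero]
    have hin : InG G (1 - N) := by
      have := hN.2 (-1)
      simpa [sub_eq_add_neg] using this
    -- `b' = (1 + N) b (1 - N)` is a member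
    have hb' : Qd G d ((1 + N) * b * (1 - N)) := CASE2_Qd_conj hb hin e2 e1
    have := hx _ hb'
    have e : b * ((1 - N) * x * (1 + N)) * b
        = (1 - N) * (((1 + N) * b * (1 - N)) * x * ((1 + N) * b * (1 - N))) * (1 + N) := by
      have : (1 - N) * (((1 + N) * b * (1 - N)) * x * ((1 + N) * b * (1 - N))) * (1 + N)
          = ((1 - N) * (1 + N)) * b * ((1 - N) * x * (1 + N)) * b * ((1 - N) * (1 + N)) := by
        simp only [mul_assoc]
      rw [this, e2, one_mul, mul_one]
    rw [e, this, mul_zero, zero_mul]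
  intro b hb
  have hbb := hb.1.1
  have hb3 := hbab b hb
  have haa' : ∀ z : Module.End k M, a * (a * z) = 0 := fun z => by rw [← mul_assoc, haa, zero_mul]
  have hbb' : ∀ z : Module.End k M, b * (b * z) = 0 := fun z => by rw [← mul_assoc, hbb, zero_mul]
  have hb3' : b * (a * b) = 0 := by simpa only [mul_assoc] using hb3
  have hb3'' : ∀ z : Module.End k M, b * (a * (b * z)) = 0 := fun z => by
    rw [← mul_assoc, ← mul_assoc, hb3, zero_mul]
  -- `P (a b - b a)`
  have hPr : P (a * b - b * a) := by
    have h1 := hPconj a b hb.1 hPa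
    have e : (1 - b) * a * (1 + b) = a + (a * b - b * a) - b * a * b := by
      have := conj_formula (k := k) haa hbb 1
      simpa only [one_smul, mul_one] using this
    rw [e, hb3, sub_zero] at h1
    have := hPsub _ _ h1 hPa
    rwa [add_sub_cancel_left] at this
  -- `P (a b a)`
  have hPy : P (a * b * a) := by
    have h1 := hPconj (a * b - b * a) a ha hPr
    have e : (1 - a) * (a * b - b * a) * (1 + a) = (a * b - b * a) + (2 : k) • (a * b * a) := by
      simp only [mul_add, add_mul, mul_sub, sub_mul, mul_one, one_mul, mul_assoc, haa, haa',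
        mul_zero, sub_zero, zero_sub, two_smul]
      abel
    rw [e] at h1
    have h3 := hPsub _ _ h1 hPr
    rw [add_sub_cancel_left] at h3
    have := hPsmul (2 : k)⁻¹ _ h3
    rwa [smul_smul, inv_mul_cancel₀ h2, one_smul] at this
  -- `a b a = 0`
  have hy0 : a * b * a = 0 := by
    by_contra hne
    have h5a : a * b * a * b * a = 0 := by
      have : a * b * a * b * a = a * (b * a * b) * a := by simp only [mul_assoc]
      rw [this, hb3]; simp
    have h5b : b * a * b * a * b = 0 := by
      rw [hb3]; simp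
    have hq := QFam_aba h2 ha hb.1 h5a h5b
    have hge := hmin _ hq hne
    have hle : Module.finrank k (LinearMap.range (a * b * a)) ≤ d := by
      have h1 : LinearMap.range (a * b * a) = Submodule.map a (LinearMap.range (b * a)) := by
        rw [mul_assoc]; exact range_mul a (b * a)
      rw [h1]
      calc Module.finrank k (Submodule.map a (LinearMap.range (b * a)))
          ≤ Module.finrank k (LinearMap.range (b * a)) := Submodule.finrank_map_le _ _
        _ ≤ Module.finrank k (LinearMap.range b) :=
            Submodule.finrank_mono (LinearMap.range_comp_le_range _ _)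
        _ = d := hb.2
    exact CASE2_notCC hk2 hk3 hG hmin ⟨hq, le_antisymm hle hge⟩ hne hPy
  -- `a b = b a`
  by_contra hne
  have hq := QFam_comm ha hb.1 hy0 hb3
  have hge := hmin _ hq (sub_ne_zero.mpr hne)
  have hle : Module.finrank k (LinearMap.range (a * b - b * a)) ≤ d := by
    have h4 := rank_sub_le (a * b) (b * a)
    have h5 := rank_mul_add_le hy0
    rw [hb.2] at h5
    omega
  exact CASE2_notCC hk2 hk3 hG hmin ⟨hq, le_antisymm hle hge⟩ (sub_ne_zero.mpr hne) hPr

end mod

end Cfsg.Agent.QPP

end
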