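import Mathlib
import Cfsg.Agent.Helper25.QPDefs2
import Cfsg.Agent.Helper25.QPAct
import Cfsg.Agent.Helper4.QPROOT
import Cfsg.Agent.Helper23.QPTRANS
import Cfsg.Agent.Helper12.QP74PEEL
import Cfsg.Agent.Helper9.QPCASE2

set_option autoImplicit false
set_option linter.unusedVariables false

/-! Board `qp74pieces`, piece QIN: every quadratic element lies in `G₀ ⊔ C_G(G₀)`. -/

noncomputable section

universe u v

namespace Cfsg.Agent.QP74

open Cfsg Cfsg.Agent.Helper25.QP Cfsg.Agent.Helper25.QuadPair Cfsg.Agent.QPP Polynomial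

variable {k : Type u} [Field k] {M : Type v} [AddCommGroup M] [Module k M]

local notation "GLkM" => LinearMap.GeneralLinearGroup k M

/-- a quadratic element of least commutator rank -/
theorem QIN_aux_min {G : Subgroup GLkM} {σ : GLkM} (hσ : σ ∈ quadraticElements G) :
    ∃ σ₀ : GLkM, σ₀ ∈ minimalQuadraticElements G := by
  classical
  have hne : (commutatorRank '' quadraticElements G).Nonempty := ⟨_, σ, hσ, rfl⟩
  obtain ⟨σ₀, hσ₀, he⟩ := Nat.sInf_mem hne
  refine ⟨σ₀, hσ₀, fun τ hτ => ?_⟩
  rw [he]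
  exact Nat.sInf_le ⟨τ, hτ, rfl⟩

/-- a unit commuting with all the root elements centralizes `G₀` -/
theorem QIN_aux_cent [FiniteDimensional k M] {G : Subgroup GLkM} {d : ℕ} {σ₀ : GLkM}
    (hσ₀ : σ₀ ∈ minimalQuadraticElements G) (hd : commutatorRank σ₀ = d) {a : Module.End k M}
    (hcomm : ∀ b : Module.End k M, Qd G d b → a * b = b * a) {g : GLkM}
    (hg : (g : Module.End k M) = 1 + a) :
    g ∈ Subgroup.centralizer
      ((⨆ A ∈ quadraticRootSubgroups G, A : Subgroup GLkM) : Set GLkM) := by
  have hle : (⨆ A ∈ quadraticRootSubgroups G, A : Subgroup GLkM) ≤ Subgroup.centralizer {g} := by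
    refine iSup₂_le ?_
    rintro A ⟨τ, hτ, rfl⟩
    unfold sameActionSubgroup
    rw [Subgroup.closure_le]
    intro e he
    have he' : e ∈ minimalQuadraticElements G := he.1
    have hq : Qd G d ((e : Module.End k M) - 1) := by
      have := (TRANS_Qd he').2
      rwa [TRANS_rank he' hσ₀, hd] at this
    have hc := hcomm _ hq
    rw [SetLike.mem_coe, Subgroup.mem_centralizer_iff]
    intro x hx
    rw [Set.mem_singleton_iff] at hx
    subst hx
    apply Units.ext
    rw [Units.val_mul, Units.val_mul, hg]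
    have e1 : (e : Module.End k M) = 1 + ((e : Module.End k M) - 1) := by abel
    rw [e1]
    generalize (e : Module.End k M) - 1 = y at hc
    calc (1 + a) * (1 + y) = 1 + y + a + a * y := by noncomm_ring
      _ = 1 + y + a + y * a := by rw [hc]
      _ = (1 + y) * (1 + a) := by noncomm_ring
  rw [Subgroup.mem_centralizer_iff]
  intro x hx
  have := hle hx
  rw [Subgroup.mem_centralizer_iff] at this
  exact (this g rfl).symm

theorem QIN [FiniteDimensional k M] (hk2 : ringChar k ≠ 2) (hk3 : Nat.card k ≠ 3)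
    {G : Subgroup GLkM} (hG : IsQuadraticPair G) {σ : GLkM} (hσ : σ ∈ quadraticElements G) :
    σ ∈ (⨆ A ∈ quadraticRootSubgroups G, A) ⊔
      (G ⊓ Subgroup.centralizer ((⨆ A ∈ quadraticRootSubgroups G, A : Subgroup GLkM) : Set GLkM)) := by
  obtain ⟨σ₀, hσ₀⟩ := QIN_aux_min hσ
  obtain ⟨hmin, hq₀⟩ := TRANS_Qd hσ₀
  set d := commutatorRank σ₀ with hd
  have hdpos : 0 < d := by
    rw [hd]
    unfold commutatorRank
    rw [Module.finrank_pos_iff_exists_ne_zero]
    have h0 : ((σ₀ : M →ₗ[k] M) - 1) ≠ 0 := hσ₀.1.2.1.2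
    obtain ⟨m, hm⟩ : ∃ m, ((σ₀ : M →ₗ[k] M) - 1) m ≠ 0 := by
      by_contra hcon
      push Not at hcon
      exact h0 (LinearMap.ext hcon)
    exact ⟨⟨_, ⟨m, rfl⟩⟩, fun h => hm (congrArg Subtype.val h)⟩
  set G₀ : Subgroup GLkM := ⨆ A ∈ quadraticRootSubgroups G, A with hG₀
  -- the main claim, by strong induction on the rank
  have main : ∀ n : ℕ, ∀ a : Module.End k M, QFam G a → Module.finrank k (LinearMap.range a) = n →
      ∀ g : GLkM, (g : Module.End k M) = 1 + a →
        g ∈ G₀ ⊔ (G ⊓ Subgroup.centralizer (G₀ : Set GLkM)) := by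
    intro n
    induction n using Nat.strong_induction_on with
    | _ n ih =>
      intro a ha hn g hg
      have hgG : g ∈ G := by
        apply InG.mem
        rw [hg]
        simpa using ha.2 1
      by_cases hcase : ∀ b : Module.End k M, Qd G d b → IsNilpotent (a * b)
      · -- Case 2
        have hcomm := CASE2 hk2 hk3 hG.1 hmin ha hcase
        exact Subgroup.mem_sup_right ⟨hgG, QIN_aux_cent hσ₀ hd.symm hcomm hg⟩
      · -- PEEL
        push Not at hcase
        obtain ⟨b, hb, hnil⟩ := hcase
        obtain ⟨a₁, a₀, hsum, h10, h01, hq1, hq0, hrank⟩ := PEEL hk2 hk3 hmin ha hb hnil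
        have hlt : Module.finrank k (LinearMap.range a₀) < n := by omega
        have hg₀ := ih _ hlt a₀ hq0 rfl (unipUnit a₀ hq0.1) (val_unipUnit a₀ hq0.1)
        -- the root element `1 + a₁`
        have ha₁0 : a₁ ≠ 0 := by
          rintro rfl
          have := hq1.2
          rw [LinearMap.range_zero, finrank_bot] at this
          omega
        have hQ₁ : unipUnit a₁ hq1.1.1 ∈ quadraticElements G :=
          QFam.mem_quadraticElements hq1.1 ha₁0
        have hval : ((unipUnit a₁ hq1.1.1 : GLkM) : Module.End k M) - 1 = a₁ := by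
          rw [val_unipUnit]; abel
        have hval' : (((unipUnit a₁ hq1.1.1 : GLkM) : M →ₗ[k] M) - 1) = a₁ := hval
        have hrk₁ : commutatorRank (unipUnit a₁ hq1.1.1 : GLkM) = d := by
          unfold commutatorRank
          rw [hval']; exact hq1.2
        have hmin₁ : unipUnit a₁ hq1.1.1 ∈ minimalQuadraticElements G := by
          refine ⟨hQ₁, fun ρ hρ => ?_⟩
          rw [hrk₁]
          exact hσ₀.2 ρ hρ
        have hg₁ : unipUnit a₁ hq1.1.1 ∈ G₀ := by
          have h1 := (ROOT_self hmin₁).1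
          exact Subgroup.mem_iSup_of_mem (sameActionSubgroup G (unipUnit a₁ hq1.1.1))
            (Subgroup.mem_iSup_of_mem ⟨_, hmin₁, rfl⟩ h1)
        have hprod : g = unipUnit a₁ hq1.1.1 * unipUnit a₀ hq0.1 := by
          apply Units.ext
          rw [Units.val_mul, val_unipUnit, val_unipUnit, hg, hsum, mul_add, add_mul, add_mul, h10]
          simp only [mul_one, one_mul, add_zero]
          abel
        rw [hprod]
        exact Subgroup.mul_mem _ (Subgroup.mem_sup_left hg₁) hg₀
  have hq := QFam.of_mem_quadraticElements hσ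
  exact main _ _ hq rfl σ (by abel)

end Cfsg.Agent.QP74

end
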