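import Mathlib
import Cfsg.Agent.Helper25.QPDefs2
import Cfsg.Agent.Helper25.QPAct
import Cfsg.Agent.Helper14.QPVANU
import Cfsg.Agent.Helper21.QPELT
import Cfsg.Agent.Helper12.QPNONU

set_option autoImplicit false

/-! Quadratic pairs, towards S5074 (PEEL): the torus elements `h_s` of the rank one group
`Hgrp a b` of a non-unipotent pair: `h_s = 1` on `ker a ⊓ ker b`, `= s` on `range a`,
`= s⁻¹` on `range b`. -/

noncomputable section

universe u v

namespace Cfsg.Agent.QPP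

open Cfsg Cfsg.Agent.Helper25.QP Cfsg.Agent.Helper25.QuadPair Polynomial

variable {k : Type u} [Field k] {M : Type v} [AddCommGroup M] [Module k M]

local notation "GLkM" => LinearMap.GeneralLinearGroup k M

/-- the coordinates `((s-1) w, 0, 0, (s⁻¹-1) w)` -/
def TORUS_aux_Q (s : k) (w : k[X]) : Co k := ⟨C (s - 1) * w, 0, 0, C (s⁻¹ - 1) * w⟩

theorem TORUS_aux_det {s : k} (hs : s ≠ 0) (w : k[X]) :
    (1 + Co.matn (TORUS_aux_Q s w)).det - 1
      = (C (2 - s - s⁻¹) * (X * w)) * (X * w - 1) := by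
  have h1 : (C (s - 1) : k[X]) * C (s⁻¹ - 1) = C (2 - s - s⁻¹) := by
    rw [← C_mul]
    congr 1
    field_simp
    ring
  have h2 : (C (s - 1) : k[X]) + C (s⁻¹ - 1) = - C (2 - s - s⁻¹) := by
    rw [← C_add, ← C_neg]
    congr 1
    ring
  simp only [TORUS_aux_Q, Co.matn, Matrix.det_fin_two]
  simp
  have e : (1 + X * (C (s - 1) * w)) * (1 + X * (C (s⁻¹ - 1) * w)) - 1
      = ((C (s - 1) : k[X]) + C (s⁻¹ - 1)) * (X * w)
        + ((C (s - 1) : k[X]) * C (s⁻¹ - 1)) * (X * w) * (X * w) := by ring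
  simp only [map_sub, map_one] at e h1 h2 ⊢
  rw [e, h1, h2]
  ring

/-- the torus elements of `Hgrp` -/
theorem PEEL_TORUS [FiniteDimensional k M] (hk2 : ringChar k ≠ 2) (hk3 : Nat.card k ≠ 3)
    {G : Subgroup GLkM} {d : ℕ} {a b : Module.End k M} (hp : QPair G d a b)
    (hnu : ¬ UnipPair a b) {s : k} (hs : s ≠ 0) :
    ∃ h ∈ Hgrp a b hp.qa.1.1 hp.qb.1.1,
      (∀ m ∈ LinearMap.ker a ⊓ LinearMap.ker b, (h : Module.End k M) m = m) ∧
      (∀ m ∈ LinearMap.range a, (h : Module.End k M) m = s • m) ∧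
      (∀ m ∈ LinearMap.range b, (h : Module.End k M) m = s⁻¹ • m) := by
  have ha : a * a = 0 := hp.qa.1.1
  have hb : b * b = 0 := hp.qb.1.1
  obtain ⟨-, hM0, hM1⟩ := NONU hk2 hk3 hp hnu
  obtain ⟨w, hw⟩ := FIT_invpoly (zz a b)
  have hw1 : X * w - 1 ∈ Van1 a b := hw
  have hdet : (1 + Co.matn (TORUS_aux_Q s w)).det - 1 ∈ Van1 a b := by
    rw [TORUS_aux_det hs]
    exact Ideal.mul_mem_left _ _ hw1
  obtain ⟨h, hh, h0, h1⟩ := ELT hk2 hk3 hp hnu (TORUS_aux_Q s w) hdet
  have hXw : ∀ m ∈ M1 a b, aeval (zz a b) (X * w) m = m := by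
    intro m hm
    have hv : aeval (zz a b) (X * w - 1) m = 0 := hw1 m hm
    rw [map_sub, map_one, LinearMap.sub_apply, Module.End.one_apply, sub_eq_zero] at hv
    exact hv
  have hC : ∀ (c : k) (m : M), m ∈ M1 a b → aeval (zz a b) (X * (C c * w)) m = c • m := by
    intro c m hm
    have : (X : k[X]) * (C c * w) = C c * (X * w) := by ring
    rw [this, map_mul, aeval_C, Module.End.mul_apply, hXw m hm]
    simp [Algebra.algebraMap_eq_smul_one]
  refine ⟨h, hh, ?_, ?_, ?_⟩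
  · intro m hm
    exact h0 m (by rw [hM0]; exact hm)
  · rintro _ ⟨m, rfl⟩
    have hmem : a m ∈ M1 a b := by
      rw [hM1]; exact Submodule.mem_sup_left ⟨m, rfl⟩
    have hk : a (a m) = 0 := by
      have := LinearMap.congr_fun ha m
      simpa using this
    rw [h1 _ hmem, opn_apply_A ha hb _ hk]
    simp only [TORUS_aux_Q, map_zero, LinearMap.zero_apply, add_zero]
    rw [hC _ _ hmem, sub_smul, one_smul]
    abel
  · rintro _ ⟨m, rfl⟩
    have hmem : b m ∈ M1 a b := by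
      rw [hM1]; exact Submodule.mem_sup_right ⟨m, rfl⟩
    have hk : b (b m) = 0 := by
      have := LinearMap.congr_fun hb m
      simpa using this
    rw [h1 _ hmem, opn_apply_B ha hb _ hk]
    simp only [TORUS_aux_Q, map_zero, LinearMap.zero_apply, zero_add]
    rw [hC _ _ hmem, sub_smul, one_smul]
    abel

end Cfsg.Agent.QPP

end
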