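import Mathlib
import Cfsg.Agent.Helper9.NormalFour
import Cfsg.Agent.Helper9.PrimeOrderNormal
import Cfsg.Agent.Helper3.KleinFour
import Cfsg.Agent.Helper10.ThompsonExt
import Cfsg.Agent.Helper9.WeakClosure
import Cfsg.Agent.Helper9.PGroup

/-!
# `2`-rank at least three passes to involution centralizers

For a finite group without subgroups of index two.
-/

set_option autoImplicit false

namespace Cfsg.Agent.Helper9

open Subgroup

universe u

section general

variable {G : Type u} [Group G]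

theorem mem_zpowers_invol {x y : G} (hx2 : x ^ 2 = 1) (hy : y ∈ zpowers x) : y = 1 ∨ y = x := by
  obtain ⟨k, rfl⟩ := mem_zpowers_iff.mp hy
  rw [zpow_eq_zpow_emod' k hx2]
  rcases Int.emod_two_eq_zero_or_one k with h | h
  · left; rw [show (k % ((2 : ℕ) : ℤ)) = 0 from h, zpow_zero]
  · right; rw [show (k % ((2 : ℕ) : ℤ)) = 1 from h, zpow_one]

/-- A four-group centralizing an involution outside it gives an elementary abelian group of
order eight in the centralizer. -/
theorem exists_E8_of_four [Finite G] {x : G} (hx2 : x ^ 2 = 1) (hx1 : x ≠ 1) (F : Subgroup G)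
    (hFC : F ≤ centralizer ({x} : Set G)) (hF4 : Nat.card F = 4) (hF2 : ∀ f ∈ F, f ^ 2 = 1)
    (hxF : x ∉ F) :
    ∃ E : Subgroup G, E ≤ centralizer ({x} : Set G) ∧ Nat.card E = 8 ∧ ∀ e ∈ E, e ^ 2 = 1 := by
  have hcomm : ∀ (f : F) (y : zpowers x), Commute (f : G) (y : G) := by
    intro f y
    have h1 : Commute (f : G) x := mem_centralizer_singleton_iff.mp (hFC f.2)
    obtain ⟨k, hk⟩ := mem_zpowers_iff.mp y.2
    rw [← hk]
    exact h1.zpow_right k
  let ψ : F × zpowers x →* G := MonoidHom.noncommCoprod F.subtype (zpowers x).subtype hcomm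
  have hψ : ∀ q : F × zpowers x, ψ q = (q.1 : G) * (q.2 : G) := fun q => rfl
  have hinj : Function.Injective ψ := by
    rw [injective_iff_map_eq_one]
    rintro ⟨f, y⟩ hfy
    rw [hψ] at hfy
    have h1 : (f : G) = ((y : G))⁻¹ := eq_inv_of_mul_eq_one_left hfy
    have h2 : (f : G) ∈ zpowers x := by rw [h1]; exact (zpowers x).inv_mem y.2
    rcases mem_zpowers_invol hx2 h2 with h3 | h3
    · have hf : f = 1 := Subtype.ext h3
      have hy : y = 1 := by
        apply Subtype.ext
        rw [h3, one_mul] at hfy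
        exact hfy
      rw [hf, hy]; rfl
    · exact absurd (h3 ▸ f.2) hxF
  refine ⟨ψ.range, ?_, ?_, ?_⟩
  · rintro _ ⟨⟨f, y⟩, rfl⟩
    rw [hψ]
    exact (centralizer ({x} : Set G)).mul_mem (hFC f.2)
      (by
        rw [mem_centralizer_singleton_iff]
        obtain ⟨k, hk⟩ := mem_zpowers_iff.mp y.2
        rw [← hk]
        exact ((Commute.refl x).zpow_left k).eq)
  · have hord : orderOf x = 2 := orderOf_eq_prime hx2 hx1
    rw [← Nat.card_congr (MonoidHom.ofInjective hinj).toEquiv, Nat.card_prod, hF4, Nat.card_zpowers,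
      hord]
  · rintro _ ⟨⟨f, y⟩, rfl⟩
    rw [hψ]
    show ((f : G) * (y : G)) ^ 2 = 1
    rw [(hcomm f y).mul_pow]
    have h1 : (f : G) ^ 2 = 1 := hF2 f f.2
    have h2 : (y : G) ^ 2 = 1 := by
      rcases mem_zpowers_invol hx2 y.2 with h | h
      · rw [h, one_pow]
      · rw [h, hx2]
    rw [h1, h2, mul_one]

/-- If an elementary abelian group `E₀` of order eight meets the centralizer of the involution `x`
in a subgroup of order at least four, the centralizer of `x` contains such a group. -/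
theorem exists_E8_of_card_inf [Finite G] {x : G} (hx2 : x ^ 2 = 1) (hx1 : x ≠ 1)
    (E₀ : Subgroup G) (hE8 : Nat.card E₀ = 8) (hE2 : ∀ e ∈ E₀, e ^ 2 = 1)
    (h4 : 4 ≤ Nat.card (E₀ ⊓ centralizer ({x} : Set G) : Subgroup G)) :
    ∃ E : Subgroup G, E ≤ centralizer ({x} : Set G) ∧ Nat.card E = 8 ∧ ∀ e ∈ E, e ^ 2 = 1 := by
  by_cases hle : E₀ ≤ centralizer ({x} : Set G)
  · exact ⟨E₀, hle, hE8, hE2⟩
  have hxE : x ∉ E₀ := by
    intro hxE
    apply hle
    intro e he
    rw [mem_centralizer_singleton_iff]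
    exact (commute_of_sq_eq_one (hE2 e he) (hE2 x hxE) (hE2 _ (E₀.mul_mem he hxE)))
  set F := E₀ ⊓ centralizer ({x} : Set G) with hF
  have hdvd : Nat.card F ∣ 8 := hE8 ▸ Subgroup.card_dvd_of_le (inf_le_left : F ≤ E₀)
  have hle8 : Nat.card F ≤ 8 := Nat.le_of_dvd (by norm_num) hdvd
  have hcases : Nat.card F = 4 ∨ Nat.card F = 8 := by
    interval_cases h : Nat.card F <;> simp_all
  rcases hcases with h | h
  · exact exists_E8_of_four hx2 hx1 F inf_le_right h (fun f hf => hE2 f hf.1)
      (fun hxF => hxE hxF.1)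
  · exfalso
    apply hle
    have : F = E₀ := Subgroup.eq_of_le_of_card_ge inf_le_left (by rw [h, hE8])
    rw [← this]
    exact inf_le_right

/-- An elementary abelian subgroup of order eight of `S` meets a subgroup of index at most two in
a subgroup of order at least four. -/
theorem four_le_card_inf [Finite G] (E₀ S T : Subgroup G) (hES : E₀ ≤ S) (hE8 : Nat.card E₀ = 8)
    (hT : T.relIndex S ≤ 2) : 4 ≤ Nat.card (E₀ ⊓ T : Subgroup G) := by
  have h1 : Nat.card (E₀ ⊓ T : Subgroup G) * (E₀ ⊓ T).relIndex E₀ = Nat.card E₀ := by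
    have := relIndex_mul_relIndex (⊥ : Subgroup G) (E₀ ⊓ T) E₀ bot_le inf_le_left
    rwa [relIndex_bot_left, relIndex_bot_left] at this
  rw [inf_relIndex_left, hE8] at h1
  have hne : T.relIndex S ≠ 0 := by
    unfold relIndex
    exact Subgroup.index_ne_zero_of_finite
  have h2 : T.relIndex E₀ ≤ 2 := (relIndex_le_of_le_right hES hne).trans hT
  nlinarith

end general

/-- The centralizer of a normal four-subgroup of a finite `2`-group has index at most two. -/
theorem centralizer_four_index {P : Type u} [Group P] [Finite P] (hP : IsPGroup 2 P)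
    (U : Subgroup P) [hUn : U.Normal] (hU4 : Nat.card U = 4) (hU2 : ∀ u ∈ U, u ^ 2 = 1) :
    centralizer (U : Set P) = ⊤ ∨ (centralizer (U : Set P)).index = 2 := by
  have : Fact (Nat.Prime 2) := ⟨Nat.prime_two⟩
  obtain ⟨B, hBn, hBU, hBcard⟩ := exists_normal_le_card_eq hP U 1 (by rw [hU4]; norm_num)
  rw [pow_one] at hBcard
  have hBc : (⊤ : Subgroup P) ≤ centralizer (B : Set P) :=
    le_centralizer_of_le_normalizer_of_card_prime B ⊤ hBcard (hP.to_subgroup ⊤)
      (by rw [normalizer_eq_top]; )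
  obtain ⟨z, hzB, hz1⟩ : ∃ z ∈ B, z ≠ 1 := by
    by_contra hcon
    push Not at hcon
    have : B = ⊥ := (eq_bot_iff_forall B).2 hcon
    rw [this, card_bot] at hBcard
    omega
  have hzc : ∀ g : P, Commute g z := fun g => (mem_centralizer_iff.mp (hBc (mem_top g)) z hzB).symm
  obtain ⟨u, huU, huB⟩ : ∃ u ∈ U, u ∉ B := by
    by_contra hcon
    push Not at hcon
    have : U = B := le_antisymm hcon hBU
    rw [this, hBcard] at hU4
    omega
  have hzz : z * z = 1 := by rw [← pow_two]; exact hU2 z (hBU hzB)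
  have huu : u * u = 1 := by rw [← pow_two]; exact hU2 u huU
  have hu1 : u ≠ 1 := fun h => huB (h ▸ B.one_mem)
  have hzu : z ≠ u := fun h => huB (h ▸ hzB)
  have hK : Cfsg.Agent.Helper3.kleinOf z u hzz huu (hzc u).eq.symm = U := by
    apply Subgroup.eq_of_le_of_card_ge (Cfsg.Agent.Helper3.kleinOf_le (hBU hzB) huU)
    rw [Cfsg.Agent.Helper3.card_kleinOf hz1 hu1 hzu, hU4]
  have hmem : ∀ g : P, g ∈ centralizer (U : Set P) ↔ g * u = u * g := by
    intro g
    constructor
    · intro hg
      exact (mem_centralizer_iff.mp hg u huU).symm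
    · intro hg
      rw [mem_centralizer_iff]
      intro h hh
      rw [← hK] at hh
      have hgu : Commute g u := hg
      exact (Cfsg.Agent.Helper3.commute_of_mem_kleinOf (hzc g) hgu hh).eq.symm
  -- conjugates of `u`
  have hconj : ∀ g : P, g * u * g⁻¹ = u ∨ g * u * g⁻¹ = z * u := by
    intro g
    have h1 : g * u * g⁻¹ ∈ U := hUn.conj_mem u huU g
    rw [← hK] at h1
    rcases h1 with h | h | h | h
    · exfalso
      apply hu1
      have : u = g⁻¹ * (g * u * g⁻¹) * g := by group
      rw [this, h]; group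
    · exfalso
      apply hzu
      have : u = g⁻¹ * (g * u * g⁻¹) * g := by group
      rw [this, h, mul_assoc, (hzc g).eq.symm, ← mul_assoc, inv_mul_cancel, one_mul]
    · exact Or.inl h
    · exact Or.inr h
  by_cases htop : centralizer (U : Set P) = ⊤
  · exact Or.inl htop
  right
  obtain ⟨a, ha⟩ : ∃ a : P, a ∉ centralizer (U : Set P) := by
    by_contra hcon
    push Not at hcon
    exact htop (eq_top_iff.mpr fun g _ => hcon g)
  have hnc : ∀ b : P, b ∉ centralizer (U : Set P) → b * u * b⁻¹ = z * u := by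
    intro b hb
    rcases hconj b with h | h
    · exfalso
      apply hb
      rw [hmem]
      calc b * u = b * u * b⁻¹ * b := by group
        _ = u * b := by rw [h]
    · exact h
  rw [index_eq_two_iff]
  refine ⟨a, fun b => ?_⟩
  by_cases hb : b ∈ centralizer (U : Set P)
  · refine Or.inr ⟨hb, fun hba => ha ?_⟩
    have : a = b⁻¹ * (b * a) := by group
    rw [this]
    exact (centralizer (U : Set P)).mul_mem ((centralizer (U : Set P)).inv_mem hb) hba
  · refine Or.inl ⟨?_, hb⟩
    rw [hmem]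
    have h1 := hnc a ha
    have h2 := hnc b hb
    have h3 : b * a * u * (b * a)⁻¹ = u := by
      calc b * a * u * (b * a)⁻¹ = b * (a * u * a⁻¹) * b⁻¹ := by group
        _ = b * (z * u) * b⁻¹ := by rw [h1]
        _ = (b * z) * u * b⁻¹ := by group
        _ = z * (b * u * b⁻¹) := by rw [(hzc b).eq]; group
        _ = z * (z * u) := by rw [h2]
        _ = u := by rw [← mul_assoc, hzz, one_mul]
    calc b * a * u = b * a * u * (b * a)⁻¹ * (b * a) := by group
      _ = u * (b * a) := by rw [h3]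

/-- Transport of an elementary abelian subgroup of order eight in a centralizer along
conjugation. -/
theorem exists_E8_of_conj {G : Type u} [Group G] {x k : G}
    (h : ∃ E : Subgroup G, E ≤ centralizer ({k * x * k⁻¹} : Set G) ∧ Nat.card E = 8 ∧
      ∀ e ∈ E, e ^ 2 = 1) :
    ∃ E : Subgroup G, E ≤ centralizer ({x} : Set G) ∧ Nat.card E = 8 ∧ ∀ e ∈ E, e ^ 2 = 1 := by
  obtain ⟨E, hEC, hE8, hE2⟩ := h
  refine ⟨E.map (MulAut.conj k⁻¹).toMonoidHom, ?_, ?_, ?_⟩
  · rintro _ ⟨e, he, rfl⟩
    have h1 := mem_centralizer_singleton_iff.mp (hEC he)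
    rw [mem_centralizer_singleton_iff]
    simp only [MulEquiv.coe_toMonoidHom, MulAut.conj_apply, inv_inv]
    calc k⁻¹ * e * k * x = k⁻¹ * (e * (k * x * k⁻¹)) * k := by group
      _ = k⁻¹ * ((k * x * k⁻¹) * e) * k := by rw [h1]
      _ = x * (k⁻¹ * e * k) := by group
  · rw [card_map_conj, hE8]
  · rintro _ ⟨e, he, rfl⟩
    rw [← map_pow, hE2 e he, map_one]

/-- If `G` has no subgroup of index two and contains an elementary abelian subgroup of order
eight, so does the centralizer of each involution. -/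
theorem exists_E8_centralizer {G : Type u} [Group G] [Finite G]
    (hno : ∀ H : Subgroup G, H.index ≠ 2)
    (E₀ : Subgroup G) (hE8 : Nat.card E₀ = 8) (hE2 : ∀ e ∈ E₀, e ^ 2 = 1) (x : G)
    (hx : orderOf x = 2) :
    ∃ E : Subgroup G, E ≤ centralizer ({x} : Set G) ∧ Nat.card E = 8 ∧ ∀ e ∈ E, e ^ 2 = 1 := by
  have : Fact (Nat.Prime 2) := ⟨Nat.prime_two⟩
  have hE₀p : IsPGroup 2 E₀ := IsPGroup.of_card (n := 3) (by rw [hE8]; norm_num)
  obtain ⟨S, hES⟩ := hE₀p.exists_le_sylow
  -- a conjugate of `x` in `S`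
  have hxp : IsPGroup 2 (zpowers x) :=
    IsPGroup.of_card (n := 1) (by rw [Nat.card_zpowers, hx, pow_one])
  obtain ⟨h, hh⟩ := exists_le_conj_sylow S (zpowers x) hxp
  obtain ⟨y, hyS, hyx⟩ := hh (mem_zpowers x)
  simp only [MulEquiv.coe_toMonoidHom, MulAut.conj_apply] at hyx
  -- `y = h⁻¹ x h`
  have hy_eq : y = h⁻¹ * x * h⁻¹⁻¹ := by rw [← hyx]; group
  -- it suffices to treat a conjugate
  suffices hsuff : ∃ k : G, ∃ E : Subgroup G, E ≤ centralizer ({k * x * k⁻¹} : Set G) ∧
      Nat.card E = 8 ∧ ∀ e ∈ E, e ^ 2 = 1 by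
    obtain ⟨k, hk⟩ := hsuff
    exact exists_E8_of_conj hk
  have hy2 : orderOf y = 2 := by
    rw [hy_eq, ← hx]
    exact MulEquiv.orderOf_eq (MulAut.conj h⁻¹) x
  -- the normal four-subgroup
  have hSp : IsPGroup 2 ↥(S : Subgroup G) := S.2
  have hE₁8 : Nat.card (E₀.subgroupOf (S : Subgroup G)) = 8 := by
    rw [Nat.card_congr (Subgroup.subgroupOfEquivOfLe hES).toEquiv, hE8]
  have hE₁2 : ∀ e ∈ E₀.subgroupOf (S : Subgroup G), e ^ 2 = 1 := by
    intro e he
    apply Subtype.ext
    simpa using hE2 (e : G) (mem_subgroupOf.mp he)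
  obtain ⟨U, hUn, hU4, hU2⟩ := exists_normal_four hSp _ hE₁8 hE₁2
  have hidx := centralizer_four_index hSp U hU4 hU2
  set H : Subgroup ↥(S : Subgroup G) := centralizer (U : Set ↥(S : Subgroup G)) with hH
  set T : Subgroup G := H.map (S : Subgroup G).subtype with hT
  have hTS : T ≤ (S : Subgroup G) := map_subtype_le _
  have hTH : T.subgroupOf (S : Subgroup G) = H :=
    comap_map_eq_self_of_injective (S : Subgroup G).subtype_injective H
  have hHidx : H.index = 1 ∨ H.index = 2 := by
    rcases hidx with h1 | h1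
    · left; rw [h1, index_top]
    · right; exact h1
  have hTn : (T.subgroupOf (S : Subgroup G)).Normal := by
    rw [hTH]; infer_instance
  have hcardQ : Nat.card (↥(S : Subgroup G) ⧸ T.subgroupOf (S : Subgroup G)) = 1 ∨
      Nat.card (↥(S : Subgroup G) ⧸ T.subgroupOf (S : Subgroup G)) = 2 := by
    rw [← Subgroup.index_eq_card, hTH]
    exact hHidx
  have hcyc : IsCyclic (↥(S : Subgroup G) ⧸ T.subgroupOf (S : Subgroup G)) := by
    rcases hcardQ with h1 | h1
    · have : Subsingleton (↥(S : Subgroup G) ⧸ T.subgroupOf (S : Subgroup G)) :=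
        (Nat.card_eq_one_iff_unique.mp h1).1
      exact isCyclic_of_subsingleton
    · exact isCyclic_of_prime_card h1
  have htriv : ∀ f : G →* (↥(S : Subgroup G) ⧸ T.subgroupOf (S : Subgroup G)), ∀ g : G,
      f g = 1 := by
    intro f g
    have h1 : f.ker.index = Nat.card f.range := index_ker f
    have h2 : Nat.card f.range ∣
        Nat.card (↥(S : Subgroup G) ⧸ T.subgroupOf (S : Subgroup G)) :=
      Subgroup.card_subgroup_dvd_card f.range
    have h3 : f.ker.index ≠ 2 := hno f.ker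
    have h4 : f.ker.index = 1 := by
      rw [h1] at h3 ⊢
      rcases hcardQ with hq | hq
      · rw [hq] at h2; exact Nat.dvd_one.mp h2
      · rw [hq] at h2
        rcases (Nat.dvd_prime Nat.prime_two).mp h2 with h5 | h5
        · exact h5
        · exact absurd h5 h3
    have h5 : f.ker = ⊤ := index_eq_one.mp h4
    have : g ∈ f.ker := h5 ▸ mem_top g
    exact MonoidHom.mem_ker.mp this
  -- an involution `w ∈ T` conjugate to `x`
  obtain ⟨k, hkT⟩ : ∃ k : G, k * x * k⁻¹ ∈ T := by
    by_cases hyT : y ∈ T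
    · exact ⟨h⁻¹, by rw [← hy_eq]; exact hyT⟩
    · obtain ⟨g, hg, -⟩ := Cfsg.Agent.Helper10.thompson_extremal_exists S T hTS hcyc htriv y hy2
        hyS hyT
      refine ⟨g * h⁻¹, ?_⟩
      have : g * h⁻¹ * x * (g * h⁻¹)⁻¹ = g * y * g⁻¹ := by rw [hy_eq]; group
      rw [this]
      exact hg
  refine ⟨k, ?_⟩
  set w := k * x * k⁻¹ with hw
  have hwo : orderOf w = 2 := by rw [hw, ← hx]; exact MulEquiv.orderOf_eq (MulAut.conj k) x
  have hw2 : w ^ 2 = 1 := by rw [← hwo]; exact pow_orderOf_eq_one w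
  have hw1 : w ≠ 1 := by
    intro h1
    rw [h1, orderOf_one] at hwo
    omega
  -- the four-group in `G`
  set U' : Subgroup G := U.map (S : Subgroup G).subtype with hU'
  have hU'4 : Nat.card U' = 4 := by
    rw [← hU4]
    exact Nat.card_congr (U.equivMapOfInjective _ (S : Subgroup G).subtype_injective).symm.toEquiv
  have hU'2 : ∀ u ∈ U', u ^ 2 = 1 := by
    rintro _ ⟨u, hu, rfl⟩
    rw [← map_pow, hU2 u hu, map_one]
  -- elements of `T` centralize `U'`
  have hTU : ∀ t ∈ T, ∀ u ∈ U', u * t = t * u := by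
    rintro _ ⟨t, ht, rfl⟩ _ ⟨u, hu, rfl⟩
    have := mem_centralizer_iff.mp ht u hu
    exact congrArg Subtype.val this
  by_cases hwU : w ∈ U'
  · -- `T ≤ C(w)`
    have hTC : T ≤ centralizer ({w} : Set G) := by
      intro t ht
      rw [mem_centralizer_singleton_iff]
      exact (hTU t ht w hwU).symm
    have hrel : T.relIndex (S : Subgroup G) ≤ 2 := by
      unfold relIndex
      rw [hTH]
      rcases hHidx with h1 | h1 <;> omega
    have h4 := four_le_card_inf E₀ (S : Subgroup G) T hES hE8 hrel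
    have h4' : 4 ≤ Nat.card (E₀ ⊓ centralizer ({w} : Set G) : Subgroup G) :=
      h4.trans (Subgroup.card_le_of_le (inf_le_inf le_rfl hTC))
    exact exists_E8_of_card_inf hw2 hw1 E₀ hE8 hE2 h4'
  · refine exists_E8_of_four hw2 hw1 U' ?_ hU'4 hU'2 hwU
    intro u hu
    rw [mem_centralizer_singleton_iff]
    exact hTU w hkT u hu

end Cfsg.Agent.Helper9
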