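import Mathlib
import Cfsg.Agent.Helper5.S0518Defs

set_option autoImplicit false

/-! # S0518 board, piece HTRANS: transport of the conclusion `GConcl H` to subgroups of the subtype `↥H` -/

universe u

namespace Cfsg.Agent.S0518P

open Cfsg Subgroup

variable {G : Type u} [Group G]

/-- a 2-local of `H` inside `G` is a 2-local of the group `↥H` -/
theorem HTRANS_aux_isTwoLocal {H M : Subgroup G} (h : IsTwoLocalIn H M) : IsTwoLocal (M.subgroupOf H) := by
  obtain ⟨X, hXH, hX2, hXne, rfl⟩ := h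
  refine ⟨X.subgroupOf H, hX2.comap_subtype, ?_, ?_⟩
  · intro hbot
    apply hXne
    rw [eq_bot_iff]
    intro x hx
    have : (⟨x, hXH hx⟩ : ↥H) ∈ X.subgroupOf H := hx
    rw [hbot, Subgroup.mem_bot] at this
    rw [Subgroup.mem_bot]
    exact congrArg Subtype.val this
  · rw [Subgroup.inf_subgroupOf_right, Subgroup.subgroupOf_normalizer_eq hXH]

/-- a 2-local of the group `↥H` is a 2-local of `H` inside `G` -/
theorem HTRANS_aux_isTwoLocalIn {H : Subgroup G} {N' : Subgroup ↥H} (h : IsTwoLocal N') :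
    ∃ N : Subgroup G, IsTwoLocalIn H N ∧ N.subgroupOf H = N' := by
  obtain ⟨T', hT2, hTne, rfl⟩ := h
  have hle : T'.map H.subtype ≤ H := by
    rintro _ ⟨a, -, rfl⟩
    exact a.2
  have hsub : (T'.map H.subtype).subgroupOf H = T' := by
    ext a
    rw [Subgroup.mem_subgroupOf]
    constructor
    · rintro ⟨b, hb, hba⟩
      have : b = a := Subtype.ext hba
      rw [← this]
      exact hb
    · intro ha
      exact ⟨a, ha, rfl⟩
  refine ⟨normalizer ((T'.map H.subtype : Subgroup G) : Set G) ⊓ H,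
    ⟨T'.map H.subtype, hle, hT2.map _, ?_, rfl⟩, ?_⟩
  · intro hbot
    apply hTne
    rw [eq_bot_iff]
    intro a ha
    have : (a : G) ∈ T'.map H.subtype := ⟨a, ha, rfl⟩
    rw [hbot, Subgroup.mem_bot] at this
    rw [Subgroup.mem_bot]
    exact Subtype.ext this
  · rw [Subgroup.inf_subgroupOf_right, Subgroup.subgroupOf_normalizer_eq hle, hsub]

theorem HTRANS_aux_le {H M : Subgroup G} (h : IsTwoLocalIn H M) : M ≤ H := by
  obtain ⟨X, -, -, -, rfl⟩ := h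
  exact inf_le_right

theorem HTRANS_aux_subgroupOf_le {H A B : Subgroup G} (hA : A ≤ H) (h : A.subgroupOf H ≤ B.subgroupOf H) :
    A ≤ B := by
  intro x hx
  have : (⟨x, hA hx⟩ : ↥H) ∈ A.subgroupOf H := hx
  exact h this

theorem HTRANS_aux_isMaximal {H M : Subgroup G} (h : IsMaxTwoLocalIn H M) :
    IsMaximalTwoLocal (M.subgroupOf H) := by
  refine ⟨HTRANS_aux_isTwoLocal h.1, ?_⟩
  intro N' hN' hle
  obtain ⟨N, hN, rfl⟩ := HTRANS_aux_isTwoLocalIn hN'
  have hMN : M ≤ N := HTRANS_aux_subgroupOf_le (HTRANS_aux_le h.1) hle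
  rw [h.2 N hN hMN]

/-- the conclusion for subgroups of `↥H` -/
theorem HTRANS (H : Subgroup G) (h : GConcl H) :
    ∃ M₁ M₂ : Subgroup ↥H, M₁ ≠ M₂ ∧ IsMaximalTwoLocal M₁ ∧ IsMaximalTwoLocal M₂ ∧
      Nonempty (↥M₁ ≃* Equiv.Perm (Fin 4)) ∧ Nonempty (↥M₂ ≃* Equiv.Perm (Fin 4)) ∧
      Nat.card ↥(M₁ ⊓ M₂) = 8 := by
  obtain ⟨M₁, M₂, hne, h1, h2, ⟨e1⟩, ⟨e2⟩, hcard⟩ := h
  have hM₁ : M₁ ≤ H := HTRANS_aux_le h1.1
  have hM₂ : M₂ ≤ H := HTRANS_aux_le h2.1
  refine ⟨M₁.subgroupOf H, M₂.subgroupOf H, ?_, HTRANS_aux_isMaximal h1, HTRANS_aux_isMaximal h2,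
    ⟨(Subgroup.subgroupOfEquivOfLe hM₁).trans e1⟩, ⟨(Subgroup.subgroupOfEquivOfLe hM₂).trans e2⟩, ?_⟩
  · intro heq
    apply hne
    exact le_antisymm (HTRANS_aux_subgroupOf_le hM₁ heq.le) (HTRANS_aux_subgroupOf_le hM₂ heq.ge)
  · have hinf : M₁.subgroupOf H ⊓ M₂.subgroupOf H = (M₁ ⊓ M₂).subgroupOf H := by
      ext a
      simp only [Subgroup.mem_inf, Subgroup.mem_subgroupOf]
    rw [hinf, Nat.card_congr (Subgroup.subgroupOfEquivOfLe (inf_le_left.trans hM₁)).toEquiv]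
    exact hcard

end Cfsg.Agent.S0518P
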