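import Cfsg.Agent.Helper27.S0745Defs

/-!
# S0745 board row COUNTA (helper9): core = double count of (involution, 2-flag) pairs
The three inputs (PUREA, FLAGS2, NFIXSWAP) enter as hypotheses stated in the exact form of the
board stubs; the official `countA` is a one-line wrapper.
-/

set_option autoImplicit false

namespace Cfsg.Agent.S0745P

open Equiv

variable {α : Type*} [Fintype α] [DecidableEq α]

open Classical in
/-- COUNTA, core. -/
theorem countA_aux_core {G : Subgroup (Perm α)} {t r : ℕ} (N : ℕ)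
    (hPA : ∀ u : Perm α, u ^ 2 = 1 →
      (Finset.univ.filter fun τ : Finset α × α × α =>
        τ.1.card = t ∧ τ.2.1 ∈ τ.1 ∧ τ.2.2 ∈ τ.1 ∧ τ.2.1 ≠ τ.2.2 ∧ u τ.2.1 = τ.2.2 ∧
          ∀ x ∈ τ.1, x ≠ τ.2.1 → x ≠ τ.2.2 → u x = x).card
        = (Fintype.card α - nfix u) * (nfix u).choose (t - 2))
    (hF2 : (Finset.univ.filter fun τ : Finset α × α × α =>
        τ.1.card = t ∧ τ.2.1 ∈ τ.1 ∧ τ.2.2 ∈ τ.1 ∧ τ.2.1 ≠ τ.2.2).card
        = (Fintype.card α).choose t * (t * (t - 1)))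
    (hNF : ∀ (Γ : Finset α), Γ.card = t → ∀ a b : α, a ∈ Γ → b ∈ Γ → a ≠ b →
      ∀ u : Perm α, u ∈ swapLifts G Γ a b → nfix u = t - 2 + r % 2)
    (hN : ∀ (Γ : Finset α) (a b : α), Γ.card = t → a ∈ Γ → b ∈ Γ → a ≠ b →
      (swapLifts G Γ a b).card = N) :
    (invF G (t - 2 + r % 2)).card *
        ((Fintype.card α - (t - 2 + r % 2)) * (t - 2 + r % 2).choose (t - 2))
      = (Fintype.card α).choose t * (t * (t - 1)) * N := by
  set f₀ := t - 2 + r % 2 with hf₀
  -- the incidence relation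
  let R : Perm α → Finset α × α × α → Prop := fun u τ =>
    τ.1.card = t ∧ τ.2.1 ∈ τ.1 ∧ τ.2.2 ∈ τ.1 ∧ τ.2.1 ≠ τ.2.2 ∧ u τ.2.1 = τ.2.2 ∧
      ∀ x ∈ τ.1, x ≠ τ.2.1 → x ≠ τ.2.2 → u x = x
  have hdc := Finset.sum_card_bipartiteAbove_eq_sum_card_bipartiteBelow (s := invF G f₀)
    (t := (Finset.univ : Finset (Finset α × α × α))) R
  -- left side
  have hL : ∀ u ∈ invF G f₀, ((Finset.univ : Finset (Finset α × α × α)).bipartiteAbove R u).card
      = (Fintype.card α - f₀) * f₀.choose (t - 2) := by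
    intro u hu
    rw [mem_invF] at hu
    obtain ⟨-, hu2, -, hnf⟩ := hu
    have := hPA u hu2
    rw [hnf] at this
    exact this
  rw [Finset.sum_congr rfl hL, Finset.sum_const, smul_eq_mul] at hdc
  rw [hdc]
  -- right side
  have hRt : ∀ τ ∈ (Finset.univ : Finset (Finset α × α × α)),
      ((invF G f₀).bipartiteBelow R τ).card =
        if (τ.1.card = t ∧ τ.2.1 ∈ τ.1 ∧ τ.2.2 ∈ τ.1 ∧ τ.2.1 ≠ τ.2.2) then N else 0 := by
    rintro ⟨Γ, a, b⟩ -
    split_ifs with hfl
    · obtain ⟨hΓ, ha, hb, hab⟩ := hfl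
      dsimp only at hΓ ha hb hab
      rw [← hN Γ a b hΓ ha hb hab]
      congr 1
      ext u
      rw [Finset.mem_bipartiteBelow, mem_invF, mem_swapLifts]
      constructor
      · rintro ⟨⟨huG, hu2, -, -⟩, -, -, -, -, hua, hfix⟩
        dsimp only at hua hfix
        refine ⟨huG, hu2, hua, ?_, hfix⟩
        have : u (u a) = a := by
          have h2 := congrArg (fun σ : Perm α => σ a) hu2
          simpa [sq, Perm.mul_apply] using h2
        rw [hua] at this
        exact this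
      · intro hu
        have hmem : u ∈ swapLifts G Γ a b := mem_swapLifts.mpr hu
        obtain ⟨huG, hu2, hua, hub, hfix⟩ := hu
        refine ⟨⟨huG, hu2, ?_, hNF Γ hΓ a b ha hb hab u hmem⟩, hΓ, ha, hb, hab, hua, hfix⟩
        rintro rfl
        exact hab (by simpa using hua)
    · rw [Finset.card_eq_zero, Finset.eq_empty_iff_forall_notMem]
      intro u hu
      rw [Finset.mem_bipartiteBelow] at hu
      obtain ⟨-, h1, h2, h3, h4, -⟩ := hu
      exact hfl ⟨h1, h2, h3, h4⟩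
  rw [Finset.sum_congr rfl hRt, ← Finset.sum_filter, Finset.sum_const, smul_eq_mul, hF2]

end Cfsg.Agent.S0745P
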