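import Cfsg.Agent.Helper27.S0745Defs
import Cfsg.Agent.Helper9.S0745COSETLE

/-!
# S0745 board row COUNTB (helper9): core = double count of (involution, 4-flag) pairs
The two inputs PUREB, FLAGS4 enter as hypotheses stated in the exact form of the board stubs
(COSETLE is imported); the official `countB` is a one-line wrapper.
-/

set_option autoImplicit false

namespace Cfsg.Agent.S0745P

open Equiv

variable {α : Type*} [Fintype α] [DecidableEq α]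

omit [Fintype α] [DecidableEq α] in
/-- an involution maps `u a` back to `a` -/
theorem countB_aux_inv {u : Perm α} (hu2 : u ^ 2 = 1) {a b : α} (hua : u a = b) : u b = a := by
  have h2 := congrArg (fun σ : Perm α => σ a) hu2
  have : u (u a) = a := by simpa [sq, Perm.mul_apply] using h2
  rwa [hua] at this

open Classical in
/-- COUNTB, core. -/
theorem countB_aux_core {G : Subgroup (Perm α)} {t c r : ℕ} (h : Hyp G t c r)
    (hPB : ∀ u : Perm α, u ^ 2 = 1 →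
      (Finset.univ.filter fun τ : Finset α × α × α × α × α =>
        τ.1.card = t ∧ τ.2.1 ∈ τ.1 ∧ τ.2.2.1 ∈ τ.1 ∧ τ.2.2.2.1 ∈ τ.1 ∧ τ.2.2.2.2 ∈ τ.1 ∧
          τ.2.1 ≠ τ.2.2.1 ∧ τ.2.1 ≠ τ.2.2.2.1 ∧ τ.2.1 ≠ τ.2.2.2.2 ∧ τ.2.2.1 ≠ τ.2.2.2.1 ∧
          τ.2.2.1 ≠ τ.2.2.2.2 ∧ τ.2.2.2.1 ≠ τ.2.2.2.2 ∧
          u τ.2.1 = τ.2.2.1 ∧ u τ.2.2.2.1 = τ.2.2.2.2 ∧
          ∀ x ∈ τ.1, x ≠ τ.2.1 → x ≠ τ.2.2.1 → x ≠ τ.2.2.2.1 → x ≠ τ.2.2.2.2 → u x = x).card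
        = (Fintype.card α - nfix u) * (Fintype.card α - nfix u - 2) * (nfix u).choose (t - 4))
    (hF4 : (Finset.univ.filter fun τ : Finset α × α × α × α × α =>
        τ.1.card = t ∧ τ.2.1 ∈ τ.1 ∧ τ.2.2.1 ∈ τ.1 ∧ τ.2.2.2.1 ∈ τ.1 ∧ τ.2.2.2.2 ∈ τ.1 ∧
          τ.2.1 ≠ τ.2.2.1 ∧ τ.2.1 ≠ τ.2.2.2.1 ∧ τ.2.1 ≠ τ.2.2.2.2 ∧ τ.2.2.1 ≠ τ.2.2.2.1 ∧
          τ.2.2.1 ≠ τ.2.2.2.2 ∧ τ.2.2.2.1 ≠ τ.2.2.2.2).card
        = (Fintype.card α).choose t * (t * (t - 1) * (t - 2) * (t - 3))) :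
    (invF G (t - 2 + r % 2)).card *
        ((Fintype.card α - (t - 2 + r % 2)) * (Fintype.card α - (t - 2 + r % 2) - 2) *
          (t - 2 + r % 2).choose (t - 4))
      ≤ (Fintype.card α).choose t * (t * (t - 1) * (t - 2) * (t - 3)) * c := by
  set f₀ := t - 2 + r % 2 with hf₀
  -- the incidence relation (kept opaque, so that all decidability instances are the classical one)
  obtain ⟨R, hR⟩ : ∃ R : Perm α → Finset α × α × α × α × α → Prop, ∀ u τ, R u τ ↔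
      (τ.1.card = t ∧ τ.2.1 ∈ τ.1 ∧ τ.2.2.1 ∈ τ.1 ∧ τ.2.2.2.1 ∈ τ.1 ∧ τ.2.2.2.2 ∈ τ.1 ∧
      τ.2.1 ≠ τ.2.2.1 ∧ τ.2.1 ≠ τ.2.2.2.1 ∧ τ.2.1 ≠ τ.2.2.2.2 ∧ τ.2.2.1 ≠ τ.2.2.2.1 ∧
      τ.2.2.1 ≠ τ.2.2.2.2 ∧ τ.2.2.2.1 ≠ τ.2.2.2.2 ∧
      u τ.2.1 = τ.2.2.1 ∧ u τ.2.2.2.1 = τ.2.2.2.2 ∧
      ∀ x ∈ τ.1, x ≠ τ.2.1 → x ≠ τ.2.2.1 → x ≠ τ.2.2.2.1 → x ≠ τ.2.2.2.2 → u x = x) :=
    ⟨_, fun _ _ => Iff.rfl⟩
  have hdc := Finset.sum_card_bipartiteAbove_eq_sum_card_bipartiteBelow (s := invF G f₀)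
    (t := (Finset.univ : Finset (Finset α × α × α × α × α))) R
  -- left side
  have hL : ∀ u ∈ invF G f₀,
      ((Finset.univ : Finset (Finset α × α × α × α × α)).bipartiteAbove R u).card
      = (Fintype.card α - f₀) * (Fintype.card α - f₀ - 2) * f₀.choose (t - 4) := by
    intro u hu
    rw [mem_invF] at hu
    obtain ⟨-, hu2, -, hnf⟩ := hu
    have := hPB u hu2
    rw [hnf] at this
    rw [← this]
    congr 1
    ext τ
    rw [Finset.mem_bipartiteAbove, Finset.mem_filter, hR]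
  rw [Finset.sum_congr rfl hL, Finset.sum_const, smul_eq_mul] at hdc
  rw [hdc]
  -- right side
  have hRt : ∀ τ ∈ (Finset.univ : Finset (Finset α × α × α × α × α)),
      ((invF G f₀).bipartiteBelow R τ).card ≤
        if (τ.1.card = t ∧ τ.2.1 ∈ τ.1 ∧ τ.2.2.1 ∈ τ.1 ∧ τ.2.2.2.1 ∈ τ.1 ∧ τ.2.2.2.2 ∈ τ.1 ∧
          τ.2.1 ≠ τ.2.2.1 ∧ τ.2.1 ≠ τ.2.2.2.1 ∧ τ.2.1 ≠ τ.2.2.2.2 ∧ τ.2.2.1 ≠ τ.2.2.2.1 ∧
          τ.2.2.1 ≠ τ.2.2.2.2 ∧ τ.2.2.2.1 ≠ τ.2.2.2.2) then c else 0 := by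
    rintro ⟨Γ, a, b, d, e⟩ -
    split_ifs with hfl
    · obtain ⟨hΓ, ha, hb, hd, he, hab, had, hae, hbd, hbe, hde⟩ := hfl
      dsimp only at hΓ ha hb hd he hab had hae hbd hbe hde
      -- all candidates agree on `Γ` with the map `φ`
      let φ : α → α := fun x =>
        if x = a then b else if x = b then a else if x = d then e else if x = e then d else x
      refine le_trans (Finset.card_le_card ?_) (card_agree_le h Γ hΓ φ)
      intro u hu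
      rw [Finset.mem_bipartiteBelow, mem_invF, hR] at hu
      obtain ⟨⟨huG, hu2, -, -⟩, -, -, -, -, -, -, -, -, -, -, -, hua, hud, hfix⟩ := hu
      dsimp only at hua hud hfix
      rw [Finset.mem_filter]
      refine ⟨Finset.mem_univ _, huG, fun x hx => ?_⟩
      show u x = φ x
      by_cases hxa : x = a
      · subst hxa
        simp only [φ, if_true]
        exact hua
      by_cases hxb : x = b
      · subst hxb
        simp only [φ, if_neg hxa, if_true]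
        exact countB_aux_inv hu2 hua
      by_cases hxd : x = d
      · subst hxd
        simp only [φ, if_neg hxa, if_neg hxb, if_true]
        exact hud
      by_cases hxe : x = e
      · subst hxe
        simp only [φ, if_neg hxa, if_neg hxb, if_neg hxd, if_true]
        exact countB_aux_inv hu2 hud
      · simp only [φ, if_neg hxa, if_neg hxb, if_neg hxd, if_neg hxe]
        exact hfix x hx hxa hxb hxd hxe
    · rw [Nat.le_zero, Finset.card_eq_zero, Finset.eq_empty_iff_forall_notMem]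
      intro u hu
      rw [Finset.mem_bipartiteBelow, hR] at hu
      obtain ⟨-, h1, h2, h3, h4, h5, h6, h7, h8, h9, h10, h11, -⟩ := hu
      exact hfl ⟨h1, h2, h3, h4, h5, h6, h7, h8, h9, h10, h11⟩
  refine le_trans (Finset.sum_le_sum hRt) ?_
  rw [← Finset.sum_filter, Finset.sum_const, smul_eq_mul, hF4]

end Cfsg.Agent.S0745P
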