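import Mathlib
import Cfsg.Agent.Helper18.S0747Defs

/-! # S0747, board `s0747pieces`, row B_COUNT (core): a sharply `k`-transitive group of degree `k + 7`, `k = 4, 5`,
is `Good`, given the index bound B_IDX as a hypothesis.  (CASEB was landed by helper27 via another route, so this row
is no longer needed for S0747; kept since it was complete.) -/

set_option autoImplicit false

namespace Cfsg.Agent.S0747P

open MulAction
open scoped Pointwise

universe u

/-- the group induced on `Δ`. -/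
def B_COUNT_aux_ind {α : Type u} [Fintype α] [DecidableEq α] (G : Subgroup (Equiv.Perm α)) (Δ : Finset α) :
    Subgroup (Equiv.Perm ↥Δ) where
  carrier := {σ | ∃ g : ↥G, ∀ x : ↥Δ, g • (x : α) = σ x}
  one_mem' := ⟨1, fun x => by simp⟩
  mul_mem' := by
    rintro σ τ ⟨g, hg⟩ ⟨h, hh⟩
    refine ⟨g * h, fun x => ?_⟩
    rw [mul_smul, hh x, hg (τ x)]
    rfl
  inv_mem' := by
    rintro σ ⟨g, hg⟩
    refine ⟨g⁻¹, fun x => ?_⟩
    rw [inv_smul_eq_iff, hg (σ⁻¹ x)]
    simp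

/-- the setwise stabilizer of a `(k+1)`-set embeds in the induced group. -/
theorem B_COUNT_aux_stab_le {α : Type u} [Fintype α] [DecidableEq α] (G : Subgroup (Equiv.Perm α)) {k : ℕ}
    (hsharp : ∀ x : Fin k ↪ α, stabilizer ↥G x = ⊥) (Δ : Finset α) (hΔ : Δ.card = k + 1) :
    Nat.card ↥(stabilizer ↥G Δ) ≤ Nat.card ↥(B_COUNT_aux_ind G Δ) := by
  classical
  have hmem : ∀ g : ↥(stabilizer ↥G Δ), ∀ x : α, (g : ↥G) • x ∈ Δ ↔ x ∈ Δ := by
    intro g x
    have hg : (g : ↥G) • Δ = Δ := g.2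
    have h0 := Finset.smul_mem_smul_finset_iff (s := Δ) (b := x) (g : ↥G)
    rwa [hg] at h0
  -- an embedding of `Fin k` into `Δ`
  have hne : Nonempty (Fin k ↪ ↥Δ) := by
    rw [Function.Embedding.nonempty_iff_card_le]
    simp [hΔ]
  obtain ⟨e⟩ := hne
  let x : Fin k ↪ α := e.trans (Function.Embedding.subtype _)
  let f : ↥(stabilizer ↥G Δ) → ↥(B_COUNT_aux_ind G Δ) := fun g =>
    ⟨Equiv.Perm.subtypePerm ((g : ↥G) : Equiv.Perm α) (fun y => hmem g y), ⟨(g : ↥G), fun y => rfl⟩⟩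
  refine Nat.card_le_card_of_injective f ?_
  intro g h hgh
  have h1 : ∀ y : ↥Δ, ((g : ↥G) : Equiv.Perm α) y = ((h : ↥G) : Equiv.Perm α) y := by
    intro y
    have := congrArg (fun σ : ↥(B_COUNT_aux_ind G Δ) => ((σ : Equiv.Perm ↥Δ) y : α)) hgh
    exact this
  have h2 : (h : ↥G)⁻¹ * (g : ↥G) ∈ stabilizer ↥G x := by
    rw [mem_stabilizer_iff]
    ext i
    change ((h : ↥G)⁻¹ * (g : ↥G)) • (x i) = x i
    rw [mul_smul, inv_smul_eq_iff]
    exact h1 (e i)
  rw [hsharp, Subgroup.mem_bot, inv_mul_eq_one] at h2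
  exact Subtype.ext h2.symm

/-- order of a sharply `k`-transitive group. -/
theorem B_COUNT_aux_cardG {α : Type u} [Fintype α] [DecidableEq α] (G : Subgroup (Equiv.Perm α)) {k : ℕ}
    (hG : IsMultiplyPretransitive ↥G α k)
    (hsharp : ∀ x : Fin k ↪ α, stabilizer ↥G x = ⊥) (hkn : k ≤ Fintype.card α) :
    Nat.card ↥G = (Fintype.card α).descFactorial k := by
  classical
  have hne : Nonempty (Fin k ↪ α) := by
    rw [Function.Embedding.nonempty_iff_card_le]
    simpa using hkn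
  obtain ⟨x⟩ := hne
  have h1 := Subgroup.card_mul_index (stabilizer ↥G x)
  rw [MulAction.index_stabilizer, hsharp x] at h1
  rw [← h1]
  simp only [Subgroup.card_bot, one_mul]
  refine Eq.trans (congrArg Set.ncard (@MulAction.orbit_eq_univ _ _ _ _ hG x)) ?_
  rw [Set.ncard_univ, Nat.card_eq_fintype_card,
    Fintype.card_embedding_eq, Fintype.card_fin]

/-- every orbit on `(k+1)`-sets is large. -/
theorem B_COUNT_aux_orbit {α : Type u} [Fintype α] [DecidableEq α] (G : Subgroup (Equiv.Perm α)) {k : ℕ}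
    (hsharp : ∀ x : Fin k ↪ α, stabilizer ↥G x = ⊥)
    (hIDX : ∀ Δ : Finset α, 5 ≤ Fintype.card ↥Δ → ∀ H : Subgroup (Equiv.Perm ↥Δ), ¬ alternatingGroup ↥Δ ≤ H →
      Nat.card ↥H * Fintype.card ↥Δ ≤ (Fintype.card ↥Δ).factorial)
    (hk : 4 ≤ k) (hbad : ¬ Good ↥G α k) (Δ : Finset α) (hΔ : Δ.card = k + 1) :
    Nat.card ↥G ≤ (orbit ↥G Δ).ncard * k.factorial ∧ (orbit ↥G Δ).ncard ∣ Nat.card ↥G := by
  classical
  have h1 := Subgroup.card_mul_index (stabilizer ↥G Δ)
  rw [MulAction.index_stabilizer] at h1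
  refine ⟨?_, Dvd.intro_left _ h1⟩
  have h2 := B_COUNT_aux_stab_le G hsharp Δ hΔ
  have h3 : ¬ alternatingGroup ↥Δ ≤ B_COUNT_aux_ind G Δ := by
    intro hle
    exact hbad ⟨Δ, hΔ, fun σ hσ => hle hσ⟩
  have h4 := hIDX Δ (by simp [hΔ]; omega) _ h3
  rw [Fintype.card_coe, hΔ, Nat.factorial_succ, mul_comm] at h4
  have h5 : Nat.card ↥(B_COUNT_aux_ind G Δ) ≤ k.factorial := Nat.le_of_mul_le_mul_left h4 (by omega)
  calc Nat.card ↥G = Nat.card ↥(stabilizer ↥G Δ) * (orbit ↥G Δ).ncard := h1.symm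
    _ ≤ k.factorial * (orbit ↥G Δ).ncard := Nat.mul_le_mul_right _ (h2.trans h5)
    _ = _ := mul_comm _ _

theorem B_COUNT_aux_core {α : Type u} [Fintype α] [DecidableEq α] (G : Subgroup (Equiv.Perm α)) {k : ℕ}
    (hk : k = 4 ∨ k = 5)
    (hn : Fintype.card α = k + 7) (hG : IsMultiplyPretransitive ↥G α k)
    (hsharp : ∀ x : Fin k ↪ α, stabilizer ↥G x = ⊥)
    (hIDX : ∀ Δ : Finset α, 5 ≤ Fintype.card ↥Δ → ∀ H : Subgroup (Equiv.Perm ↥Δ), ¬ alternatingGroup ↥Δ ≤ H →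
      Nat.card ↥H * Fintype.card ↥Δ ≤ (Fintype.card ↥Δ).factorial) : Good ↥G α k := by
  classical
  by_contra hbad
  have hk4 : 4 ≤ k := by omega
  have hcard := B_COUNT_aux_cardG G hG hsharp (by omega)
  rw [hn] at hcard
  have horb := B_COUNT_aux_orbit G hsharp hIDX hk4 hbad
  -- the set of `(k+1)`-sets
  set X : Finset (Finset α) := Finset.powersetCard (k + 1) Finset.univ with hX
  have hXcard : X.card = (k + 7).choose (k + 1) := by
    rw [hX, Finset.card_powersetCard, Finset.card_univ, hn]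
  have hsub : ∀ Δ : Finset α, Δ.card = k + 1 → orbit ↥G Δ ⊆ (X : Set (Finset α)) := by
    rintro Δ hΔ _ ⟨g, rfl⟩
    rw [Finset.mem_coe, hX, Finset.mem_powersetCard_univ]
    change (g • Δ).card = k + 1
    rw [Finset.card_smul_finset, hΔ]
  obtain ⟨Δ₀, hΔ₀⟩ : ∃ Δ₀ : Finset α, Δ₀.card = k + 1 := by
    have : (k + 1) ≤ (Finset.univ : Finset α).card := by rw [Finset.card_univ, hn]; omega
    obtain ⟨t, -, ht⟩ := Finset.exists_subset_card_eq this
    exact ⟨t, ht⟩
  obtain ⟨h0a, h0b⟩ := horb Δ₀ hΔ₀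
  by_cases hall : (X : Set (Finset α)) ⊆ orbit ↥G Δ₀
  · have heq : orbit ↥G Δ₀ = (X : Set (Finset α)) := Set.Subset.antisymm (hsub Δ₀ hΔ₀) hall
    rw [heq, Set.ncard_coe_finset, hXcard, hcard] at h0b
    rcases hk with rfl | rfl
    · revert h0b; decide
    · revert h0b; decide
  · obtain ⟨Δ₁, hΔ₁X, hΔ₁⟩ := Set.not_subset.mp hall
    have hΔ₁c : Δ₁.card = k + 1 := by
      have := hΔ₁X
      rw [Finset.mem_coe, hX, Finset.mem_powersetCard_univ] at this
      exact this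
    obtain ⟨h1a, h1b⟩ := horb Δ₁ hΔ₁c
    have hdisj : Disjoint (orbit ↥G Δ₀) (orbit ↥G Δ₁) := by
      rw [Set.disjoint_left]
      intro Δ h0 h1
      apply hΔ₁
      rw [← MulAction.orbit_eq_iff] at h0 h1
      rw [← h0, h1]
      exact MulAction.mem_orbit_self _
    have hfin : ∀ Δ : Finset α, (orbit ↥G Δ).Finite := fun Δ => Set.toFinite _
    have hun : (orbit ↥G Δ₀ ∪ orbit ↥G Δ₁).ncard ≤ X.card := by
      rw [← Set.ncard_coe_finset]
      exact Set.ncard_le_ncard (Set.union_subset (hsub Δ₀ hΔ₀) (hsub Δ₁ hΔ₁c)) (Finset.finite_toSet _)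
    rw [Set.ncard_union_eq hdisj (hfin _) (hfin _), hXcard] at hun
    rw [hcard] at h0a h1a
    have key : 2 * (k + 7).descFactorial k ≤ (k + 7).choose (k + 1) * k.factorial := by
      calc 2 * (k + 7).descFactorial k ≤ (orbit ↥G Δ₀).ncard * k.factorial + (orbit ↥G Δ₁).ncard * k.factorial := by
            omega
        _ = ((orbit ↥G Δ₀).ncard + (orbit ↥G Δ₁).ncard) * k.factorial := by ring
        _ ≤ _ := Nat.mul_le_mul_right _ hun
    rcases hk with rfl | rfl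
    · revert key; decide
    · revert key; decide

end Cfsg.Agent.S0747P
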