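import Cfsg.Agent.Helper22.S1572Defs
import Cfsg.Agent.Helper22.S1572OCT2
import Cfsg.Agent.Helper25.S1572EVENSUB

/-!
# S1572, piece TRYB: the stabiliser of `v0` in `NN` is transitive on the 2464 vectors of shape
`(±2^8, 0^16)` having inner product `-16` with `v0`.
-/

set_option autoImplicit false

namespace Cfsg.Agent.S1572P

open Cfsg Cfsg.Agent.Helper27 Cfsg.Agent.Helper22.Co0Mono Cfsg.Agent.Helper22.CrossStab
  Cfsg.Agent.Helper22.Co0Center Cfsg.Agent.Helper22.MinTrans Cfsg.Agent.Helper22.Co0Order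
  Cfsg.Agent.Helper22.Census
open scoped Pointwise

namespace TRYB

/-- the normal form of a member of `YB` -/
theorem form {v : ↥leechLattice} (hv : v ∈ YB) :
    ∃ O ∈ octads, pt 0 ∈ O ∧ pt 1 ∈ O ∧ (v : GolayPt → ℤ) (pt 0) = -2 ∧ (v : GolayPt → ℤ) (pt 1) = -2 ∧
      (∀ p ∈ O, (v : GolayPt → ℤ) p = 2 ∨ (v : GolayPt → ℤ) p = -2) ∧
      ∀ p, p ∉ O → (v : GolayPt → ℤ) p = 0 := by
  classical
  obtain ⟨⟨O, hO, hin, hout⟩, hd⟩ := hv
  rw [dot_v0] at hd
  have key : ∀ p, (p ∈ O ∧ ((v : GolayPt → ℤ) p = 2 ∨ (v : GolayPt → ℤ) p = -2)) ∨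
      (p ∉ O ∧ (v : GolayPt → ℤ) p = 0) := by
    intro p
    by_cases hp : p ∈ O
    · exact Or.inl ⟨hp, hin p hp⟩
    · exact Or.inr ⟨hp, hout p hp⟩
  have k0 := key (pt 0)
  have k1 := key (pt 1)
  have h0 : pt 0 ∈ O ∧ (v : GolayPt → ℤ) (pt 0) = -2 := by
    rcases k0 with ⟨h, h' | h'⟩ | ⟨h, h'⟩ <;> rcases k1 with ⟨g, g' | g'⟩ | ⟨g, g'⟩ <;>
      first | exact ⟨h, h'⟩ | (exfalso; omega)
  have h1 : pt 1 ∈ O ∧ (v : GolayPt → ℤ) (pt 1) = -2 := by
    rcases k0 with ⟨h, h' | h'⟩ | ⟨h, h'⟩ <;> rcases k1 with ⟨g, g' | g'⟩ | ⟨g, g'⟩ <;>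
      first | exact ⟨g, g'⟩ | (exfalso; omega)
  exact ⟨O, hO, h0.1, h1.1, h0.2, h1.2, hin, hout⟩

/-- the coordinate sum of a lattice vector with even entries is divisible by 8 -/
theorem sum_of_even {d : GolayPt → ℤ} (hd : d ∈ leechLattice) (p : GolayPt) (hp : 2 ∣ d p) :
    (8 : ℤ) ∣ ∑ i, d i := by
  obtain ⟨m, t, hmt, hsum, -⟩ := (mem_leechLattice_iff d).mp hd
  have hm : 2 ∣ m := by
    have := hmt p
    obtain ⟨c, hc⟩ := hp
    exact ⟨c - t p, by linarith⟩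
  obtain ⟨m', rfl⟩ := hm
  have h2 : (∑ i, d i) ≡ 0 [ZMOD 8] := by
    refine hsum.trans ?_
    rw [Int.modEq_zero_iff_dvd]
    exact ⟨m', by ring⟩
  exact Int.modEq_zero_iff_dvd.mp h2

/-- the number of coordinates `±4` of a lattice vector with all entries in `{0, ±4}` is even -/
theorem even_card {d : GolayPt → ℤ} (hd : d ∈ leechLattice) (S : Finset GolayPt)
    (hS : ∀ p ∈ S, d p = 4 ∨ d p = -4) (hS' : ∀ p, p ∉ S → d p = 0) : Even S.card := by
  classical
  have h8 : (8 : ℤ) ∣ ∑ i, d i := by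
    refine sum_of_even hd (pt 0) ?_
    by_cases h : pt 0 ∈ S
    · rcases hS _ h with h' | h' <;> rw [h'] <;> norm_num
    · rw [hS' _ h]; norm_num
  have hc : ((∑ i, d i : ℤ) : ZMod 8) = 0 := (ZMod.intCast_zmod_eq_zero_iff_dvd _ 8).mpr h8
  have hterm : ∀ i, ((d i : ℤ) : ZMod 8) = if i ∈ S then 4 else 0 := by
    intro i
    by_cases h : i ∈ S
    · rw [if_pos h]
      rcases hS i h with h' | h' <;> rw [h'] <;> decide
    · rw [if_neg h, hS' i h]; rfl
  rw [Int.cast_sum, Finset.sum_congr rfl (fun i _ => hterm i), Finset.sum_ite_mem,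
    Finset.univ_inter, Finset.sum_const, nsmul_eq_mul] at hc
  have h2 : ((4 * S.card : ℕ) : ZMod 8) = 0 := by
    push_cast
    rw [mul_comm]
    exact hc
  rw [ZMod.natCast_eq_zero_iff] at h2
  obtain ⟨c, hc⟩ := h2
  exact ⟨c, by omega⟩

end TRYB

/-- TRYB -/
theorem trans_YB : ∀ v ∈ YB, ∀ w ∈ YB, ∃ g ∈ NN, g • v0 = v0 ∧ g • v = w := by
  classical
  intro v hv w hw
  obtain ⟨O, hO, h0, h1, hv0, hv1, hvin, hvout⟩ := TRYB.form hv
  obtain ⟨O', hO', h0', h1', hw0, hw1, hwin, hwout⟩ := TRYB.form hw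
  obtain ⟨σ, hσ, hσ0, hσ1, hσO⟩ := exists_M24_oct2 hO hO' h0 h1 h0' h1'
  have hs0 : σ.symm (pt 0) = pt 0 := by rw [Equiv.symm_apply_eq, hσ0]
  have hs1 : σ.symm (pt 1) = pt 1 := by rw [Equiv.symm_apply_eq, hσ1]
  have e0 : ∀ q, σ.symm q = pt 0 ↔ q = pt 0 := fun q => by rw [Equiv.symm_apply_eq, hσ0]
  have e1 : ∀ q, σ.symm q = pt 1 ↔ q = pt 1 := fun q => by rw [Equiv.symm_apply_eq, hσ1]
  have hmem : ∀ q, σ.symm q ∈ O ↔ q ∈ O' := by
    intro q
    rw [← hσO, ← Finset.inv_smul_mem_iff]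
    rfl
  have hfix1 : piCo σ hσ • v0 = v0 := by
    apply Subtype.ext
    funext q
    rw [piCo_apply, v0_apply, v0_apply]
    simp only [e0 q, e1 q]
  -- the image `v'` of `v`
  have hv' : ∀ q, ((piCo σ hσ • v : ↥leechLattice) : GolayPt → ℤ) q = (v : GolayPt → ℤ) (σ.symm q) :=
    fun q => piCo_apply σ hσ v q
  set v' : ↥leechLattice := piCo σ hσ • v with hv'def
  have hv'in : ∀ p ∈ O', (v' : GolayPt → ℤ) p = 2 ∨ (v' : GolayPt → ℤ) p = -2 := by
    intro p hp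
    rw [hv']
    exact hvin _ ((hmem p).mpr hp)
  have hv'out : ∀ p, p ∉ O' → (v' : GolayPt → ℤ) p = 0 := by
    intro p hp
    rw [hv']
    exact hvout _ (fun h => hp ((hmem p).mp h))
  have hv'0 : (v' : GolayPt → ℤ) (pt 0) = -2 := by rw [hv', hs0, hv0]
  have hv'1 : (v' : GolayPt → ℤ) (pt 1) = -2 := by rw [hv', hs1, hv1]
  -- the set of sign differences
  set S : Finset GolayPt := O'.filter (fun p => (v' : GolayPt → ℤ) p ≠ (w : GolayPt → ℤ) p) with hSdef
  have hSO : S ⊆ O' := Finset.filter_subset _ _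
  have hS0 : pt 0 ∉ S := by
    rw [hSdef, Finset.mem_filter]
    rintro ⟨-, h⟩
    exact h (by rw [hv'0, hw0])
  have hS1 : pt 1 ∉ S := by
    rw [hSdef, Finset.mem_filter]
    rintro ⟨-, h⟩
    exact h (by rw [hv'1, hw1])
  have hev : Even S.card := by
    refine TRYB.even_card (d := ((v' - w : ↥leechLattice) : GolayPt → ℤ)) (v' - w).2 S ?_ ?_
    · intro p hp
      rw [hSdef, Finset.mem_filter] at hp
      obtain ⟨hpO, hne⟩ := hp
      rw [AddSubgroup.coe_sub, Pi.sub_apply]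
      rcases hv'in p hpO with h | h <;> rcases hwin p hpO with h' | h' <;> rw [h, h'] at hne ⊢ <;>
        first | exact absurd rfl hne | norm_num
    · intro p hp
      rw [AddSubgroup.coe_sub, Pi.sub_apply]
      by_cases hpO : p ∈ O'
      · have : ¬ (v' : GolayPt → ℤ) p ≠ (w : GolayPt → ℤ) p := by
          intro hne
          exact hp (by rw [hSdef, Finset.mem_filter]; exact ⟨hpO, hne⟩)
        push Not at this
        rw [this, sub_self]
      · rw [hv'out p hpO, hwout p hpO, sub_self]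
  obtain ⟨u, hu, huS⟩ := exists_word_inter hO' hSO hev
  have hu0 : pt 0 ∉ support₂ u := fun h => hS0 (by rw [← huS]; exact Finset.mem_inter.mpr ⟨h, h0'⟩)
  have hu1 : pt 1 ∉ support₂ u := fun h => hS1 (by rw [← huS]; exact Finset.mem_inter.mpr ⟨h, h1'⟩)
  have hfix2 : epsCo u hu • v0 = v0 := by
    apply Subtype.ext
    funext q
    rw [epsCo_apply, v0_apply]
    by_cases hq : q = pt 0 ∨ q = pt 1
    · rw [if_pos hq, if_neg]
      rcases hq with rfl | rfl
      · exact hu0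
      · exact hu1
    · rw [if_neg hq]; simp
  refine ⟨epsCo u hu * piCo σ hσ, NN.mul_mem (epsCo_mem_NN u hu) (piCo_mem_NN σ hσ), ?_, ?_⟩
  · rw [mul_smul, hfix1, hfix2]
  · rw [mul_smul]
    apply Subtype.ext
    funext q
    rw [epsCo_apply]
    by_cases hqO : q ∈ O'
    · by_cases hqS : q ∈ S
      · have hqu : q ∈ support₂ u := by
          rw [← huS] at hqS
          exact (Finset.mem_inter.mp hqS).1
        rw [if_pos hqu]
        rw [hSdef, Finset.mem_filter] at hqS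
        obtain ⟨-, hne⟩ := hqS
        rcases hv'in q hqO with h | h <;> rcases hwin q hqO with h' | h' <;> rw [h, h'] at hne ⊢ <;>
          first | exact absurd rfl hne | norm_num
      · have hqu : q ∉ support₂ u := fun h => hqS (by rw [← huS]; exact Finset.mem_inter.mpr ⟨h, hqO⟩)
        rw [if_neg hqu]
        by_contra hne
        exact hqS (by rw [hSdef, Finset.mem_filter]; exact ⟨hqO, hne⟩)
    · rw [hv'out q hqO, hwout q hqO]
      simp

end Cfsg.Agent.S1572P
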