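import Cfsg.Agent.Helper22.S1589Basic

/-! S1589 piece DUADCARD: the stabiliser in `M24` of a duad has order at most 887040. -/

set_option autoImplicit false

namespace Cfsg.Agent.S1589P

open Cfsg Cfsg.Agent.Helper27 Cfsg.Agent.Helper17.M23Idx
open scoped Pointwise

namespace DUADCARD

/-- the pointwise stabiliser in `M24` of two points has order at most 443520 -/
theorem card_fixG_two_le (F : Finset GolayPt) (hF : F.card = 2) : Nat.card (fixG F) ≤ 443520 := by
  have hinv : ∀ g ∈ fixH M24 F, ∀ q ∈ Finset.univ \ F, g q ∈ Finset.univ \ F := by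
    intro g hg q hq
    rw [Finset.mem_sdiff] at hq ⊢
    exact ⟨Finset.mem_univ _, apply_not_mem_of_fixH hg hq.2⟩
  have hc : (Finset.univ \ F).card = 22 := by
    rw [Finset.card_sdiff_of_subset (Finset.subset_univ F), Finset.card_univ, ← Nat.card_eq_fintype_card,
      card_GolayPt, hF]
  obtain ⟨T, hTS, hTc, hTb⟩ := chain_bound M24 3 F (Finset.univ \ F) hinv (by rw [hc]; norm_num)
  have hdisj : Disjoint T F := by
    rw [Finset.disjoint_left]
    intro q hq hqF
    have := hTS hq
    rw [Finset.mem_sdiff] at this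
    exact this.2 hqF
  have h5 : (T ∪ F).card = 5 := by rw [Finset.card_union_of_disjoint hdisj, hTc, hF]
  have h48 : Nat.card (fixH M24 (T ∪ F)) = 48 := card_fixG_five _ h5
  rw [hc, h48] at hTb
  exact hTb

end DUADCARD

/-- DUADCARD -/
theorem card_stab_duad_le {s : Finset GolayPt} (hs : s.card = 2) :
    Nat.card (MulAction.stabilizer Cfsg.M24 s) ≤ 887040 := by
  classical
  rw [← card_stabP_eq]
  set K0 := stabP s with hK0
  obtain ⟨a, b, hab, rfl⟩ := Finset.card_eq_two.mp hs
  have hinv : ∀ g ∈ fixH K0 ∅, ∀ q ∈ ({a, b} : Finset GolayPt), g q ∈ ({a, b} : Finset GolayPt) := by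
    intro g hg q hq
    have hgK : g ∈ K0 := ((mem_fixH K0 _ g).mp hg).1
    have hgs : g • ({a, b} : Finset GolayPt) = {a, b} := ((mem_stabP _ g).mp hgK).2
    rw [← hgs]
    exact (mem_smul_finset_perm g _ q).mpr hq
  have h1 := card_fixH_le K0 ∅ {a, b} a (by simp) hinv
  rw [fixH_empty] at h1
  have hle : fixH K0 (insert a ∅) ≤ fixG {a, b} := by
    intro g hg
    rw [mem_fixH] at hg
    rw [mem_fixG]
    obtain ⟨hgK, hga⟩ := hg
    have hga' : g a = a := hga a (by simp)
    have hgM := ((mem_stabP _ g).mp hgK)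
    refine ⟨hgM.1, ?_⟩
    intro q hq
    rw [Finset.mem_insert, Finset.mem_singleton] at hq
    rcases hq with rfl | rfl
    · exact hga'
    · have hmem : g q ∈ ({a, q} : Finset GolayPt) := by
        have h := hgM.2
        rw [← h]
        exact (mem_smul_finset_perm g _ q).mpr (by simp)
      rw [Finset.mem_insert, Finset.mem_singleton] at hmem
      rcases hmem with h | h
      · exfalso
        apply hab
        apply g.injective
        rw [hga', h]
      · exact h
  have h2 := Subgroup.card_le_of_le hle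
  have h3 := DUADCARD.card_fixG_two_le {a, b} hs
  rw [hs] at h1
  calc Nat.card K0 ≤ 2 * Nat.card (fixH K0 (insert a ∅)) := h1
    _ ≤ 2 * 443520 := Nat.mul_le_mul_left _ (h2.trans h3)
    _ = 887040 := by norm_num

end Cfsg.Agent.S1589P
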