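import Mathlib
import Cfsg.Agent.Helper9.S1851.Defs
import Cfsg.Agent.Helper9.S1851.Lib
import Cfsg.Agent.Helper23.S1851STEPA
import Cfsg.Agent.Helper1.Bender

/-! S1851 piece MODV (helper9): for a perfect subnormal subgroup `X` of `H`,
`X` centralizes `Ω₁(Z(O₂(H)))` iff `X` centralizes `Ω₁(Z(O₂(X)))`. -/

set_option autoImplicit false

namespace Cfsg.Agent.S1851P

open Subgroup Cfsg

namespace MODV

variable {G : Type*} [Group G]

/-- a subgroup of `H` normalized by `H` that contains `X` contains the normal closure of `X` in `H` -/
theorem map_normalClosure_le {H X C : Subgroup G} (hXC : X ≤ C)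
    (hn : H ≤ normalizer (C : Set G)) :
    (normalClosure ((X.subgroupOf H : Subgroup ↥H) : Set ↥H)).map H.subtype ≤ C := by
  have hnorm : (C.subgroupOf H).Normal := by
    constructor
    intro n hn' g
    rw [mem_subgroupOf] at hn' ⊢
    have := (mem_normalizer_iff.1 (hn g.2) (n : G)).1 hn'
    simpa using this
  have h1 : normalClosure ((X.subgroupOf H : Subgroup ↥H) : Set ↥H) ≤ C.subgroupOf H := by
    apply normalClosure_le_normal
    intro x hx
    exact mem_subgroupOf.2 (hXC (mem_subgroupOf.1 hx))
  rintro _ ⟨y, hy, rfl⟩
  exact mem_subgroupOf.1 (h1 hy)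

theorem modV_aux [Finite G] (n : ℕ) : ∀ (H X : Subgroup G), Nat.card H = n → X ≤ H →
    (X.subgroupOf H).IsSubnormal → ⁅X, X⁆ = X →
    (X ≤ centralizer (ZO H : Set G) ↔ X ≤ centralizer (ZO X : Set G)) := by
  induction n using Nat.strong_induction_on with
  | _ n ih =>
    intro H X hn hXH hsn hperf
    by_cases htop : X.subgroupOf H = ⊤
    · have : H ≤ X := subgroupOf_eq_top.1 htop
      have hXeq : X = H := le_antisymm hXH this
      rw [hXeq]
    · obtain ⟨K', hK'n, hXK', hK'lt⟩ := hsn.exists_normal_and_le_and_lt_top_of_ne htop
      set N' : Subgroup ↥H := normalClosure ((X.subgroupOf H : Subgroup ↥H) : Set ↥H) with hN'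
      have hN'K' : N' ≤ K' := normalClosure_le_normal hXK'
      have hN'lt : N' < ⊤ := lt_of_le_of_lt hN'K' hK'lt
      set N : Subgroup G := N'.map H.subtype with hN
      have hNH : N ≤ H := map_subtype_le _
      have hHN : H ≤ normalizer (N : Set G) := Cfsg.Agent.Helper1.Bender.le_normalizer_map N'
      have hXN : X ≤ N := by
        intro x hx
        exact ⟨⟨x, hXH hx⟩, subset_normalClosure (mem_subgroupOf.2 hx), rfl⟩
      have hcard : Nat.card N < n := by
        rw [← hn]
        have h1 : Nat.card N = Nat.card N' :=
          Nat.card_congr (N'.equivMapOfInjective H.subtype H.subtype_injective).symm.toEquiv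
        rw [h1]
        have h2 : Nat.card N' < Nat.card (⊤ : Subgroup ↥H) := by
          exact Set.ncard_lt_ncard (s := (N' : Set ↥H)) (t := ((⊤ : Subgroup ↥H) : Set ↥H))
            hN'lt (Set.toFinite _)
        rwa [Subgroup.card_top] at h2
      -- `N` is perfect
      have hS : ⁅X.subgroupOf H, X.subgroupOf H⁆ = X.subgroupOf H := by
        apply map_injective H.subtype_injective
        rw [map_commutator, subgroupOf_map_subtype, inf_of_le_left hXH, hperf]
      have hN'perf : ⁅N', N'⁆ = N' := by
        apply le_antisymm (commutator_le_left _ _)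
        apply normalClosure_le_normal
        intro x hx
        have hx' : x ∈ ⁅X.subgroupOf H, X.subgroupOf H⁆ := by rw [hS]; exact hx
        exact commutator_mono (le_normalClosure) (le_normalClosure) hx'
      have hNperf : ⁅N, N⁆ = N := by
        rw [hN, ← map_commutator, hN'perf]
      -- `X` is subnormal in `N`
      have hXsnN : (X.subgroupOf N).IsSubnormal := by
        have h := hsn.comap (Subgroup.inclusion hNH)
        have e : (X.subgroupOf H).comap (Subgroup.inclusion hNH) = X.subgroupOf N := by
          ext x
          simp [mem_subgroupOf]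
        rwa [e] at h
      have hIH := ih (Nat.card N) hcard N X rfl hXN hXsnN hperf
      have hstep := STEPA.step_normal H N hNH hHN hNperf
      -- `X ≤ C(ZO H) ↔ N ≤ C(ZO H)`
      have h1 : X ≤ centralizer (ZO H : Set G) ↔ N ≤ centralizer (ZO H : Set G) := by
        constructor
        · intro h
          exact map_normalClosure_le h (LIB.le_normalizer_centralizer_ZO le_normalizer)
        · intro h
          exact hXN.trans h
      have h2 : N ≤ centralizer (ZO N : Set G) ↔ X ≤ centralizer (ZO N : Set G) := by
        constructor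
        · intro h
          exact hXN.trans h
        · intro h
          exact map_normalClosure_le h (LIB.le_normalizer_centralizer_ZO hHN)
      rw [h1, hstep, h2, hIH]

theorem modV_iff [Finite G] (H X : Subgroup G) (hXH : X ≤ H)
    (hsn : (X.subgroupOf H).IsSubnormal) (hperf : ⁅X, X⁆ = X) :
    X ≤ centralizer (ZO H : Set G) ↔ X ≤ centralizer (ZO X : Set G) :=
  modV_aux _ H X rfl hXH hsn hperf

end MODV

end Cfsg.Agent.S1851P
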