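import Mathlib
import Cfsg.Prelude.Def_HallClasses

/-! S2536 stage 2, piece RELPI: the Hall properties only depend on `π` through the primes
dividing the order of the group. -/

set_option autoImplicit false

namespace Cfsg.Agent.S2536P

universe u

section General

variable {G : Type u} [Group G] [Finite G]

/-- RELPI2 -/
theorem isPiSubgroup_congr {π π' : Set ℕ}
    (h : ∀ p : ℕ, p.Prime → p ∣ Nat.card G → (p ∈ π ↔ p ∈ π')) (K : Subgroup G) :
    Cfsg.IsPiSubgroup π K ↔ Cfsg.IsPiSubgroup π' K := by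
  unfold Cfsg.IsPiSubgroup
  constructor
  · intro hK p hp hpK
    exact (h p hp (hpK.trans (Subgroup.card_subgroup_dvd_card K))).mp (hK p hp hpK)
  · intro hK p hp hpK
    exact (h p hp (hpK.trans (Subgroup.card_subgroup_dvd_card K))).mpr (hK p hp hpK)

/-- RELPI1 -/
theorem isPiHall_congr {π π' : Set ℕ}
    (h : ∀ p : ℕ, p.Prime → p ∣ Nat.card G → (p ∈ π ↔ p ∈ π')) (H : Subgroup G) :
    Cfsg.IsPiHall π H ↔ Cfsg.IsPiHall π' H := by
  unfold Cfsg.IsPiHall
  constructor
  · rintro ⟨h1, h2⟩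
    refine ⟨fun p hp hpH => ?_, fun p hp hpπ hpi => ?_⟩
    · exact (h p hp (hpH.trans (Subgroup.card_subgroup_dvd_card H))).mp (h1 p hp hpH)
    · exact h2 p hp ((h p hp (hpi.trans (Subgroup.index_dvd_card H))).mpr hpπ) hpi
  · rintro ⟨h1, h2⟩
    refine ⟨fun p hp hpH => ?_, fun p hp hpπ hpi => ?_⟩
    · exact (h p hp (hpH.trans (Subgroup.card_subgroup_dvd_card H))).mpr (h1 p hp hpH)
    · exact h2 p hp ((h p hp (hpi.trans (Subgroup.index_dvd_card H))).mp hpπ) hpi

/-- `Maximal (IsPiSubgroup π)` only depends on the primes dividing the group order -/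
theorem RELPI.maximal_congr {π π' : Set ℕ}
    (h : ∀ p : ℕ, p.Prime → p ∣ Nat.card G → (p ∈ π ↔ p ∈ π')) (K : Subgroup G) :
    Maximal (Cfsg.IsPiSubgroup π) K ↔ Maximal (Cfsg.IsPiSubgroup π') K := by
  have hfun : (Cfsg.IsPiSubgroup π : Subgroup G → Prop) = Cfsg.IsPiSubgroup π' := by
    funext K
    exact propext (isPiSubgroup_congr h K)
  rw [hfun]

/-- RELPI3 -/
theorem isDPiGroup_congr {π π' : Set ℕ}
    (h : ∀ p : ℕ, p.Prime → p ∣ Nat.card G → (p ∈ π ↔ p ∈ π')) :
    Cfsg.IsDPiGroup π G ↔ Cfsg.IsDPiGroup π' G := by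
  unfold Cfsg.IsDPiGroup
  constructor
  · intro hD H K hH hK
    exact hD H K ((RELPI.maximal_congr h H).mpr hH) ((RELPI.maximal_congr h K).mpr hK)
  · intro hD H K hH hK
    exact hD H K ((RELPI.maximal_congr h H).mp hH) ((RELPI.maximal_congr h K).mp hK)

end General

end Cfsg.Agent.S2536P
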