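import Mathlib
import Cfsg.Agent.Helper5.S2536Defs
import Cfsg.Agent.Helper22.S2536SETSTABCARD

/-! S2536 stage 2, piece W1: a fixed-point-free `π`-subgroup of `A_n` for `n` prime,
`π` = the primes below `n`. -/

set_option autoImplicit false

namespace Cfsg.Agent.S2536P

open Equiv Nat

universe u

namespace W1

theorem swap_mem_setStab {α : Type u} [DecidableEq α] {p : α → Prop} {a b : α} (h : p a ↔ p b) :
    swap a b ∈ setStab p := by
  intro w
  by_cases hwa : w = a
  · subst hwa
    rw [swap_apply_left]
    exact h.symm
  · by_cases hwb : w = b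
    · subst hwb
      rw [swap_apply_right]
      exact h
    · rw [swap_apply_of_ne_of_ne hwa hwb]

theorem card_lt_two {n : ℕ} (hn : 2 ≤ n) : Nat.card {x : Fin n // x.val < 2} = 2 := by
  have e : {x : Fin n // x.val < 2} ≃ Fin 2 :=
    { toFun := fun x => ⟨x.1.val, x.2⟩
      invFun := fun i => ⟨⟨i.val, by omega⟩, i.2⟩
      left_inv := fun x => rfl
      right_inv := fun i => rfl }
  rw [Nat.card_congr e, Nat.card_eq_fintype_card, Fintype.card_fin]

theorem card_not_lt_two {n : ℕ} (hn : 2 ≤ n) : Nat.card {x : Fin n // ¬ x.val < 2} = n - 2 := by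
  have e : {x : Fin n // ¬ x.val < 2} ≃ Fin (n - 2) :=
    { toFun := fun x => ⟨x.1.val - 2, by have := x.1.2; have := x.2; omega⟩
      invFun := fun i => ⟨⟨i.val + 2, by have := i.2; omega⟩, by simp⟩
      left_inv := fun x => by
        apply Subtype.ext
        apply Fin.ext
        have := x.2
        simp only
        omega
      right_inv := fun i => by
        apply Fin.ext
        simp }
  rw [Nat.card_congr e, Nat.card_eq_fintype_card, Fintype.card_fin]

end W1

/-- W1 -/
theorem witness_prime {n : ℕ} {π : Set ℕ} (hn : n.Prime) (h5 : 5 ≤ n)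
    (hπ : ∀ r : ℕ, r.Prime → r ≤ n → (r ∈ π ↔ r < n)) :
    ∃ X : Subgroup (Perm (Fin n)), X ≤ alternatingGroup (Fin n) ∧ PiNum π (Nat.card X) ∧
      ∀ x : Fin n, ∃ g ∈ X, g x ≠ x := by
  classical
  set p : Fin n → Prop := fun x => x.val < 2 with hp
  refine ⟨setStab p ⊓ alternatingGroup (Fin n), inf_le_right, ?_, ?_⟩
  · intro r hr hrd
    have h1 : Nat.card ↥(setStab p ⊓ alternatingGroup (Fin n)) ∣ Nat.card (setStab p) :=
      Subgroup.card_dvd_of_le inf_le_left
    rw [card_setStab, W1.card_lt_two (by omega), W1.card_not_lt_two (by omega)] at h1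
    have h2 : r ∣ 2 ! * (n - 2)! := hrd.trans h1
    have h3 : r ≤ n - 2 := by
      rcases (Nat.Prime.dvd_mul hr).mp h2 with h | h
      · have := (Nat.Prime.dvd_factorial hr).mp h
        omega
      · exact (Nat.Prime.dvd_factorial hr).mp h
    exact (hπ r hr (by omega)).mpr (by omega)
  · intro x
    by_cases hx : x.val < 2
    · -- (0 1)(2 3)
      let a0 : Fin n := ⟨0, by omega⟩
      let a1 : Fin n := ⟨1, by omega⟩
      let a2 : Fin n := ⟨2, by omega⟩
      let a3 : Fin n := ⟨3, by omega⟩
      have h01 : a0 ≠ a1 := by
        intro h; have := congrArg Fin.val h; simp [a0, a1] at this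
      have h23 : a2 ≠ a3 := by
        intro h; have := congrArg Fin.val h; simp [a2, a3] at this
      refine ⟨swap a0 a1 * swap a2 a3, ⟨?_, ?_⟩, ?_⟩
      · apply Subgroup.mul_mem
        · apply W1.swap_mem_setStab
          simp [hp, a0, a1]
        · apply W1.swap_mem_setStab
          simp [hp, a2, a3]
      · show swap a0 a1 * swap a2 a3 ∈ alternatingGroup (Fin n)
        rw [Equiv.Perm.mem_alternatingGroup, map_mul, Equiv.Perm.sign_swap h01,
          Equiv.Perm.sign_swap h23]
        rfl
      · rw [Perm.mul_apply]
        have hx2 : x ≠ a2 := by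
          intro h; rw [h] at hx; simp [a2] at hx
        have hx3 : x ≠ a3 := by
          intro h; rw [h] at hx; simp [a3] at hx
        rw [swap_apply_of_ne_of_ne hx2 hx3]
        have hx01 : x = a0 ∨ x = a1 := by
          rcases Nat.lt_or_ge x.val 1 with h | h
          · left; apply Fin.ext; simp [a0]; omega
          · right; apply Fin.ext; simp [a1]; omega
        rcases hx01 with h | h
        · rw [h, swap_apply_left]; exact h01.symm
        · rw [h, swap_apply_right]; exact h01
    · -- a 3-cycle through x inside {2, ..., n-1}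
      let y : Fin n := if x.val = 2 then ⟨3, by omega⟩ else ⟨2, by omega⟩
      let z : Fin n := if x.val = 2 ∨ x.val = 3 then ⟨4, by omega⟩ else ⟨3, by omega⟩
      have hyv : y.val = if x.val = 2 then 3 else 2 := by
        simp only [y]; split_ifs <;> rfl
      have hzv : z.val = if x.val = 2 ∨ x.val = 3 then 4 else 3 := by
        simp only [z]; split_ifs <;> rfl
      have hxy : x ≠ y := by
        intro h
        have := congrArg Fin.val h
        rw [hyv] at this
        split_ifs at this <;> omega
      have hxz : x ≠ z := by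
        intro h
        have := congrArg Fin.val h
        rw [hzv] at this
        split_ifs at this <;> omega
      have hyz : y ≠ z := by
        intro h
        have := congrArg Fin.val h
        rw [hyv, hzv] at this
        split_ifs at this <;> omega
      have hpy : ¬ p y := by
        simp only [hp, hyv]; split_ifs <;> omega
      have hpz : ¬ p z := by
        simp only [hp, hzv]; split_ifs <;> omega
      have hpx : ¬ p x := hx
      refine ⟨swap x y * swap x z, ⟨?_, ?_⟩, ?_⟩
      · apply Subgroup.mul_mem
        · apply W1.swap_mem_setStab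
          exact ⟨fun h => absurd h hpx, fun h => absurd h hpy⟩
        · apply W1.swap_mem_setStab
          exact ⟨fun h => absurd h hpx, fun h => absurd h hpz⟩
      · show swap x y * swap x z ∈ alternatingGroup (Fin n)
        rw [Equiv.Perm.mem_alternatingGroup, map_mul, Equiv.Perm.sign_swap hxy,
          Equiv.Perm.sign_swap hxz]
        rfl
      · rw [Perm.mul_apply, swap_apply_left, swap_apply_of_ne_of_ne hxz.symm hyz.symm]
        exact hxz.symm

end Cfsg.Agent.S2536P
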