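import Mathlib

/-! S2676 piece CANON: the canonical `(a, K)` of a signed partition. -/

set_option autoImplicit false

namespace Cfsg.Agent.S2676P

namespace CANON

open Finset

variable {F : Type*} [Field F]

/-- index set: pairs `(s, i)` with `i < μ.count s` -/
def idx (μ : Multiset ℕ) : Finset (ℕ × ℕ) :=
  (μ.toFinset ×ˢ Finset.range (Multiset.card μ + 1)).filter (fun x => x.2 < μ.count x.1)

theorem mem_idx {μ : Multiset ℕ} {x : ℕ × ℕ} : x ∈ idx μ ↔ x.2 < μ.count x.1 := by
  unfold idx
  rw [Finset.mem_filter, Finset.mem_product, Multiset.mem_toFinset, Finset.mem_range]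
  constructor
  · exact fun h => h.2
  · intro h
    refine ⟨⟨?_, ?_⟩, h⟩
    · exact Multiset.count_pos.mp (by omega)
    · have := Multiset.count_le_card x.1 μ
      omega

/-- the block entries -/
noncomputable def blk (μ : Multiset ℕ) (ε : ℕ → Prop) (ν : F) (s i i' : ℕ) : F :=
  open Classical in
  if Even s then (if i = i' then (if i = 0 ∧ ¬ ε s then ν else 1) else 0)
  else (if i + i' + 1 = μ.count s then (if i < i' then 1 else -1) else 0)

/-- the matrix -/
noncomputable def Kmat (μ : Multiset ℕ) (ε : ℕ → Prop) (ν : F) :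
    Matrix {x // x ∈ idx μ} {x // x ∈ idx μ} F :=
  fun x x' => if x.1.1 = x'.1.1 then blk μ ε ν x.1.1 x.1.2 x'.1.2 else 0

theorem map_a (μ : Multiset ℕ) :
    Multiset.map (fun x : {x // x ∈ idx μ} => x.1.1) Finset.univ.val = μ := by
  classical
  ext s
  rw [Multiset.count_map]
  have : Multiset.card (Multiset.filter (fun x : {x // x ∈ idx μ} => s = x.1.1) Finset.univ.val)
      = (Finset.univ.filter (fun x : {x // x ∈ idx μ} => s = x.1.1)).card := rfl
  rw [this]
  have h2 : (Finset.univ.filter (fun x : {x // x ∈ idx μ} => s = x.1.1)).card =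
      (Finset.range (μ.count s)).card := by
    apply Finset.card_bij (fun x _ => x.1.2)
    · intro x hx
      rw [Finset.mem_filter] at hx
      rw [Finset.mem_range, hx.2]
      exact mem_idx.mp x.2
    · intro x hx y hy h
      rw [Finset.mem_filter] at hx hy
      apply Subtype.ext
      apply Prod.ext
      · rw [← hx.2, ← hy.2]
      · exact h
    · intro i hi
      rw [Finset.mem_range] at hi
      refine ⟨⟨(s, i), mem_idx.mpr hi⟩, ?_, rfl⟩
      rw [Finset.mem_filter]
      exact ⟨Finset.mem_univ _, rfl⟩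
  rw [h2, Finset.card_range]

theorem blk_symm (μ : Multiset ℕ) (hpar : ∀ s : ℕ, Odd s → Even (μ.count s)) (ε : ℕ → Prop)
    (ν : F) (s i i' : ℕ) : blk μ ε ν s i' i = (-1) ^ s * blk μ ε ν s i i' := by
  classical
  unfold blk
  by_cases hs : Even s
  · rw [if_pos hs, if_pos hs, hs.neg_one_pow, one_mul]
    by_cases h : i = i'
    · subst h; rfl
    · rw [if_neg h, if_neg (Ne.symm h)]
  · rw [if_neg hs, if_neg hs]
    have hodd : Odd s := Nat.not_even_iff_odd.mp hs
    rw [hodd.neg_one_pow]
    by_cases h : i + i' + 1 = μ.count s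
    · have h' : i' + i + 1 = μ.count s := by omega
      rw [if_pos h, if_pos h']
      have hev := hpar s hodd
      have hne : i ≠ i' := by
        intro hii
        subst hii
        rw [← h] at hev
        rcases hev with ⟨k, hk⟩
        omega
      rcases Nat.lt_or_gt_of_ne hne with hlt | hgt
      · rw [if_neg (by omega : ¬ i' < i), if_pos hlt]; ring
      · rw [if_pos (by omega : i' < i), if_neg (by omega : ¬ i < i')]; ring
    · have h' : ¬ i' + i + 1 = μ.count s := by omega
      rw [if_neg h, if_neg h']; ring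

/-- the even blocks are diagonal -/
theorem block_even (μ : Multiset ℕ) (ε : ℕ → Prop) (ν : F) (s : ℕ) (hs : Even s) :
    (Kmat μ ε ν).toSquareBlock (fun x : {x // x ∈ idx μ} => x.1.1) s =
      Matrix.diagonal (fun x : {x : {x // x ∈ idx μ} // x.1.1 = s} =>
        open Classical in if x.1.1.2 = 0 ∧ ¬ ε s then ν else 1) := by
  classical
  ext x y
  rw [Matrix.toSquareBlock_def, Matrix.of_apply, Matrix.diagonal_apply]
  unfold Kmat blk
  rw [if_pos (x.2.trans y.2.symm), x.2, if_pos hs]
  by_cases hxy : x = y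
  · subst hxy
    rw [if_pos rfl, if_pos rfl]
  · have : ¬ x.1.1.2 = y.1.1.2 := by
      intro h
      apply hxy
      apply Subtype.ext
      apply Subtype.ext
      apply Prod.ext
      · exact x.2.trans y.2.symm
      · exact h
    rw [if_neg this, if_neg hxy]

/-- determinant of an even block -/
theorem det_block_even (μ : Multiset ℕ) (ε : ℕ → Prop) (ν : F) (s : ℕ) (hs : Even s)
    (hmem : s ∈ μ) :
    ((Kmat μ ε ν).toSquareBlock (fun x : {x // x ∈ idx μ} => x.1.1) s).det =
      open Classical in if ε s then 1 else ν := by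
  classical
  rw [block_even μ ε ν s hs, Matrix.det_diagonal]
  by_cases he : ε s
  · rw [if_pos he]
    apply Finset.prod_eq_one
    intro x _
    rw [if_neg (by tauto)]
  · rw [if_neg he]
    have h0 : ((s, 0) : ℕ × ℕ) ∈ idx μ := mem_idx.mpr (Multiset.count_pos.mpr hmem)
    let x0 : {x : {x // x ∈ idx μ} // x.1.1 = s} := ⟨⟨(s, 0), h0⟩, rfl⟩
    rw [Finset.prod_eq_single x0]
    · rw [if_pos ⟨rfl, he⟩]
    · intro y _ hy
      have : ¬ y.1.1.2 = 0 := by
        intro h
        apply hy
        apply Subtype.ext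
        apply Subtype.ext
        apply Prod.ext
        · exact y.2
        · exact h
      rw [if_neg (by tauto)]
    · intro h
      exact absurd (Finset.mem_univ _) h

/-- the odd blocks square to `-1` -/
theorem block_odd_sq (μ : Multiset ℕ) (hpar : ∀ s : ℕ, Odd s → Even (μ.count s)) (ε : ℕ → Prop)
    (ν : F) (s : ℕ) (hs : ¬ Even s) :
    (Kmat μ ε ν).toSquareBlock (fun x : {x // x ∈ idx μ} => x.1.1) s *
      (Kmat μ ε ν).toSquareBlock (fun x : {x // x ∈ idx μ} => x.1.1) s = -1 := by
  classical
  have hodd : Odd s := Nat.not_even_iff_odd.mp hs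
  obtain ⟨r, hr⟩ := hpar s hodd
  ext x z
  rw [Matrix.mul_apply, Matrix.neg_apply, Matrix.one_apply]
  have hx : x.1.1.2 < μ.count s := by
    have := mem_idx.mp x.1.2
    rwa [x.2] at this
  have hz : z.1.1.2 < μ.count s := by
    have := mem_idx.mp z.1.2
    rwa [z.2] at this
  -- the mirror of x
  have hm : ((s, μ.count s - 1 - x.1.1.2) : ℕ × ℕ) ∈ idx μ := mem_idx.mpr (by simp only; omega)
  obtain ⟨y0, hy0⟩ : ∃ y0 : {x : {x // x ∈ idx μ} // x.1.1 = s},
      y0.1.1.2 = μ.count s - 1 - x.1.1.2 :=
    ⟨⟨⟨(s, μ.count s - 1 - x.1.1.2), hm⟩, rfl⟩, rfl⟩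
  have hentry : ∀ u v : {x : {x // x ∈ idx μ} // x.1.1 = s},
      (Kmat μ ε ν).toSquareBlock (fun x : {x // x ∈ idx μ} => x.1.1) s u v =
        if u.1.1.2 + v.1.1.2 + 1 = μ.count s then (if u.1.1.2 < v.1.1.2 then 1 else -1) else 0 := by
    intro u v
    rw [Matrix.toSquareBlock_def, Matrix.of_apply]
    unfold Kmat blk
    rw [if_pos (u.2.trans v.2.symm), u.2, if_neg hs]
  have h1 : x.1.1.2 + y0.1.1.2 + 1 = μ.count s := by omega
  rw [Finset.sum_eq_single y0]
  · rw [hentry, hentry]
    rw [if_pos h1]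
    by_cases hxz : x = z
    · subst hxz
      rw [if_pos rfl]
      have h1' : y0.1.1.2 + x.1.1.2 + 1 = μ.count s := by omega
      rw [if_pos h1']
      have hsum : x.1.1.2 + y0.1.1.2 + 1 = r + r := by omega
      rcases Nat.lt_or_ge x.1.1.2 y0.1.1.2 with h | h
      · rw [if_pos h, if_neg (by omega)]; ring
      · have hne : x.1.1.2 ≠ y0.1.1.2 := by omega
        rw [if_neg (by omega), if_pos (by omega)]; ring
    · rw [if_neg hxz]
      have : ¬ y0.1.1.2 + z.1.1.2 + 1 = μ.count s := by
        intro h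
        apply hxz
        apply Subtype.ext
        apply Subtype.ext
        apply Prod.ext
        · exact x.2.trans z.2.symm
        · omega
      rw [if_neg this, mul_zero, neg_zero]
  · intro y _ hy
    rw [hentry x y]
    have : ¬ x.1.1.2 + y.1.1.2 + 1 = μ.count s := by
      intro h
      apply hy
      apply Subtype.ext
      apply Subtype.ext
      apply Prod.ext
      · exact y.2.trans y0.2.symm
      · omega
    rw [if_neg this, zero_mul]
  · intro h
    exact absurd (Finset.mem_univ _) h

end CANON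

open CANON in
/-- CANON -/
theorem exists_canon {F : Type*} [Field F] [Fintype F] (h2 : (2 : F) ≠ 0) (μ : Multiset ℕ)
    (hpos : ∀ s ∈ μ, 0 < s) (hpar : ∀ s : ℕ, Odd s → Even (μ.count s)) (ε : ℕ → Prop) :
    ∃ (ι : Type) (_ : Fintype ι) (_ : DecidableEq ι) (a : ι → ℕ) (K : Matrix ι ι F),
      Multiset.map a Finset.univ.val = μ ∧ (∀ j j', a j ≠ a j' → K j j' = 0) ∧
      (∀ j j', K j' j = (-1) ^ (a j) * K j j') ∧
      (∀ s : ℕ, IsUnit (K.toSquareBlock a s).det) ∧
      ∀ s : ℕ, Even s → s ∈ μ → (IsSquare (K.toSquareBlock a s).det ↔ ε s) := by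
  classical
  have hchar : ringChar F ≠ 2 := by
    intro h
    apply h2
    have := CharP.cast_eq_zero F (ringChar F)
    rw [h] at this
    exact_mod_cast this
  obtain ⟨ν, hν⟩ := FiniteField.exists_nonsquare hchar
  have hν0 : ν ≠ 0 := by
    rintro rfl
    exact hν ⟨0, by simp⟩
  refine ⟨{x // x ∈ idx μ}, inferInstance, inferInstance, fun x => x.1.1, Kmat μ ε ν,
    map_a μ, ?_, ?_, ?_, ?_⟩
  · intro j j' h
    unfold Kmat
    rw [if_neg h]
  · intro j j'
    unfold Kmat
    by_cases h : j.1.1 = j'.1.1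
    · rw [if_pos h, if_pos h.symm, ← h]
      exact blk_symm μ hpar ε ν _ _ _
    · rw [if_neg h, if_neg (Ne.symm h), mul_zero]
  · -- unit determinants
    intro s
    by_cases hs : Even s
    · by_cases hmem : s ∈ μ
      · rw [det_block_even μ ε ν s hs hmem]
        split_ifs
        · exact isUnit_one
        · exact isUnit_iff_ne_zero.mpr hν0
      · -- empty block
        have hempty : IsEmpty {x : {x // x ∈ idx μ} // x.1.1 = s} := by
          constructor
          rintro ⟨x, hx⟩
          apply hmem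
          have := mem_idx.mp x.2
          rw [hx] at this
          exact Multiset.count_pos.mp (by omega)
        rw [Matrix.det_isEmpty]
        exact isUnit_one
    · apply Matrix.isUnit_det_of_right_inverse
        (B := - (Kmat μ ε ν).toSquareBlock (fun x : {x // x ∈ idx μ} => x.1.1) s)
      rw [mul_neg, block_odd_sq μ hpar ε ν s hs, neg_neg]
  · intro s hs hmem
    rw [det_block_even μ ε ν s hs hmem]
    by_cases he : ε s
    · rw [if_pos he]
      exact ⟨fun _ => he, fun _ => ⟨1, by simp⟩⟩
    · rw [if_neg he]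
      exact ⟨fun h => absurd h hν, fun h => absurd h he⟩

end Cfsg.Agent.S2676P
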