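import Mathlib
import Cfsg.Agent.Helper26.S3050Defs

set_option autoImplicit false

namespace Cfsg.Agent.S3050P

open Cfsg.Agent.Helper18.NatMod Cfsg.Agent.S3050P
open scoped IsMulCommutative

section final

variable {F : Type*} [Field F] [CharP F 2]
variable {G : Type*} [Group G] (Q : Subgroup G) [Q.Normal] [IsMulCommutative ↥Q]

/-- the elements `∑ j, ι j (f j)` with `f i = 0`, as a subgroup of `G` -/
def D8c_aux_S {k : ℕ} (ι : Fin k → ((Fin 2 → F) →+ Additive ↥Q)) (i : Fin k) : Subgroup G where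
  carrier := {n | ∃ f : Fin k → (Fin 2 → F), f i = 0 ∧
    ((Additive.toMul (∑ j, ι j (f j)) : ↥Q) : G) = n}
  one_mem' := ⟨0, rfl, by simp⟩
  mul_mem' := by
    rintro a b ⟨f, hf, rfl⟩ ⟨g, hg, rfl⟩
    refine ⟨f + g, by simp [hf, hg], ?_⟩
    simp only [Pi.add_apply, map_add, Finset.sum_add_distrib]
    rfl
  inv_mem' := by
    rintro a ⟨f, hf, rfl⟩
    refine ⟨-f, by simp [hf], ?_⟩
    simp only [Pi.neg_apply, map_neg, Finset.sum_neg_distrib]
    rfl

theorem D8c_aux_single {k : ℕ} (ι : Fin k → ((Fin 2 → F) →+ Additive ↥Q)) (j : Fin k)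
    (v : Fin 2 → F) : ∑ l, ι l ((Pi.single j v : Fin k → (Fin 2 → F)) l) = ι j v := by
  rw [Finset.sum_eq_single j]
  · rw [Pi.single_eq_same]
  · intro l _ hl
    rw [Pi.single_eq_of_ne hl, map_zero]
  · intro h; exact absurd (Finset.mem_univ j) h

/-- D8c -/
theorem vOf_indep_sup {k : ℕ} (ι : Fin k → ((Fin 2 → F) →+ Additive ↥Q))
    (hbij : Function.Bijective (fun f : Fin k → (Fin 2 → F) => ∑ i, ι i (f i))) :
    iSupIndep (fun i => vOf Q (ι i)) ∧ ⨆ i, vOf Q (ι i) = Q := by
  constructor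
  · intro i
    rw [Subgroup.disjoint_def]
    intro x hx hx'
    have hle : (⨆ j, ⨆ (_ : j ≠ i), vOf Q (ι j)) ≤ D8c_aux_S Q ι i := by
      refine iSup_le fun j => iSup_le fun hj => ?_
      rintro n ⟨v, rfl⟩
      refine ⟨Pi.single j v, by rw [Pi.single_eq_of_ne hj.symm], ?_⟩
      rw [D8c_aux_single]
    obtain ⟨f, hf, hfx⟩ := hle hx'
    obtain ⟨v, hv⟩ := hx
    have h1 : ∑ j, ι j (f j) = ∑ l, ι l ((Pi.single i v : Fin k → (Fin 2 → F)) l) := by
      rw [D8c_aux_single]
      apply Additive.toMul.injective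
      apply Subtype.ext
      rw [hfx, hv]
    have h2 : f = Pi.single i v := hbij.1 h1
    have h3 : v = 0 := by
      have := congrFun h2 i
      rw [Pi.single_eq_same, hf] at this
      exact this.symm
    rw [← hv, h3, map_zero]
    rfl
  · apply le_antisymm
    · refine iSup_le fun i => ?_
      rintro n ⟨v, rfl⟩
      exact (Additive.toMul (ι i v) : ↥Q).2
    · intro q hq
      obtain ⟨f, hf⟩ := hbij.2 (Additive.ofMul (⟨q, hq⟩ : ↥Q))
      have key : ∀ a : Additive ↥Q, a = ∑ i, ι i (f i) →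
          ((Additive.toMul a : ↥Q) : G) ∈ ⨆ i, vOf Q (ι i) := by
        intro a ha
        rw [ha]
        refine Finset.sum_induction (fun i => ι i (f i))
          (fun a => ((Additive.toMul a : ↥Q) : G) ∈ ⨆ i, vOf Q (ι i)) ?_ ?_ ?_
        · intro a b ha hb
          exact Subgroup.mul_mem _ ha hb
        · exact Subgroup.one_mem _
        · intro i _
          exact Subgroup.mem_iSup_of_mem i ⟨f i, rfl⟩
      have := key _ hf.symm
      simpa using this

end final

end Cfsg.Agent.S3050P
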