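import Mathlib
import Cfsg.Prelude.Def_Solvable

set_option autoImplicit false
set_option linter.unusedSectionVars false
set_option linter.unusedVariables false

/-! # S3206 piece CORE2 (helper9): a finite simple group of even order has trivial `O_{2'}`. -/

namespace Cfsg.Agent.S3206P

/-- CORE2: a finite simple group of even order has trivial `O_{2'}`. -/
theorem CORE2 {N : Type*} [Group N] [Finite N] [IsSimpleGroup N] (h2 : 2 ∣ Nat.card N) :
    Cfsg.pPrimeCore 2 N = ⊥ := by
  unfold Cfsg.pPrimeCore
  rw [eq_bot_iff]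
  apply sSup_le
  rintro K ⟨hK, hcop⟩
  rcases hK.eq_bot_or_eq_top with h | h
  · exact h.le
  · exfalso
    rw [h, Subgroup.card_top] at hcop
    have h1 : (2 : ℕ) ∣ Nat.gcd (Nat.card N) 2 := Nat.dvd_gcd h2 (dvd_refl 2)
    rw [Nat.Coprime] at hcop
    rw [hcop] at h1
    omega

end Cfsg.Agent.S3206P
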