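import Mathlib
import Cfsg.Prelude.Def_Solvable
import Cfsg.Agent.S4593
import Cfsg.Agent.Helper9.S3206CORE2

set_option autoImplicit false
set_option linter.unusedSectionVars false
set_option linter.unusedVariables false

/-! # S3206 piece P2 (helper9): part 2 of S3206 = S4593 on main + CORE2 + trivial centre of a non-abelian
simple group. -/

namespace Cfsg.Agent.S3206P

/-- P2: part 2 of S3206 (= S4593 on main + CORE2 + centre of a non-abelian simple group). -/
theorem P2 {G : Type*} [Group G] [Finite G] [IsSimpleGroup G] (hG : ¬ IsMulCommutative G)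
    (hab : ∀ S : Sylow 2 G, IsMulCommutative ↥(S : Subgroup G)) (t : G) (ht : orderOf t = 2) :
    ∀ (φ : G ≃* G) (k : ℕ), φ ^ (2 ^ k) = 1 → (∃ S : Sylow 2 G, ∀ s ∈ (S : Subgroup G), φ s = s) →
        ∃ g : G, ∀ x : G, φ x = g * x * g⁻¹ := by
  intro φ k hφ hS
  obtain ⟨S, hfix⟩ := hS
  have hZ : Subgroup.center G = ⊥ := by
    rcases (inferInstance : (Subgroup.center G).Normal).eq_bot_or_eq_top with h | h
    · exact h
    · exfalso
      apply hG
      refine ⟨⟨fun a b => ?_⟩⟩
      have hb : b ∈ Subgroup.center G := by rw [h]; exact Subgroup.mem_top b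
      exact Subgroup.mem_center_iff.mp hb a
  have h2 : 2 ∣ Nat.card G := by
    rw [← ht]
    exact orderOf_dvd_natCard t
  have hcore : Cfsg.pPrimeCore 2 G = ⊥ := CORE2 h2
  have hord : ∃ j : ℕ, orderOf (φ : MulAut G) = 2 ^ j := by
    have hdvd : orderOf (φ : MulAut G) ∣ 2 ^ k := orderOf_dvd_of_pow_eq_one hφ
    obtain ⟨j, -, hj⟩ := (Nat.dvd_prime_pow Nat.prime_two).mp hdvd
    exact ⟨j, hj⟩
  exact Cfsg.Agent.S4593.result hZ hcore S (hab S) φ hord hfix

end Cfsg.Agent.S3206P
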