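import Mathlib

set_option autoImplicit false
set_option linter.unusedSectionVars false
set_option linter.unusedVariables false

/-! # S3520 piece KAPPA.three (helper9): exactly two classes of derangements leave no room for three pairwise
non-conjugate derangements. -/

namespace Cfsg.Agent.S3520P

open MulAction

variable {G : Type*} [Group G] [Finite G] {Ω : Type*} [Fintype Ω] [MulAction G Ω]

/-- KAPPA.three: with exactly two classes of derangements there are no three pairwise non-conjugate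
derangements. -/
theorem KAPPA.three
    (hκ : Nat.card {c : ConjClasses G // ∃ g : G, ConjClasses.mk g = c ∧ ∀ ω : Ω, g • ω ≠ ω} = 2)
    (x y z : G) (hx : ∀ ω : Ω, x • ω ≠ ω) (hy : ∀ ω : Ω, y • ω ≠ ω) (hz : ∀ ω : Ω, z • ω ≠ ω)
    (hxy : ¬ IsConj x y) (hxz : ¬ IsConj x z) (hyz : ¬ IsConj y z) : False := by
  classical
  have : Finite {c : ConjClasses G // ∃ g : G, ConjClasses.mk g = c ∧ ∀ ω : Ω, g • ω ≠ ω} :=
    Nat.finite_of_card_ne_zero (by rw [hκ]; norm_num)
  have := Fintype.ofFinite {c : ConjClasses G // ∃ g : G, ConjClasses.mk g = c ∧ ∀ ω : Ω, g • ω ≠ ω}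
  have h3 : 2 < Fintype.card
      {c : ConjClasses G // ∃ g : G, ConjClasses.mk g = c ∧ ∀ ω : Ω, g • ω ≠ ω} := by
    refine Fintype.two_lt_card_iff.mpr ⟨⟨ConjClasses.mk x, x, rfl, hx⟩, ⟨ConjClasses.mk y, y, rfl, hy⟩,
      ⟨ConjClasses.mk z, z, rfl, hz⟩, ?_, ?_, ?_⟩
    · intro h
      exact hxy (ConjClasses.mk_eq_mk_iff_isConj.mp (congrArg Subtype.val h))
    · intro h
      exact hxz (ConjClasses.mk_eq_mk_iff_isConj.mp (congrArg Subtype.val h))
    · intro h
      exact hyz (ConjClasses.mk_eq_mk_iff_isConj.mp (congrArg Subtype.val h))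
  rw [← Nat.card_eq_fintype_card, hκ] at h3
  exact lt_irrefl _ h3

end Cfsg.Agent.S3520P
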