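import Mathlib

set_option autoImplicit false
set_option linter.unusedSectionVars false
set_option linter.unusedVariables false

/-! # S3520 piece KAPPA.two (helper9): exactly two classes of derangements give two non-conjugate
derangements to which every derangement is conjugate. -/

namespace Cfsg.Agent.S3520P

open MulAction

variable {G : Type*} [Group G] [Finite G] {Ω : Type*} [Fintype Ω] [MulAction G Ω]

/-- KAPPA.two: with exactly two classes of derangements there are two non-conjugate derangements such that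
every derangement is conjugate to one of them. -/
theorem KAPPA.two
    (hκ : Nat.card {c : ConjClasses G // ∃ g : G, ConjClasses.mk g = c ∧ ∀ ω : Ω, g • ω ≠ ω} = 2) :
    ∃ x y : G, (∀ ω : Ω, x • ω ≠ ω) ∧ (∀ ω : Ω, y • ω ≠ ω) ∧ ¬ IsConj x y ∧
      ∀ g : G, (∀ ω : Ω, g • ω ≠ ω) → IsConj g x ∨ IsConj g y := by
  obtain ⟨a, b, hab, huniv⟩ := Nat.card_eq_two_iff.mp hκ
  obtain ⟨ca, x, hxa, hx⟩ := a
  obtain ⟨cb, y, hyb, hy⟩ := b
  refine ⟨x, y, hx, hy, ?_, ?_⟩
  · intro hc
    apply hab
    apply Subtype.ext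
    show ca = cb
    rw [← hxa, ← hyb]
    exact ConjClasses.mk_eq_mk_iff_isConj.mpr hc
  · intro g hg
    have hmem : (⟨ConjClasses.mk g, g, rfl, hg⟩ :
        {c : ConjClasses G // ∃ g : G, ConjClasses.mk g = c ∧ ∀ ω : Ω, g • ω ≠ ω}) ∈
        ({⟨ca, x, hxa, hx⟩, ⟨cb, y, hyb, hy⟩} : Set _) := by
      rw [huniv]; exact Set.mem_univ _
    rcases hmem with h | h
    · left
      have h' : ConjClasses.mk g = ca := congrArg Subtype.val h
      rw [← hxa] at h'
      exact ConjClasses.mk_eq_mk_iff_isConj.mp h'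
    · right
      have h' : ConjClasses.mk g = cb := congrArg Subtype.val h
      rw [← hyb] at h'
      exact ConjClasses.mk_eq_mk_iff_isConj.mp h'

end Cfsg.Agent.S3520P
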