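import Mathlib

set_option autoImplicit false
set_option linter.unusedVariables false

/-! # S3641 sub-piece PERM.H3 (helper9): in a permutation group of degree 18 whose point stabiliser normalises
a 17-subgroup transitive on the other 17 points, an element fixing three points is the identity. -/

namespace Cfsg.Agent.S3641P

/-- A 17-subgroup of `Perm Ω`, `|Ω| = 18`, that moves a point has order 17. -/
theorem PERM.H3.aux_card {Ω : Type*} [Fintype Ω] [DecidableEq Ω] (hΩ : Fintype.card Ω = 18)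
    (Qa : Subgroup (Equiv.Perm Ω)) (hp : IsPGroup 17 Qa) (hne : ∃ q ∈ Qa, q ≠ 1) :
    Nat.card Qa = 17 := by
  have : Fact (Nat.Prime 17) := ⟨by norm_num⟩
  obtain ⟨k, hk⟩ := IsPGroup.iff_card.mp hp
  have hdvd : Nat.card Qa ∣ Nat.card (Equiv.Perm Ω) := Subgroup.card_subgroup_dvd_card Qa
  rw [Nat.card_eq_fintype_card (α := Equiv.Perm Ω), Fintype.card_perm, hΩ, hk] at hdvd
  have hk1 : k ≤ 1 := by
    by_contra hcon
    have h2 : 2 ≤ k := by omega
    have : 17 ^ 2 ∣ Nat.factorial 18 := (pow_dvd_pow 17 h2).trans hdvd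
    revert this
    decide
  have hk0 : k ≠ 0 := by
    intro h0
    rw [h0, pow_zero] at hk
    obtain ⟨q, hq, hq1⟩ := hne
    have hsub : Subsingleton ↥Qa := (Nat.card_eq_one_iff_unique.mp hk).1
    have : (⟨q, hq⟩ : ↥Qa) = 1 := Subsingleton.elim _ _
    exact hq1 (congrArg Subtype.val this)
  have : k = 1 := by omega
  rw [hk, this, pow_one]

/-- PERM.H3: `|Ω| = 18`, `Qa` a 17-subgroup of `Perm Ω` fixing `a`, transitive on the other 17 points and
normalised by the stabiliser of `a` in `H`: an element of `H` fixing `a` and two further points is `1`. -/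
theorem PERM.H3 {Ω : Type*} [Fintype Ω] [DecidableEq Ω] (hΩ : Fintype.card Ω = 18)
    (H : Subgroup (Equiv.Perm Ω)) (a : Ω) (Qa : Subgroup (Equiv.Perm Ω)) (hp : IsPGroup 17 Qa)
    (hfix : ∀ q ∈ Qa, q a = a) (htr : ∀ b c : Ω, b ≠ a → c ≠ a → ∃ q ∈ Qa, q b = c)
    (hn : ∀ h ∈ H, h a = a → ∀ q ∈ Qa, h * q * h⁻¹ ∈ Qa) :
    ∀ h ∈ H, ∀ b c : Ω, a ≠ b → a ≠ c → b ≠ c → h a = a → h b = b → h c = c → h = 1 := by
  intro h hh b c hab hac hbc hha hhb hhc
  have : Fact (Nat.Prime 17) := ⟨by norm_num⟩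
  -- an element of Qa moving b to c
  obtain ⟨x, hx, hxb⟩ := htr b c (Ne.symm hab) (Ne.symm hac)
  have hx1 : x ≠ 1 := by
    intro e
    rw [e] at hxb
    exact hbc hxb
  have hcard : Nat.card Qa = 17 := PERM.H3.aux_card hΩ Qa hp ⟨x, hx, hx1⟩
  -- every element of Qa is a power of any non-identity element
  have hgen : ∀ z ∈ Qa, z ≠ 1 → ∀ q ∈ Qa, ∃ n : ℤ, z ^ n = q := by
    intro z hz hz1 q hq
    have hz1' : (⟨z, hz⟩ : ↥Qa) ≠ 1 := fun e => hz1 (congrArg Subtype.val e)
    have htop := zpowers_eq_top_of_prime_card hcard hz1'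
    have hmem : (⟨q, hq⟩ : ↥Qa) ∈ Subgroup.zpowers (⟨z, hz⟩ : ↥Qa) := by
      rw [htop]; exact Subgroup.mem_top _
    obtain ⟨n, hn'⟩ := Subgroup.mem_zpowers_iff.mp hmem
    refine ⟨n, ?_⟩
    have := congrArg Subtype.val hn'
    simpa using this
  -- semiregularity off a
  have hsemi : ∀ q ∈ Qa, ∀ e : Ω, e ≠ a → q e = e → q = 1 := by
    intro q hq e hea hqe
    by_contra hq1
    -- pick a point different from a and e
    obtain ⟨f, hfa, hfe⟩ : ∃ f : Ω, f ≠ a ∧ f ≠ e := by
      by_contra hcon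
      push Not at hcon
      have hsub : (Finset.univ : Finset Ω) ⊆ {a, e} := by
        intro f _
        by_cases hfa : f = a
        · simp [hfa]
        · simp [hcon f hfa]
      have h1 := Finset.card_le_card hsub
      have h2 : ({a, e} : Finset Ω).card ≤ 2 := Finset.card_le_two
      rw [Finset.card_univ, hΩ] at h1
      omega
    obtain ⟨y, hy, hye⟩ := htr e f hea hfa
    obtain ⟨n, hn'⟩ := hgen q hq hq1 y hy
    have hfixn : (q ^ n) e = e := by
      have hmem : q ∈ MulAction.stabilizer (Equiv.Perm Ω) e := hqe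
      have := Subgroup.zpow_mem _ hmem n
      exact this
    rw [hn', hye] at hfixn
    exact hfe hfixn
  -- h commutes with x
  have hy : h * x * h⁻¹ ∈ Qa := hn h hh hha x hx
  have hhinvb : h⁻¹ b = b := by
    rw [Equiv.Perm.inv_eq_iff_eq]; exact hhb.symm
  have hyb : (h * x * h⁻¹) b = c := by
    simp only [Equiv.Perm.coe_mul, Function.comp_apply]
    rw [hhinvb, hxb, hhc]
  have hyx : h * x * h⁻¹ = x := by
    have h1 : x⁻¹ * (h * x * h⁻¹) ∈ Qa := Qa.mul_mem (Qa.inv_mem hx) hy
    have h2 : (x⁻¹ * (h * x * h⁻¹)) b = b := by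
      rw [Equiv.Perm.coe_mul, Function.comp_apply, hyb, Equiv.Perm.inv_eq_iff_eq]
      exact hxb.symm
    have h3 := hsemi _ h1 b (Ne.symm hab) h2
    calc h * x * h⁻¹ = x * (x⁻¹ * (h * x * h⁻¹)) := by group
      _ = x := by rw [h3, mul_one]
  have hcomm : Commute h x := by
    show h * x = x * h
    calc h * x = (h * x * h⁻¹) * h := by group
      _ = x * h := by rw [hyx]
  -- h fixes every point
  ext e
  rw [Equiv.Perm.coe_one, id]
  by_cases hea : e = a
  · rw [hea]; exact hha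
  · obtain ⟨q, hq, hqe⟩ := htr b e (Ne.symm hab) hea
    obtain ⟨n, hn'⟩ := hgen x hx hx1 q hq
    have hcq : Commute h q := by rw [← hn']; exact hcomm.zpow_right n
    have : h * q = q * h := hcq
    calc h e = (h * q) b := by rw [Equiv.Perm.coe_mul, Function.comp_apply, hqe]
      _ = (q * h) b := by rw [this]
      _ = e := by rw [Equiv.Perm.coe_mul, Function.comp_apply, hhb, hqe]

end Cfsg.Agent.S3641P
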