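import Mathlib

set_option autoImplicit false
set_option linter.unusedVariables false

/-! # S3641 sub-piece PERM.SYL (helper9): a Sylow 17-subgroup of a group with exactly 18 of them fixes itself
and is transitive on the other 17. -/

namespace Cfsg.Agent.S3641P

open MulAction

/-- PERM.SYL: a Sylow 17-subgroup `P` of a group with exactly 18 of them fixes itself (conjugation action
on `Sylow 17 G`) and is transitive on the other 17 Sylow 17-subgroups. -/
theorem PERM.SYL {G : Type*} [Group G] [Finite G] (h18 : Nat.card (Sylow 17 G) = 18) (P : Sylow 17 G) :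
    (∀ x ∈ (P : Subgroup G), x • P = P) ∧
    ∀ P2 P3 : Sylow 17 G, P2 ≠ P → P3 ≠ P → ∃ x ∈ (P : Subgroup G), x • P2 = P3 := by
  have : Fact (Nat.Prime 17) := ⟨by norm_num⟩
  refine ⟨fun x hx => Sylow.smul_eq_iff_mem_normalizer.mpr (Subgroup.le_normalizer hx), ?_⟩
  intro P2 P3 hP2 hP3
  have hfin : Finite (Sylow 17 G) := Nat.finite_of_card_ne_zero (by rw [h18]; norm_num)
  -- the orbit of P2 under P
  have hsub : orbit ↥(P : Subgroup G) P2 ⊆ ({P} : Set (Sylow 17 G))ᶜ := by
    rintro _ ⟨x, rfl⟩ hmem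
    rw [Set.mem_singleton_iff] at hmem
    apply hP2
    have hxP : (x : G) • P = P :=
      Sylow.smul_eq_iff_mem_normalizer.mpr (Subgroup.le_normalizer x.2)
    have h1 : (x : G) • P2 = (x : G) • P := by
      rw [hxP]; exact hmem
    exact (MulAction.injective (x : G)) h1
  have hcompl : (({P} : Set (Sylow 17 G))ᶜ).ncard = 17 := by
    rw [Set.ncard_compl, Set.ncard_singleton, h18]
  obtain ⟨n, hn⟩ := P.isPGroup'.card_orbit (α := Sylow 17 G) P2
  have hn0 : n ≠ 0 := by
    intro h0
    rw [h0, pow_zero] at hn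
    -- the orbit is a singleton: P2 is fixed by P
    have hsingle : Subsingleton ↥(orbit ↥(P : Subgroup G) P2) := (Nat.card_eq_one_iff_unique.mp hn).1
    have hfixed : P2 ∈ fixedPoints ↥(P : Subgroup G) (Sylow 17 G) := by
      intro x
      have h1 : (⟨x • P2, ⟨x, rfl⟩⟩ : ↥(orbit ↥(P : Subgroup G) P2)) =
          ⟨P2, mem_orbit_self P2⟩ := Subsingleton.elim _ _
      exact congrArg Subtype.val h1
    have hle : (P : Subgroup G) ≤ P2 := (P.isPGroup'.sylow_mem_fixedPoints_iff).mp hfixed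
    apply hP2
    exact (Sylow.ext (P.is_maximal' P2.isPGroup' hle)).symm ▸ rfl
  have hge : 17 ≤ (orbit ↥(P : Subgroup G) P2).ncard := by
    rw [← Nat.card_coe_set_eq, hn]
    calc 17 = 17 ^ 1 := by norm_num
      _ ≤ 17 ^ n := Nat.pow_le_pow_right (by norm_num) (by omega)
  have heq : orbit ↥(P : Subgroup G) P2 = ({P} : Set (Sylow 17 G))ᶜ :=
    Set.eq_of_subset_of_ncard_le hsub (by rw [hcompl]; exact hge)
  have hmem : P3 ∈ orbit ↥(P : Subgroup G) P2 := by
    rw [heq]; exact hP3
  obtain ⟨x, hx⟩ := hmem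
  exact ⟨(x : G), x.2, hx⟩

end Cfsg.Agent.S3641P
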