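import Mathlib
import Cfsg.Agent.Helper16.S3641Defs
import Cfsg.Agent.Helper9.S3641PERMSYL
import Cfsg.Agent.Helper9.S3641PERMH3
import Cfsg.Agent.Helper3.S3641PERMDVD16
import Cfsg.Agent.Helper21.S3641PERMCARD
import Cfsg.Agent.Helper21.S3641PERMCONJ

set_option autoImplicit false

/-! # S3641 piece PERM (helper9): glue of the sub-pieces PERM.SYL / PERM.H3 / PERM.CONJ / PERM.DVD16 /
PERM.CARD: the action on the 18 Sylow 17-subgroups gives a `Z18` group. -/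

namespace Cfsg.Agent.S3641P

/-- PERM: the action on the 18 Sylow 17-subgroups. -/
theorem PERM {G : Type*} [Group G] [Finite G] [Fintype (Sylow 17 G)] [DecidableEq (Sylow 17 G)]
    (h18 : Nat.card (Sylow 17 G) = 18) :
    ∃ d : ℕ, Z18 (MulAction.toPermHom G (Sylow 17 G)).range d := by
  have : Fact (Nat.Prime 17) := ⟨by norm_num⟩
  have hΩ : Fintype.card (Sylow 17 G) = 18 := by rw [← Nat.card_eq_fintype_card]; exact h18
  have hφ : ∀ (g : G) (a : Sylow 17 G), (MulAction.toPermHom G (Sylow 17 G) g) a = g • a :=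
    fun g a => rfl
  -- the images of the Sylow subgroups
  have hQH : ∀ a : Sylow 17 G, (a : Subgroup G).map (MulAction.toPermHom G (Sylow 17 G)) ≤
      (MulAction.toPermHom G (Sylow 17 G)).range := by
    rintro a _ ⟨x, _, rfl⟩
    exact ⟨x, rfl⟩
  have hQp : ∀ a : Sylow 17 G,
      IsPGroup 17 ((a : Subgroup G).map (MulAction.toPermHom G (Sylow 17 G))) :=
    fun a => a.isPGroup'.map _
  have hQfix : ∀ a : Sylow 17 G,
      ∀ q ∈ (a : Subgroup G).map (MulAction.toPermHom G (Sylow 17 G)), q a = a := by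
    rintro a _ ⟨x, hx, rfl⟩
    rw [hφ]
    exact (PERM.SYL h18 a).1 x hx
  have hQtr : ∀ a b c : Sylow 17 G, b ≠ a → c ≠ a →
      ∃ q ∈ (a : Subgroup G).map (MulAction.toPermHom G (Sylow 17 G)), q b = c := by
    intro a b c hb hc
    obtain ⟨x, hx, hxb⟩ := (PERM.SYL h18 a).2 b c hb hc
    exact ⟨_, ⟨x, hx, rfl⟩, hxb⟩
  have hQn : ∀ a : Sylow 17 G, ∀ h ∈ (MulAction.toPermHom G (Sylow 17 G)).range, h a = a →
      ∀ q ∈ (a : Subgroup G).map (MulAction.toPermHom G (Sylow 17 G)),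
        h * q * h⁻¹ ∈ (a : Subgroup G).map (MulAction.toPermHom G (Sylow 17 G)) := by
    rintro a _ ⟨g, rfl⟩ hga _ ⟨x, hx, rfl⟩
    rw [hφ] at hga
    have hgN : g ∈ Subgroup.normalizer ((a : Subgroup G) : Set G) :=
      Sylow.smul_eq_iff_mem_normalizer.mp hga
    refine ⟨g * x * g⁻¹, (Subgroup.mem_normalizer_iff.mp hgN x).mp hx, ?_⟩
    simp only [map_mul, map_inv]
  have h2tr : ∀ a b c : Sylow 17 G, b ≠ a → c ≠ a →
      ∃ h ∈ (MulAction.toPermHom G (Sylow 17 G)).range, h a = a ∧ h b = c := by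
    intro a b c hb hc
    obtain ⟨q, hq, hqb⟩ := hQtr a b c hb hc
    exact ⟨q, hQH a hq, hQfix a q hq, hqb⟩
  have h3 : ∀ h ∈ (MulAction.toPermHom G (Sylow 17 G)).range, ∀ a b c : Sylow 17 G,
      a ≠ b → a ≠ c → b ≠ c → h a = a → h b = b → h c = c → h = 1 :=
    fun h hh a b c => PERM.H3 hΩ _ a _ (hQp a) (hQfix a) (hQtr a) (hQn a) h hh b c
  obtain ⟨a0, b0, hab0⟩ : ∃ a b : Sylow 17 G, a ≠ b :=
    Fintype.exists_pair_of_one_lt_card (by omega)
  refine ⟨Nat.card {h : Equiv.Perm (Sylow 17 G) //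
      h ∈ (MulAction.toPermHom G (Sylow 17 G)).range ∧ h a0 = a0 ∧ h b0 = b0}, ⟨hΩ, ?_,
    PERM.CARD hΩ _ h2tr a0 b0 hab0, PERM.DVD16 hΩ _ h3 a0 b0 hab0,
    fun a b hab => PERM.CONJ (by omega) _ h2tr a b a0 b0 hab hab0, h3⟩⟩
  -- transitivity
  refine ⟨fun b c => ?_⟩
  obtain ⟨g, hg⟩ := MulAction.exists_smul_eq G b c
  exact ⟨⟨MulAction.toPermHom G (Sylow 17 G) g, ⟨g, rfl⟩⟩, hg⟩

end Cfsg.Agent.S3641P
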