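import Mathlib
import Cfsg.Agent.Helper9.Offender2
import Cfsg.Agent.Helper9.Offender3
import Cfsg.Agent.Helper9.S4Section
import Cfsg.Agent.Helper17.Basic
import Cfsg.Agent.Helper19.Cores
import Cfsg.Agent.Helper3.S3Lift
import Cfsg.Agent.Lead.ThompsonPQ
import Cfsg.Prelude.Def_CaseTheorems

set_option autoImplicit false
set_option linter.unusedSectionVars false
set_option linter.unusedVariables false
set_option linter.style.haveILetI false

/-! # Dihedral groups of order `2q`, `q ≥ 5`, acting on elementary abelian 2-groups -/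

namespace Cfsg.Agent.Helper9.S3Sec

open Subgroup
open scoped IsMulCommutative
open Cfsg.Agent.Helper9.Off2

section conjAut

variable {X : Type*} [Group X] (U : Subgroup X)

/-- conjugation by an element normalizing `U`, as an automorphism of `U` -/
def conjAut (g : X) (hg : ∀ u ∈ U, g * u * g⁻¹ ∈ U) (hg' : ∀ u ∈ U, g⁻¹ * u * g ∈ U) : MulAut U where
  toFun u := ⟨g * u * g⁻¹, hg u u.2⟩
  invFun u := ⟨g⁻¹ * u * g, hg' u u.2⟩
  left_inv u := by apply Subtype.ext; simp [mul_assoc]
  right_inv u := by apply Subtype.ext; simp [mul_assoc]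
  map_mul' u v := by apply Subtype.ext; simp [mul_assoc]

theorem coe_conjAut_apply (g : X) (hg : ∀ u ∈ U, g * u * g⁻¹ ∈ U) (hg' : ∀ u ∈ U, g⁻¹ * u * g ∈ U)
    (u : U) : ((conjAut U g hg hg' u : U) : X) = g * u * g⁻¹ := rfl

end conjAut

theorem four_mul_card_le {X : Type*} [Group X] [Finite X] (U : Subgroup X)
    (hU2 : ∀ u ∈ U, u * u = 1) (y b : X) (q : ℕ) (hq : q.Prime) (hq2 : q ≠ 2) (hq3 : q ≠ 3)
    (hy : orderOf y = q) (hb : b * b = 1) (hinv : b * y * b⁻¹ = y⁻¹)
    (hyU : ∀ u ∈ U, y * u * y⁻¹ ∈ U) (hbU : ∀ u ∈ U, b * u * b⁻¹ ∈ U)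
    (hnc : ∃ u ∈ U, y * u ≠ u * y) :
    4 * Nat.card (U ⊓ centralizer {b} : Subgroup X) ≤ Nat.card U := by
  classical
  haveI : Fact q.Prime := ⟨hq⟩
  have hbinv : b⁻¹ = b := inv_eq_of_mul_eq_one_left hb
  have hbU' : ∀ u ∈ U, b⁻¹ * u * b ∈ U := by
    intro u hu
    have := hbU u hu
    rw [hbinv]; rw [hbinv] at this; exact this
  have hyinv : y⁻¹ = b * y * b⁻¹ := hinv.symm
  have hyU' : ∀ u ∈ U, y⁻¹ * u * y ∈ U := by
    intro u hu
    have h1 : b⁻¹ * u * b ∈ U := hbU' u hu
    have h2 := hyU _ h1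
    have h3 := hbU _ h2
    have : y⁻¹ * u * y = b * (y * (b⁻¹ * u * b) * y⁻¹) * b⁻¹ := by
      have e1 : y = b * y⁻¹ * b⁻¹ := by
        have := congrArg (fun t => t⁻¹) hinv
        simp only [mul_inv_rev, inv_inv] at this
        rw [← mul_assoc] at this
        exact this.symm
      calc y⁻¹ * u * y = (b * y * b⁻¹) * u * (b * y⁻¹ * b⁻¹) := by rw [← hyinv, ← e1]
        _ = b * (y * (b⁻¹ * u * b) * y⁻¹) * b⁻¹ := by group
    rw [this]; exact h3
  have hUc : ∀ x ∈ U, ∀ z ∈ U, x * z = z * x := by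
    intro x hx z hz
    have h1 : (z * x) * (z * x) = 1 := hU2 (z * x) (U.mul_mem hz hx)
    calc x * z = (z * z) * (x * z) * (x * x) := by rw [hU2 z hz, hU2 x hx, one_mul, mul_one]
      _ = z * ((z * x) * (z * x)) * x := by simp only [mul_assoc]
      _ = z * x := by rw [h1, mul_one]
  haveI : IsMulCommutative U := ⟨⟨fun x z => Subtype.ext (hUc x x.2 z z.2)⟩⟩
  have hV : ∀ v : U, v * v = 1 := fun v => Subtype.ext (hU2 v v.2)
  set β : MulAut U := conjAut U b hbU hbU' with hβ
  set μ : MulAut U := conjAut U y hyU hyU' with hμ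
  have hβ2 : β * β = 1 := by
    apply MulEquiv.ext
    intro u
    apply Subtype.ext
    rw [MulAut.mul_apply, coe_conjAut_apply, coe_conjAut_apply, MulAut.one_apply]
    calc b * (b * (u : X) * b⁻¹) * b⁻¹ = (b * b) * u * (b * b)⁻¹ := by group
      _ = u := by rw [hb]; group
  have hμ1 : μ ≠ 1 := by
    intro h
    obtain ⟨u, hu, hne⟩ := hnc
    apply hne
    have h1 := congrArg (fun f : MulAut U => ((f ⟨u, hu⟩ : U) : X)) h
    simp only [MulAut.one_apply] at h1
    rw [hμ, coe_conjAut_apply] at h1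
    calc y * u = (y * u * y⁻¹) * y := by group
      _ = u * y := by rw [h1]
  have hμq : μ ^ q = 1 := by
    have hpow : ∀ (n : ℕ) (u : U), (((μ ^ n) u : U) : X) = y ^ n * u * (y ^ n)⁻¹ := by
      intro n
      induction n with
      | zero => intro u; simp
      | succ n ih =>
        intro u
        rw [pow_succ', MulAut.mul_apply, hμ, coe_conjAut_apply, ← hμ, ih, pow_succ']
        group
    apply MulEquiv.ext
    intro u
    apply Subtype.ext
    rw [hpow, ← hy, pow_orderOf_eq_one, MulAut.one_apply]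
    group
  have hμord : orderOf μ = q := by
    rcases (Nat.dvd_prime hq).mp (orderOf_dvd_of_pow_eq_one hμq) with h | h
    · exact absurd (orderOf_eq_one_iff.mp h) hμ1
    · exact h
  have hqodd : Odd q := hq.odd_of_ne_two hq2
  have hinvA : β * μ * β⁻¹ = μ⁻¹ := by
    rw [mul_inv_eq_iff_eq_mul, eq_comm, inv_mul_eq_iff_eq_mul]
    apply MulEquiv.ext
    intro u
    apply Subtype.ext
    have e0 : b * y = y⁻¹ * b := mul_inv_eq_iff_eq_mul.mp hinv
    have e2 : y * b * y = b := by rw [mul_assoc, e0, mul_inv_cancel_left]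
    show ((β u : U) : X) = ((μ (β (μ u)) : U) : X)
    rw [hβ, hμ]
    simp only [coe_conjAut_apply]
    calc b * (u : X) * b⁻¹ = (y * b * y) * u * (y * b * y)⁻¹ := by rw [e2]
      _ = _ := by group
  have hβ1 : β ≠ 1 := by
    intro h
    rw [h] at hinvA
    have h2 : μ = μ⁻¹ := by simpa using hinvA
    have h3 : μ * μ = 1 := by
      nth_rewrite 1 [h2]; exact inv_mul_cancel μ
    exact hμ1 (Cfsg.Agent.Helper9.Off3.eq_one_of_odd_of_sq (hμord ▸ hqodd) h3)
  -- the fixed points of `β`
  have hfixβ : Nat.card (fixSub (zpowers β)) = Nat.card (U ⊓ centralizer {b} : Subgroup X) := by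
    have hmap : (fixSub (zpowers β)).map U.subtype = U ⊓ centralizer {b} := by
      ext x
      constructor
      · rintro ⟨w, hw, rfl⟩
        rw [Subgroup.mem_inf]
        refine ⟨w.2, ?_⟩
        have h1 := mem_fixSub_zpowers.mp hw
        have h2 := congrArg Subtype.val h1
        rw [hβ, coe_conjAut_apply] at h2
        rw [mem_centralizer_singleton_iff]
        calc U.subtype w * b = (b * (w : X) * b⁻¹) * b := by rw [h2]; rfl
          _ = b * (U.subtype w) := by
              rw [Subgroup.subtype_apply]; group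
      · intro hx
        rw [Subgroup.mem_inf] at hx
        obtain ⟨hxU, hxb⟩ := hx
        refine ⟨⟨x, hxU⟩, ?_, rfl⟩
        rw [SetLike.mem_coe, mem_fixSub_zpowers]
        apply Subtype.ext
        rw [hβ, coe_conjAut_apply]
        rw [mem_centralizer_singleton_iff] at hxb
        show b * x * b⁻¹ = x
        rw [← hxb, mul_inv_cancel_right]
    rw [← hmap]
    exact (Subgroup.card_map_of_injective U.subtype_injective).symm
  by_contra hlt
  push Not at hlt
  -- `|U| ≤ 2 |C|`
  have hU2g : IsPGroup 2 U := by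
    intro g
    refine ⟨1, ?_⟩
    rw [pow_one, pow_two]; exact hV g
  obtain ⟨k, hk⟩ := IsPGroup.iff_card.mp hU2g
  have hCle : (U ⊓ centralizer {b} : Subgroup X) ≤ U := inf_le_left
  have hCdvd : Nat.card (U ⊓ centralizer {b} : Subgroup X) ∣ Nat.card U := Subgroup.card_dvd_of_le hCle
  rw [hk] at hCdvd hlt
  obtain ⟨j, hjk, hj⟩ := (Nat.dvd_prime_pow Nat.prime_two).mp hCdvd
  rw [hj] at hlt
  have hkj : k ≤ j + 1 := by
    by_contra h
    push Not at h
    have h1 : 2 ^ (j + 2) ≤ 2 ^ k := Nat.pow_le_pow_right (by norm_num) (by omega)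
    have h2 : 4 * 2 ^ j = 2 ^ (j + 2) := by rw [pow_add]; ring
    omega
  have hβcard : Nat.card U ≤ 2 * Nat.card (fixSub (zpowers β)) := by
    rw [hfixβ, hk, hj]
    calc 2 ^ k ≤ 2 ^ (j + 1) := Nat.pow_le_pow_right (by norm_num) hkj
      _ = 2 * 2 ^ j := by rw [pow_succ]; ring
  obtain ⟨hcard4, -⟩ := card_fix_of_transvection hV hβ2 hβ1 hβcard hμ1 (hμord ▸ hqodd) hinvA
  -- orbit counting
  have hpg : IsPGroup q (zpowers μ) := by
    apply IsPGroup.of_card (n := 1)
    rw [Nat.card_zpowers, hμord, pow_one]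
  have hmod := hpg.card_modEq_card_fixedPoints U
  have hfp : Nat.card (MulAction.fixedPoints (zpowers μ) U) = Nat.card (fixSub (zpowers μ)) := by
    have : (MulAction.fixedPoints (zpowers μ) U) = ((fixSub (zpowers μ) : Subgroup U) : Set U) := by
      ext x
      rw [MulAction.mem_fixedPoints, SetLike.mem_coe, mem_fixSub]
      constructor
      · intro h γ hγ
        exact h ⟨γ, hγ⟩
      · intro h γ
        exact h γ.1 γ.2
    rw [this]; rfl
  rw [hfp, hcard4] at hmod
  have hdvd : q ∣ 3 * Nat.card (fixSub (zpowers μ)) := by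
    have h1 := (Nat.modEq_iff_dvd' (by omega : Nat.card (fixSub (zpowers μ)) ≤ 4 * Nat.card (fixSub (zpowers μ)))).mp hmod.symm
    have h2 : 4 * Nat.card (fixSub (zpowers μ)) - Nat.card (fixSub (zpowers μ)) = 3 * Nat.card (fixSub (zpowers μ)) := by omega
    rw [h2] at h1; exact h1
  rcases (Nat.Prime.dvd_mul hq).mp hdvd with h3 | hF
  · exact hq3 ((Nat.prime_dvd_prime_iff_eq hq Nat.prime_three).mp h3)
  · have h4 : Nat.card (fixSub (zpowers μ)) ∣ Nat.card U := Subgroup.card_subgroup_dvd_card _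
    rw [hk] at h4
    have h5 : q ∣ 2 ^ k := hF.trans h4
    have h6 : q ∣ 2 := hq.dvd_of_dvd_pow h5
    exact hq2 ((Nat.prime_dvd_prime_iff_eq hq Nat.prime_two).mp h6)


/-- `|V : C_V(A)| ≥ |A|²` for elementary abelian 2-subgroups `A` of an `S₃`-free group `M` with
`C_M(O_{2'}(M)) ≤ O_{2'}(M)` acting faithfully on the elementary abelian 2-group `V`. -/
theorem card_sq_le_relIndex {X : Type*} [Group X] [Finite X] (M V : Subgroup X)
    (hV2 : ∀ v ∈ V, v * v = 1) (hMV : M ≤ normalizer (V : Set X))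
    (hfaith : M ⊓ centralizer (V : Set X) = ⊥)
    (hcon : centralizer (Cfsg.pPrimeCore 2 ↥M : Set ↥M) ≤ Cfsg.pPrimeCore 2 ↥M)
    (hno : ¬ Cfsg.Involves (Equiv.Perm (Fin 3)) ↥M) :
    ∀ (n : ℕ) (A : Subgroup X), Nat.card A = n → A ≤ M → (∀ a ∈ A, a * a = 1) →
      (Nat.card A) ^ 2 ≤ (V ⊓ centralizer (A : Set X)).relIndex V := by
  classical
  intro n
  induction n using Nat.strong_induction_on with
  | _ n ih =>
  intro A hAn hAM hA2
  have hVp : IsPGroup 2 V := by
    intro g
    refine ⟨1, ?_⟩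
    rw [pow_one, pow_two]; exact Subtype.ext (hV2 g g.2)
  have hrel : ∀ H : Subgroup X, H ≤ V → Nat.card H * H.relIndex V = Nat.card V := by
    intro H hH
    have h1 := (H.subgroupOf V).card_mul_index
    rw [Cfsg.Agent.Helper17.card_subgroupOf_of_le hH] at h1
    exact h1
  by_cases hA1 : A = ⊥
  · subst hA1
    rw [Subgroup.card_bot, one_pow]
    have h1 := hrel (V ⊓ centralizer ((⊥ : Subgroup X) : Set X)) inf_le_left
    have h2 : 0 < Nat.card V := Nat.card_pos
    rcases Nat.eq_zero_or_pos ((V ⊓ centralizer ((⊥ : Subgroup X) : Set X)).relIndex V) with h0 | h0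
    · rw [h0, mul_zero] at h1; omega
    · exact h0
  have hAcomm : ∀ a ∈ A, ∀ c ∈ A, a * c = c * a := by
    intro x hx z hz
    have h1 : (z * x) * (z * x) = 1 := hA2 (z * x) (A.mul_mem hz hx)
    calc x * z = (z * z) * (x * z) * (x * x) := by rw [hA2 z hz, hA2 x hx, one_mul, mul_one]
      _ = z * ((z * x) * (z * x)) * x := by simp only [mul_assoc]
      _ = z * x := by rw [h1, mul_one]
  set Qh : Subgroup X := (Cfsg.pPrimeCore 2 ↥M).map M.subtype with hQh
  have hQM : Qh ≤ M := by
    rintro _ ⟨w, _, rfl⟩; exact w.2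
  have hQodd : ∀ y ∈ Qh, Odd (orderOf y) := by
    rintro _ ⟨w, hw, rfl⟩
    have h1 : orderOf (M.subtype w) = orderOf w := orderOf_injective M.subtype M.subtype_injective w
    rw [h1]
    have h2 : orderOf (⟨w, hw⟩ : Cfsg.pPrimeCore 2 ↥M) = orderOf w := Subgroup.orderOf_mk w hw
    rw [← h2]
    have h3 : Odd (Nat.card (Cfsg.pPrimeCore 2 ↥M)) :=
      Nat.coprime_two_right.mp (Cfsg.Agent.Helper19.pPrimeCore_coprime (G := ↥M) 2)
    exact Odd.of_dvd_nat h3 (orderOf_dvd_natCard _)
  have hnormQ : ∀ β ∈ A, ∀ x ∈ Qh, β * x * β⁻¹ ∈ Qh := by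
    rintro β hβ _ ⟨w, hw, rfl⟩
    have hn : (Cfsg.pPrimeCore 2 ↥M).Normal := inferInstance
    exact ⟨⟨β, hAM hβ⟩ * w * ⟨β, hAM hβ⟩⁻¹, hn.conj_mem w hw _, rfl⟩
  have hnc : ¬ (∀ β ∈ A, ∀ x ∈ Qh, β * x = x * β) := by
    intro hall
    obtain ⟨a, ha1⟩ := (Subgroup.ne_bot_iff_exists_ne_one).mp hA1
    have haA' : (a : X) ∈ A := a.2
    have hmem : (⟨a, hAM haA'⟩ : ↥M) ∈ centralizer (Cfsg.pPrimeCore 2 ↥M : Set ↥M) := by
      rw [mem_centralizer_iff]
      intro w hw
      apply Subtype.ext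
      have := hall a haA' (M.subtype w) ⟨w, hw, rfl⟩
      exact this.symm
    have h1 := hcon hmem
    have h2 : Odd (orderOf (a : X)) := hQodd _ ⟨_, h1, rfl⟩
    have h3 := Cfsg.Agent.Helper9.Off3.eq_one_of_odd_of_sq h2 (hA2 a haA')
    exact ha1 (Subtype.ext h3)
  obtain ⟨μ, hμQ, hμ1, heig, β1, hβ1A, hβ1inv⟩ :=
    Cfsg.Agent.Helper9.Off3.exists_eigen A hA2 _ Qh rfl hQodd hnormQ hnc
  -- an eigen-element of prime order
  have hm_ne : orderOf μ ≠ 1 := fun h => hμ1 (orderOf_eq_one_iff.mp h)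
  set q := (orderOf μ).minFac with hqdef
  have hq : q.Prime := Nat.minFac_prime hm_ne
  have hqm : q ∣ orderOf μ := Nat.minFac_dvd _
  have hqodd : Odd q := Odd.of_dvd_nat (hQodd μ hμQ) hqm
  have hq2 : q ≠ 2 := fun h => by rw [h] at hqodd; exact absurd hqodd (by decide)
  have hn0 : orderOf μ ≠ 0 := (orderOf_pos μ).ne'
  set y : X := μ ^ (orderOf μ / q) with hydef
  have hy : orderOf y = q := orderOf_pow_orderOf_div hn0 hqm
  have hyQ : y ∈ Qh := Qh.pow_mem hμQ _
  have hyM : y ∈ M := hQM hyQ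
  have hy1 : y ≠ 1 := by
    intro h
    rw [h, orderOf_one] at hy
    exact hq.one_lt.ne hy
  have hyeig : ∀ β ∈ A, β * y * β⁻¹ = y ∨ β * y * β⁻¹ = y⁻¹ := by
    intro β hβ
    rcases heig β hβ with h | h
    · left; rw [hydef, ← conj_pow, h]
    · right; rw [hydef, ← conj_pow, h, inv_pow]
  have hβ1y : β1 * y * β1⁻¹ = y⁻¹ := by rw [hydef, ← conj_pow, hβ1inv, inv_pow]
  have hyy : y ≠ y⁻¹ := by
    intro h
    have h1 : y * y = 1 := by nth_rewrite 1 [h]; exact inv_mul_cancel y
    exact hy1 (Cfsg.Agent.Helper9.Off3.eq_one_of_odd_of_sq (hy ▸ hqodd) h1)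
  have hβ1sq : β1 * β1 = 1 := hA2 β1 hβ1A
  have hβ1i : β1⁻¹ = β1 := inv_eq_of_mul_eq_one_left hβ1sq
  have hβ1M : β1 ∈ M := hAM hβ1A
  -- `q ≠ 3`
  have hq3 : q ≠ 3 := by
    intro h3
    apply hno
    set d : ↥M := ⟨β1, hβ1M⟩ with hd
    set e : ↥M := ⟨β1 * y, M.mul_mem hβ1M hyM⟩ with he
    have e0 : β1 * y = y⁻¹ * β1 := mul_inv_eq_iff_eq_mul.mp hβ1y
    have hdd : d * d = 1 := Subtype.ext hβ1sq
    have hee : e * e = 1 := by
      apply Subtype.ext
      show (β1 * y) * (β1 * y) = 1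
      calc (β1 * y) * (β1 * y) = (y⁻¹ * β1) * (β1 * y) := by rw [← e0]
        _ = y⁻¹ * (β1 * β1) * y := by simp only [mul_assoc]
        _ = 1 := by rw [hβ1sq, mul_one, inv_mul_cancel]
    have hde : (d * e) ^ 3 = 1 := by
      apply Subtype.ext
      show ((β1 * (β1 * y)) ^ 3 : X) = 1
      rw [← mul_assoc, hβ1sq, one_mul, ← h3, ← hy, pow_orderOf_eq_one]
    have hncomm : ¬ Commute d e := by
      intro hc
      have h1 := congrArg Subtype.val hc.eq
      have h2 : β1 * (β1 * y) = (β1 * y) * β1 := h1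
      rw [← mul_assoc, hβ1sq, one_mul, e0, mul_assoc, hβ1sq, mul_one] at h2
      exact hyy h2
    obtain ⟨φ⟩ := Cfsg.Agent.Helper3.closure_pair_equiv_perm d e hdd hee hde hncomm
    exact Cfsg.Agent.Helper9.S4Sec.involves_of_surjective _ φ.toMonoidHom φ.surjective
  -- the hyperplane `B = C_A(y)`
  set B : Subgroup X := A ⊓ centralizer {y} with hB
  have hBA : B ≤ A := inf_le_left
  have hBy : ∀ b ∈ B, b * y = y * b := by
    intro b hb
    have := (mem_centralizer_singleton_iff.mp hb.2)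
    exact this
  have hidx : (B.subgroupOf A).index = 2 := by
    rw [Subgroup.index_eq_two_iff]
    refine ⟨⟨β1, hβ1A⟩, ?_⟩
    intro b
    have hbB : ∀ c : ↥A, c ∈ B.subgroupOf A ↔ (c : X) * y = y * c := by
      intro c
      rw [mem_subgroupOf, hB, Subgroup.mem_inf, mem_centralizer_singleton_iff]
      exact ⟨fun h => h.2, fun h => ⟨c.2, h⟩⟩
    rw [hbB, hbB]
    rcases hyeig b b.2 with h | h
    · -- `b` centralizes `y`
      have hb1 : (b : X) * y = y * b := by
        calc (b : X) * y = ((b : X) * y * (b : X)⁻¹) * b := by group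
          _ = y * b := by rw [h]
      refine Or.inr ⟨hb1, ?_⟩
      intro hc
      have : ((b * ⟨β1, hβ1A⟩ : ↥A) : X) = (b : X) * β1 := rfl
      rw [this] at hc
      have h2 : β1 * y = y * β1 := by
        have h3 : (b : X) * (β1 * y) = (b : X) * (y * β1) := by
          calc (b : X) * (β1 * y) = ((b : X) * β1) * y := by rw [mul_assoc]
            _ = y * ((b : X) * β1) := hc
            _ = (y * b) * β1 := by rw [mul_assoc]
            _ = ((b : X) * y) * β1 := by rw [hb1]
            _ = (b : X) * (y * β1) := by rw [mul_assoc]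
        exact mul_left_cancel h3
      have h4 : β1 * y * β1⁻¹ = y := by rw [h2, mul_inv_cancel_right]
      rw [hβ1y] at h4
      exact hyy h4.symm
    · -- `b` inverts `y`
      have hb1 : (b : X) * y = y⁻¹ * b := mul_inv_eq_iff_eq_mul.mp h
      refine Or.inl ⟨?_, ?_⟩
      · have : ((b * ⟨β1, hβ1A⟩ : ↥A) : X) = (b : X) * β1 := rfl
        rw [this]
        have e0 : β1 * y = y⁻¹ * β1 := mul_inv_eq_iff_eq_mul.mp hβ1y
        have e1 : β1 * y⁻¹ = y * β1 := by
          have := congrArg (fun t => t⁻¹) hβ1y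
          simp only [mul_inv_rev, inv_inv] at this
          rw [← mul_assoc] at this
          exact mul_inv_eq_iff_eq_mul.mp this
        calc (b : X) * β1 * y = (b : X) * (β1 * y) := by rw [mul_assoc]
          _ = (b : X) * (y⁻¹ * β1) := by rw [e0]
          _ = ((b : X) * y⁻¹) * β1 := by rw [mul_assoc]
          _ = (y * b) * β1 := by
            have e2 : (b : X) * y⁻¹ = y * b := by
              have := congrArg (fun t => t⁻¹) h
              simp only [mul_inv_rev, inv_inv] at this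
              rw [← mul_assoc] at this
              exact mul_inv_eq_iff_eq_mul.mp this
            rw [e2]
          _ = y * ((b : X) * β1) := by rw [mul_assoc]
      · intro hc
        rw [hc] at hb1
        have : y = y⁻¹ := mul_right_cancel hb1
        exact hyy this
  have hAB : Nat.card A = Nat.card B * 2 := by
    have h1 := (B.subgroupOf A).card_mul_index
    rw [hidx, Cfsg.Agent.Helper17.card_subgroupOf_of_le hBA] at h1
    exact h1.symm
  have hBpos : 0 < Nat.card B := Nat.card_pos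
  have hIH := ih (Nat.card B) (by omega) B rfl (hBA.trans hAM) (fun a ha => hA2 a (hBA ha))
  -- the subgroup `U = C_V(B)`
  set U : Subgroup X := V ⊓ centralizer (B : Set X) with hU
  have hUV : U ≤ V := inf_le_left
  have hU2 : ∀ u ∈ U, u * u = 1 := fun u hu => hV2 u (hUV hu)
  have hnormV : ∀ g ∈ M, ∀ v ∈ V, g * v * g⁻¹ ∈ V := by
    intro g hg v hv
    exact (mem_normalizer_iff.mp (hMV hg) v).mp hv
  have hcommU : ∀ g : X, g ∈ M → (∀ b ∈ B, b * g = g * b) → ∀ u ∈ U, g * u * g⁻¹ ∈ U := by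
    intro g hgM hgB u hu
    rw [hU, Subgroup.mem_inf] at hu ⊢
    refine ⟨hnormV g hgM u hu.1, ?_⟩
    rw [mem_centralizer_iff] at hu ⊢
    intro b hb
    have h1 := hu.2 b hb
    have h2 := hgB b hb
    have h3 : b * g⁻¹ = g⁻¹ * b := by
      have : g⁻¹ * (b * g) * g⁻¹ = g⁻¹ * (g * b) * g⁻¹ := by rw [h2]
      have e1 : g⁻¹ * (b * g) * g⁻¹ = g⁻¹ * b := by group
      have e2 : g⁻¹ * (g * b) * g⁻¹ = b * g⁻¹ := by group
      rw [e1, e2] at this
      exact this.symm
    calc b * (g * u * g⁻¹) = (b * g) * u * g⁻¹ := by simp only [mul_assoc]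
      _ = g * (b * u) * g⁻¹ := by rw [h2]; simp only [mul_assoc]
      _ = g * (u * b) * g⁻¹ := by rw [h1]
      _ = g * u * (b * g⁻¹) := by simp only [mul_assoc]
      _ = g * u * g⁻¹ * b := by rw [h3]; simp only [mul_assoc]
  have hyU : ∀ u ∈ U, y * u * y⁻¹ ∈ U := hcommU y hyM hBy
  have hβ1B : ∀ b ∈ B, b * β1 = β1 * b := fun b hb => hAcomm b (hBA hb) β1 hβ1A
  have hbU : ∀ u ∈ U, β1 * u * β1⁻¹ ∈ U := hcommU β1 hβ1M hβ1B
  -- `y` acts nontrivially on `U` (Thompson `P × Q`)
  have hncU : ∃ u ∈ U, y * u ≠ u * y := by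
    by_contra hall
    push Not at hall
    haveI : Fact (Nat.Prime 2) := ⟨Nat.prime_two⟩
    have hBp : IsPGroup 2 B := by
      intro g
      refine ⟨1, ?_⟩
      rw [pow_one, pow_two]; exact Subtype.ext (hA2 g (hBA g.2))
    have hQc : (Nat.card (zpowers y)).Coprime 2 := by
      rw [Nat.card_zpowers, hy]; exact Nat.coprime_two_right.mpr hqodd
    have hzy : ∀ g : X, (∀ t, t = y → g * t = t * g) → g ∈ centralizer ((zpowers y : Subgroup X) : Set X) := by
      intro g hg
      rw [mem_centralizer_iff]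
      rintro _ ⟨i, rfl⟩
      have hc : Commute y g := (hg y rfl).symm
      exact (hc.zpow_left i).eq
    have h1 := Cfsg.Agent.Lead.thompson_PQ 2 B (zpowers y) V hBp hQc hVp
      (fun b hb => hzy b (fun t ht => by rw [ht]; exact hBy b hb))
      (hBA.trans (hAM.trans hMV))
      (by rw [zpowers_le]; exact hMV hyM)
      (fun u hu => hzy u (fun t ht => by rw [ht]; exact (hall u hu).symm))
    have h2 : y ∈ centralizer (V : Set X) := h1 (mem_zpowers y)
    have h3 : y ∈ M ⊓ centralizer (V : Set X) := ⟨hyM, h2⟩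
    rw [hfaith, mem_bot] at h3
    exact hy1 h3
  have hF2 := four_mul_card_le U hU2 y β1 q hq hq2 hq3 hy hβ1sq hβ1y hyU hbU hncU
  -- `C_V(A) = C_U(β1)`
  have hCA : V ⊓ centralizer (A : Set X) = U ⊓ centralizer {β1} := by
    ext x
    rw [Subgroup.mem_inf, Subgroup.mem_inf, hU, Subgroup.mem_inf, mem_centralizer_iff,
      mem_centralizer_iff, mem_centralizer_singleton_iff]
    constructor
    · rintro ⟨hxV, hxA⟩
      exact ⟨⟨hxV, fun b hb => hxA b (hBA hb)⟩, (hxA β1 hβ1A).symm⟩
    · rintro ⟨⟨hxV, hxB⟩, hxβ⟩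
      refine ⟨hxV, ?_⟩
      intro a ha
      by_cases haB : a ∈ B
      · exact hxB a haB
      · -- `a β1 ∈ B`
        have h1 : a * β1 ∈ B := by
          have hx := (Subgroup.index_eq_two_iff.mp hidx)
          obtain ⟨c, hc⟩ := hx
          -- direct argument
          rw [hB, Subgroup.mem_inf, mem_centralizer_singleton_iff]
          refine ⟨A.mul_mem ha hβ1A, ?_⟩
          rcases hyeig a ha with h | h
          · exfalso
            apply haB
            rw [hB, Subgroup.mem_inf, mem_centralizer_singleton_iff]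
            refine ⟨ha, ?_⟩
            calc a * y = (a * y * a⁻¹) * a := by group
              _ = y * a := by rw [h]
          · have hb1 : a * y = y⁻¹ * a := mul_inv_eq_iff_eq_mul.mp h
            have e1 : β1 * y⁻¹ = y * β1 := by
              have := congrArg (fun t => t⁻¹) hβ1y
              simp only [mul_inv_rev, inv_inv] at this
              rw [← mul_assoc] at this
              exact mul_inv_eq_iff_eq_mul.mp this
            have e0 : β1 * y = y⁻¹ * β1 := mul_inv_eq_iff_eq_mul.mp hβ1y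
            have e2 : a * y⁻¹ = y * a := by
              have := congrArg (fun t => t⁻¹) h
              simp only [mul_inv_rev, inv_inv] at this
              rw [← mul_assoc] at this
              exact mul_inv_eq_iff_eq_mul.mp this
            calc a * β1 * y = a * (β1 * y) := by rw [mul_assoc]
              _ = a * (y⁻¹ * β1) := by rw [e0]
              _ = (a * y⁻¹) * β1 := by rw [mul_assoc]
              _ = (y * a) * β1 := by rw [e2]
              _ = y * (a * β1) := by rw [mul_assoc]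
        have h2 := hxB _ h1
        -- `a = (a β1) β1`
        have h3 : (a * β1) * β1 = a := by rw [mul_assoc, hβ1sq, mul_one]
        calc a * x = ((a * β1) * β1) * x := by rw [h3]
          _ = (a * β1) * (β1 * x) := by simp only [mul_assoc]
          _ = (a * β1) * (x * β1) := by rw [← hxβ]
          _ = ((a * β1) * x) * β1 := by simp only [mul_assoc]
          _ = (x * (a * β1)) * β1 := by rw [h2]
          _ = x * ((a * β1) * β1) := by simp only [mul_assoc]
          _ = x * a := by rw [h3]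
  -- index arithmetic
  have hc1 := hrel (V ⊓ centralizer (A : Set X)) inf_le_left
  have hc2 := hrel U hUV
  rw [hCA] at hc1 ⊢
  set c := Nat.card (U ⊓ centralizer {β1} : Subgroup X) with hc
  set rA := (U ⊓ centralizer {β1} : Subgroup X).relIndex V with hrA
  set rB := U.relIndex V with hrB
  have hcpos : 0 < c := Nat.card_pos
  have h5 : c * (4 * rB) ≤ c * rA := by
    calc c * (4 * rB) = (4 * c) * rB := by ring
      _ ≤ Nat.card U * rB := Nat.mul_le_mul_right _ hF2
      _ = Nat.card V := hc2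
      _ = c * rA := hc1.symm
  have h6 : 4 * rB ≤ rA := Nat.le_of_mul_le_mul_left h5 hcpos
  calc (Nat.card A) ^ 2 = 4 * (Nat.card B) ^ 2 := by rw [hAB]; ring
    _ ≤ 4 * rB := Nat.mul_le_mul_left _ hIH
    _ ≤ rA := h6

end Cfsg.Agent.Helper9.S3Sec
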