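import Mathlib
import Cfsg.Agent.Helper9.S4091Defs

set_option autoImplicit false

/-! # S4091 board, piece FIN2: AM-GM in power form -/

namespace Cfsg.Agent.S4091P

/-- AM-GM: `∏ z ≤ ((∑ z) / m) ^ m` for nonnegative reals. -/
theorem FIN2_aux_amgm {ι : Type*} (s : Finset ι) (z : ι → ℝ) (hz : ∀ i ∈ s, 0 ≤ z i) (hs : s.Nonempty) :
    ∏ i ∈ s, z i ≤ ((∑ i ∈ s, z i) / s.card) ^ s.card := by
  have hm : (0 : ℝ) < s.card := by exact_mod_cast Finset.card_pos.2 hs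
  have hw' : ∑ i ∈ s, (fun _ : ι => (1 : ℝ) / s.card) i = 1 := by
    rw [Finset.sum_const, nsmul_eq_mul]
    field_simp
  have h := Real.geom_mean_le_arith_mean_weighted s (fun _ => (1 : ℝ) / s.card) z
    (fun i _ => by positivity) hw' hz
  have h1 : ∏ i ∈ s, z i ^ ((1 : ℝ) / s.card) = (∏ i ∈ s, z i) ^ ((1 : ℝ) / s.card) :=
    Real.finsetProd_rpow s z hz _
  have h2 : ∑ i ∈ s, (1 : ℝ) / s.card * z i = (∑ i ∈ s, z i) / s.card := by
    rw [← Finset.mul_sum]; ring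
  rw [h1, h2] at h
  have hP : 0 ≤ ∏ i ∈ s, z i := Finset.prod_nonneg hz
  have h3 : ((∏ i ∈ s, z i) ^ ((1 : ℝ) / s.card)) ^ s.card ≤ ((∑ i ∈ s, z i) / s.card) ^ s.card :=
    pow_le_pow_left₀ (Real.rpow_nonneg hP _) h _
  have h4 : ((∏ i ∈ s, z i) ^ ((1 : ℝ) / s.card)) ^ s.card = ∏ i ∈ s, z i := by
    rw [← Real.rpow_natCast, ← Real.rpow_mul hP]
    have : (1 : ℝ) / s.card * s.card = 1 := by field_simp
    rw [this, Real.rpow_one]
  rwa [h4] at h3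

/-- FIN2: AM-GM in power form -/
theorem FIN2 {ι : Type*} (s : Finset ι) (t : ι → ℕ) (ht : ∀ i ∈ s, 0 < t i) :
    (s.card : ℝ) ^ s.card ≤ (∑ i ∈ s, (1 : ℝ) / t i) ^ s.card * ∏ i ∈ s, (t i : ℝ) := by
  rcases s.eq_empty_or_nonempty with rfl | hs
  · simp
  have hm : (0 : ℝ) < s.card := by exact_mod_cast Finset.card_pos.2 hs
  have h := FIN2_aux_amgm s (fun i => (1 : ℝ) / t i) (fun i _ => by positivity) hs
  have hT : (0 : ℝ) < ∏ i ∈ s, (t i : ℝ) :=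
    Finset.prod_pos (fun i hi => by exact_mod_cast ht i hi)
  have h1 : ∏ i ∈ s, (1 : ℝ) / t i = 1 / ∏ i ∈ s, (t i : ℝ) := by
    simp only [one_div]
    rw [Finset.prod_inv_distrib]
  rw [h1, div_pow, div_le_div_iff₀ hT (by positivity)] at h
  linarith [h]

end Cfsg.Agent.S4091P
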