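import Mathlib
import Cfsg.Agent.Helper9.S4091Defs
import Cfsg.Agent.Helper8.S4091TFQ
import Cfsg.Agent.Helper23.S4091NQ
import Cfsg.Agent.Helper21.S4091LAMB

set_option autoImplicit false

namespace Cfsg.Agent.S4091P

open Cfsg.Agent.Helper7 (subFinset mem_subFinset card_subFinset)

universe u

variable {p : ℕ} [Fact p.Prime]

/-- a `p`-subgroup meets a normal `p'`-subgroup trivially: the quotient map is injective on it -/
theorem QPP_aux_injOn {G : Type u} [Group G] [Finite G] (N : Subgroup G) [N.Normal]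
    (hN : ¬ p ∣ Nat.card N) (P : Subgroup G) (hP : IsPGroup p P) :
    Set.InjOn (QuotientGroup.mk' N) (P : Set G) := by
  intro x hx y hy hxy
  have h1 : x⁻¹ * y ∈ N := by
    have := QuotientGroup.eq.1 hxy
    exact this
  have h2 : x⁻¹ * y ∈ P := P.mul_mem (P.inv_mem hx) hy
  have hp : p.Prime := Fact.out
  have hcop : (Nat.card P).Coprime (Nat.card N) := by
    obtain ⟨k, hk⟩ := IsPGroup.iff_card.1 hP
    rw [hk]
    exact Nat.Coprime.pow_left k ((Nat.Prime.coprime_iff_not_dvd hp).2 hN)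
  have hdisj : P ⊓ N = ⊥ := (Subgroup.disjoint_of_coprime_natCard hcop).eq_bot  -- placeholder
  have : x⁻¹ * y ∈ P ⊓ N := ⟨h2, h1⟩
  rw [hdisj, Subgroup.mem_bot] at this
  exact inv_mul_eq_one.1 this

/-- the elements of the image of `P` -/
theorem QPP_aux_image {G : Type u} [Group G] [Finite G] (N : Subgroup G) [N.Normal]
    (P : Subgroup G) [DecidableEq (G ⧸ N)] :
    subFinset (P.map (QuotientGroup.mk' N)) = (subFinset P).image (QuotientGroup.mk' N) := by
  ext y
  rw [mem_subFinset, Finset.mem_image, Subgroup.mem_map]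
  constructor
  · rintro ⟨x, hx, rfl⟩
    exact ⟨x, mem_subFinset.2 hx, rfl⟩
  · rintro ⟨x, hx, rfl⟩
    exact ⟨x, mem_subFinset.1 hx, rfl⟩

/-- QPP: quotient by a normal `p'`-subgroup -/
theorem QPP {G : Type u} [Group G] [Finite G] (N : Subgroup G) [N.Normal]
    (hN : ¬ p ∣ Nat.card N) (h : LG p (G ⧸ N)) : LG p G := by
  classical
  intro P
  have hp : p.Prime := Fact.out
  set π := QuotientGroup.mk' N with hπ
  have hsurj : Function.Surjective π := QuotientGroup.mk'_surjective N
  set Pb : Sylow p (G ⧸ N) := P.mapSurjective hsurj with hPb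
  have hPbcoe : (Pb : Subgroup (G ⧸ N)) = (P : Subgroup G).map π := Sylow.coe_mapSurjective hsurj P
  have hq := h Pb
  rw [hPbcoe] at hq
  have hinj := QPP_aux_injOn N hN (P : Subgroup G) P.isPGroup'
  -- cardinalities
  set m := Nat.card ↥(P : Subgroup G) with hm
  have hmb : Nat.card ↥((P : Subgroup G).map π) = m := by
    rw [← card_subFinset, QPP_aux_image, Finset.card_image_of_injOn, card_subFinset]
    intro x hx y hy hxy
    exact hinj (mem_subFinset.1 hx) (mem_subFinset.1 hy) hxy
  rw [hmb] at hq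
  have hprod : ∏ y ∈ subFinset ((P : Subgroup G).map π), tc ((P : Subgroup G).map π) y
      = ∏ x ∈ subFinset (P : Subgroup G), tc ((P : Subgroup G).map π) (π x) := by
    rw [QPP_aux_image, Finset.prod_image]
    intro x hx y hy hxy
    exact hinj (mem_subFinset.1 hx) (mem_subFinset.1 hy) hxy
  rw [hprod] at hq
  have hT : ∏ x ∈ subFinset (P : Subgroup G), tc (P : Subgroup G) x
      = (∏ x ∈ subFinset (P : Subgroup G), tc ((P : Subgroup G).map π) (π x))
        * ∏ x ∈ subFinset (P : Subgroup G), Nat.card ↥(N ⊓ Subgroup.centralizer ({x} : Set G)) := by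
    rw [← Finset.prod_mul_distrib]
    apply Finset.prod_congr rfl
    intro x hx
    exact TFQ N hN P (mem_subFinset.1 hx)
  have hL := LAMB (p := p) (P : Subgroup G) N P.isPGroup' hN
  have hNQ := NQ N hN P
  have hG : Nat.card G = Nat.card (G ⧸ N) * Nat.card N := by
    rw [← Subgroup.index_eq_card, Subgroup.index_mul_card]
  rw [hT, mul_pow, hNQ, hG]
  set A := ∏ x ∈ subFinset (P : Subgroup G), tc ((P : Subgroup G).map π) (π x)
  set B := ∏ x ∈ subFinset (P : Subgroup G), Nat.card ↥(N ⊓ Subgroup.centralizer ({x} : Set G))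
  set cb := Nat.card ↥(Subgroup.normalizer (((P : Subgroup G).map π : Subgroup (G ⧸ N)) : Set (G ⧸ N)))
  set f := Nat.card ↥(N ⊓ Subgroup.centralizer ((P : Subgroup G) : Set G))
  set ν := Nat.card N
  set gb := Nat.card (G ⧸ N)
  calc A ^ p * B ^ p ≤ (cb ^ ((p - 1) * m) * gb ^ m) * (ν * f ^ (p - 1)) ^ m :=
        Nat.mul_le_mul hq hL
    _ = (cb * f) ^ ((p - 1) * m) * (gb * ν) ^ m := by
        rw [mul_pow, mul_pow, mul_pow, ← pow_mul]; ring

end Cfsg.Agent.S4091P
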