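import Mathlib
import Cfsg.Agent.Helper9.S4091Defs
import Cfsg.Agent.Lead.PSolvHall
import Cfsg.Agent.Helper10.S4091QP
import Cfsg.Agent.Helper9.S4091QPP

set_option autoImplicit false

namespace Cfsg.Agent.S4091P

open Cfsg.Agent.Helper7 (subFinset mem_subFinset card_subFinset)

universe u

variable {p : ℕ} [Fact p.Prime]

/-- (LG) for the trivial group -/
theorem IND_aux_trivial (G : Type u) [Group G] [Finite G] (h : Nat.card G = 1) : LG p G := by
  intro P
  have hsub : Subsingleton G := (Nat.card_eq_one_iff_unique.1 h).1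
  have hP : Nat.card ↥(P : Subgroup G) = 1 := by
    apply le_antisymm _ Nat.card_pos
    rw [← h]; exact Subgroup.card_le_card_group _
  have hN : Nat.card ↥(Subgroup.normalizer ((P : Subgroup G) : Set G)) = 1 := by
    apply le_antisymm _ Nat.card_pos
    rw [← h]; exact Subgroup.card_le_card_group _
  have hT : ∀ x, tc (P : Subgroup G) x ≤ 1 := by
    intro x
    unfold tc
    calc Nat.card {g : G // g * x * g⁻¹ ∈ (P : Subgroup G)} ≤ Nat.card G :=
          Nat.card_le_card_of_injective _ Subtype.val_injective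
      _ = 1 := h
  rw [hP, hN, h]
  simp only [one_pow, mul_one]
  calc (∏ x ∈ subFinset (P : Subgroup G), tc (P : Subgroup G) x) ^ p
      ≤ (∏ _x ∈ subFinset (P : Subgroup G), 1) ^ p :=
        Nat.pow_le_pow_left (Finset.prod_le_prod' (fun x _ => hT x)) p
    _ = 1 := by simp

/-- IND: (LG) for all `p`-solvable groups -/
theorem IND : ∀ (n : ℕ) (G : Type u) [Group G] [Finite G], Nat.card G = n →
    Cfsg.IsPSolvable p G → LG p G := by
  intro n
  induction n using Nat.strong_induction_on with
  | _ n ih =>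
  intro G _ _ hn hsol
  by_cases h1 : Nat.card G = 1
  · exact IND_aux_trivial G h1
  have hnt : Nontrivial G := by
    rw [← Finite.one_lt_card_iff_nontrivial]
    have : 0 < Nat.card G := Nat.card_pos
    omega
  obtain ⟨K, hKn, hKne, hK⟩ := Cfsg.Agent.Lead.exists_normal_of_isPSolvable hsol
  have hlt : Nat.card (G ⧸ K) < n := by
    rw [← hn, ← Subgroup.index_eq_card, ← Subgroup.index_mul_card K]
    have hKpos : 1 < Nat.card K := by
      rw [Subgroup.one_lt_card_iff_ne_bot]; exact hKne
    have hipos : 0 < K.index := Nat.pos_of_ne_zero Subgroup.index_ne_zero_of_finite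
    nlinarith
  have hq : LG p (G ⧸ K) :=
    ih _ hlt (G ⧸ K) rfl (Cfsg.Agent.Lead.isPSolvable_quotient hsol K)
  rcases hK with ⟨m, hm⟩ | hc
  · exact QP K (IsPGroup.of_card hm) hq
  · refine QPP K ?_ hq
    intro hdvd
    have hp : p.Prime := Fact.out
    have := Nat.Coprime.eq_one_of_dvd hc.symm hdvd
    exact hp.one_lt.ne' this

end Cfsg.Agent.S4091P
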