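import Mathlib
import Cfsg.Agent.Helper18.S4274SYLDATA
import Cfsg.Agent.Helper22.S4274COMMSYMM
import Cfsg.Agent.Helper22.S4274COUNTSUM
import Cfsg.Agent.Helper27.S4274BRFILTER
import Cfsg.Agent.Helper22.S4274COUNT2

set_option autoImplicit false

/-! S4274 board (driver helper27): common part of the pieces K87780A and K87780B
(no simple group of order 87780 = 2^2.3.5.7.11.19 having 210 or 1540 Sylow 19-subgroups). -/

namespace Cfsg.Agent.S4274P

namespace K87780

variable {H : Type*} [Group H] [Finite H]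

/-- the contrapositive of COMMSYMM -/
theorem not_dvd_cen (r s : ℕ) [Fact r.Prime] [Fact s.Prime] (R : Sylow r H) (S : Sylow s H)
    (hR : Nat.card (R : Subgroup H) = r) (hS : Nat.card (S : Subgroup H) = s)
    (h : ¬ s ∣ Nat.card (Subgroup.centralizer ((R : Subgroup H) : Set H))) :
    ¬ r ∣ Nat.card (Subgroup.centralizer ((S : Subgroup H) : Set H)) :=
  fun h' => h (dvd_centralizer_symm s r S R hS hR h')

theorem km_of_prod {n r k m c : ℕ} (h : n * (r * k * m) = n * r * c) (hn : 0 < n * r) : k * m = c := by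
  have : n * (r * k * m) = n * r * (k * m) := by ring
  rw [this] at h
  exact Nat.eq_of_mul_eq_mul_left hn h

/-- a prime dividing the order but neither the centraliser order nor `s - 1` divides `n_s` -/
theorem dvd_n_of {p s n k m N : ℕ} (hp : p.Prime) (hprod : n * (s * k * m) = N) (hpd : p ∣ N)
    (hc : ¬ p ∣ s * k) (hm : m ∣ s - 1) (hs : 0 < s - 1) (hps : s - 1 < p) : p ∣ n := by
  rw [← hprod] at hpd
  rcases (Nat.Prime.dvd_mul hp).mp hpd with h | h
  · exact h
  · rcases (Nat.Prime.dvd_mul hp).mp h with h | h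
    · exact absurd h hc
    · exfalso
      have h1 : m ≤ s - 1 := Nat.le_of_dvd hs hm
      have h2 : 0 < m := Nat.pos_of_dvd_of_pos hm hs
      have h3 : p ≤ m := Nat.le_of_dvd h2 h
      omega

/-- the arithmetic at the prime 5 -/
theorem arith5 {n k m : ℕ} (hp : n * (5 * k * m) = 87780) (ha : ¬ 11 ∣ 5 * k) (hb : ¬ 19 ∣ 5 * k)
    (hm : m ∣ 5 - 1) (hm1 : m ≠ 1) (hmod : n % 5 = 1) : n = 2926 ∧ k = 3 ∧ m = 2 := by
  have h11 : 11 ∣ n := dvd_n_of (by norm_num) hp (by norm_num) ha hm (by norm_num) (by norm_num)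
  have h19 : 19 ∣ n := dvd_n_of (by norm_num) hp (by norm_num) hb hm (by norm_num) (by norm_num)
  have h209 : 11 * 19 ∣ n := Nat.Coprime.mul_dvd_of_dvd_of_dvd (by norm_num) h11 h19
  obtain ⟨d, rfl⟩ := h209
  have hkm : d * (k * m) = 84 := by
    have h1 : 11 * 19 * d * (5 * k * m) = 1045 * (d * (k * m)) := by ring
    rw [h1] at hp
    omega
  have hmle : m ≤ 5 - 1 := Nat.le_of_dvd (by norm_num) hm
  have hd : d = 4 ∨ d = 14 ∨ d = 84 := by
    generalize k * m = j at hkm
    have hd84 : d ≤ 84 := Nat.le_of_dvd (by norm_num) ⟨j, hkm.symm⟩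
    interval_cases d <;> omega
  rcases hd with rfl | rfl | rfl
  · exfalso
    have : k * m = 21 := by omega
    interval_cases m <;> omega
  · have : k * m = 6 := by omega
    interval_cases m <;> omega
  · exfalso
    have : k * m = 1 := by omega
    interval_cases m <;> omega

/-- the arithmetic at the prime 7 -/
theorem arith7 {n k m : ℕ} (hp : n * (7 * k * m) = 87780) (ha : ¬ 11 ∣ 7 * k) (hb : ¬ 19 ∣ 7 * k)
    (hm : m ∣ 7 - 1) (hm1 : m ≠ 1) (hmod : n % 7 = 1) :
    (n = 1254 ∧ k = 5 ∧ m = 2) ∨ (n = 4180 ∧ k = 1 ∧ m = 3) := by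
  have h11 : 11 ∣ n := dvd_n_of (by norm_num) hp (by norm_num) ha hm (by norm_num) (by norm_num)
  have h19 : 19 ∣ n := dvd_n_of (by norm_num) hp (by norm_num) hb hm (by norm_num) (by norm_num)
  have h209 : 11 * 19 ∣ n := Nat.Coprime.mul_dvd_of_dvd_of_dvd (by norm_num) h11 h19
  obtain ⟨d, rfl⟩ := h209
  have hkm : d * (k * m) = 60 := by
    have h1 : 11 * 19 * d * (7 * k * m) = 1463 * (d * (k * m)) := by ring
    rw [h1] at hp
    omega
  have hmle : m ≤ 7 - 1 := Nat.le_of_dvd (by norm_num) hm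
  have hd : d = 6 ∨ d = 20 := by
    generalize k * m = j at hkm
    have hd60 : d ≤ 60 := Nat.le_of_dvd (by norm_num) ⟨j, hkm.symm⟩
    interval_cases d <;> omega
  rcases hd with rfl | rfl
  · left
    have : k * m = 10 := by omega
    interval_cases m <;> omega
  · right
    have : k * m = 3 := by omega
    interval_cases m <;> omega

variable [IsSimpleGroup H]

/-- the common end of both cases: if neither 11 nor 19 divides the order of the centraliser of a
Sylow 5-subgroup or of a Sylow 7-subgroup, then there are many elements of orders 7, 5 and 15 -/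
theorem count57 (hnc : ¬ IsMulCommutative H) (hH : Nat.card H = 87780)
    (h5 : ∀ R : Sylow 5 H, Nat.card (R : Subgroup H) = 5 →
      ¬ 11 ∣ Nat.card (Subgroup.centralizer ((R : Subgroup H) : Set H)) ∧
      ¬ 19 ∣ Nat.card (Subgroup.centralizer ((R : Subgroup H) : Set H)))
    (h7 : ∀ R : Sylow 7 H, Nat.card (R : Subgroup H) = 7 →
      ¬ 11 ∣ Nat.card (Subgroup.centralizer ((R : Subgroup H) : Set H)) ∧
      ¬ 19 ∣ Nat.card (Subgroup.centralizer ((R : Subgroup H) : Set H))) :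
    60192 ≤ Nat.card {g : H // orderOf g = 7} + Nat.card {g : H // orderOf g = 5} +
      Nat.card {g : H // orderOf g = 15} := by
  have : Fact (Nat.Prime 3) := ⟨by norm_num⟩
  have : Fact (Nat.Prime 5) := ⟨by norm_num⟩
  have : Fact (Nat.Prime 7) := ⟨by norm_num⟩
  obtain ⟨n5, k5, m5, hn5, hp5, hmod5, -, -, hm5, hm5', hR5⟩ :=
    sylow_data hnc 5 17556 (by rw [hH]) (by norm_num)
  obtain ⟨n7, k7, m7, hn7, hp7, hmod7, -, -, hm7, hm7', hR7⟩ :=
    sylow_data hnc 7 12540 (by rw [hH]) (by norm_num)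
  obtain ⟨R5⟩ : Nonempty (Sylow 5 H) := inferInstance
  obtain ⟨R7⟩ : Nonempty (Sylow 7 H) := inferInstance
  obtain ⟨hR5c, hC5, hN5⟩ := hR5 R5
  obtain ⟨hR7c, hC7, hN7⟩ := hR7 R7
  obtain ⟨h5a, h5b⟩ := h5 R5 hR5c
  obtain ⟨h7a, h7b⟩ := h7 R7 hR7c
  rw [hC5] at h5a h5b
  rw [hC7] at h7a h7b
  rw [hH] at hp5 hp7
  obtain ⟨rfl, rfl, rfl⟩ := arith5 hp5 h5a h5b hm5 hm5' hmod5
  have hn7' : n7 = 4180 := by
    rcases arith7 hp7 h7a h7b hm7 hm7' hmod7 with ⟨-, rfl, -⟩ | ⟨h, -, -⟩
    · exfalso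
      have h1 : 5 ∣ Nat.card (Subgroup.centralizer ((R7 : Subgroup H) : Set H)) := by
        rw [hC7]; norm_num
      have h2 := dvd_centralizer_symm 7 5 R7 R5 hR7c hR5c h1
      rw [hC5] at h2
      norm_num at h2
    · exact h
  subst hn7'
  have c7 : Nat.card {g : H // orderOf g = 7} = 4180 * (7 - 1) := by
    rw [Cfsg.Agent.Helper11.card_orderOf_eq_prime R7 hR7c, hn7]
  have c5 : Nat.card {g : H // orderOf g = 5} = 2926 * (5 - 1) := by
    rw [Cfsg.Agent.Helper11.card_orderOf_eq_prime R5 hR5c, hn5]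
  have c15 : 2926 * (5 - 1) * (3 - 1) ≤ Nat.card {g : H // orderOf g = 15} := by
    have := card_orderOf_mul_ge 5 3 (by norm_num) R5 hR5c (by rw [hC5]; norm_num)
    rw [hn5] at this
    exact this
  omega

end K87780

end Cfsg.Agent.S4274P
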