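import Mathlib
import Cfsg.Agent.Helper9.S4274K87780Lib

set_option autoImplicit false

/-! S4274 board (driver helper27), piece K87780B: no simple group of order 87780 has exactly 1540
Sylow 19-subgroups. -/

namespace Cfsg.Agent.S4274P

/-- K87780B -/
theorem no_simple_87780b {H : Type*} [Group H] [Finite H] [IsSimpleGroup H]
    (hnc : ¬ IsMulCommutative H) (hH : Nat.card H = 87780)
    (hn : Nat.card (Sylow 19 H) = 1540) : False := by
  have : Fact (Nat.Prime 5) := ⟨by norm_num⟩
  have : Fact (Nat.Prime 7) := ⟨by norm_num⟩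
  have : Fact (Nat.Prime 11) := ⟨by norm_num⟩
  have : Fact (Nat.Prime 19) := ⟨by norm_num⟩
  obtain ⟨n19, k19, m19, hn19, hp19, -, -, -, hm19, hm19', hR19⟩ :=
    sylow_data hnc 19 4620 (by rw [hH]) (by norm_num)
  obtain ⟨n11, k11, m11, hn11, hp11, hmod11, hne11, -, hm11, hm11', hR11⟩ :=
    sylow_data hnc 11 7980 (by rw [hH]) (by norm_num)
  obtain ⟨R19⟩ : Nonempty (Sylow 19 H) := inferInstance
  obtain ⟨R11⟩ : Nonempty (Sylow 11 H) := inferInstance
  obtain ⟨hR19c, hC19, hN19⟩ := hR19 R19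
  obtain ⟨hR11c, hC11, hN11⟩ := hR11 R11
  rw [hn] at hn19
  subst hn19
  rw [hH] at hp19 hp11
  -- the prime 19: `k = 1`, `m = 3`
  obtain ⟨rfl, rfl⟩ : k19 = 1 ∧ m19 = 3 := by
    have h1 : k19 * m19 = 3 := K87780.km_of_prod (hp19.trans (by norm_num)) (by norm_num)
    have hmle : m19 ≤ 19 - 1 := Nat.le_of_dvd (by norm_num) hm19
    interval_cases m19 <;> omega
  -- the prime 11: `19 ∣ n_11`
  have h19c : ¬ 19 ∣ 11 * k11 := by
    rw [← hC11]
    exact K87780.not_dvd_cen 19 11 R19 R11 hR19c hR11c (by rw [hC19]; norm_num)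
  have h19n : 19 ∣ n11 :=
    K87780.dvd_n_of (by norm_num) hp11 (by norm_num) h19c hm11 (by norm_num) (by norm_num)
  obtain ⟨d, rfl⟩ := h19n
  have hkm : d * (k11 * m11) = 420 := by
    have h1 : 19 * d * (11 * k11 * m11) = 209 * (d * (k11 * m11)) := by ring
    rw [h1] at hp11
    omega
  have hmle : m11 ≤ 11 - 1 := Nat.le_of_dvd (by norm_num) hm11
  have hcases : d = 7 ∨ d = 84 := by
    generalize k11 * m11 = j at hkm
    obtain ⟨e, rfl⟩ : ∃ e, d = 11 * e + 7 := ⟨d / 11, by omega⟩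
    have he : 11 * e + 7 ≤ 420 := Nat.le_of_dvd (by norm_num) ⟨j, hkm.symm⟩
    have he' : e ≤ 37 := by omega
    interval_cases e <;> omega
  rcases hcases with rfl | rfl
  · -- `n_11 = 133 = 1 + 12 * 11`: the Brauer–Reynolds filter
    rcases br_filter hnc 11 R11 hR11c 12 (by rw [hn11]) with ⟨-, h⟩ | ⟨m, hm, -, -⟩ | ⟨h, u, hh, hu, heq⟩
    · rw [hH] at h
      norm_num at h
    · have h10 : 2 ^ m = 10 := by omega
      have hm4 : m < 4 := by
        by_contra hge
        push Not at hge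
        have : 2 ^ 4 ≤ 2 ^ m := Nat.pow_le_pow_right (by norm_num) hge
        omega
      interval_cases m <;> omega
    · have hh2 : h ≤ 2 := by nlinarith
      have hu12 : u ≤ 12 := by nlinarith
      interval_cases h <;> interval_cases u <;> omega
  -- `n_11 = 1596`, `k = 1`, `m = 5`
  obtain ⟨rfl, rfl⟩ : k11 = 1 ∧ m11 = 5 := by
    have h1 : k11 * m11 = 5 := by omega
    interval_cases m11 <;> omega
  -- the primes 5 and 7
  have h5 : ∀ R : Sylow 5 H, Nat.card (R : Subgroup H) = 5 →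
      ¬ 11 ∣ Nat.card (Subgroup.centralizer ((R : Subgroup H) : Set H)) ∧
      ¬ 19 ∣ Nat.card (Subgroup.centralizer ((R : Subgroup H) : Set H)) := by
    intro R hR
    constructor
    · exact K87780.not_dvd_cen 11 5 R11 R hR11c hR (by rw [hC11]; norm_num)
    · exact K87780.not_dvd_cen 19 5 R19 R hR19c hR (by rw [hC19]; norm_num)
  have h7 : ∀ R : Sylow 7 H, Nat.card (R : Subgroup H) = 7 →
      ¬ 11 ∣ Nat.card (Subgroup.centralizer ((R : Subgroup H) : Set H)) ∧
      ¬ 19 ∣ Nat.card (Subgroup.centralizer ((R : Subgroup H) : Set H)) := by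
    intro R hR
    constructor
    · exact K87780.not_dvd_cen 11 7 R11 R hR11c hR (by rw [hC11]; norm_num)
    · exact K87780.not_dvd_cen 19 7 R19 R hR19c hR (by rw [hC19]; norm_num)
  have hcount := K87780.count57 hnc hH h5 h7
  -- counting
  have c19 : Nat.card {g : H // orderOf g = 19} = 1540 * (19 - 1) := by
    rw [Cfsg.Agent.Helper11.card_orderOf_eq_prime R19 hR19c, hn]
  have c11 : Nat.card {g : H // orderOf g = 11} = 19 * 84 * (11 - 1) := by
    rw [Cfsg.Agent.Helper11.card_orderOf_eq_prime R11 hR11c, hn11]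
  have hsum := sum_card_orderOf_le (H := H) {19, 11, 7, 5, 15}
  rw [hH] at hsum
  simp only [Finset.mem_insert, Finset.mem_singleton, Finset.sum_insert, Finset.sum_singleton,
    Nat.reduceEqDiff, or_self, not_false_eq_true] at hsum
  omega

end Cfsg.Agent.S4274P
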