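import Mathlib
import Cfsg.Agent.Helper18.S4274SYLDATA

set_option autoImplicit false

/-! S4274 board (driver helper27), piece ORD: the possible orders of a proper simple section. -/

namespace Cfsg.Agent.S4274P

/-- ORD -/
theorem card_cases {H : Type*} [Group H] [Finite H] [IsSimpleGroup H]
    (hnc : ¬ IsMulCommutative H) (hd : Nat.card H ∣ 175560) (h19 : 19 ∣ Nat.card H)
    (hlt : Nat.card H ≠ 175560)
    (hn : Nat.card (Sylow 19 H) = 210 ∨ Nat.card (Sylow 19 H) = 1540) :
    (Nat.card (Sylow 19 H) = 210 ∧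
      (Nat.card H = 7980 ∨ Nat.card H = 15960 ∨ Nat.card H = 87780)) ∨
    (Nat.card (Sylow 19 H) = 1540 ∧ (Nat.card H = 58520 ∨ Nat.card H = 87780)) := by
  have : Fact (Nat.Prime 19) := ⟨by norm_num⟩
  obtain ⟨a, ha⟩ := h19
  have hH : Nat.card H = a * 19 := by rw [ha, mul_comm]
  have h19a : ¬ 19 ∣ a := by
    rintro ⟨b, rfl⟩
    rw [hH] at hd
    have : 19 * 19 ∣ 175560 := Dvd.dvd.trans ⟨b, by ring⟩ hd
    norm_num at this
  obtain ⟨n, k, m, hn', hprod, -, -, -, hm18, hm1, -⟩ := sylow_data hnc 19 a hH h19a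
  have hm18' : m ∣ 18 := hm18
  rw [hn'] at hn ⊢
  rcases hn with rfl | rfl
  · left
    refine ⟨rfl, ?_⟩
    -- `|H| = 3990 (k m)` with `k m ∣ 44`
    have hkm : k * m ∣ 44 := by
      have h1 : 3990 * (k * m) ∣ 3990 * 44 := by
        have : 3990 * (k * m) = Nat.card H := by rw [← hprod]; ring
        rw [this]; exact hd
      exact Nat.dvd_of_mul_dvd_mul_left (by norm_num) h1
    have hm2 : m ∣ 2 := by
      have : m ∣ Nat.gcd 18 44 := Nat.dvd_gcd hm18' (Dvd.dvd.trans (Dvd.intro_left k rfl) hkm)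
      simpa using this
    have hm : m = 2 := by
      have := Nat.le_of_dvd (by norm_num) hm2
      have hpos : 0 < m := Nat.pos_of_dvd_of_pos hm2 (by norm_num)
      interval_cases m
      · exact absurd rfl hm1
      · rfl
    subst hm
    have hk : k ∣ 22 := by
      have : k * 2 ∣ 22 * 2 := hkm
      exact Nat.dvd_of_mul_dvd_mul_right (by norm_num) this
    have hk22 : k ≤ 22 := Nat.le_of_dvd (by norm_num) hk
    have hkpos : 0 < k := Nat.pos_of_dvd_of_pos hk (by norm_num)
    interval_cases k <;> omega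
  · right
    refine ⟨rfl, ?_⟩
    have hkm : k * m ∣ 6 := by
      have h1 : 29260 * (k * m) ∣ 29260 * 6 := by
        have : 29260 * (k * m) = Nat.card H := by rw [← hprod]; ring
        rw [this]; exact hd
      exact Nat.dvd_of_mul_dvd_mul_left (by norm_num) h1
    have hkm6 : k * m ≤ 6 := Nat.le_of_dvd (by norm_num) hkm
    have hmpos : 0 < m := Nat.pos_of_dvd_of_pos hm18' (by norm_num)
    have hkpos : 0 < k := by
      rcases Nat.eq_zero_or_pos k with h | h
      · subst h; simp at hkm
      · exact h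
    have hm6 : m ≤ 6 := by nlinarith
    have hk6 : k ≤ 6 := by nlinarith
    interval_cases m <;> interval_cases k <;> omega

end Cfsg.Agent.S4274P
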