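import Mathlib
import Cfsg.Agent.Helper4.S4404Defs

set_option autoImplicit false

namespace Cfsg.Agent.S4404P

open Subgroup

variable {S : Type*} [Group S] [Finite S]

/-- EAMONO -/
theorem isElementaryAbelian_mono (r : ℕ) (A B : Subgroup S) (hA : Cfsg.IsElementaryAbelian r A) (hBA : B ≤ A) :
    Cfsg.IsElementaryAbelian r B := by
  obtain ⟨hc, he⟩ := hA
  refine ⟨⟨⟨?_⟩⟩, fun b hb => he b (hBA hb)⟩
  rintro ⟨a, ha⟩ ⟨b, hb⟩
  have := hc.is_comm.comm ⟨a, hBA ha⟩ ⟨b, hBA hb⟩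
  have h2 : a * b = b * a := congrArg Subtype.val this
  exact Subtype.ext h2

end Cfsg.Agent.S4404P
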