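import Mathlib
import Cfsg.Agent.Helper9.S4415Defs
import Cfsg.Agent.Helper9.S4415MOD4
import Cfsg.Agent.Helper21.S44093SUB
import Cfsg.Agent.Helper6.S4415MOD1
import Cfsg.Agent.Helper19.S4415MOD2
import Cfsg.Agent.Helper23.S4415MOD3
import Cfsg.Agent.Helper15.S4415MOD10
import Cfsg.Agent.Helper15.S4415MOD11

/-! Board `s4415pieces`, row B3 (P2). -/

set_option autoImplicit false
set_option linter.unusedVariables false
set_option linter.unusedSectionVars false
set_option linter.style.haveILetI false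

namespace Cfsg.Agent.S4415P

open Subgroup
open scoped commutatorElement
open Cfsg.Agent.S4409P (Zc Fr Der IsV4 IsQ8 SpecialInt IsAb)

variable {S : Type*} [Group S] [Finite S] {E : Type*} [AddCommGroup E] [Module (ZMod 3) E] [Finite E]

/-- an element commuting with `y` normalises `zpowers y`. -/
theorem B3_aux_mem_normalizer_zpowers (g y : S) (h : g * y = y * g) : g ∈ normalizer ((zpowers y : Subgroup S) : Set S) := by
  apply (Subgroup.centralizer_le_normalizer _)
  rw [mem_centralizer_iff]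
  intro c hc
  obtain ⟨k, rfl⟩ := hc
  exact ((Commute.zpow_right (show Commute g y from h) k).eq).symm

/-- the common part: if `b` is trivial on `[E, y]`, `y` central in `RB`, then `y = 1`. -/
theorem B3_aux_eq_one_of_triv (ρ : Representation (ZMod 3) S E) (b : S) (B : Subgroup S) (hb : Base ρ b B)
    (R : Subgroup S) (hR : YC B R) (y : S) (hyR : y ∈ R) (hcR : ∀ r ∈ R, r * y = y * r)
    (ht : ∀ v ∈ ComE ρ (zpowers y), ρ b v = v) : y = 1 := by
  have hcop : (Nat.card ↥(zpowers y)).Coprime 3 :=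
    Nat.Coprime.coprime_dvd_left (Subgroup.card_dvd_of_le ((zpowers_le).mpr hyR)) hR.cop
  obtain ⟨hd, hs⟩ := ce_comE_compl ρ (zpowers y) hcop
  have hRinv : Inv ρ R (ComE ρ (zpowers y)) := fun r hr v hv =>
    (inv_of_normalizer ρ (zpowers y) r (B3_aux_mem_normalizer_zpowers r y (hcR r hr))).2 v hv
  have h1 : TrivOn ρ ⁅R, zpowers b⁆ (ComE ρ (zpowers y)) := triv_comm ρ R b _ hRinv ht
  rw [hb.gen, hR.comm] at h1
  have h2 : ComE ρ (zpowers y) ≤ CE ρ (zpowers y) := by
    intro v hv c hc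
    exact h1 c ((zpowers_le).mpr hyR hc) v hv
  have h3 : ComE ρ (zpowers y) = ⊥ := by
    rw [eq_bot_iff, ← hd]
    exact le_inf h2 le_rfl
  apply hb.faith
  rw [map_one]
  ext v
  have h4 : ρ y v - v ∈ ComE ρ (zpowers y) := sub_mem_ComE ρ (mem_zpowers y) v
  rw [h3, Submodule.mem_bot, sub_eq_zero] at h4
  rw [h4]; rfl

/-- if `b` is trivial on `C_E(y)` then `range N² ≤ [E,y]`. -/
theorem B3_aux_range_sq_le (ρ : Representation (ZMod 3) S E) (b : S) (y : S)
    (hcop : (Nat.card ↥(zpowers y)).Coprime 3) (hby : b * y = y * b)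
    (ht : ∀ v ∈ CE ρ (zpowers y), ρ b v = v) :
    LinearMap.range (Nb ρ b ∘ₗ Nb ρ b) ≤ ComE ρ (zpowers y) := by
  obtain ⟨hd, hs⟩ := ce_comE_compl ρ (zpowers y) hcop
  have hinv2 := (inv_of_normalizer ρ (zpowers y) b (B3_aux_mem_normalizer_zpowers b y hby)).2
  have hN : ∀ v : E, Nb ρ b v ∈ ComE ρ (zpowers y) := by
    intro v
    have hv : v ∈ CE ρ (zpowers y) ⊔ ComE ρ (zpowers y) := by rw [hs]; trivial
    obtain ⟨c, hc, w', hw', rfl⟩ := Submodule.mem_sup.mp hv
    rw [map_add, Nb_apply, Nb_apply, ht c hc, sub_self, zero_add]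
    exact sub_mem (hinv2 w' hw') hw'
  rintro w ⟨v, rfl⟩
  exact hN _

/-- a submodule of order `3` consists of the multiples of any of its nonzero elements. -/
theorem B3_aux_line (ℓ : Submodule (ZMod 3) E) (h3 : Nat.card ↥ℓ = 3) (u : E) (hu : u ∈ ℓ) (hu0 : u ≠ 0) :
    ∀ w ∈ ℓ, ∃ c : ZMod 3, w = c • u := by
  classical
  let f : ZMod 3 → ↥ℓ := fun c => ⟨c • u, ℓ.smul_mem c hu⟩
  have hinj : Function.Injective f := by
    intro c d hcd
    have h1 : c • u = d • u := congrArg Subtype.val hcd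
    have h2 : (c - d) • u = 0 := by rw [sub_smul, h1, sub_self]
    rcases smul_eq_zero.mp h2 with h | h
    · exact sub_eq_zero.mp h
    · exact absurd h hu0
  have hcard : Nat.card (ZMod 3) = Nat.card ↥ℓ := by rw [h3, Nat.card_zmod]
  have hbij : Function.Bijective f := by
    haveI : Finite ↥ℓ := inferInstance
    exact (Nat.bijective_iff_injective_and_card f).mpr ⟨hinj, hcard⟩
  intro w hw
  obtain ⟨c, hc⟩ := hbij.2 ⟨w, hw⟩
  exact ⟨c, (congrArg Subtype.val hc).symm⟩

theorem B3_aux_apply_zpow_fixed (ρ : Representation (ZMod 3) S E) (y : S) (v : E) (h : ρ y v = v) :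
    ∀ c ∈ zpowers y, ρ c v = v := by
  have hmem : y ∈ MOD4_aux_fix ρ (Submodule.span (ZMod 3) {v}) := by
    intro w hw
    obtain ⟨a, rfl⟩ := Submodule.mem_span_singleton.mp hw
    rw [map_smul, h]
  intro c hc
  have := (zpowers_le).mpr hmem hc
  exact this v (Submodule.mem_span_singleton_self v)

/-- B3 (P2) -/
theorem small_of_cent (ρ : Representation (ZMod 3) S E) (b : S) (B : Subgroup S) (hb : Base ρ b B) (R : Subgroup S)
    (hR : YC B R) (hne : R ≠ ⊥) (X : Subgroup S) (hXR : X ≤ R) (hRX : R ≤ normalizer (X : Set S))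
    (hBX : B ≤ normalizer (X : Set S)) (hBC : B ≤ centralizer (X : Set S)) :
    Nat.card ↥X ≤ 2 ∧ ∀ z ∈ X, z ≠ 1 → ∀ v ∈ ComE ρ R, ρ z v = -v := by
  classical
  have hbB : b ∈ B := by rw [← hb.gen]; exact mem_zpowers b
  -- `X` is central in `R`
  have hXB : ⁅X, B⁆ = ⊥ := by
    rw [Subgroup.commutator_eq_bot_iff_le_centralizer]
    exact Subgroup.le_centralizer_iff.mp hBC
  have hXZ : X ≤ centralizer (R : Set S) :=
    Cfsg.Agent.S4409P.le_centralizer_of_comm_eq_bot R B X hR.comm hXR hRX hXB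
  have hcR : ∀ x ∈ X, ∀ r ∈ R, r * x = x * r := fun x hx r hr => (mem_centralizer_iff.mp (hXZ hx)) r hr
  have hcb : ∀ x ∈ X, b * x = x * b := fun x hx => ((mem_centralizer_iff.mp (hBC hbB)) x hx).symm
  have hcopX : ∀ x ∈ X, (Nat.card ↥(zpowers x)).Coprime 3 := fun x hx =>
    Nat.Coprime.coprime_dvd_left (Subgroup.card_dvd_of_le ((zpowers_le).mpr (hXR hx))) hR.cop
  -- the line `ℓ = range N²`
  have h3 := card_range_sq ρ b hb.cubic
  obtain ⟨u, huℓ, hu0⟩ : ∃ u ∈ LinearMap.range (Nb ρ b ∘ₗ Nb ρ b), u ≠ 0 := by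
    by_contra hcon
    push Not at hcon
    have : LinearMap.range (Nb ρ b ∘ₗ Nb ρ b) = ⊥ := by
      rw [eq_bot_iff]
      intro w hw
      rw [Submodule.mem_bot]
      exact hcon w hw
    rw [this] at h3
    have h1 : Nat.card ↥(⊥ : Submodule (ZMod 3) E) = 1 := by
      rw [Nat.card_eq_one_iff_unique]
      exact ⟨inferInstance, ⟨0⟩⟩
    omega
  have hline := B3_aux_line _ h3 u huℓ hu0
  -- `x ∈ X` preserves `ℓ`
  have hNcomm : ∀ x ∈ X, ∀ v : E, ρ x (Nb ρ b v) = Nb ρ b (ρ x v) := by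
    intro x hx v
    rw [Nb_apply, Nb_apply, map_sub, ← MOD4_aux_apply_mul, ← MOD4_aux_apply_mul, hcb x hx]
  have hpres : ∀ x ∈ X, ρ x u ∈ LinearMap.range (Nb ρ b ∘ₗ Nb ρ b) := by
    intro x hx
    obtain ⟨v, rfl⟩ := huℓ
    refine ⟨ρ x v, ?_⟩
    simp only [LinearMap.comp_apply]
    rw [hNcomm x hx, hNcomm x hx]
  -- an element of `X` trivial on `u` is `1`
  have hone : ∀ y ∈ X, ρ y u = u → y = 1 := by
    intro y hy hyu
    have hcop := hcopX y hy
    obtain ⟨hd, hs⟩ := ce_comE_compl ρ (zpowers y) hcop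
    have hbN := B3_aux_mem_normalizer_zpowers b y (hcb y hy)
    obtain ⟨hinv1, hinv2⟩ := inv_of_normalizer ρ (zpowers y) b hbN
    rcases split ρ b hb.cubic _ _ hd hs hinv1 hinv2 with h | h
    · exfalso
      have h1 := B3_aux_range_sq_le ρ b y hcop (hcb y hy) h
      have h2 : u ∈ CE ρ (zpowers y) := B3_aux_apply_zpow_fixed ρ y u hyu
      have h3' : u ∈ CE ρ (zpowers y) ⊓ ComE ρ (zpowers y) := ⟨h2, h1 huℓ⟩
      rw [hd, Submodule.mem_bot] at h3'
      exact hu0 h3'
    · exact B3_aux_eq_one_of_triv ρ b B hb R hR y (hXR hy) (fun r hr => hcR y hy r hr) h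
  -- the sign of `x` on `u`
  have hsign : ∀ x ∈ X, ρ x u = u ∨ ρ x u = -u := by
    intro x hx
    obtain ⟨c, hc⟩ := hline _ (hpres x hx)
    have hc0 : c ≠ 0 := by
      rintro rfl
      rw [zero_smul] at hc
      have h1 : ρ x⁻¹ (ρ x u) = u := MOD4_aux_apply_inv ρ x u
      rw [hc, map_zero] at h1
      exact hu0 h1.symm
    have hc3 : c = 0 ∨ c = 1 ∨ c = 2 := by
      have hall : ∀ d : ZMod 3, d = 0 ∨ d = 1 ∨ d = 2 := by decide
      exact hall c
    rcases hc3 with rfl | rfl | rfl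
    · exact absurd rfl hc0
    · left; rw [hc, one_smul]
    · right
      rw [hc]
      have : (2 : ZMod 3) = -1 := by decide
      rw [this, neg_smul, one_smul]
  have hsq : ∀ x ∈ X, x * x = 1 := by
    intro x hx
    apply hone (x * x) (mul_mem hx hx)
    rw [ MOD4_aux_apply_mul]
    rcases hsign x hx with h | h
    · rw [h, h]
    · rw [h, map_neg, h, neg_neg]
  have hneg : ∀ x ∈ X, x ≠ 1 → ρ x u = -u := by
    intro x hx hx1
    rcases hsign x hx with h | h
    · exact absurd (hone x hx h) hx1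
    · exact h
  refine ⟨?_, ?_⟩
  · -- `|X| ≤ 2`
    by_cases hX : ∀ x ∈ X, x = 1
    · have : X = ⊥ := by
        rw [eq_bot_iff]
        intro x hx
        rw [mem_bot]; exact hX x hx
      rw [this, Subgroup.card_bot]; norm_num
    · push Not at hX
      obtain ⟨x₁, hx₁, hx₁1⟩ := hX
      have hall : ∀ x ∈ X, x = 1 ∨ x = x₁ := by
        intro x hx
        by_cases hx1 : x = 1
        · exact Or.inl hx1
        · right
          have h1 : x₁ * x = 1 := by
            apply hone _ (mul_mem hx₁ hx)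
            rw [ MOD4_aux_apply_mul, hneg x hx hx1, map_neg, hneg x₁ hx₁ hx₁1, neg_neg]
          have h2 : x₁ * x₁ = 1 := hsq x₁ hx₁
          exact mul_left_cancel (h1.trans h2.symm)
      have hsub : (X : Set S) ⊆ {1, x₁} := by
        intro x hx
        rcases hall x hx with h | h
        · left; exact h
        · right; exact h
      calc Nat.card ↥X = (X : Set S).ncard := (Nat.card_coe_set_eq _)
        _ ≤ ({1, x₁} : Set S).ncard := Set.ncard_le_ncard hsub (Set.toFinite _)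
        _ ≤ 2 := (Set.ncard_insert_le _ _).trans (by rw [Set.ncard_singleton])
  · -- the involution is `-1` on `[E,R]`
    intro z hz hz1 v hv
    have hcop := hcopX z hz
    obtain ⟨hd, hs⟩ := ce_comE_compl ρ (zpowers z) hcop
    have hbN := B3_aux_mem_normalizer_zpowers b z (hcb z hz)
    obtain ⟨hinv1, hinv2⟩ := inv_of_normalizer ρ (zpowers z) b hbN
    have htriv : ∀ v ∈ CE ρ (zpowers z), ρ b v = v := by
      rcases split ρ b hb.cubic _ _ hd hs hinv1 hinv2 with h | h
      · exact h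
      · exact absurd (B3_aux_eq_one_of_triv ρ b B hb R hR z (hXR hz) (fun r hr => hcR z hz r hr) h) hz1
    -- `R` is trivial on `C_E(z)`
    have hRinv1 : Inv ρ R (CE ρ (zpowers z)) := fun r hr v hv =>
      (inv_of_normalizer ρ (zpowers z) r (B3_aux_mem_normalizer_zpowers r z (hcR z hz r hr))).1 v hv
    have hRinv2 : Inv ρ R (ComE ρ (zpowers z)) := fun r hr v hv =>
      (inv_of_normalizer ρ (zpowers z) r (B3_aux_mem_normalizer_zpowers r z (hcR z hz r hr))).2 v hv
    have hRtriv : TrivOn ρ R (CE ρ (zpowers z)) := by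
      have := triv_comm ρ R b _ hRinv1 htriv
      rwa [hb.gen, hR.comm] at this
    -- `[E,R] ≤ [E,z]`
    have hle : ComE ρ R ≤ ComE ρ (zpowers z) := by
      apply Submodule.span_le.mpr
      rintro w ⟨r, hr, v, rfl⟩
      have hv : v ∈ CE ρ (zpowers z) ⊔ ComE ρ (zpowers z) := by rw [hs]; trivial
      obtain ⟨c, hc, w', hw', rfl⟩ := Submodule.mem_sup.mp hv
      rw [map_add, hRtriv r hr c hc]
      have : c + ρ r w' - (c + w') = ρ r w' - w' := by abel
      rw [this]
      exact sub_mem (hRinv2 r hr w' hw') hw'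
    -- `z = -1` on `[E,z]`
    have hv' := hle hv
    rw [comE_zpowers] at hv'
    obtain ⟨v₀, rfl⟩ := hv'
    rw [Nb_apply, map_sub, ← MOD4_aux_apply_mul, hsq z hz, map_one]
    simp

end Cfsg.Agent.S4415P
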