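import Mathlib
import Cfsg.Agent.Helper9.S4415Defs
import Cfsg.Agent.Helper15.S4415MOD10

/-! Board `s4415pieces`, row MOD0 (`cubic_of_hyp`). -/

set_option autoImplicit false
set_option linter.unusedVariables false
set_option linter.unusedSectionVars false

namespace Cfsg.Agent.S4415P

open Subgroup

variable {S : Type*} [Group S] [Finite S] {E : Type*} [AddCommGroup E] [Module (ZMod 3) E] [Finite E]

/-- MOD0 -/
theorem cubic_of_hyp (ρ : Representation (ZMod 3) S E) (B : Subgroup S) (hB : Nat.card ↥B = 3) (b : S)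
    (hb : zpowers b = B) (E₀ E₁ : Submodule (ZMod 3) E) (hE01 : E₀ ⊓ E₁ = ⊥) (hE01' : E₀ ⊔ E₁ = ⊤)
    (hE1 : ∀ v ∈ E₁, ρ b v = v) (hE0inv : ∀ v ∈ E₀, ρ b v ∈ E₀) (hE0 : Nat.card ↥E₀ = 27)
    (hind : ∃ v ∈ E₀, ρ b (ρ b v - v) - (ρ b v - v) ≠ 0) : Cubic ρ b := by
  classical
  have hpow : b ^ 3 = 1 := by
    have h1 : orderOf b = 3 := by rw [← Nat.card_zpowers, hb, hB]
    rw [← h1]; exact pow_orderOf_eq_one b
  obtain ⟨v, hv, hv2⟩ := hind
  have hN2 : Nb ρ b (Nb ρ b v) ≠ 0 := by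
    rw [Nb_apply, Nb_apply]; exact hv2
  have hcube := MOD10_aux_cube ρ b hpow
  have hN0 : ∀ w ∈ E₀, Nb ρ b w ∈ E₀ := fun w hw => by
    rw [Nb_apply]; exact E₀.sub_mem (hE0inv w hw) hw
  have hN1 : ∀ w ∈ E₁, Nb ρ b w = 0 := fun w hw => by
    rw [Nb_apply, hE1 w hw, sub_self]
  set n1 := Nb ρ b v with hn1
  set n2 := Nb ρ b n1 with hn2
  have hn3 : Nb ρ b n2 = 0 := hcube v
  have hsm : ∀ (a : ZMod 3), a • n2 = 0 → a = 0 := by
    intro a ha
    rcases smul_eq_zero.mp ha with h | h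
    · exact h
    · exact absurd h hN2
  -- a basis of `E₀`
  let g : ZMod 3 × ZMod 3 × ZMod 3 → ↥E₀ := fun p =>
    ⟨p.1 • v + p.2.1 • n1 + p.2.2 • n2,
      E₀.add_mem (E₀.add_mem (E₀.smul_mem _ hv) (E₀.smul_mem _ (hN0 v hv))) (E₀.smul_mem _ (hN0 _ (hN0 v hv)))⟩
  have hindep : ∀ a c d : ZMod 3, a • v + c • n1 + d • n2 = 0 → a = 0 ∧ c = 0 ∧ d = 0 := by
    intro a c d h
    have h1 : Nb ρ b (Nb ρ b (a • v + c • n1 + d • n2)) = 0 := by rw [h, map_zero, map_zero]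
    simp only [map_add, map_smul] at h1
    rw [← hn1, ← hn2, hn3, map_zero, smul_zero, smul_zero, add_zero, add_zero] at h1
    have ha := hsm a h1
    subst ha
    have h2 : Nb ρ b ((0 : ZMod 3) • v + c • n1 + d • n2) = 0 := by rw [h, map_zero]
    simp only [map_add, map_smul, zero_smul, zero_add] at h2
    rw [← hn2, hn3, smul_zero, add_zero] at h2
    have hc := hsm c h2
    subst hc
    rw [zero_smul, zero_smul, zero_add, zero_add] at h
    exact ⟨rfl, rfl, hsm d h⟩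
  have hginj : Function.Injective g := by
    rintro ⟨a, c, d⟩ ⟨a', c', d'⟩ h
    have h1 : a • v + c • n1 + d • n2 = a' • v + c' • n1 + d' • n2 := congrArg Subtype.val h
    have h2 : (a - a') • v + (c - c') • n1 + (d - d') • n2 = 0 := by
      rw [sub_smul, sub_smul, sub_smul]
      have : a • v - a' • v + (c • n1 - c' • n1) + (d • n2 - d' • n2)
          = (a • v + c • n1 + d • n2) - (a' • v + c' • n1 + d' • n2) := by abel
      rw [this, h1, sub_self]
    obtain ⟨e1, e2, e3⟩ := hindep _ _ _ h2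
    rw [sub_eq_zero] at e1 e2 e3
    rw [e1, e2, e3]
  have hgbij : Function.Bijective g := by
    apply Function.Injective.bijective_of_nat_card_le hginj
    rw [hE0]
    simp [Nat.card_prod]
  -- the range
  let f : ZMod 3 × ZMod 3 → ↥(LinearMap.range (Nb ρ b)) := fun p =>
    ⟨p.1 • n1 + p.2 • n2, by
      refine Submodule.add_mem _ (Submodule.smul_mem _ _ ⟨v, rfl⟩) (Submodule.smul_mem _ _ ⟨n1, rfl⟩)⟩
  have hfinj : Function.Injective f := by
    rintro ⟨c, d⟩ ⟨c', d'⟩ h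
    have h1 : c • n1 + d • n2 = c' • n1 + d' • n2 := congrArg Subtype.val h
    have h2 : (0 : ZMod 3) • v + (c - c') • n1 + (d - d') • n2 = 0 := by
      rw [sub_smul, sub_smul, zero_smul, zero_add]
      have : c • n1 - c' • n1 + (d • n2 - d' • n2) = (c • n1 + d • n2) - (c' • n1 + d' • n2) := by abel
      rw [this, h1, sub_self]
    obtain ⟨-, e2, e3⟩ := hindep _ _ _ h2
    rw [sub_eq_zero] at e2 e3
    rw [e2, e3]
  have hfsurj : Function.Surjective f := by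
    rintro ⟨w, u, rfl⟩
    have hu : u ∈ E₀ ⊔ E₁ := by rw [hE01']; trivial
    obtain ⟨u₀, hu₀, u₁, hu₁, rfl⟩ := Submodule.mem_sup.mp hu
    obtain ⟨⟨a, c, d⟩, hg⟩ := hgbij.2 ⟨u₀, hu₀⟩
    have hg' : a • v + c • n1 + d • n2 = u₀ := congrArg Subtype.val hg
    refine ⟨(a, c), Subtype.ext ?_⟩
    show a • n1 + c • n2 = Nb ρ b (u₀ + u₁)
    rw [map_add, hN1 u₁ hu₁, add_zero, ← hg']
    simp only [map_add, map_smul]
    rw [← hn1, ← hn2, hn3, smul_zero, add_zero]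
  refine ⟨hpow, ?_, ⟨v, hN2⟩⟩
  rw [← Nat.card_congr (Equiv.ofBijective f ⟨hfinj, hfsurj⟩)]
  simp [Nat.card_prod]

end Cfsg.Agent.S4415P
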