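import Mathlib
import Cfsg.Agent.Helper9.S4415Defs
import Cfsg.Agent.Helper13.S4415B1
import Cfsg.Agent.Helper3.S4415B2
import Cfsg.Agent.Helper9.S4415B3
import Cfsg.Agent.Helper16.S4415D1A
import Cfsg.Agent.Helper1.S4415D1C
import Cfsg.Agent.Helper21.S4415D1D
import Cfsg.Agent.Helper22.S4415D1E
import Cfsg.Agent.Helper13.S4415D1F
import Cfsg.Agent.Helper27.S4415D2
import Cfsg.Agent.Helper22.S4415DET2
import Cfsg.Agent.Helper20.S4415E0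
import Cfsg.Agent.Helper13.S4415E1
import Cfsg.Agent.Helper25.S4415E2
import Cfsg.Agent.Helper17.S4415E3
import Cfsg.Agent.Helper16.S4415E4
import Cfsg.Agent.Helper20.S4415E5
import Cfsg.Agent.Helper3.S4415G2
import Cfsg.Agent.Helper2.S4415IRR
import Cfsg.Agent.Helper9.S4415MOD0
import Cfsg.Agent.Helper6.S4415MOD1
import Cfsg.Agent.Helper15.S4415MOD10
import Cfsg.Agent.Helper15.S4415MOD11
import Cfsg.Agent.Helper19.S4415MOD2
import Cfsg.Agent.Helper23.S4415MOD3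
import Cfsg.Agent.Helper10.S4415MOD3C
import Cfsg.Agent.Helper9.S4415MOD4
import Cfsg.Agent.Helper9.S4415MOD5
import Cfsg.Agent.Helper17.S4415MOD6
import Cfsg.Agent.Helper17.S4415MOD6S
import Cfsg.Agent.Helper2.S4415MOD7
import Cfsg.Agent.Helper2.S4415MOD7P
import Cfsg.Agent.Helper16.S4415MOD8
import Cfsg.Agent.Helper2.S4415MOD9
import Cfsg.Agent.Helper3.S4415TV1
import Cfsg.Agent.Helper16.S4415TV2
import Cfsg.Agent.Helper2.S4415TV3
import Cfsg.Agent.Helper9.S4415TV4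
import Cfsg.Agent.Helper25.S4415TV5
import Cfsg.Agent.Helper27.S4415V4A
import Cfsg.Agent.Helper1.S4415V4B
import Cfsg.Agent.Helper2.S4415V4C
import Cfsg.Agent.Helper9.S4409V
import Cfsg.Agent.Helper8.S4409TR

/-! Board `s4415pieces`: the assemblies (all leaf rows are real modules). -/

set_option autoImplicit false
set_option linter.unusedVariables false
set_option linter.unusedSectionVars false
set_option linter.style.haveILetI false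

namespace Cfsg.Agent.S4415P

open Subgroup
open Cfsg.Agent.S4409P (Zc Fr Der IsV4 IsQ8 SpecialInt IsAb)

variable {S : Type*} [Group S] [Finite S] {E : Type*} [AddCommGroup E] [Module (ZMod 3) E] [Finite E]

theorem ASM_aux_coprime_of_le {Y R : Subgroup S} (h : Y ≤ R) (hR : (Nat.card ↥R).Coprime 3) :
    (Nat.card ↥Y).Coprime 3 :=
  Nat.Coprime.coprime_dvd_left (Subgroup.card_dvd_of_le h) hR

theorem ASM_aux_solvable_of_le {Y R : Subgroup S} (h : Y ≤ R) (hR : Group.IsSolvable ↥R) :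
    Group.IsSolvable ↥Y :=
  Group.isSolvable_of_isSolvable_injective (f := Subgroup.inclusion h) (Subgroup.inclusion_injective h)

theorem ASM_aux_ne_bot_of_v4 {Q : Subgroup S} (hQ : IsV4 Q) : Q ≠ ⊥ := by
  rintro rfl
  have := hQ.1
  rw [Subgroup.card_bot] at this
  omega

/-- D1 : `B` centralises every `B`-invariant subgroup of odd prime power order of `R`. -/
theorem cent_of_odd (ρ : Representation (ZMod 3) S E) (b : S) (B R Q : Subgroup S) (hb : Base ρ b B) (hR : YC B R)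
    (hsol : Group.IsSolvable ↥R) (hQR : Q ≤ R) (hQ : IsV4 Q) (hQY : YC B Q)
    (r : ℕ) [Fact r.Prime] (hr2 : r ≠ 2) (T : Subgroup S) (hTR : T ≤ R) (hT : IsPGroup r ↥T)
    (hN : B ≤ normalizer (T : Set S)) : B ≤ centralizer (T : Set S) := by
  by_contra hC
  have hTc : (Nat.card ↥T).Coprime 3 := ASM_aux_coprime_of_le hTR hR.cop
  obtain ⟨T₀, hT₀T, hT₀ne, hT₀N, hT₀c, y, hy, hT₀gen⟩ := exists_min_two_gen b B hb.gen hb.card T hTc hN hC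
  have hT₀R : T₀ ≤ R := hT₀T.trans hTR
  have hT₀Y : YC B T₀ := ⟨hT₀N, ASM_aux_coprime_of_le hT₀R hR.cop, hT₀c⟩
  have hT₀r : IsPGroup r ↥T₀ := hT.to_le hT₀T
  have h81 : Nat.card ↥(ComE ρ T₀) ≤ 81 := by
    have h1 := comE_le_of_le_closure_pair ρ T₀ b (y⁻¹ * b * y) hT₀gen
    have h2 := card_sup_mul_le (LinearMap.range (Nb ρ b)) (LinearMap.range (Nb ρ (y⁻¹ * b * y))) ⊥ bot_le bot_le
    rw [card_range_conj, hb.cubic.card_range] at h2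
    have h3 : Nat.card ↥(⊥ : Submodule (ZMod 3) E) = 1 := by
      rw [Nat.card_eq_one_iff_unique]
      exact ⟨inferInstance, ⟨0⟩⟩
    rw [h3] at h2
    have h4 : Nat.card ↥(ComE ρ T₀) ≤
        Nat.card ↥(LinearMap.range (Nb ρ b) ⊔ LinearMap.range (Nb ρ (y⁻¹ * b * y)) : Submodule (ZMod 3) E) :=
      Nat.card_le_card_of_injective (Submodule.inclusion h1) (Submodule.inclusion_injective h1)
    omega
  obtain ⟨h13, h27⟩ := odd_is_c13 ρ b B hb r hr2 T₀ hT₀r hT₀Y hT₀ne h81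
  obtain ⟨hQ27, hQt⟩ := v4_cards ρ b B hb Q hQ hQY
  have hDR : T₀ ⊔ Q ≤ R := sup_le hT₀R hQR
  have hDcop : (Nat.card ↥(T₀ ⊔ Q : Subgroup S)).Coprime 3 := ASM_aux_coprime_of_le hDR hR.cop
  have hDsol : Group.IsSolvable ↥(T₀ ⊔ Q : Subgroup S) := ASM_aux_solvable_of_le hDR hsol
  have hkeyT := key ρ b B hb T₀ hT₀Y hT₀ne
  have hkeyQ := key ρ b B hb Q hQY (ASM_aux_ne_bot_of_v4 hQ)
  have hD81 : Nat.card ↥(ComE ρ (T₀ ⊔ Q)) ≤ 81 := by
    rw [comE_sup]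
    have := card_sup_mul_le (ComE ρ T₀) (ComE ρ Q) (LinearMap.range (Nb ρ b)) hkeyT.2 hkeyQ.2
    rw [h27, hQ27, hb.cubic.card_range] at this
    omega
  have hDf : ∀ d ∈ T₀ ⊔ Q, (∀ v ∈ ComE ρ (T₀ ⊔ Q), ρ d v = v) → d = 1 := fun d hd ht =>
    faithful_comE ρ hb.faith (T₀ ⊔ Q) hDcop (T₀ ⊔ Q) (trivOn_CE ρ _) d hd ht
  have hDinv : Inv ρ (T₀ ⊔ Q) (ComE ρ (T₀ ⊔ Q)) := fun d hd v hv =>
    (inv_of_normalizer ρ (T₀ ⊔ Q) d (le_normalizer hd)).2 v hv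
  have hdvd := card_dvd_gl4 ρ (T₀ ⊔ Q) (ComE ρ (T₀ ⊔ Q)) hDinv hDf hD81
  obtain ⟨g, hg, x, hx, hx1, hxc⟩ :=
    exists_cent_conj (T₀ ⊔ Q) T₀ Q hDsol hDcop hdvd le_sup_left h13 le_sup_right hQ
  have hT'D : T₀.map (MulAut.conj g).toMonoidHom ≤ T₀ ⊔ Q := by
    rintro _ ⟨t, ht, rfl⟩
    show g * t * g⁻¹ ∈ T₀ ⊔ Q
    exact mul_mem (mul_mem hg ((le_sup_left : T₀ ≤ T₀ ⊔ Q) ht)) (inv_mem hg)
  have hT'13 : Nat.card ↥(T₀.map (MulAut.conj g).toMonoidHom) = 13 := by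
    rw [← h13]
    exact Nat.card_congr (T₀.equivMapOfInjective _ (MulAut.conj g).injective).symm.toEquiv
  have hT'27 : Nat.card ↥(ComE ρ (T₀.map (MulAut.conj g).toMonoidHom)) = 27 := by
    rw [card_comE_conj]; exact h27
  exact no_comm ρ (T₀ ⊔ Q) _ x ((le_sup_right : Q ≤ T₀ ⊔ Q) hx) hT'D (hQ.2 x hx) (hQt x hx hx1).2 hT'13 hT'27 hxc hD81

/-- D : `R` is a `2`-group. -/
theorem two_group (ρ : Representation (ZMod 3) S E) (b : S) (B R Q : Subgroup S) (hb : Base ρ b B) (hR : YC B R)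
    (hsol : Group.IsSolvable ↥R) (hQR : Q ≤ R) (hQ : IsV4 Q) (hQY : YC B Q) : IsPGroup 2 ↥R :=
  two_group_of_cent B R hb.card hR hsol
    (fun r _ hr2 T hTR hT hN => cent_of_odd ρ b B R Q hb hR hsol hQR hQ hQY r hr2 T hTR hT hN)

theorem ASM_aux_card_zc_ge (R : Subgroup S) (h2 : IsPGroup 2 ↥R) (hne : R ≠ ⊥) : 2 ≤ Nat.card ↥(Zc R) := by
  haveI : Fact (Nat.Prime 2) := ⟨Nat.prime_two⟩
  haveI : Nontrivial ↥R := (Subgroup.nontrivial_iff_ne_bot R).mpr hne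
  rw [← Cfsg.Agent.S4409P.card_center]
  haveI := h2.center_nontrivial
  exact Finite.one_lt_card

/-- E (first split): `R` is a four-group, or the hypotheses `EHyp` of part E hold. -/
theorem v4_or_ehyp (ρ : Representation (ZMod 3) S E) (b : S) (B R Q : Subgroup S) (hb : Base ρ b B) (hR : YC B R)
    (h2 : IsPGroup 2 ↥R) (hQR : Q ≤ R) (hQ : IsV4 Q) : (IsV4 R ∧ YC B R) ∨ EHyp ρ b B R := by
  have hne : R ≠ ⊥ := by
    intro h
    apply ASM_aux_ne_bot_of_v4 hQ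
    rw [eq_bot_iff, ← h]
    exact hQR
  rcases center_cases b B R hb.gen hb.card h2 hR.norm with ⟨T₁, hT₁Z, hT₁V, hT₁N, hT₁C⟩ | hBZ
  · left
    have hT₁Y := v4_yc B hb.card T₁ hT₁V hT₁N hT₁C
    have := v4_central ρ b B hb R hR T₁ hT₁V hT₁Y hT₁Z
    rw [this]
    exact ⟨hT₁V, hT₁Y⟩
  · right
    have hZR : Zc R ≤ R := Cfsg.Agent.S4409P.Zc_le R
    have hRZ : R ≤ normalizer ((Zc R : Subgroup S) : Set S) := by
      intro r hr
      rw [mem_normalizer_iff]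
      intro z
      have key : ∀ z ∈ Zc R, r * z * r⁻¹ = z := by
        intro z hz
        have := (Cfsg.Agent.S4409P.mem_Zc.mp hz).2 r hr
        rw [this]; group
      constructor
      · intro hz
        rw [key z hz]; exact hz
      · intro hz
        have h1 := key _ hz
        have h2 : r * z * r⁻¹ = z := by
          have : r⁻¹ * (r * (r * z * r⁻¹) * r⁻¹) * r = r⁻¹ * (r * z * r⁻¹) * r := by rw [h1]
          have e1 : r⁻¹ * (r * (r * z * r⁻¹) * r⁻¹) * r = r * z * r⁻¹ := by group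
          have e2 : r⁻¹ * (r * z * r⁻¹) * r = z := by group
          rw [e1, e2] at this
          exact this
        rw [← h2]; exact hz
    have hBN : B ≤ normalizer ((Zc R : Subgroup S) : Set S) := hBZ.trans (Subgroup.centralizer_le_normalizer _)
    obtain ⟨hle2, hneg⟩ := small_of_cent ρ b B hb R hR hne (Zc R) hZR hRZ hBN hBZ
    have hge2 := ASM_aux_card_zc_ge R h2 hne
    exact
      { base := hb
        yc := hR
        two := h2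
        zcard := le_antisymm hle2 hge2
        zcent := hBZ
        zneg := hneg
        small := fun X hXR hRX hBX hBC => (small_of_cent ρ b B hb R hR hne X hXR hRX hBX hBC).1 }

/-- E (second step): an elementary abelian member of `𝒜(R)`. -/
theorem exists_ea (ρ : Representation (ZMod 3) S E) (b : S) (B R Q : Subgroup S) (h : EHyp ρ b B R) (hQR : Q ≤ R)
    (hQ : IsV4 Q) : ∃ A : Subgroup S, InA B R A ∧ ∀ x ∈ A, x * x = 1 := by
  have hb := h.base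
  have hne : R ≠ Zc R := by
    intro he
    have h1 : Nat.card ↥Q ≤ Nat.card ↥R := Subgroup.card_le_of_le hQR
    rw [he, h.zcard, hQ.1] at h1
    omega
  obtain ⟨A, hA⟩ := exists_A b B R hb.gen hb.card h.two h.yc.norm h.zcard hne h.small
  rcases type_of_A b B R A hb.gen hb.card h.zcard h.zcent hA with hea | hq
  · exact ⟨A, hA, hea⟩
  · obtain ⟨A₂, hA₂, hcomm⟩ := exists_A2 b B R A Q hb.gen hb.card h.two h.yc.norm h.zcard h.small hA hq hQR hQ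
    rcases type_of_A b B R A₂ hb.gen hb.card h.zcard h.zcent hA₂ with hea₂ | hq₂
    · exact ⟨A₂, hA₂, hea₂⟩
    · exact ea_of_q8q8 b B R A A₂ hb.gen hb.card h.zcard h.zcent hA hq hA₂ hq₂ hcomm

/-- E (third step): `R` is extraspecial of order `32`. -/
theorem es_of_ea (ρ : Representation (ZMod 3) S E) (b : S) (B R A : Subgroup S) (h : EHyp ρ b B R) (hA : InA B R A)
    (hea : ∀ x ∈ A, x * x = 1) : Nat.card ↥R = 32 ∧ SpecialInt R := by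
  have hC := tv_cent ρ b B R A h hA hea
  obtain ⟨hidx, _⟩ := tv_index B R A h.base.card h.yc h.zcard hA hea
  rw [hC, hA.card] at hidx
  have h32 : Nat.card ↥R = 32 := by omega
  exact ⟨h32, tv_special B R A h.base.card h.yc h.two h.zcard hA hea hC h32⟩

/-- CORE : the internal form of the conclusion. -/
theorem core (ρ : Representation (ZMod 3) S E) (b : S) (B R Q : Subgroup S) (hb : Base ρ b B) (hR : YC B R)
    (hsol : Group.IsSolvable ↥R) (hQR : Q ≤ R) (hQ : IsV4 Q) (hQY : YC B Q) :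
    (IsV4 R ∨ (IsPGroup 2 ↥R ∧ SpecialInt R ∧ Nat.card ↥(Zc R) = 2 ∧ Nat.card ↥R = 32 ∧
        ∃ A : Subgroup S, A ≤ R ∧ (∀ x ∈ A, x * x = 1) ∧ Nat.card ↥A = 8)) ∧
      ∀ U : Submodule (ZMod 3) E, U ≤ ComE ρ R → Inv ρ R U → Inv ρ B U → U = ⊥ ∨ U = ComE ρ R := by
  have h2 := two_group ρ b B R Q hb hR hsol hQR hQ hQY
  rcases v4_or_ehyp ρ b B R Q hb hR h2 hQR hQ with ⟨hV, hY⟩ | h
  · exact ⟨Or.inl hV, fun U hU hRU hBU => irr_v4 ρ b B hb R hV hY U hU hRU hBU⟩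
  · obtain ⟨A, hA, hea⟩ := exists_ea ρ b B R Q h hQR hQ
    obtain ⟨h32, hs⟩ := es_of_ea ρ b B R A h hA hea
    exact ⟨Or.inr ⟨h2, hs, h.zcard, h32, A, hA.le, hea, hA.card⟩,
      fun U hU hRU hBU => irr_es ρ b B R A h hA hea U hU hRU hBU⟩

theorem ASM_aux_isMulCommutative_of_sq {A : Subgroup S} (h : ∀ x ∈ A, x * x = 1) : IsMulCommutative ↥A := by
  refine ⟨⟨?_⟩⟩
  rintro ⟨x, hx⟩ ⟨y, hy⟩
  apply Subtype.ext
  show x * y = y * x
  have h1 := h x hx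
  have h2 := h y hy
  have h3 := h (x * y) (mul_mem hx hy)
  have hx' : x⁻¹ = x := by rw [inv_eq_iff_mul_eq_one]; exact h1
  have hy' : y⁻¹ = y := by rw [inv_eq_iff_mul_eq_one]; exact h2
  have h4 : (x * y)⁻¹ = x * y := by rw [inv_eq_iff_mul_eq_one]; exact h3
  calc x * y = (x * y)⁻¹ := h4.symm
    _ = y⁻¹ * x⁻¹ := by group
    _ = y * x := by rw [hx', hy']

theorem ASM_aux_ea_of_sq {A : Subgroup S} (h : ∀ x ∈ A, x * x = 1) : Cfsg.IsElementaryAbelian 2 A :=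
  ⟨ASM_aux_isMulCommutative_of_sq h, fun a ha => by rw [pow_two]; exact h a ha⟩

/-- FINAL (the frozen statement, verbatim). -/
theorem final [Group.IsSolvable S] (ρ : Representation (ZMod 3) S E)
    (hfaith : Function.Injective ρ) (hO3 : Cfsg.pCore 3 S = ⊥)
    (B : Subgroup S) (hB : Nat.card ↥B = 3) (b : S) (hb : Subgroup.zpowers b = B)
    (E₀ E₁ : Submodule (ZMod 3) E) (hE01 : E₀ ⊓ E₁ = ⊥) (hE01' : E₀ ⊔ E₁ = ⊤)
    (hE1 : ∀ v ∈ E₁, ρ b v = v) (hE0inv : ∀ v ∈ E₀, ρ b v ∈ E₀) (hE0 : Nat.card ↥E₀ = 27)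
    (hind : ∃ v ∈ E₀, ρ b (ρ b v - v) - (ρ b v - v) ≠ 0)
    (Q : Subgroup S) (hQ : Cfsg.IsElementaryAbelian 2 Q) (hQ4 : Nat.card ↥Q = 4)
    (hBQ : B ≤ Subgroup.normalizer (Q : Set S)) (hBQ' : ¬ B ≤ Subgroup.centralizer (Q : Set S))
    (P : Sylow 3 S) (hBZ : (Subgroup.center ↥(P : Subgroup S)).map (P : Subgroup S).subtype = B) :
    ((Cfsg.IsElementaryAbelian 2 ⁅Cfsg.pPrimeCore 3 S, B⁆ ∧ Nat.card ↥⁅Cfsg.pPrimeCore 3 S, B⁆ = 4) ∨
      (Cfsg.IsExtraspecial 2 ↥⁅Cfsg.pPrimeCore 3 S, B⁆ ∧ Nat.card ↥⁅Cfsg.pPrimeCore 3 S, B⁆ = 32 ∧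
        ∃ A : Subgroup S, A ≤ ⁅Cfsg.pPrimeCore 3 S, B⁆ ∧ Cfsg.IsElementaryAbelian 2 A ∧ Nat.card ↥A = 8)) ∧
    ∃ F₀ F₁ : Submodule (ZMod 3) E, F₀ ⊓ F₁ = ⊥ ∧ F₀ ⊔ F₁ = ⊤ ∧
      (∀ r ∈ ⁅Cfsg.pPrimeCore 3 S, B⁆, ∀ v ∈ F₁, ρ r v = v) ∧ (∀ r ∈ ⁅Cfsg.pPrimeCore 3 S, B⁆ ⊔ B, ∀ v ∈ F₀, ρ r v ∈ F₀) ∧
      (∀ r ∈ ⁅Cfsg.pPrimeCore 3 S, B⁆ ⊔ B, (∀ v ∈ F₀, ρ r v = v) → r = 1) ∧
      (∀ N : Submodule (ZMod 3) E, N ≤ F₀ → (∀ r ∈ ⁅Cfsg.pPrimeCore 3 S, B⁆ ⊔ B, ∀ v ∈ N, ρ r v ∈ N) → N = ⊥ ∨ N = F₀) := by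
  obtain ⟨hKn, hKc⟩ := ppc_facts (S := S)
  have hcub := cubic_of_hyp ρ B hB b hb E₀ E₁ hE01 hE01' hE1 hE0inv hE0 hind
  have hbase : Base ρ b B := ⟨hfaith, hb, hB, hcub⟩
  have hQV : IsV4 Q := ⟨hQ4, fun x hx => by have := hQ.2 x hx; rwa [pow_two] at this⟩
  have hQY : YC B Q := v4_yc B hB Q hQV hBQ hBQ'
  have hQK : Q ≤ Cfsg.pPrimeCore 3 S := le_ppc P B hBZ Q hQV.isPGroup hQY.comm
  have hBK : B ≤ normalizer ((Cfsg.pPrimeCore 3 S : Subgroup S) : Set S) := by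
    rw [normalizer_eq_top]; exact le_top
  obtain ⟨hRY, hRK, _⟩ := yc_comm B hB (Cfsg.pPrimeCore 3 S) hBK hKc
  have hQR : Q ≤ ⁅Cfsg.pPrimeCore 3 S, B⁆ := by
    rw [← hQY.comm]; exact commutator_mono hQK le_rfl
  have hsol : Group.IsSolvable ↥(⁅Cfsg.pPrimeCore 3 S, B⁆ : Subgroup S) := inferInstance
  obtain ⟨hstruct, hirr⟩ := core ρ b B ⁅Cfsg.pPrimeCore 3 S, B⁆ Q hbase hRY hsol hQR hQV hQY
  have hRne : (⁅Cfsg.pPrimeCore 3 S, B⁆ : Subgroup S) ≠ ⊥ := by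
    intro h
    apply ASM_aux_ne_bot_of_v4 hQV
    rw [eq_bot_iff, ← h]
    exact hQR
  have hkey := key ρ b B hbase _ hRY hRne
  obtain ⟨hd, hs⟩ := ce_comE_compl ρ ⁅Cfsg.pPrimeCore 3 S, B⁆ hRY.cop
  have hinvR : Inv ρ ⁅Cfsg.pPrimeCore 3 S, B⁆ (ComE ρ ⁅Cfsg.pPrimeCore 3 S, B⁆) := fun r hr v hv =>
    (inv_of_normalizer ρ _ r (le_normalizer hr)).2 v hv
  have hinvB : Inv ρ B (ComE ρ ⁅Cfsg.pPrimeCore 3 S, B⁆) := fun r hr v hv =>
    (inv_of_normalizer ρ _ r (hRY.norm hr)).2 v hv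
  refine ⟨?_, ComE ρ ⁅Cfsg.pPrimeCore 3 S, B⁆, CE ρ ⁅Cfsg.pPrimeCore 3 S, B⁆, ?_, ?_, ?_, ?_, ?_, ?_⟩
  · rcases hstruct with hV | ⟨h2, hs, hz, h32, A, hAR, hea, hA8⟩
    · left
      exact ⟨ASM_aux_ea_of_sq hV.2, hV.1⟩
    · right
      refine ⟨⟨Cfsg.Agent.S4409P.special_of_int _ h2 hs, ?_⟩, h32, A, hAR, ASM_aux_ea_of_sq hea, hA8⟩
      rw [Cfsg.Agent.S4409P.card_center]; exact hz
  · rw [inf_comm]; exact hd
  · rw [sup_comm]; exact hs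
  · exact trivOn_CE ρ _
  · exact inv_sup ρ _ _ _ hinvR hinvB
  · intro r hr ht
    exact faithful_comE ρ hfaith _ hRY.cop _ (trivOn_sup ρ _ _ _ (trivOn_CE ρ _) hkey.1) r hr ht
  · intro N hN hinv
    exact hirr N hN (fun r hr v hv => hinv r ((le_sup_left : _ ≤ ⁅Cfsg.pPrimeCore 3 S, B⁆ ⊔ B) hr) v hv)
      (fun r hr v hv => hinv r ((le_sup_right : B ≤ ⁅Cfsg.pPrimeCore 3 S, B⁆ ⊔ B) hr) v hv)

end Cfsg.Agent.S4415P
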