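import Mathlib
import Cfsg.Agent.Helper9.S4415Defs
import Cfsg.Agent.Helper9.S4415MOD4
import Cfsg.Agent.Helper19.S4415MOD2
import Cfsg.Agent.Helper23.S4415MOD3
import Cfsg.Agent.Helper17.S4415MOD6
import Cfsg.Agent.Helper3.S4415TV1
import Cfsg.Agent.Helper2.S4415TV3
import Cfsg.Agent.Helper27.S4415V4A
import Cfsg.Agent.Helper1.S4415V4B
import Cfsg.Agent.Helper3.S4415B2
import Cfsg.Agent.Helper22.S4415DET2

/-! Board `s4415pieces`, row TV4: `C_R(A) = A` in type V. -/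

set_option autoImplicit false
set_option linter.unusedVariables false
set_option linter.unusedSectionVars false
set_option linter.style.haveILetI false

namespace Cfsg.Agent.S4415P

open Subgroup
open scoped commutatorElement
open Cfsg.Agent.S4409P (Zc Fr Der IsV4 IsQ8 SpecialInt IsAb)

variable {S : Type*} [Group S] [Finite S] {E : Type*} [AddCommGroup E] [Module (ZMod 3) E] [Finite E]

/-- the order of the sum of two disjoint submodules. -/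
theorem TV4_aux_card_sup (U₁ U₂ : Submodule (ZMod 3) E) (hd : U₁ ⊓ U₂ = ⊥) :
    Nat.card ↥(U₁ ⊔ U₂ : Submodule (ZMod 3) E) = Nat.card ↥U₁ * Nat.card ↥U₂ := by
  rw [← Nat.card_prod]
  symm
  let f : ↥U₁ × ↥U₂ → ↥(U₁ ⊔ U₂ : Submodule (ZMod 3) E) := fun p =>
    ⟨(p.1 : E) + (p.2 : E), Submodule.add_mem_sup p.1.2 p.2.2⟩
  apply Nat.card_congr (Equiv.ofBijective f ⟨?_, ?_⟩)
  · rintro ⟨a, b⟩ ⟨a', b'⟩ h
    have h1 : (a : E) + b = a' + b' := congrArg Subtype.val h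
    have h2 : (a : E) - a' = b' - b := by
      have : (a : E) - a' = (a + b) - (a' + b) := by abel
      rw [this, h1]; abel
    have h3 : (a : E) - a' ∈ U₁ ⊓ U₂ := ⟨U₁.sub_mem a.2 a'.2, by rw [h2]; exact U₂.sub_mem b'.2 b.2⟩
    rw [hd, Submodule.mem_bot, sub_eq_zero] at h3
    have h4 : (b' : E) - b = 0 := by rw [← h2, h3, sub_self]
    rw [sub_eq_zero] at h4
    exact Prod.ext (Subtype.ext h3) (Subtype.ext h4.symm)
  · rintro ⟨w, hw⟩
    obtain ⟨a, ha, b, hb, rfl⟩ := Submodule.mem_sup.mp hw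
    exact ⟨(⟨a, ha⟩, ⟨b, hb⟩), rfl⟩

/-- a submodule of order `3` consists of the multiples of any of its nonzero elements. -/
theorem TV4_aux_line (ℓ : Submodule (ZMod 3) E) (h3 : Nat.card ↥ℓ = 3) (u : E) (hu : u ∈ ℓ) (hu0 : u ≠ 0) :
    ∀ w ∈ ℓ, ∃ c : ZMod 3, w = c • u := by
  classical
  let f : ZMod 3 → ↥ℓ := fun c => ⟨c • u, ℓ.smul_mem c hu⟩
  have hinj : Function.Injective f := by
    intro c d hcd
    have h1 : c • u = d • u := congrArg Subtype.val hcd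
    have h2 : (c - d) • u = 0 := by rw [sub_smul, h1, sub_self]
    rcases smul_eq_zero.mp h2 with h | h
    · exact sub_eq_zero.mp h
    · exact absurd h hu0
  have hcard : Nat.card (ZMod 3) = Nat.card ↥ℓ := by rw [h3, Nat.card_zmod]
  have hbij : Function.Bijective f := by
    haveI : Finite ↥ℓ := inferInstance
    exact (Nat.bijective_iff_injective_and_card f).mpr ⟨hinj, hcard⟩
  intro w hw
  obtain ⟨c, hc⟩ := hbij.2 ⟨w, hw⟩
  exact ⟨c, (congrArg Subtype.val hc).symm⟩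

theorem TV4_aux_exists_ne_zero (ℓ : Submodule (ZMod 3) E) (h3 : Nat.card ↥ℓ = 3) : ∃ u ∈ ℓ, u ≠ 0 := by
  by_contra hcon
  push Not at hcon
  have : ℓ = ⊥ := by
    rw [eq_bot_iff]
    intro w hw
    rw [Submodule.mem_bot]
    exact hcon w hw
  rw [this] at h3
  have h1 : Nat.card ↥(⊥ : Submodule (ZMod 3) E) = 1 := by
    rw [Nat.card_eq_one_iff_unique]
    exact ⟨inferInstance, ⟨0⟩⟩
  omega

/-- an injective linear map preserving a line acts on it as `+1` or `-1`. -/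
theorem TV4_aux_sign (ρ : Representation (ZMod 3) S E) (c : S) (ℓ : Submodule (ZMod 3) E) (h3 : Nat.card ↥ℓ = 3)
    (hinv : ∀ v ∈ ℓ, ρ c v ∈ ℓ) (u : E) (hu : u ∈ ℓ) (hu0 : u ≠ 0) :
    (ρ c u = u ∧ ∀ w ∈ ℓ, ρ c w = w) ∨ (ρ c u = -u ∧ ∀ w ∈ ℓ, ρ c w = -w) := by
  have hline := TV4_aux_line ℓ h3 u hu hu0
  obtain ⟨k, hk⟩ := hline _ (hinv u hu)
  have hk0 : k ≠ 0 := by
    rintro rfl
    rw [zero_smul] at hk
    have h1 : ρ c⁻¹ (ρ c u) = u := MOD4_aux_apply_inv ρ c u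
    rw [hk, map_zero] at h1
    exact hu0 h1.symm
  have hk3 : k = 0 ∨ k = 1 ∨ k = 2 := by
    have hall : ∀ d : ZMod 3, d = 0 ∨ d = 1 ∨ d = 2 := by decide
    exact hall k
  rcases hk3 with rfl | rfl | rfl
  · exact absurd rfl hk0
  · left
    rw [one_smul] at hk
    refine ⟨hk, fun w hw => ?_⟩
    obtain ⟨d, rfl⟩ := hline w hw
    rw [map_smul, hk]
  · right
    have h2 : (2 : ZMod 3) = -1 := by decide
    rw [h2, neg_smul, one_smul] at hk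
    refine ⟨hk, fun w hw => ?_⟩
    obtain ⟨d, rfl⟩ := hline w hw
    rw [map_smul, hk, smul_neg]

theorem TV4_aux_exists_ne (H : Subgroup S) (hc : 2 < Nat.card ↥H) (x : S) : ∃ y ∈ H, y ≠ 1 ∧ y ≠ x := by
  by_contra hcon
  push Not at hcon
  have hsub : (H : Set S) ⊆ {1, x} := by
    intro y hy
    by_cases hy1 : y = 1
    · left; exact hy1
    · right; exact hcon y hy hy1
  have : Nat.card ↥H ≤ 2 := by
    calc Nat.card ↥H = (H : Set S).ncard := (Nat.card_coe_set_eq _)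
      _ ≤ ({1, x} : Set S).ncard := Set.ncard_le_ncard hsub (Set.toFinite _)
      _ ≤ 2 := (Set.ncard_insert_le _ _).trans (by rw [Set.ncard_singleton])
  omega

theorem TV4_aux_mem_normalizer_zpowers (g y : S) (h : g * y = y * g) :
    g ∈ normalizer ((zpowers y : Subgroup S) : Set S) := by
  apply (Subgroup.centralizer_le_normalizer _)
  rw [mem_centralizer_iff]
  intro c hc
  obtain ⟨k, rfl⟩ := hc
  exact ((Commute.zpow_right (show Commute g y from h) k).eq).symm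

theorem TV4_aux_ne_neg (u : E) (hu : u ≠ 0) : u ≠ -u := by
  intro h
  have h1 : (2 : ZMod 3) • u = 0 := by
    rw [two_smul]
    nth_rewrite 2 [h]
    exact add_neg_cancel u
  rcases smul_eq_zero.mp h1 with h2 | h2
  · exact absurd h2 (by decide)
  · exact hu h2

/-- TV4 : `C_R(A) = A`. -/
theorem tv_cent (ρ : Representation (ZMod 3) S E) (b : S) (B R A : Subgroup S) (h : EHyp ρ b B R) (hA : InA B R A)
    (hea : ∀ x ∈ A, x * x = 1) : R ⊓ centralizer (A : Set S) = A := by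
  classical
  have hb := h.base
  obtain ⟨hTV, hTY, hTA, hTZ⟩ := tv_T B R A hb.card h.zcard h.zcent hA hea
  have hTR : ⁅A, B⁆ ≤ R := hTA.trans hA.le
  have hW81 := tv_cardW ρ b B R A h hA hea
  obtain ⟨hM27, hTt⟩ := v4_cards ρ b B hb ⁅A, B⁆ hTV hTY
  -- three nonidentity elements of `T`
  obtain ⟨t₁, ht₁, ht₁1, -⟩ := TV4_aux_exists_ne ⁅A, B⁆ (by rw [hTV.1]; norm_num) 1
  obtain ⟨t₂, ht₂, ht₂1, h21⟩ := TV4_aux_exists_ne ⁅A, B⁆ (by rw [hTV.1]; norm_num) t₁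
  have ht₃ : t₁ * t₂ ∈ ⁅A, B⁆ := mul_mem ht₁ ht₂
  have ht₃1 : t₁ * t₂ ≠ 1 := by
    intro he
    apply h21
    have h1 : t₁ * t₁ = 1 := hTV.2 t₁ ht₁
    exact (mul_left_cancel (he.trans h1.symm))
  -- the four lines
  have hL₁ := (hTt t₁ ht₁ ht₁1).1
  have hL₂ := (hTt t₂ ht₂ ht₂1).1
  have hL₃ := (hTt (t₁ * t₂) ht₃ ht₃1).1
  have hspan := v4_span ρ ⁅A, B⁆ hTV t₁ t₂ ht₁ ht₂ ht₁1 ht₂1 (Ne.symm h21)
  obtain ⟨hdT, hsT⟩ := ce_comE_compl ρ ⁅A, B⁆ hTY.cop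
  have hML : ComE ρ ⁅A, B⁆ ≤ ComE ρ R := ComE_mono ρ hTR
  have hWdec : ComE ρ R = ComE ρ ⁅A, B⁆ ⊔ (ComE ρ R ⊓ CE ρ ⁅A, B⁆) := by
    have h1 : (ComE ρ ⁅A, B⁆ ⊔ CE ρ ⁅A, B⁆) ⊓ ComE ρ R = ComE ρ ⁅A, B⁆ ⊔ (CE ρ ⁅A, B⁆ ⊓ ComE ρ R) :=
      sup_inf_assoc_of_le _ hML
    have h2 : ComE ρ ⁅A, B⁆ ⊔ CE ρ ⁅A, B⁆ = ⊤ := by rw [sup_comm]; exact hsT
    calc ComE ρ R = ⊤ ⊓ ComE ρ R := (top_inf_eq _).symm
      _ = (ComE ρ ⁅A, B⁆ ⊔ CE ρ ⁅A, B⁆) ⊓ ComE ρ R := by rw [h2]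
      _ = ComE ρ ⁅A, B⁆ ⊔ (CE ρ ⁅A, B⁆ ⊓ ComE ρ R) := h1
      _ = ComE ρ ⁅A, B⁆ ⊔ (ComE ρ R ⊓ CE ρ ⁅A, B⁆) := by rw [inf_comm]
  have hdisj : ComE ρ ⁅A, B⁆ ⊓ (ComE ρ R ⊓ CE ρ ⁅A, B⁆) = ⊥ := by
    rw [eq_bot_iff, ← hdT]
    exact le_inf (inf_le_right.trans inf_le_right) inf_le_left
  have hL₀ : Nat.card ↥(ComE ρ R ⊓ CE ρ ⁅A, B⁆ : Submodule (ZMod 3) E) = 3 := by
    have h1 := TV4_aux_card_sup _ _ hdisj
    rw [← hWdec, hW81, hM27] at h1
    omega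
  obtain ⟨u₀, hu₀, hu₀0⟩ := TV4_aux_exists_ne_zero _ hL₀
  obtain ⟨u₁, hu₁, hu₁0⟩ := TV4_aux_exists_ne_zero _ hL₁
  obtain ⟨u₂, hu₂, hu₂0⟩ := TV4_aux_exists_ne_zero _ hL₂
  obtain ⟨u₃, hu₃, hu₃0⟩ := TV4_aux_exists_ne_zero _ hL₃
  -- invariance of the lines under `C`
  have hCT : ∀ c ∈ R ⊓ centralizer (A : Set S), ∀ t ∈ ⁅A, B⁆, c * t = t * c := by
    intro c hc t ht
    exact ((mem_centralizer_iff.mp hc.2) t (hTA ht)).symm
  have hinvLn : ∀ c ∈ R ⊓ centralizer (A : Set S), ∀ t ∈ ⁅A, B⁆, ∀ v ∈ Ln ρ ⁅A, B⁆ t, ρ c v ∈ Ln ρ ⁅A, B⁆ t := by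
    intro c hc t ht v hv
    have hcN : c ∈ normalizer ((⁅A, B⁆ : Subgroup S) : Set S) := by
      apply (Subgroup.centralizer_le_normalizer _)
      rw [mem_centralizer_iff]
      intro t' ht'
      exact (hCT c hc t' ht').symm
    exact ⟨(inv_of_normalizer ρ _ c hcN).2 v hv.1,
      (inv_of_normalizer ρ _ c (TV4_aux_mem_normalizer_zpowers c t (hCT c hc t ht))).1 v hv.2⟩
  have hinvL₀ : ∀ c ∈ R ⊓ centralizer (A : Set S), ∀ v ∈ ComE ρ R ⊓ CE ρ ⁅A, B⁆, ρ c v ∈ ComE ρ R ⊓ CE ρ ⁅A, B⁆ := by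
    intro c hc v hv
    have hcN : c ∈ normalizer ((⁅A, B⁆ : Subgroup S) : Set S) := by
      apply (Subgroup.centralizer_le_normalizer _)
      rw [mem_centralizer_iff]
      intro t' ht'
      exact (hCT c hc t' ht').symm
    exact ⟨(inv_of_normalizer ρ R c (le_normalizer hc.1)).2 v hv.1, (inv_of_normalizer ρ _ c hcN).1 v hv.2⟩
  -- `[E,R]` is the sum of the four lines
  have hWle : ComE ρ R ≤ Ln ρ ⁅A, B⁆ t₁ ⊔ Ln ρ ⁅A, B⁆ t₂ ⊔ Ln ρ ⁅A, B⁆ (t₁ * t₂) ⊔ (ComE ρ R ⊓ CE ρ ⁅A, B⁆) := by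
    refine hWdec.le.trans (sup_le (hspan.trans le_sup_left) le_sup_right)
  -- signs
  have hs₀ := fun c hc => TV4_aux_sign ρ c _ hL₀ (hinvL₀ c hc) u₀ hu₀ hu₀0
  have hs₁ := fun c hc => TV4_aux_sign ρ c _ hL₁ (hinvLn c hc t₁ ht₁) u₁ hu₁ hu₁0
  have hs₂ := fun c hc => TV4_aux_sign ρ c _ hL₂ (hinvLn c hc t₂ ht₂) u₂ hu₂ hu₂0
  have hs₃ := fun c hc => TV4_aux_sign ρ c _ hL₃ (hinvLn c hc (t₁ * t₂) ht₃) u₃ hu₃ hu₃0
  -- faithfulness on `[E,R]`
  have hfaith : ∀ r ∈ R, (∀ v ∈ ComE ρ R, ρ r v = v) → r = 1 := fun r hr ht =>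
    faithful_comE ρ hb.faith R h.yc.cop R (trivOn_CE ρ R) r hr ht
  -- agreement on the lines implies equality
  have hagree : ∀ c ∈ R ⊓ centralizer (A : Set S), ∀ c' ∈ R ⊓ centralizer (A : Set S),
      (∀ w ∈ ComE ρ R ⊓ CE ρ ⁅A, B⁆, ρ c w = ρ c' w) → (∀ w ∈ Ln ρ ⁅A, B⁆ t₁, ρ c w = ρ c' w) →
      (∀ w ∈ Ln ρ ⁅A, B⁆ t₂, ρ c w = ρ c' w) → (∀ w ∈ Ln ρ ⁅A, B⁆ (t₁ * t₂), ρ c w = ρ c' w) → c = c' := by
    intro c hc c' hc' h0 h1 h2 h3
    have hle : ComE ρ R ≤ LinearMap.eqLocus (ρ c) (ρ c') := by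
      refine hWle.trans (sup_le (sup_le (sup_le ?_ ?_) ?_) ?_)
      · exact fun w hw => h1 w hw
      · exact fun w hw => h2 w hw
      · exact fun w hw => h3 w hw
      · exact fun w hw => h0 w hw
    have h4 : c'⁻¹ * c = 1 := by
      apply hfaith _ (mul_mem (inv_mem hc'.1) hc.1)
      intro v hv
      rw [ MOD4_aux_apply_mul, hle hv, MOD4_aux_apply_inv]
    calc c = c' * (c'⁻¹ * c) := by group
      _ = c' := by rw [h4, mul_one]
  -- the sign map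
  let g : ↥(R ⊓ centralizer (A : Set S) : Subgroup S) → Bool × Bool × Bool × Bool := fun c =>
    (decide (ρ (c : S) u₀ = u₀), decide (ρ (c : S) u₁ = u₁), decide (ρ (c : S) u₂ = u₂), decide (ρ (c : S) u₃ = u₃))
  have hdet : ∀ (c c' : S) (hc : c ∈ R ⊓ centralizer (A : Set S)) (hc' : c' ∈ R ⊓ centralizer (A : Set S))
      (ℓ : Submodule (ZMod 3) E) (u : E) (hu0 : u ≠ 0)
      (hsc : (ρ c u = u ∧ ∀ w ∈ ℓ, ρ c w = w) ∨ (ρ c u = -u ∧ ∀ w ∈ ℓ, ρ c w = -w))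
      (hsc' : (ρ c' u = u ∧ ∀ w ∈ ℓ, ρ c' w = w) ∨ (ρ c' u = -u ∧ ∀ w ∈ ℓ, ρ c' w = -w))
      (hd : decide (ρ c u = u) = decide (ρ c' u = u)), ∀ w ∈ ℓ, ρ c w = ρ c' w := by
    intro c c' hc hc' ℓ u hu0 hsc hsc' hd w hw
    have hiff : (ρ c u = u) ↔ (ρ c' u = u) := by simpa using hd
    rcases hsc with ⟨h1, h2⟩ | ⟨h1, h2⟩
    · rcases hsc' with ⟨h1', h2'⟩ | ⟨h1', h2'⟩
      · rw [h2 w hw, h2' w hw]
      · exfalso
        have := hiff.mp h1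
        rw [h1'] at this
        exact TV4_aux_ne_neg u hu0 this.symm
    · rcases hsc' with ⟨h1', h2'⟩ | ⟨h1', h2'⟩
      · exfalso
        have := hiff.mpr h1'
        rw [h1] at this
        exact TV4_aux_ne_neg u hu0 this.symm
      · rw [h2 w hw, h2' w hw]
  have hginj : Function.Injective g := by
    rintro ⟨c, hc⟩ ⟨c', hc'⟩ hg
    have e0 : decide (ρ c u₀ = u₀) = decide (ρ c' u₀ = u₀) := congrArg (fun p => p.1) hg
    have e1 : decide (ρ c u₁ = u₁) = decide (ρ c' u₁ = u₁) := congrArg (fun p => p.2.1) hg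
    have e2 : decide (ρ c u₂ = u₂) = decide (ρ c' u₂ = u₂) := congrArg (fun p => p.2.2.1) hg
    have e3 : decide (ρ c u₃ = u₃) = decide (ρ c' u₃ = u₃) := congrArg (fun p => p.2.2.2) hg
    apply Subtype.ext
    exact hagree c hc c' hc'
      (hdet c c' hc hc' _ u₀ hu₀0 (hs₀ c hc) (hs₀ c' hc') e0)
      (hdet c c' hc hc' _ u₁ hu₁0 (hs₁ c hc) (hs₁ c' hc') e1)
      (hdet c c' hc hc' _ u₂ hu₂0 (hs₂ c hc) (hs₂ c' hc') e2)
      (hdet c c' hc hc' _ u₃ hu₃0 (hs₃ c hc) (hs₃ c' hc') e3)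
  -- `A ≤ C`
  have hAC : A ≤ R ⊓ centralizer (A : Set S) := by
    intro a ha
    refine ⟨hA.le ha, ?_⟩
    show a ∈ centralizer (A : Set S)
    rw [mem_centralizer_iff]
    intro x hx
    have h1 := hea a ha
    have h2 := hea x hx
    have h3 := hea (x * a) (mul_mem hx ha)
    have hx' : x⁻¹ = x := by rw [inv_eq_iff_mul_eq_one]; exact h2
    have ha' : a⁻¹ = a := by rw [inv_eq_iff_mul_eq_one]; exact h1
    have h4 : (x * a)⁻¹ = x * a := by rw [inv_eq_iff_mul_eq_one]; exact h3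
    calc x * a = (x * a)⁻¹ := h4.symm
      _ = a⁻¹ * x⁻¹ := by group
      _ = a * x := by rw [hx', ha']
  -- the order of `C`
  have hCle : Nat.card ↥(R ⊓ centralizer (A : Set S) : Subgroup S) ≤ 8 := by
    by_contra hgt
    push Not at hgt
    haveI : Fact (Nat.Prime 2) := ⟨Nat.prime_two⟩
    obtain ⟨k, hk⟩ := (IsPGroup.iff_card).mp (h.two.to_le (inf_le_left : R ⊓ centralizer (A : Set S) ≤ R))
    have hk4 : 4 ≤ k := by
      by_contra hk4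
      push Not at hk4
      have : 2 ^ k ≤ 2 ^ 3 := Nat.pow_le_pow_right (by norm_num) (by omega)
      omega
    have h16 : 16 ≤ Nat.card ↥(R ⊓ centralizer (A : Set S) : Subgroup S) := by
      rw [hk]
      calc 16 = 2 ^ 4 := by norm_num
        _ ≤ 2 ^ k := Nat.pow_le_pow_right (by norm_num) hk4
    have hcardB : Nat.card (Bool × Bool × Bool × Bool) = 16 := by
      simp [Nat.card_eq_fintype_card]
    have hbij : Function.Bijective g := by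
      apply Function.Injective.bijective_of_nat_card_le hginj
      rw [hcardB]; exact h16
    obtain ⟨⟨c, hc⟩, hgc⟩ := hbij.2 (false, true, true, true)
    have e0 : decide (ρ c u₀ = u₀) = false := congrArg (fun p => p.1) hgc
    have e1 : decide (ρ c u₁ = u₁) = true := congrArg (fun p => p.2.1) hgc
    have e2 : decide (ρ c u₂ = u₂) = true := congrArg (fun p => p.2.2.1) hgc
    have e3 : decide (ρ c u₃ = u₃) = true := congrArg (fun p => p.2.2.2) hgc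
    have f0 : ¬ ρ c u₀ = u₀ := by simpa using e0
    have f1 : ρ c u₁ = u₁ := by simpa using e1
    have f2 : ρ c u₂ = u₂ := by simpa using e2
    have f3 : ρ c u₃ = u₃ := by simpa using e3
    have g0 : ∀ w ∈ ComE ρ R ⊓ CE ρ ⁅A, B⁆, ρ c w = -w := by
      rcases hs₀ c hc with ⟨h1, _⟩ | ⟨_, h2⟩
      · exact absurd h1 f0
      · exact h2
    have gpos : ∀ (ℓ : Submodule (ZMod 3) E) (u : E) (hu0 : u ≠ 0) (hf : ρ c u = u)
        (hsc : (ρ c u = u ∧ ∀ w ∈ ℓ, ρ c w = w) ∨ (ρ c u = -u ∧ ∀ w ∈ ℓ, ρ c w = -w)), ∀ w ∈ ℓ, ρ c w = w := by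
      intro ℓ u hu0 hf hsc
      rcases hsc with ⟨_, h2⟩ | ⟨h1, _⟩
      · exact h2
      · exfalso
        rw [hf] at h1
        exact TV4_aux_ne_neg u hu0 h1
    have g1 := gpos _ u₁ hu₁0 f1 (hs₁ c hc)
    have g2 := gpos _ u₂ hu₂0 f2 (hs₂ c hc)
    have g3 := gpos _ u₃ hu₃0 f3 (hs₃ c hc)
    -- `c * c = 1`
    have hcc : c * c = 1 := by
      apply hfaith _ (mul_mem hc.1 hc.1)
      have hle : ComE ρ R ≤ LinearMap.eqLocus (ρ (c * c)) (1 : E →ₗ[ZMod 3] E) := by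
        refine hWle.trans (sup_le (sup_le (sup_le ?_ ?_) ?_) ?_)
        · intro w hw
          show ρ (c * c) w = w
          rw [ MOD4_aux_apply_mul, g1 w hw, g1 w hw]
        · intro w hw
          show ρ (c * c) w = w
          rw [ MOD4_aux_apply_mul, g2 w hw, g2 w hw]
        · intro w hw
          show ρ (c * c) w = w
          rw [ MOD4_aux_apply_mul, g3 w hw, g3 w hw]
        · intro w hw
          show ρ (c * c) w = w
          rw [ MOD4_aux_apply_mul, g0 w hw, map_neg, g0 w hw, neg_neg]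
      intro v hv
      exact hle hv
    -- the range of `ρ c - 1`
    have hker : Ln ρ ⁅A, B⁆ t₁ ⊔ Ln ρ ⁅A, B⁆ t₂ ⊔ Ln ρ ⁅A, B⁆ (t₁ * t₂) ⊔ CE ρ R ≤ LinearMap.ker (Nb ρ c) := by
      refine sup_le (sup_le (sup_le ?_ ?_) ?_) ?_
      · intro w hw
        rw [LinearMap.mem_ker, Nb_apply, g1 w hw, sub_self]
      · intro w hw
        rw [LinearMap.mem_ker, Nb_apply, g2 w hw, sub_self]
      · intro w hw
        rw [LinearMap.mem_ker, Nb_apply, g3 w hw, sub_self]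
      · intro w hw
        rw [LinearMap.mem_ker, Nb_apply, hw c hc.1, sub_self]
    have hNb0 : ∀ w ∈ ComE ρ R ⊓ CE ρ ⁅A, B⁆, Nb ρ c w = w := by
      intro w hw
      rw [Nb_apply, g0 w hw]
      have h2 : (2 : ZMod 3) = -1 := by decide
      have : -w - w = (-(2 : ZMod 3)) • w := by rw [neg_smul, two_smul]; abel
      rw [this, h2, neg_neg, one_smul]
    have hrange : LinearMap.range (Nb ρ c) = ComE ρ R ⊓ CE ρ ⁅A, B⁆ := by
      apply le_antisymm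
      · rintro w ⟨v, rfl⟩
        obtain ⟨hdR, hsR⟩ := ce_comE_compl ρ R h.yc.cop
        have hv : v ∈ CE ρ R ⊔ ComE ρ R := by rw [hsR]; trivial
        obtain ⟨a, ha, w', hw', rfl⟩ := Submodule.mem_sup.mp hv
        have hw'' := hWle hw'
        obtain ⟨m, hm, w₀, hw₀, rfl⟩ := Submodule.mem_sup.mp hw''
        have hm0 : Nb ρ c m = 0 := LinearMap.mem_ker.mp (hker ((le_sup_left : _ ≤ _ ⊔ CE ρ R) hm))
        have ha0 : Nb ρ c a = 0 := LinearMap.mem_ker.mp (hker ((le_sup_right : CE ρ R ≤ _) ha))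
        rw [map_add, map_add, hm0, ha0, zero_add, zero_add, hNb0 w₀ hw₀]
        exact hw₀
      · intro w hw
        exact ⟨w, hNb0 w hw⟩
    have hdet1 : LinearMap.det (ρ c) = 1 := det_comm ρ R B c (by rw [h.yc.comm]; exact hc.1)
    have hdet2 : LinearMap.det (ρ c) = -1 := det_refl ρ c hcc (by rw [hrange]; exact hL₀)
    rw [hdet1] at hdet2
    exact absurd hdet2 (by decide)
  exact (Subgroup.eq_of_le_of_card_ge hAC (by rw [hA.card]; exact hCle)).symm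

end Cfsg.Agent.S4415P
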