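import Mathlib
import Cfsg.Agent.Helper9.S5650.Defs
import Cfsg.Agent.Helper9.S5650.Lib
import Cfsg.Agent.S0801

/-! # S5650 piece DICK: Dickson glue (helper9) -/

set_option autoImplicit false

namespace Cfsg.Agent.S5650P

open Matrix Cfsg.Agent.Helper28

variable {F : Type*} [Field F] {m : ℕ}

namespace DICK

/-- `A` acts on the plane `⟨b₁, b₂⟩` as the `2 × 2` matrix `g` and trivially on its orthogonal complement -/
def Acts (b₁ b₂ : Vec m F) (A : Mat m F) (g : Matrix (Fin 2) (Fin 2) F) : Prop :=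
  A *ᵥ b₁ = g 0 0 • b₁ + g 1 0 • b₂ ∧ A *ᵥ b₂ = g 0 1 • b₁ + g 1 1 • b₂ ∧
    ∀ x : Vec m F, om x b₁ = 0 → om x b₂ = 0 → A *ᵥ x = x

theorem acts_one (b₁ b₂ : Vec m F) : Acts b₁ b₂ 1 1 := by
  refine ⟨?_, ?_, fun x _ _ => Matrix.one_mulVec x⟩
  · rw [Matrix.one_mulVec]; simp
  · rw [Matrix.one_mulVec]; simp

theorem acts_mul {b₁ b₂ : Vec m F} {A A' : Mat m F} {g g' : Matrix (Fin 2) (Fin 2) F}
    (h : Acts b₁ b₂ A g) (h' : Acts b₁ b₂ A' g') : Acts b₁ b₂ (A * A') (g * g') := by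
  obtain ⟨h1, h2, h3⟩ := h
  obtain ⟨h1', h2', h3'⟩ := h'
  refine ⟨?_, ?_, ?_⟩
  · rw [← Matrix.mulVec_mulVec, h1', Matrix.mulVec_add, Matrix.mulVec_smul, Matrix.mulVec_smul, h1, h2,
      Matrix.mul_apply, Matrix.mul_apply, Fin.sum_univ_two, Fin.sum_univ_two]
    module
  · rw [← Matrix.mulVec_mulVec, h2', Matrix.mulVec_add, Matrix.mulVec_smul, Matrix.mulVec_smul, h1, h2,
      Matrix.mul_apply, Matrix.mul_apply, Fin.sum_univ_two, Fin.sum_univ_two]
    module
  · intro x hx1 hx2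
    rw [← Matrix.mulVec_mulVec, h3' x hx1 hx2, h3 x hx1 hx2]

theorem acts_inv {b₁ b₂ : Vec m F} {A A' : Mat m F} {g g' : Matrix (Fin 2) (Fin 2) F}
    (h : Acts b₁ b₂ A g) (hA : A' * A = 1) (hg : g * g' = 1) : Acts b₁ b₂ A' g' := by
  have hm := acts_mul h (A' := 1) (g' := g')
  obtain ⟨h1, h2, h3⟩ := h
  have e00 : g 0 0 * g' 0 0 + g 0 1 * g' 1 0 = 1 := by
    have := congrFun (congrFun hg 0) 0
    rw [Matrix.mul_apply, Fin.sum_univ_two] at this
    simpa using this
  have e10 : g 1 0 * g' 0 0 + g 1 1 * g' 1 0 = 0 := by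
    have := congrFun (congrFun hg 1) 0
    rw [Matrix.mul_apply, Fin.sum_univ_two] at this
    simpa using this
  have e01 : g 0 0 * g' 0 1 + g 0 1 * g' 1 1 = 0 := by
    have := congrFun (congrFun hg 0) 1
    rw [Matrix.mul_apply, Fin.sum_univ_two] at this
    simpa using this
  have e11 : g 1 0 * g' 0 1 + g 1 1 * g' 1 1 = 1 := by
    have := congrFun (congrFun hg 1) 1
    rw [Matrix.mul_apply, Fin.sum_univ_two] at this
    simpa using this
  have key : ∀ y z : Vec m F, A *ᵥ y = z → A' *ᵥ z = y := by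
    intro y z hyz
    rw [← hyz, Matrix.mulVec_mulVec, hA, Matrix.one_mulVec]
  refine ⟨?_, ?_, ?_⟩
  · apply key
    rw [Matrix.mulVec_add, Matrix.mulVec_smul, Matrix.mulVec_smul, h1, h2]
    have : g' 0 0 • (g 0 0 • b₁ + g 1 0 • b₂) + g' 1 0 • (g 0 1 • b₁ + g 1 1 • b₂) =
        (g 0 0 * g' 0 0 + g 0 1 * g' 1 0) • b₁ + (g 1 0 * g' 0 0 + g 1 1 * g' 1 0) • b₂ := by
      module
    rw [this, e00, e10, one_smul, zero_smul, add_zero]
  · apply key
    rw [Matrix.mulVec_add, Matrix.mulVec_smul, Matrix.mulVec_smul, h1, h2]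
    have : g' 0 1 • (g 0 0 • b₁ + g 1 0 • b₂) + g' 1 1 • (g 0 1 • b₁ + g 1 1 • b₂) =
        (g 0 0 * g' 0 1 + g 0 1 * g' 1 1) • b₁ + (g 1 0 * g' 0 1 + g 1 1 * g' 1 1) • b₂ := by
      module
    rw [this, e01, e11, one_smul, zero_smul, zero_add]
  · intro x hx1 hx2
    exact key x x (h3 x hx1 hx2)

theorem acts_unique {b₁ b₂ : Vec m F} (hω : om b₁ b₂ ≠ 0) {A A' : Mat m F}
    {g : Matrix (Fin 2) (Fin 2) F} (h : Acts b₁ b₂ A g) (h' : Acts b₁ b₂ A' g) : A = A' := by
  obtain ⟨h1, h2, h3⟩ := h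
  obtain ⟨h1', h2', h3'⟩ := h'
  apply mat_ext
  intro x
  set ω := om b₁ b₂ with hωdef
  set x₁ : F := om x b₂ / ω with hx₁
  set x₂ : F := - om x b₁ / ω with hx₂
  set x' : Vec m F := x - x₁ • b₁ - x₂ • b₂ with hx'
  have e21 : Cfsg.sympForm m F b₂ b₁ = - ω := by
    rw [hωdef]; exact om_swap b₂ b₁
  have e12 : Cfsg.sympForm m F b₁ b₂ = ω := rfl
  have hp1 : om x' b₁ = 0 := by
    simp only [hx', om, sympForm_sub_left, sympForm_smul_left, sympForm_self, e21, hx₂]
    field_simp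
    ring
  have hp2 : om x' b₂ = 0 := by
    simp only [hx', om, sympForm_sub_left, sympForm_smul_left, sympForm_self, e12, hx₁]
    field_simp
    ring
  have hx : x = x₁ • b₁ + x₂ • b₂ + x' := by
    rw [hx']; abel
  rw [hx, Matrix.mulVec_add, Matrix.mulVec_add, Matrix.mulVec_smul, Matrix.mulVec_smul,
    Matrix.mulVec_add, Matrix.mulVec_add, Matrix.mulVec_smul, Matrix.mulVec_smul,
    h1, h2, h1', h2', h3 x' hp1 hp2, h3' x' hp1 hp2]

/-- the lower unitriangular elements -/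
theorem acts_T_left {u v : Vec m F} (hβ : om u v ≠ 0) (t : F) :
    Acts v (om u v • u) (T u (-t)) !![1, 0; t, 1] := by
  have e1 : Cfsg.sympForm m F v u = - om u v := om_swap v u
  refine ⟨?_, ?_, ?_⟩
  · rw [T_mulVec]
    simp only [om, e1, Matrix.of_apply, Matrix.cons_val', Matrix.cons_val_zero, Matrix.cons_val_one,
      Matrix.cons_val_fin_one]
    module
  · rw [T_mulVec]
    simp only [om, sympForm_smul_left, sympForm_self, Matrix.of_apply, Matrix.cons_val',
      Matrix.cons_val_zero, Matrix.cons_val_one, Matrix.cons_val_fin_one]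
    module
  · intro x _ hx2
    rw [T_mulVec]
    have : om x u = 0 := by
      have h := hx2
      simp only [om, sympForm_smul_right] at h
      rcases mul_eq_zero.1 h with h | h
      · exact absurd h hβ
      · exact h
    rw [this, mul_zero, zero_smul, add_zero]

/-- the upper unitriangular generator -/
theorem acts_T_right (u v : Vec m F) (c : F) :
    Acts v (om u v • u) (T v c) !![1, om u v ^ 2 * c; 0, 1] := by
  refine ⟨?_, ?_, ?_⟩
  · rw [T_mulVec]
    simp only [om, sympForm_self, Matrix.of_apply, Matrix.cons_val', Matrix.cons_val_zero,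
      Matrix.cons_val_one, Matrix.cons_val_fin_one]
    module
  · rw [T_mulVec]
    simp only [om, sympForm_smul_left, Matrix.of_apply, Matrix.cons_val',
      Matrix.cons_val_zero, Matrix.cons_val_one, Matrix.cons_val_fin_one]
    module
  · intro x hx1 _
    rw [T_mulVec, hx1, mul_zero, zero_smul, add_zero]

/-- the generator of a subfield closure generates the closure, as a field on its own -/
theorem closure_gen_eq_top (γ : F) :
    Subfield.closure ({(⟨γ, Subfield.subset_closure (Set.mem_singleton γ)⟩ :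
      ↥(Subfield.closure ({γ} : Set F)))} : Set ↥(Subfield.closure ({γ} : Set F))) = ⊤ := by
  rw [eq_top_iff]
  intro x _
  have h1 : Subfield.closure ({γ} : Set F) ≤
      (Subfield.closure ({(⟨γ, Subfield.subset_closure (Set.mem_singleton γ)⟩ :
      ↥(Subfield.closure ({γ} : Set F)))} : Set ↥(Subfield.closure ({γ} : Set F)))).map
        (Subfield.closure ({γ} : Set F)).subtype := by
    apply Subfield.closure_le.2
    intro y hy
    rw [Set.mem_singleton_iff] at hy
    subst hy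
    exact ⟨⟨y, Subfield.subset_closure (Set.mem_singleton y)⟩,
      Subfield.subset_closure (Set.mem_singleton _), rfl⟩
  obtain ⟨y, hy, hyx⟩ := h1 x.2
  have : y = x := Subtype.ext hyx
  rw [← this]; exact hy

theorem exists_lower (E : Subfield F) (t : ↥E) :
    ∃ g : Matrix.SpecialLinearGroup (Fin 2) ↥E,
      (g : Matrix (Fin 2) (Fin 2) ↥E) = !![1, 0; t, 1] :=
  ⟨⟨!![1, 0; t, 1], by simp [Matrix.det_fin_two]⟩, rfl⟩

/-- the embedding of `2 × 2` matrices -/
def emb (E : Subfield F) (g : Matrix (Fin 2) (Fin 2) ↥E) : Matrix (Fin 2) (Fin 2) F :=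
  g.map E.subtype

theorem emb_mul (E : Subfield F) (g g' : Matrix (Fin 2) (Fin 2) ↥E) :
    emb E (g * g') = emb E g * emb E g' := Matrix.map_mul

theorem emb_one (E : Subfield F) : emb E 1 = 1 := by
  unfold emb
  rw [Matrix.map_one] <;> simp

/-- the induction: every element of the group generated by the two generators acts through `M` -/
theorem exists_acts (M : Subgroup (GLm m F)) (E : Subfield F) {b₁ b₂ : Vec m F} {γ : ↥E}
    {A₁ A₂ : Mat m F} (hA₁ : A₁ ∈ MS M) (hA₂ : A₂ ∈ MS M)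
    (h₁ : Acts b₁ b₂ A₁ !![1, 0; 1, 1]) (h₂ : Acts b₁ b₂ A₂ !![1, (γ : F); 0, 1])
    (g : Matrix.SpecialLinearGroup (Fin 2) ↥E)
    (hg : g ∈ Subgroup.closure {g : Matrix.SpecialLinearGroup (Fin 2) ↥E |
      (g : Matrix (Fin 2) (Fin 2) ↥E) = !![1, 0; 1, 1] ∨
      (g : Matrix (Fin 2) (Fin 2) ↥E) = !![1, γ; 0, 1]}) :
    ∃ A ∈ MS M, Acts b₁ b₂ A (emb E (g : Matrix (Fin 2) (Fin 2) ↥E)) := by
  induction hg using Subgroup.closure_induction with
  | mem x hx =>
    rcases hx with hx | hx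
    · refine ⟨A₁, hA₁, ?_⟩
      rw [hx]
      have : emb E !![1, 0; 1, 1] = !![1, 0; 1, 1] := by
        unfold emb
        ext i j
        fin_cases i <;> fin_cases j <;> simp
      rw [this]; exact h₁
    · refine ⟨A₂, hA₂, ?_⟩
      rw [hx]
      have : emb E !![1, γ; 0, 1] = !![1, (γ : F); 0, 1] := by
        unfold emb
        ext i j
        fin_cases i <;> fin_cases j <;> simp
      rw [this]; exact h₂
  | one =>
    refine ⟨1, one_mem_MS M, ?_⟩
    rw [Matrix.SpecialLinearGroup.coe_one, emb_one]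
    exact acts_one b₁ b₂
  | mul x y _ _ hx hy =>
    obtain ⟨A, hA, hAx⟩ := hx
    obtain ⟨A', hA', hAy⟩ := hy
    refine ⟨A * A', MS_mul hA hA', ?_⟩
    rw [Matrix.SpecialLinearGroup.coe_mul, emb_mul]
    exact acts_mul hAx hAy
  | inv x _ hx =>
    obtain ⟨A, ⟨a, ha, rfl⟩, hAx⟩ := hx
    refine ⟨((a⁻¹ : GLm m F) : Mat m F), coe_mem_MS (M.inv_mem ha), ?_⟩
    apply acts_inv hAx (inv_mul_coe a)
    rw [← emb_mul, ← Matrix.SpecialLinearGroup.coe_mul, mul_inv_cancel,
      Matrix.SpecialLinearGroup.coe_one, emb_one]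

end DICK

/-- DICK -/
theorem DICK.sq_mul_mem [Fintype F] (h2 : (2 : F) ≠ 0) (F₀ : Subfield F)
    (M : Subgroup (GLm m F)) (hMsp : M ≤ Cfsg.spGL m F) (hM : HasRatSp F₀ M) (hT : RootRatT F₀ M)
    (hno9 : ∀ x : F, x ^ 2 = -1 → x ∈ F₀) {u v : Vec m F} {c : F} (hu : Rat F₀ u)
    (hTv : T v c ∈ MS M) : om u v ^ 2 * c ∈ F₀ := by
  classical
  by_cases hγ : om u v ^ 2 * c = 0
  · rw [hγ]; exact F₀.zero_mem
  have hβ : om u v ≠ 0 := by
    intro h
    apply hγ
    rw [h]; ring
  have hu0 : u ≠ 0 := by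
    intro h
    apply hβ
    rw [h]
    simp only [om, sympForm_zero_left]
  set γ : F := om u v ^ 2 * c with hγdef
  set E : Subfield F := Subfield.closure ({γ} : Set F) with hE
  set lam : ↥E := ⟨γ, Subfield.subset_closure (Set.mem_singleton γ)⟩ with hlam
  have : Fintype ↥E := Fintype.ofFinite _
  have h2E : (2 : ↥E) ≠ 0 := by
    intro h
    apply h2
    have e2 : E.subtype 2 = 2 := map_ofNat E.subtype 2
    rw [← e2, h, map_zero]
  have hlam0 : lam ≠ 0 := by
    intro h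
    apply hγ
    have h' : (lam : F) = ((0 : ↥E) : F) := by rw [h]
    exact h'
  have hgen : Subfield.closure ({lam} : Set ↥E) = ⊤ := DICK.closure_gen_eq_top γ
  rcases Cfsg.Agent.S0801.result h2E lam hlam0 hgen with ⟨htop, _⟩ | ⟨_, hsq, _⟩
  · -- the generic case
    have hA₁ : T u (-1) ∈ MS M := T_mem_of_hasRatSp hM hu (F₀.neg_mem F₀.one_mem)
    have h₁ := DICK.acts_T_left hβ (1 : F)
    have h₂ := DICK.acts_T_right u v c
    obtain ⟨g, hg⟩ := DICK.exists_lower E lam
    have hgmem : g ∈ Subgroup.closure {g : Matrix.SpecialLinearGroup (Fin 2) ↥E |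
        (g : Matrix (Fin 2) (Fin 2) ↥E) = !![1, 0; 1, 1] ∨
        (g : Matrix (Fin 2) (Fin 2) ↥E) = !![1, lam; 0, 1]} := by
      rw [htop]; trivial
    have h₂' : DICK.Acts v (om u v • u) (T v c) !![1, (lam : F); 0, 1] := h₂
    obtain ⟨A, hA, hAg⟩ := DICK.exists_acts M E (γ := lam) hA₁ hTv h₁ h₂' g hgmem
    have hemb : DICK.emb E (g : Matrix (Fin 2) (Fin 2) ↥E) = !![1, 0; γ, 1] := by
      rw [hg]
      unfold DICK.emb
      ext i j
      fin_cases i <;> fin_cases j <;> simp [hlam]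
    rw [hemb] at hAg
    have hω : om v (om u v • u) ≠ 0 := by
      have e1 : Cfsg.sympForm m F v u = - om u v := om_swap v u
      simp only [om, sympForm_smul_right, e1]
      intro h
      apply hβ
      have : om u v * om u v = 0 := by
        have h' : Cfsg.sympForm m F u v * -Cfsg.sympForm m F u v = 0 := h
        linear_combination -h'
      exact mul_self_eq_zero.1 this
    have hAeq : A = T u (-γ) := DICK.acts_unique hω hAg (DICK.acts_T_left hβ γ)
    rw [hAeq] at hA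
    have := hT u (-γ) hu hu0 hA
    have h3 := F₀.neg_mem this
    rwa [neg_neg] at h3
  · -- the exceptional case
    apply hno9
    have h' : ((lam ^ 2 : ↥E) : F) = ((-1 : ↥E) : F) := by rw [hsq]
    have h'' : (lam : F) ^ 2 = -1 := by exact_mod_cast h'
    exact h''

end Cfsg.Agent.S5650P
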