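import Mathlib
import Cfsg.Agent.Helper7.S5655.Defs
import Cfsg.Agent.Lead.S5655FIX

/-! S5655 (k = 1), chapter (B) (helper15), piece MULT (helper9): an additive subgroup stable under more than `q / 2`
multipliers of the fixed field is stable under the whole fixed field. -/

set_option autoImplicit false
set_option linter.unusedSectionVars false
set_option linter.unusedVariables false

namespace Cfsg.Agent.S5655K1

open Matrix
open Cfsg.Agent.S2644 Cfsg.Agent.Helper2.SUGen Cfsg.Agent.Helper28.SimMax Cfsg.Agent.MonoP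

variable {K : Type*} [Field K] {q n : ℕ}

namespace MULT

/-- the fixed field as an additive subgroup -/
def FX (D : Frob K q) : AddSubgroup K where
  carrier := {m | D.σ m = m}
  zero_mem' := map_zero _
  add_mem' := by
    intro a b ha hb
    show D.σ (a + b) = a + b
    rw [map_add, ha, hb]
  neg_mem' := by
    intro a ha
    show D.σ (-a) = -a
    rw [map_neg, ha]

/-- the multipliers of `X` in the fixed field -/
def MX (D : Frob K q) (X : AddSubgroup K) : AddSubgroup K where
  carrier := {m | D.σ m = m ∧ ∀ c ∈ X, m * c ∈ X}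
  zero_mem' := ⟨map_zero _, fun c _ => by rw [zero_mul]; exact X.zero_mem⟩
  add_mem' := by
    rintro a b ⟨ha, ha'⟩ ⟨hb, hb'⟩
    refine ⟨?_, fun c hc => ?_⟩
    · show D.σ (a + b) = a + b
      rw [map_add, ha, hb]
    · rw [add_mul]
      exact X.add_mem (ha' c hc) (hb' c hc)
  neg_mem' := by
    rintro a ⟨ha, ha'⟩
    refine ⟨?_, fun c hc => ?_⟩
    · show D.σ (-a) = -a
      rw [map_neg, ha]
    · rw [neg_mul]
      exact X.neg_mem (ha' c hc)

theorem MX_le (D : Frob K q) (X : AddSubgroup K) : MX D X ≤ FX D := fun _ hm => hm.1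

theorem card_FX (D : Frob K q) [Fintype K] (hK : Fintype.card K = q ^ 2) : Nat.card (FX D) = q := by
  classical
  rw [Nat.card_eq_fintype_card]
  refine Eq.trans ?_ (FIX.card D hK)
  rw [Fintype.card_subtype]
  congr 1

end MULT

/-- MULT (M) -/
theorem MULT.main (D : Frob K q) [Fintype K] (hK : Fintype.card K = q ^ 2) (X : AddSubgroup K)
    (S : Finset K) (hSfix : ∀ m ∈ S, D.σ m = m) (hS : ∀ m ∈ S, ∀ c ∈ X, m * c ∈ X)
    (hcard : q < 2 * S.card) : ∀ m : K, D.σ m = m → ∀ c ∈ X, m * c ∈ X := by
  classical
  have hle := MULT.MX_le D X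
  have hdvd : Nat.card (MULT.MX D X) ∣ Nat.card (MULT.FX D) := AddSubgroup.card_dvd_of_le hle
  rw [MULT.card_FX D hK] at hdvd
  have hSle : S.card ≤ Nat.card (MULT.MX D X) := by
    rw [← Set.ncard_coe_finset S, ← SetLike.coe_sort_coe, Nat.card_coe_set_eq]
    apply Set.ncard_le_ncard _ (Set.toFinite _)
    intro m hm
    exact ⟨hSfix m hm, hS m hm⟩
  have hq0 : 0 < q := by
    rcases Nat.eq_zero_or_pos q with h0 | h0
    · subst h0
      have : 0 < Fintype.card K := Fintype.card_pos
      rw [hK] at this
      simp at this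
    · exact h0
  have hcardeq : Nat.card (MULT.MX D X) = q := by
    obtain ⟨k, hk⟩ := hdvd
    have hk1 : k = 1 := by
      rcases Nat.lt_or_ge k 2 with h2 | h2
      · rcases Nat.eq_zero_or_pos k with h0 | h0
        · subst h0
          omega
        · omega
      · exfalso
        have : 2 * Nat.card (MULT.MX D X) ≤ Nat.card (MULT.MX D X) * k := by
          rw [mul_comm]
          exact Nat.mul_le_mul_left _ h2
        omega
    rw [hk1, mul_one] at hk
    exact hk.symm
  have heq : MULT.MX D X = MULT.FX D := by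
    apply AddSubgroup.eq_of_le_of_card_ge hle
    rw [hcardeq, MULT.card_FX D hK]
  intro m hm c hc
  have hmem : m ∈ MULT.MX D X := by
    rw [heq]
    exact hm
  exact hmem.2 c hc

end Cfsg.Agent.S5655K1
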