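import Cfsg.Agent.Helper12.S5702Defs2
import Cfsg.Agent.Helper8.S5702KADD
import Cfsg.Agent.Helper8.S5702KMUL

set_option autoImplicit false
set_option linter.unusedSectionVars false
set_option linter.unusedVariables false

/-! S5702 piece KFIELD (driver helper12; port of helper23's S5683 piece by helper9): `KO` is a subfield containing `F₀`. -/

namespace Cfsg.Agent.S5702P

open Matrix Cfsg.Agent.Helper28.Sg Cfsg.Agent.Helper28.Spin Cfsg.Agent.Helper12.OrthGen
  Cfsg.Agent.S5683P

variable {F : Type*} [Field F] {m : ℕ} {a b : F}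

namespace KFIELD

/-- in a finite field the inverse is a power -/
theorem inv_eq_pow [Finite F] (c : F) (hc : c ≠ 0) : ∃ k : ℕ, c⁻¹ = c ^ k := by
  have : Fintype F := Fintype.ofFinite F
  refine ⟨Fintype.card F - 2, ?_⟩
  have h1 := FiniteField.pow_card_sub_one_eq_one c hc
  have h2 : 2 ≤ Fintype.card F := Fintype.one_lt_card
  have h3 : Fintype.card F - 1 = (Fintype.card F - 2) + 1 := by omega
  rw [h3, pow_succ] at h1
  exact (eq_inv_of_mul_eq_one_left h1).symm

end KFIELD

/-- KFIELD: `KO` is a subfield containing `F₀`. -/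
theorem KFIELD.exists_subfield [Finite F] (hm : 3 ≤ m) (F₀ : Subfield F) (ha : a ∈ F₀)
    (hb : b ∈ F₀) (hab : 4 * b - a ^ 2 ≠ 0)
    (M : Subgroup (OG m F a b)) (hM : HasRatO F₀ M) (i j : Fin m) (hij : i ≠ j) :
    ∃ K : Subfield F, F₀ ≤ K ∧ KO M i j = (K : Set F) := by
  have hone : (1 : F) ∈ KO M i j := KADD.rat_mem F₀ ha hb M hM i j hij F₀.one_mem
  have hzero : (0 : F) ∈ KO M i j := KADD.rat_mem F₀ ha hb M hM i j hij F₀.zero_mem
  have hmul : ∀ x y : F, x ∈ KO M i j → y ∈ KO M i j → x * y ∈ KO M i j :=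
    fun x y hx hy => KMUL.mul_mem hm F₀ ha hb hab M hM i j hij hx hy
  have hpow : ∀ (c : F) (k : ℕ), c ∈ KO M i j → c ^ k ∈ KO M i j := by
    intro c k hc
    induction k with
    | zero => rw [pow_zero]; exact hone
    | succ k ih => rw [pow_succ]; exact hmul _ _ ih hc
  let K : Subfield F :=
    { carrier := KO M i j
      mul_mem' := fun {x y} hx hy => hmul x y hx hy
      one_mem' := hone
      add_mem' := fun {x y} hx hy => KADD.add_mem M i j hx hy
      zero_mem' := hzero
      neg_mem' := fun {x} hx => KADD.neg_mem M i j hx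
      inv_mem' := by
        intro x hx
        by_cases h0 : x = 0
        · rw [h0, _root_.inv_zero]; exact hzero
        · obtain ⟨k, hk⟩ := KFIELD.inv_eq_pow x h0
          rw [hk]
          exact hpow x k hx }
  refine ⟨K, ?_, rfl⟩
  intro c hc
  exact KADD.rat_mem F₀ ha hb M hM i j hij hc

end Cfsg.Agent.S5702P
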