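import Mathlib
import Cfsg.Prelude.Def_GeometricClasses
import Cfsg.Agent.Helper2.S5886.Defs
import Cfsg.Agent.Helper14.S5886TVSL

/-! S5886 piece BRIDGE (helper9, hedge): the concrete data `(F, n, K ⊆ M_n(F))` as an instance of the abstract framework. -/

set_option autoImplicit false
set_option linter.unusedSectionVars false
set_option linter.unusedVariables false
set_option linter.style.haveILetI false

namespace Cfsg.Agent.S5886P

open Matrix

universe u

namespace BRIDGE

variable {F : Type u} [Field F] {n : ℕ}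

theorem isField (r : ℕ) (hn : 0 < n) (K : Subalgebra F (Matrix (Fin n) (Fin n) F))
    (hK : Cfsg.Geo.IsFieldSubalgebra r K) : IsField ↥K := by
  refine ⟨⟨0, 1, ?_⟩, ?_, ?_⟩
  · intro h01
    have h1 : (0 : Matrix (Fin n) (Fin n) F) = 1 := congrArg Subtype.val h01
    have h2 := congrFun (congrFun h1 ⟨0, hn⟩) ⟨0, hn⟩
    simp at h2
  · intro x y
    exact Subtype.ext (hK.comm x x.2 y y.2)
  · intro a ha
    obtain ⟨y, hy, hxy⟩ := hK.inv a a.2 (fun h0 => ha (Subtype.ext h0))
    exact ⟨⟨y, hy⟩, Subtype.ext hxy⟩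

/-- the action of `K` on `F ^ n` as a ring homomorphism -/
noncomputable def act (K : Subalgebra F (Matrix (Fin n) (Fin n) F)) :
    ↥K →+* Module.End F (Fin n → F) :=
  ((Matrix.toLinAlgEquiv' : Matrix (Fin n) (Fin n) F ≃ₐ[F] Module.End F (Fin n → F)) :
    Matrix (Fin n) (Fin n) F →+* Module.End F (Fin n → F)).comp K.val.toRingHom

theorem act_apply (K : Subalgebra F (Matrix (Fin n) (Fin n) F)) (k : ↥K) (x : Fin n → F) :
    act K k x = (k : Matrix (Fin n) (Fin n) F) *ᵥ x := by
  unfold act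
  simp

/-- the isomorphism `GL_n(F) ≃* (F ^ n ≃ₗ F ^ n)` -/
noncomputable def ee (F : Type u) [Field F] (n : ℕ) :
    Matrix.GeneralLinearGroup (Fin n) F ≃* ((Fin n → F) ≃ₗ[F] (Fin n → F)) :=
  TVSL.glEquiv (Pi.basisFun F (Fin n))

theorem ee_apply (g : Matrix.GeneralLinearGroup (Fin n) F) (x : Fin n → F) :
    ee F n g x = (g : Matrix (Fin n) (Fin n) F) *ᵥ x := by
  unfold ee
  rw [TVSL.glEquiv_apply]
  have h1 : ⇑((Pi.basisFun F (Fin n)).repr x) = x := by
    funext i
    exact Pi.basisFun_repr F (Fin n) x i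
  rw [h1]
  have h2 := (Pi.basisFun F (Fin n)).sum_repr ((g : Matrix (Fin n) (Fin n) F) *ᵥ x)
  have h3 : ⇑((Pi.basisFun F (Fin n)).repr ((g : Matrix (Fin n) (Fin n) F) *ᵥ x)) =
      (g : Matrix (Fin n) (Fin n) F) *ᵥ x := by
    funext i
    exact Pi.basisFun_repr F (Fin n) _ i
  rw [h3] at h2
  exact h2

theorem ee_det (g : Matrix.GeneralLinearGroup (Fin n) F) :
    ((LinearEquiv.det (ee F n g) : Fˣ) : F) = (g : Matrix (Fin n) (Fin n) F).det :=
  TVSL.glEquiv_det _ g

theorem inv_mul_val (g : Matrix.GeneralLinearGroup (Fin n) F) :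
    ((g⁻¹ : Matrix.GeneralLinearGroup (Fin n) F) : Matrix (Fin n) (Fin n) F) *
      (g : Matrix (Fin n) (Fin n) F) = 1 := by
  rw [← Units.val_mul, inv_mul_cancel, Units.val_one]

theorem mul_inv_val (g : Matrix.GeneralLinearGroup (Fin n) F) :
    (g : Matrix (Fin n) (Fin n) F) *
      ((g⁻¹ : Matrix.GeneralLinearGroup (Fin n) F) : Matrix (Fin n) (Fin n) F) = 1 := by
  rw [← Units.val_mul, mul_inv_cancel, Units.val_one]

/-- special linear group vs. determinant one -/
theorem map_SL : (Cfsg.Geo.specialLinear (Fin n) F).map (ee F n).toMonoidHom =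
    (DetIn (⊥ : Subgroup Fˣ) : Subgroup ((Fin n → F) ≃ₗ[F] (Fin n → F))) := by
  ext φ
  rw [Subgroup.mem_map_equiv]
  obtain ⟨g, rfl⟩ := (ee F n).surjective φ
  rw [MulEquiv.symm_apply_apply]
  unfold Cfsg.Geo.specialLinear DetIn
  rw [MonoidHom.mem_ker, Subgroup.mem_comap, Subgroup.mem_bot]
  constructor
  · intro h1
    apply Units.ext
    rw [ee_det, Units.val_one]
    have := congrArg Units.val h1
    simpa using this
  · intro h1
    apply Units.ext
    have := congrArg Units.val h1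
    rw [ee_det, Units.val_one] at this
    simpa using this

/-- conjugation by a normalising element, as an algebra automorphism of `K` -/
noncomputable def conjEquiv (K : Subalgebra F (Matrix (Fin n) (Fin n) F))
    (g : Matrix.GeneralLinearGroup (Fin n) F) (hg : g ∈ Cfsg.Geo.subalgebraNormalizer K) :
    ↥K ≃ₐ[F] ↥K where
  toFun k := ⟨(g : Matrix (Fin n) (Fin n) F) * k *
    ((g⁻¹ : Matrix.GeneralLinearGroup (Fin n) F) : Matrix (Fin n) (Fin n) F), (hg k).1 k.2⟩
  invFun k := ⟨((g⁻¹ : Matrix.GeneralLinearGroup (Fin n) F) : Matrix (Fin n) (Fin n) F) * k *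
    (g : Matrix (Fin n) (Fin n) F), by
      apply (hg _).2
      have : (g : Matrix (Fin n) (Fin n) F) *
          (((g⁻¹ : Matrix.GeneralLinearGroup (Fin n) F) : Matrix (Fin n) (Fin n) F) * k *
            (g : Matrix (Fin n) (Fin n) F)) *
          ((g⁻¹ : Matrix.GeneralLinearGroup (Fin n) F) : Matrix (Fin n) (Fin n) F) = k := by
        rw [← mul_assoc, ← mul_assoc, mul_inv_val, one_mul, mul_assoc, mul_inv_val, mul_one]
      rw [this]
      exact k.2⟩
  left_inv k := by
    apply Subtype.ext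
    show ((g⁻¹ : Matrix.GeneralLinearGroup (Fin n) F) : Matrix (Fin n) (Fin n) F) *
      ((g : Matrix (Fin n) (Fin n) F) * k *
        ((g⁻¹ : Matrix.GeneralLinearGroup (Fin n) F) : Matrix (Fin n) (Fin n) F)) *
      (g : Matrix (Fin n) (Fin n) F) = k
    rw [← mul_assoc, ← mul_assoc, inv_mul_val, one_mul, mul_assoc, inv_mul_val, mul_one]
  right_inv k := by
    apply Subtype.ext
    show (g : Matrix (Fin n) (Fin n) F) *
      (((g⁻¹ : Matrix.GeneralLinearGroup (Fin n) F) : Matrix (Fin n) (Fin n) F) * k *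
        (g : Matrix (Fin n) (Fin n) F)) *
      ((g⁻¹ : Matrix.GeneralLinearGroup (Fin n) F) : Matrix (Fin n) (Fin n) F) = k
    rw [← mul_assoc, ← mul_assoc, mul_inv_val, one_mul, mul_assoc, mul_inv_val, mul_one]
  map_mul' k k' := by
    apply Subtype.ext
    show (g : Matrix (Fin n) (Fin n) F) * ((k : Matrix (Fin n) (Fin n) F) * k') *
        ((g⁻¹ : Matrix.GeneralLinearGroup (Fin n) F) : Matrix (Fin n) (Fin n) F) =
      ((g : Matrix (Fin n) (Fin n) F) * k *
        ((g⁻¹ : Matrix.GeneralLinearGroup (Fin n) F) : Matrix (Fin n) (Fin n) F)) *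
      ((g : Matrix (Fin n) (Fin n) F) * k' *
        ((g⁻¹ : Matrix.GeneralLinearGroup (Fin n) F) : Matrix (Fin n) (Fin n) F))
    have h := inv_mul_val g
    calc (g : Matrix (Fin n) (Fin n) F) * ((k : Matrix (Fin n) (Fin n) F) * k') *
        ((g⁻¹ : Matrix.GeneralLinearGroup (Fin n) F) : Matrix (Fin n) (Fin n) F)
        = (g : Matrix (Fin n) (Fin n) F) * k * 1 * k' *
          ((g⁻¹ : Matrix.GeneralLinearGroup (Fin n) F) : Matrix (Fin n) (Fin n) F) := by
          rw [mul_one]
          simp only [mul_assoc]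
      _ = _ := by
          rw [← h]
          simp only [mul_assoc]
  map_add' k k' := by
    apply Subtype.ext
    show (g : Matrix (Fin n) (Fin n) F) * ((k : Matrix (Fin n) (Fin n) F) + k') *
        ((g⁻¹ : Matrix.GeneralLinearGroup (Fin n) F) : Matrix (Fin n) (Fin n) F) =
      ((g : Matrix (Fin n) (Fin n) F) * k *
        ((g⁻¹ : Matrix.GeneralLinearGroup (Fin n) F) : Matrix (Fin n) (Fin n) F)) +
      ((g : Matrix (Fin n) (Fin n) F) * k' *
        ((g⁻¹ : Matrix.GeneralLinearGroup (Fin n) F) : Matrix (Fin n) (Fin n) F))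
    rw [mul_add, add_mul]
  commutes' a := by
    apply Subtype.ext
    show (g : Matrix (Fin n) (Fin n) F) * (algebraMap F (Matrix (Fin n) (Fin n) F) a) *
        ((g⁻¹ : Matrix.GeneralLinearGroup (Fin n) F) : Matrix (Fin n) (Fin n) F) =
      algebraMap F (Matrix (Fin n) (Fin n) F) a
    rw [← Algebra.commutes, mul_assoc, mul_inv_val, mul_one]

theorem conjEquiv_mul (K : Subalgebra F (Matrix (Fin n) (Fin n) F))
    (g : Matrix.GeneralLinearGroup (Fin n) F) (hg : g ∈ Cfsg.Geo.subalgebraNormalizer K) (k : ↥K) :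
    ((conjEquiv K g hg k : ↥K) : Matrix (Fin n) (Fin n) F) * (g : Matrix (Fin n) (Fin n) F) =
      (g : Matrix (Fin n) (Fin n) F) * k := by
  show (g : Matrix (Fin n) (Fin n) F) * k *
      ((g⁻¹ : Matrix.GeneralLinearGroup (Fin n) F) : Matrix (Fin n) (Fin n) F) *
      (g : Matrix (Fin n) (Fin n) F) = _
  rw [mul_assoc, inv_mul_val, mul_one]

/-- the converse: a surjective "twist" forces `g` into the normaliser -/
theorem mem_normalizer_of_twist (K : Subalgebra F (Matrix (Fin n) (Fin n) F))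
    (g : Matrix.GeneralLinearGroup (Fin n) F) (σ : ↥K → ↥K) (hσ : Function.Surjective σ)
    (hg : ∀ k : ↥K, (g : Matrix (Fin n) (Fin n) F) * k = (σ k : Matrix (Fin n) (Fin n) F) * g) :
    g ∈ Cfsg.Geo.subalgebraNormalizer K := by
  intro k
  constructor
  · intro hk
    have h1 := hg ⟨k, hk⟩
    have h2 : (g : Matrix (Fin n) (Fin n) F) * k *
        ((g⁻¹ : Matrix.GeneralLinearGroup (Fin n) F) : Matrix (Fin n) (Fin n) F) =
        (σ ⟨k, hk⟩ : Matrix (Fin n) (Fin n) F) := by
      have : (g : Matrix (Fin n) (Fin n) F) * k = (σ ⟨k, hk⟩ : Matrix (Fin n) (Fin n) F) * g := h1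
      rw [this, mul_assoc, mul_inv_val, mul_one]
    rw [h2]
    exact (σ ⟨k, hk⟩).2
  · intro hk
    obtain ⟨k₀, hk₀⟩ := hσ ⟨_, hk⟩
    have h1 := hg k₀
    rw [hk₀] at h1
    -- `g k₀ = g k g⁻¹ g = g k`
    have h2 : (g : Matrix (Fin n) (Fin n) F) * k₀ = (g : Matrix (Fin n) (Fin n) F) * k := by
      rw [h1]
      show (g : Matrix (Fin n) (Fin n) F) * k *
        ((g⁻¹ : Matrix.GeneralLinearGroup (Fin n) F) : Matrix (Fin n) (Fin n) F) *
        (g : Matrix (Fin n) (Fin n) F) = _
      rw [mul_assoc, inv_mul_val, mul_one]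
    have h3 : (k₀ : Matrix (Fin n) (Fin n) F) = k := by
      have := congrArg (fun m => ((g⁻¹ : Matrix.GeneralLinearGroup (Fin n) F) :
        Matrix (Fin n) (Fin n) F) * m) h2
      simp only [← mul_assoc, inv_mul_val, one_mul] at this
      exact this
    rw [← h3]
    exact k₀.2

end BRIDGE

/-- BRIDGE : the concrete data `(F, n, K ⊆ M_n(F))` as an instance of the abstract framework. -/
theorem BRIDGE {F : Type u} [Field F] [Fintype F] (n r : ℕ) (hr : r.Prime) (hrn : r ∣ n) (hlt : r < n)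
    (K : Subalgebra F (Matrix (Fin n) (Fin n) F)) (hK : Cfsg.Geo.IsFieldSubalgebra r K) :
    ∃ (K' : Type u) (_ : Field K') (_ : Algebra F K') (_ : Module K' (Fin n → F))
      (_ : IsScalarTower F K' (Fin n → F)) (_ : Finite K'),
      Module.finrank F K' = r ∧ 2 ≤ Module.finrank K' (Fin n → F) ∧
      ∃ e : Matrix.GeneralLinearGroup (Fin n) F ≃* ((Fin n → F) ≃ₗ[F] (Fin n → F)),
        (Cfsg.Geo.subalgebraNormalizer K).map e.toMonoidHom = Nrm F K' (Fin n → F) ∧
        (Cfsg.Geo.specialLinear (Fin n) F).map e.toMonoidHom =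
          (DetIn (⊥ : Subgroup Fˣ) : Subgroup ((Fin n → F) ≃ₗ[F] (Fin n → F))) := by
  have hn : 0 < n := lt_of_le_of_lt (Nat.zero_le r) hlt
  letI fld : Field ↥K := (BRIDGE.isField r hn K hK).toField
  letI alg : Algebra F ↥K := K.algebra
  letI mod : Module ↥K (Fin n → F) := Module.compHom (Fin n → F) (BRIDGE.act K)
  have hsmul : ∀ (k : ↥K) (x : Fin n → F), k • x = (k : Matrix (Fin n) (Fin n) F) *ᵥ x := by
    intro k x
    exact BRIDGE.act_apply K k x
  haveI tower : IsScalarTower F ↥K (Fin n → F) := by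
    refine ⟨fun a k x => ?_⟩
    rw [hsmul, hsmul]
    show (a • (k : Matrix (Fin n) (Fin n) F)) *ᵥ x = a • ((k : Matrix (Fin n) (Fin n) F) *ᵥ x)
    rw [Matrix.smul_mulVec]
  have fin : Finite ↥K := inferInstance
  refine ⟨↥K, fld, alg, mod, tower, fin, hK.finrank_eq, ?_, BRIDGE.ee F n, ?_, BRIDGE.map_SL⟩
  · -- the `K`-dimension
    have h1 := @Module.finrank_mul_finrank F ↥K (Fin n → F) _ _ _ _ _ _ tower _ _ _ _
    rw [Module.finrank_fin_fun] at h1
    have h2 : Module.finrank F ↥K = r := hK.finrank_eq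
    rw [h2] at h1
    by_contra hcon
    push Not at hcon
    have : r * Module.finrank ↥K (Fin n → F) ≤ r * 1 := Nat.mul_le_mul_left r (by omega)
    omega
  · -- the normaliser
    ext φ
    rw [Subgroup.mem_map_equiv]
    obtain ⟨g, rfl⟩ := (BRIDGE.ee F n).surjective φ
    rw [MulEquiv.symm_apply_apply]
    constructor
    · intro hg
      refine ⟨BRIDGE.conjEquiv K g hg, ?_⟩
      intro k x
      show BRIDGE.ee F n g (k • x) = (BRIDGE.conjEquiv K g hg k) • (BRIDGE.ee F n g x)
      rw [hsmul, hsmul, BRIDGE.ee_apply, BRIDGE.ee_apply, Matrix.mulVec_mulVec, Matrix.mulVec_mulVec,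
        BRIDGE.conjEquiv_mul]
    · rintro ⟨σ, hσ⟩
      apply BRIDGE.mem_normalizer_of_twist K g (fun k => σ k) σ.surjective
      intro k
      rw [Matrix.ext_iff_mulVec]
      intro x
      have := hσ k x
      have h2 : BRIDGE.ee F n g (k • x) = (σ k) • (BRIDGE.ee F n g x) := this
      rw [hsmul, hsmul, BRIDGE.ee_apply, BRIDGE.ee_apply, Matrix.mulVec_mulVec, Matrix.mulVec_mulVec] at h2
      exact h2

end Cfsg.Agent.S5886P
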