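import Mathlib
import Cfsg.Agent.Helper17.Tits.Main
import Cfsg.Agent.Helper19.Schur.Table

/-! The concrete side of the Schur multiplier of the Tits group: a generating pair `x` (of order
16), `t` (an involution) of the derived subgroup of `²F₄(2)` (helper17's model on 52-bit masks),
the relators they satisfy, and the fact that they generate. -/

set_option autoImplicit false
set_option linter.all false
set_option maxRecDepth 100000
set_option maxHeartbeats 0

namespace Cfsg.Agent.Helper9.SchTits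

open Cfsg.Lie Matrix Cfsg.Agent.Helper17.Tits Cfsg.Agent.Helper19.TCS Cfsg.Agent.Helper19.Schur

/-- root word of `x = U u V U V`. -/
def Lx : List ℕ := [14, 23, 33, 24, 20, 22, 19, 14, 23, 20, 22, 19]

/-- root word of the involution `t = v⁻¹ u U v⁻¹ V⁻¹ v u v⁻¹ V v⁻¹ u v`. -/
def Lt : List ℕ := [28, 25, 27, 33, 24, 14, 23, 28, 25, 27, 19, 22, 20, 27, 25, 28, 33, 24,
  28, 25, 27, 20, 22, 19, 28, 25, 27, 33, 24, 27, 25, 28]

/-- root word of a letter (`0 = x`, `1 = x⁻¹`, `2 = t`, `3 = t⁻¹ = t`). -/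
def exL : ℕ → List ℕ
  | 0 => Lx
  | 1 => Lx.reverse
  | 2 => Lt
  | 3 => Lt
  | _ => []

/-- root word of a word in the letters, for `prodw`'s convention. -/
def expand : List ℕ → List ℕ
  | [] => []
  | l :: w => expand w ++ exL l

def rootsOK (a : List ℕ) : Bool := a.all fun r => decide (r ∈ roots12)

/-- the two root words act in the same way on the 52 basis masks. -/
def sameW (a b : List ℕ) : Bool :=
  rootsOK a && rootsOK b && (List.range 52).all fun k => wapp a (2 ^ k) == wapp b (2 ^ k)

theorem wprod_eq_of_sameW {a b : List ℕ} (h : sameW a b = true) : wprod a = wprod b := by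
  unfold sameW rootsOK at h
  simp only [Bool.and_eq_true, List.all_eq_true, decide_eq_true_eq, beq_iff_eq, List.mem_range] at h
  obtain ⟨⟨ha, hb⟩, hk⟩ := h
  exact wprod_eq a b ha hb hk

theorem wprod_eq_one_of_sameW {a : List ℕ} (h : sameW a [] = true) : wprod a = 1 := by
  rw [wprod_eq_of_sameW h, wprod_nil]

/-! ### the generators in `GL` -/

def X : GL Idx (ZMod 2) := wprod Lx
def Tm : GL Idx (ZMod 2) := wprod Lt

theorem X_inv : X⁻¹ = wprod Lx.reverse := by
  apply inv_eq_of_mul_eq_one_right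
  rw [X, ← wprod_append]
  exact wprod_eq_one_of_sameW (by decide +kernel)

theorem Tm_inv : Tm⁻¹ = wprod Lt := by
  apply inv_eq_of_mul_eq_one_right
  rw [Tm, ← wprod_append]
  exact wprod_eq_one_of_sameW (by decide +kernel)

theorem gc2_eq (l : ℕ) : gc2 X Tm l = wprod (exL l) := by
  match l with
  | 0 => rfl
  | 1 => exact X_inv
  | 2 => rfl
  | 3 => exact Tm_inv
  | (n + 4) => rfl

theorem prodw_expand (w : List ℕ) : prodw (gc2 X Tm) w = wprod (expand w) := by
  induction w with
  | nil => rfl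
  | cons l w ih => rw [prodw, ih, gc2_eq, expand, wprod_append]

/-! ### the generators in `²F₄(2)` and in its derived subgroup -/

theorem gv_inv : gv⁻¹ = wprod [28, 25, 27] := by
  apply inv_eq_of_mul_eq_one_right
  rw [gv, ← wprod_append]
  exact wprod_eq_one_of_sameW (by decide +kernel)

theorem gV_inv : gV⁻¹ = wprod [19, 22, 20] := by
  apply inv_eq_of_mul_eq_one_right
  rw [gV, ← wprod_append]
  exact wprod_eq_one_of_sameW (by decide +kernel)

def xT : ↥GT := tU * tu * tV * tU * tV

def tT : ↥GT := tv⁻¹ * tu * tU * tv⁻¹ * tV⁻¹ * tv * tu * tv⁻¹ * tV * tv⁻¹ * tu * tv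

theorem xT_val : (xT : GL Idx (ZMod 2)) = X := by
  simp only [xT, Subgroup.coe_mul, tu_val, tU_val, tV_val]
  simp only [gu, gU, gV, ← wprod_append]
  rfl

theorem tT_val : (tT : GL Idx (ZMod 2)) = Tm := by
  simp only [tT, Subgroup.coe_mul, Subgroup.coe_inv, tu_val, tU_val, tV_val, tv_val, gv_inv, gV_inv]
  simp only [gu, gU, gV, gv, ← wprod_append]
  rfl

abbrev TT : Subgroup ↥GT := commutator ↥GT

section parity

private def phi : ↥GT →* ↥GT ⧸ TT := QuotientGroup.mk' TT

private theorem phi_eq_one {g : ↥GT} : phi g = 1 ↔ g ∈ TT := QuotientGroup.eq_one_iff g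

private theorem phi_tu : phi tu = 1 := phi_eq_one.2 tu_mem
private theorem phi_tU : phi tU = 1 := phi_eq_one.2 tU_mem
private theorem phi_cc : phi tv * phi tv = 1 := by
  rw [← map_mul]; exact phi_eq_one.2 tv_sq_mem
private theorem phi_tV : phi tV = phi tv := by
  have h : phi (tV * tv⁻¹) = 1 := phi_eq_one.2 tV_mul_inv_mem
  rw [map_mul, map_inv, mul_inv_eq_one] at h
  exact h
private theorem phi_ci : (phi tv)⁻¹ = phi tv := inv_eq_of_mul_eq_one_left phi_cc
private theorem phi_cc' (z : ↥GT ⧸ TT) : phi tv * (phi tv * z) = z := by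
  rw [← mul_assoc, phi_cc, one_mul]

theorem xT_mem : xT ∈ TT := by
  rw [← phi_eq_one]
  simp only [xT, map_mul, phi_tu, phi_tU, phi_tV, one_mul, mul_one, phi_cc]

theorem tT_mem : tT ∈ TT := by
  rw [← phi_eq_one]
  simp only [tT, map_mul, map_inv, phi_tu, phi_tU, phi_tV, phi_ci, one_mul, mul_one, mul_assoc,
    phi_cc, phi_cc']

end parity

/-- the generator of order 16 in the Tits group. -/
def xC : ↥TT := ⟨xT, xT_mem⟩

/-- the involution in the Tits group. -/
def tC : ↥TT := ⟨tT, tT_mem⟩

theorem prodw_T_val (w : List ℕ) :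
    ((prodw (gc2 xT tT) w : ↥GT) : GL Idx (ZMod 2)) = wprod (expand w) := by
  have h := map_prodw (Subgroup.subtype GT) xT tT w
  rw [Subgroup.coe_subtype] at h
  rw [h, xT_val, tT_val, prodw_expand]

theorem prodw_C_val (w : List ℕ) :
    ((prodw (gc2 xC tC) w : ↥TT) : ↥GT) = prodw (gc2 xT tT) w := by
  have h := map_prodw (Subgroup.subtype TT) xC tC w
  rw [Subgroup.coe_subtype] at h
  exact h

theorem prodw_C_eq_one {w : List ℕ} (h : sameW (expand w) [] = true) :
    prodw (gc2 xC tC) w = 1 := by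
  apply Subtype.ext
  rw [prodw_C_val]
  apply Subtype.ext
  rw [prodw_T_val, wprod_eq_one_of_sameW h]
  rfl

/-- an element of `²F₄(2)` given by a root word is a word in `x`, `t`. -/
theorem mem_closure_of_sameW (g : ↥GT) (Lg : List ℕ) (hg : (g : GL Idx (ZMod 2)) = wprod Lg)
    (wd : List ℕ) (h : sameW (expand wd) Lg = true) :
    g ∈ Subgroup.closure ({xT, tT} : Set ↥GT) := by
  have e : g = prodw (gc2 xT tT) wd := by
    apply Subtype.ext
    rw [prodw_T_val, hg, wprod_eq_of_sameW h]
  rw [e]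
  exact prodw_mem_closure xT tT wd

end Cfsg.Agent.Helper9.SchTits
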