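import Mathlib
import Cfsg.Agent.Helper9.SchTitsConc

/-! `x` and `t` generate the Tits group: the subgroup `N = ⟨x, t⟩` of `²F₄(2)` contains `u`, `U`,
`V v⁻¹`, `v²` and is normalised by `v`, hence has index at most `2`. -/

set_option autoImplicit false
set_option linter.all false
set_option maxRecDepth 100000
set_option maxHeartbeats 0

namespace Cfsg.Agent.Helper9.SchTits

open Cfsg.Lie Matrix Cfsg.Agent.Helper17.Tits Cfsg.Agent.Helper19.TCS Cfsg.Agent.Helper19.Schur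

/-- the subgroup of `²F₄(2)` generated by `x` and `t`. -/
def NN : Subgroup ↥GT := Subgroup.closure ({xT, tT} : Set ↥GT)

def w_tu : List ℕ := [2,0,2,1,1,1,2,1,2,1,1,1,2,1,2,0,2,1,1,1,1,1,1,2,0,0,0]
def w_tU : List ℕ := [2,1,2,1,2,1,2,1,2,0,2,1,2,1,2,0,0,0,0,2,0,2,1]
def w_Vv : List ℕ := [0,0,0,2,0,2,0,2,0,2,1,1,1,1,2,0,0,0,0,2,1,1,1,1,2,0]
def w_vv : List ℕ := [2,1,2,1,1,1,2,1,2,0,2,1,1,1,1,1,2,0,2,0,2,1,2,1,2,0,0,2,1,1]
def w_cx : List ℕ := [0,2,1,1,1,1,1,2,0,0,0,0,0,0,0,2,1,2,1,2,0,2,0,0,0,0]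
def w_ct : List ℕ := [1,2,1,2,0,2,0,2,1,2,0,2,0,2,1,1,2,0,2,1,1,1]

theorem tu_mem_NN : tu ∈ NN :=
  mem_closure_of_sameW tu [33, 24] (by rw [tu_val]; rfl) w_tu (by decide +kernel)

theorem tU_mem_NN : tU ∈ NN :=
  mem_closure_of_sameW tU [14, 23] (by rw [tU_val]; rfl) w_tU (by decide +kernel)

theorem tVv_mem_NN : tV * tv⁻¹ ∈ NN :=
  mem_closure_of_sameW _ ([20, 22, 19] ++ [28, 25, 27])
    (by rw [Subgroup.coe_mul, Subgroup.coe_inv, tV_val, tv_val, gv_inv, wprod_append]; rfl)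
    w_Vv (by decide +kernel)

theorem tvv_mem_NN : tv * tv ∈ NN :=
  mem_closure_of_sameW _ ([27, 25, 28] ++ [27, 25, 28])
    (by rw [Subgroup.coe_mul, tv_val, wprod_append]; rfl)
    w_vv (by decide +kernel)

theorem cx_mem_NN : tv * xT * tv⁻¹ ∈ NN :=
  mem_closure_of_sameW _ ([27, 25, 28] ++ Lx ++ [28, 25, 27])
    (by rw [Subgroup.coe_mul, Subgroup.coe_mul, Subgroup.coe_inv, tv_val, xT_val, gv_inv,
      wprod_append, wprod_append]; rfl)
    w_cx (by decide +kernel)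

theorem ct_mem_NN : tv * tT * tv⁻¹ ∈ NN :=
  mem_closure_of_sameW _ ([27, 25, 28] ++ Lt ++ [28, 25, 27])
    (by rw [Subgroup.coe_mul, Subgroup.coe_mul, Subgroup.coe_inv, tv_val, tT_val, gv_inv,
      wprod_append, wprod_append]; rfl)
    w_ct (by decide +kernel)

theorem conj_tv_mem {n : ↥GT} (hn : n ∈ NN) : tv * n * tv⁻¹ ∈ NN := by
  unfold NN at hn
  induction hn using Subgroup.closure_induction with
  | mem y hy =>
    rcases hy with rfl | hy
    · exact cx_mem_NN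
    · rw [Set.mem_singleton_iff] at hy
      rw [hy]; exact ct_mem_NN
  | one => simp only [mul_one, mul_inv_cancel]; exact NN.one_mem
  | mul a b _ _ ha hb =>
    have e : tv * (a * b) * tv⁻¹ = (tv * a * tv⁻¹) * (tv * b * tv⁻¹) := by group
    rw [e]; exact NN.mul_mem ha hb
  | inv a _ ha =>
    have e : tv * a⁻¹ * tv⁻¹ = (tv * a * tv⁻¹)⁻¹ := by group
    rw [e]; exact NN.inv_mem ha

theorem NN_normal : NN.Normal := by
  rw [← Subgroup.normalizer_eq_top_iff]
  have hle : NN ≤ Subgroup.normalizer (NN : Set ↥GT) := Subgroup.le_normalizer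
  have hv : tv ∈ Subgroup.normalizer (NN : Set ↥GT) :=
    Subgroup.mem_normalizer_fintype (fun n hn => conj_tv_mem hn)
  apply eq_top_of_gens _ (hle tu_mem_NN) (hle tU_mem_NN) hv
  have e : tV = (tV * tv⁻¹) * tv := by group
  rw [e]
  exact Subgroup.mul_mem _ (hle tVv_mem_NN) hv

theorem NN_index : NN.index ∣ 2 := by
  haveI := NN_normal
  apply index_dvd_two_of_gen (G := ↥GT) NN tv tvv_mem_NN
  intro L hL hv
  apply eq_top_of_gens L (hL tu_mem_NN) (hL tU_mem_NN) hv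
  have e : tV = (tV * tv⁻¹) * tv := by group
  rw [e]
  exact L.mul_mem (hL tVv_mem_NN) hv

theorem NN_le : NN ≤ TT := by
  unfold NN
  rw [Subgroup.closure_le]
  intro g hg
  rcases hg with rfl | hg
  · exact xT_mem
  · rw [Set.mem_singleton_iff] at hg
    rw [hg]; exact tT_mem

theorem NN_eq : NN = TT := by
  apply Subgroup.eq_of_le_of_card_ge NN_le
  have h1 := Subgroup.card_mul_index NN
  rw [card_GT] at h1
  have h2 : NN.index ≤ 2 := Nat.le_of_dvd (by norm_num) NN_index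
  have h3 : Nat.card ↥TT = 17971200 := card_commutator
  rw [h3]
  nlinarith

/-- `x` and `t` generate the Tits group. -/
theorem closure_xC_tC : Subgroup.closure ({xC, tC} : Set ↥TT) = ⊤ := by
  apply Subgroup.map_injective (Subgroup.subtype_injective TT)
  rw [MonoidHom.map_closure, Set.image_pair, ← MonoidHom.range_eq_map, Subgroup.range_subtype]
  exact NN_eq

end Cfsg.Agent.Helper9.SchTits
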