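import Mathlib
import Cfsg.Agent.Helper9.SchTitsConc

/-! The seven relators of the presentation of the Tits group on `x`, `t` hold in the concrete
group (checked on the 52 basis masks). -/

set_option autoImplicit false
set_option linter.all false
set_option maxRecDepth 100000
set_option maxHeartbeats 0

namespace Cfsg.Agent.Helper9.SchTits

open Cfsg.Lie Matrix Cfsg.Agent.Helper17.Tits Cfsg.Agent.Helper19.TCS Cfsg.Agent.Helper19.Schur

def rel0 : List ℕ := [0, 0, 0, 0, 0, 0, 0, 0, 0, 0, 0, 0, 0, 0, 0, 0]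
def rel1 : List ℕ := [2, 2]
def rel2 : List ℕ := [0, 0, 2, 0, 0, 2, 0, 0, 2]
def rel3 : List ℕ := [0, 0, 2, 0, 0, 2, 0, 2, 1, 1, 2, 1, 1, 2, 1, 2]
def rel4 : List ℕ := [0, 0, 2, 1, 2, 0, 2, 1, 2, 0, 2, 1, 2, 1, 2, 0, 2, 1, 2, 0, 2, 1, 2]
def rel5 : List ℕ := [0, 0, 0, 0, 2, 1, 1, 1, 1, 2, 0, 2, 0, 2, 0, 2, 0, 2, 1, 2, 1, 2, 1, 2, 1, 2]
def rel6 : List ℕ := [0, 0, 0, 0, 0, 2, 1, 2, 1, 1, 1, 2, 0, 0, 0, 0, 0, 2, 1, 2, 1, 1, 1, 2,
  0, 0, 0, 0, 0, 2, 1, 2, 1, 1, 1, 2]

/-- the relators. -/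
def relsC : List (List ℕ) := [rel0, rel1, rel2, rel3, rel4, rel5, rel6]

theorem rel0_ok : sameW (expand rel0) [] = true := by decide +kernel
theorem rel1_ok : sameW (expand rel1) [] = true := by decide +kernel
theorem rel2_ok : sameW (expand rel2) [] = true := by decide +kernel
theorem rel3_ok : sameW (expand rel3) [] = true := by decide +kernel
theorem rel4_ok : sameW (expand rel4) [] = true := by decide +kernel
theorem rel5_ok : sameW (expand rel5) [] = true := by decide +kernel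
theorem rel6_ok : sameW (expand rel6) [] = true := by decide +kernel

theorem hrelC : ∀ w ∈ relsC, prodw (gc2 xC tC) w = 1 := by
  intro w hw
  simp only [relsC, List.mem_cons, List.not_mem_nil, or_false] at hw
  rcases hw with rfl | rfl | rfl | rfl | rfl | rfl | rfl
  · exact prodw_C_eq_one rel0_ok
  · exact prodw_C_eq_one rel1_ok
  · exact prodw_C_eq_one rel2_ok
  · exact prodw_C_eq_one rel3_ok
  · exact prodw_C_eq_one rel4_ok
  · exact prodw_C_eq_one rel5_ok
  · exact prodw_C_eq_one rel6_ok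

end Cfsg.Agent.Helper9.SchTits
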