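import Mathlib
import Cfsg.Agent.Helper9.SchTitsGen
import Cfsg.Agent.Helper9.SchTitsRels
import Cfsg.Agent.Helper9.SchTits.Inst
import Cfsg.Agent.Helper19.Schur.Table

/-! The Schur multiplier of the Tits group `²F₄(2)'` is trivial: labelled Todd–Coxeter certificate
over `⟨x⟩`, `x` of order 16 (1123200 rows, package `SchTits`), with the concrete side on helper17's
52-bit model of `²F₄(2)`. -/

set_option autoImplicit false
set_option linter.all false
set_option maxRecDepth 100000
set_option maxHeartbeats 0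

namespace Cfsg.Agent.Helper9.SchTits

open Cfsg Cfsg.Agent.Helper17.Tits Cfsg.Agent.Helper19.TCS Cfsg.Agent.Helper19.TCL
  Cfsg.Agent.Helper19.Schur

theorem rels_eq : rels = relsC := by decide

theorem hrelC' : ∀ w ∈ rels, prodw (gc2 xC tC) w = 1 := by
  rw [rels_eq]
  exact hrelC

theorem schur_TT : Cfsg.HasCyclicSchurMultiplier ↥TT 1 := by
  have hcard : Nat.card ↥TT = 17971200 := card_commutator
  haveI : Finite ↥TT := Nat.finite_of_card_ne_zero (by rw [hcard]; norm_num)
  have hT1' : ∀ (Δ : Type) [Group Δ] (a b : Δ), Subgroup.closure {a, b} = (⊤ : Subgroup Δ) →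
      (∀ w ∈ rels, prodw (gc2 a b) w = 1) → Finite Δ ∧ Nat.card Δ ≤ Nat.card ↥TT := by
    intro Δ _ a b h1 h2
    rw [hcard]
    exact hT1 Δ a b h1 h2
  refine ⟨?_, ?_⟩
  · exact exists_stem_trivial ↥TT
  · exact exists_surjective_of_stem xC tC closure_xC_tC rels 8 (by decide) hrelC' hT1' 10 lam hT2
      e1 e2 he1 he2 c1 c2 g0 1 hc1 hc2 hg0 hL1 hL2

end Cfsg.Agent.Helper9.SchTits
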