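import Mathlib
import Cfsg.Prelude.Def_Transfer
import Cfsg.Agent.Helper9.AbelianSylow
import Cfsg.Agent.Helper9.Focal
import Cfsg.Agent.Helper9.PResidual
import Cfsg.Agent.Helper10.NPCentral
import Cfsg.Agent.Helper17.Basic
import Cfsg.Agent.Lead.Coprime

set_option autoImplicit false

namespace Cfsg.Agent.Helper9

open Subgroup
open scoped Pointwise commutatorElement

universe u

theorem mem_conj_smul_iff {G : Type u} [Group G] (a x : G) (H : Subgroup G) :
    x ∈ MulAut.conj a • H ↔ a⁻¹ * x * a ∈ H := by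
  rw [Subgroup.mem_pointwise_smul_iff_inv_smul_mem]
  simp [MulAut.smul_def]

/-- If the Sylow `p`-subgroups of `O^p(G)` are abelian then `G` splits over `O^p(G)`. -/
theorem exists_complement_pResidual_of_comm {G : Type u} [Group G] [Finite G] {p : ℕ}
    [Fact p.Prime] (h : ∀ Q : Sylow p (Cfsg.pResidual p G), IsMulCommutative Q) :
    ∃ K : Subgroup G, K.IsComplement' (Cfsg.pResidual p G) := by
  classical
  have hp : p.Prime := Fact.out
  have hNn : (Cfsg.pResidual p G).Normal := inferInstance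
  obtain ⟨Q'⟩ : Nonempty (Sylow p (Cfsg.pResidual p G)) := inferInstance
  have hQ'c := h Q'
  -- Step A
  have hres : Cfsg.pResidual p (Cfsg.pResidual p G) = ⊤ :=
    Cfsg.Agent.Helper10.pResidual_pResidual_eq_top p
  have hA : (Q' : Subgroup (Cfsg.pResidual p G)) ⊓
      centralizer (normalizer ((Q' : Subgroup (Cfsg.pResidual p G)) :
        Set (Cfsg.pResidual p G)) : Set (Cfsg.pResidual p G)) = ⊥ := by
    have e1 := sylow_inf_pResidual_eq_of_comm Q' hQ'c
    rw [hres, inf_top_eq] at e1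
    have e2 := commutator_inf_eq_commutator_normalizer Q' hQ'c
    have e3 := e2.symm.trans e1.symm
    obtain ⟨d1, -⟩ := abelian_sylow_decomp Q' hQ'c
    rw [e3] at d1
    rwa [inf_eq_left.mpr inf_le_left] at d1
  -- `Q` inside `G`
  have hQN : (Q' : Subgroup (Cfsg.pResidual p G)).map (Cfsg.pResidual p G).subtype ≤
      Cfsg.pResidual p G := Subgroup.map_subtype_le _
  have hQcomm : ∀ a ∈ (Q' : Subgroup (Cfsg.pResidual p G)).map (Cfsg.pResidual p G).subtype,
      ∀ b ∈ (Q' : Subgroup (Cfsg.pResidual p G)).map (Cfsg.pResidual p G).subtype,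
      a * b = b * a := by
    rintro _ ⟨a, ha, rfl⟩ _ ⟨b, hb, rfl⟩
    have h1 := hQ'c.is_comm.comm ⟨a, ha⟩ ⟨b, hb⟩
    have h2 : a * b = b * a := congrArg Subtype.val h1
    have h3 := congrArg Subtype.val h2
    simpa using h3
  have hQcard : Nat.card ((Q' : Subgroup (Cfsg.pResidual p G)).map (Cfsg.pResidual p G).subtype) =
      Nat.card (Q' : Subgroup (Cfsg.pResidual p G)) :=
    Subgroup.card_map_of_injective (Subgroup.subtype_injective _)
  -- Step B: Frattini
  have hfrat := Sylow.normalizer_sup_eq_top Q'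
  have hidxp : ∃ a, (Cfsg.pResidual p G).index = p ^ a :=
    IsPGroup.iff_card.mp (isPGroup_quotient_pResidual (G := G) p)
  generalize hQdef : (Q' : Subgroup (Cfsg.pResidual p G)).map (Cfsg.pResidual p G).subtype = Q
    at hQN hQcomm hQcard hfrat
  generalize hNdef : Cfsg.pResidual p G = N at *
  have hQL : Q ≤ normalizer (Q : Set G) := le_normalizer
  have hQM : Q ≤ N ⊓ normalizer (Q : Set G) := le_inf hQN hQL
  have hML : N ⊓ normalizer (Q : Set G) ≤ normalizer (Q : Set G) := inf_le_right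
  -- coprimality
  have hQ'card : ∃ k, Nat.card (Q' : Subgroup N) = p ^ k := IsPGroup.iff_card.mp Q'.isPGroup'
  have hndvd : ¬ p ∣ Q.relIndex (N ⊓ normalizer (Q : Set G)) := by
    intro hdvd
    have h1 := Cfsg.Agent.Helper17.relIndex_mul_card_inf Q (N ⊓ normalizer (Q : Set G))
    rw [inf_eq_left.mpr hQM] at h1
    have h2 : Nat.card (N ⊓ normalizer (Q : Set G) : Subgroup G) ∣ Nat.card N :=
      card_dvd_of_le inf_le_left
    have h3 := Subgroup.card_mul_index (Q' : Subgroup N)
    have h4 : ¬ p ∣ (Q' : Subgroup N).index := Q'.not_dvd_index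
    rw [← h1, ← h3, hQcard, mul_comm] at h2
    have h5 : Q.relIndex (N ⊓ normalizer (Q : Set G)) ∣ (Q' : Subgroup N).index :=
      Nat.dvd_of_mul_dvd_mul_left Nat.card_pos h2
    exact h4 (hdvd.trans h5)
  have hcop : Nat.Coprime (Nat.card Q) (Q.relIndex (N ⊓ normalizer (Q : Set G))) := by
    obtain ⟨k, hk⟩ := hQ'card
    rw [hQcard, hk]
    exact Nat.Coprime.pow_left _ ((Nat.Prime.coprime_iff_not_dvd hp).mpr hndvd)
  -- Step C
  obtain ⟨H, hHM, hHcard, hHQ, hQH⟩ :=
    exists_relative_complement Q (N ⊓ normalizer (Q : Set G)) hQM hML hcop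
  have hHL : H ≤ normalizer (Q : Set G) := hHM.trans hML
  have hcopHQ : (Nat.card H).Coprime (Nat.card Q) := by rw [hHcard]; exact hcop.symm
  have hMnorm : ∀ l ∈ normalizer (Q : Set G), ∀ x ∈ N ⊓ normalizer (Q : Set G),
      l * x * l⁻¹ ∈ N ⊓ normalizer (Q : Set G) := by
    intro l hl x hx
    exact Subgroup.mem_inf.mpr ⟨hNn.conj_mem x (Subgroup.mem_inf.mp hx).1 l,
      mul_mem (mul_mem hl (Subgroup.mem_inf.mp hx).2) (inv_mem hl)⟩
  -- Step D
  have hD : ∀ l ∈ normalizer (Q : Set G), ∃ k ∈ Q,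
      k⁻¹ * l ∈ normalizer (Q : Set G) ⊓ normalizer (H : Set G) := by
    intro l hl
    have hB : MulAut.conj l • H ≤ Q ⊔ H := by
      rw [hQH]
      intro x hx
      rw [mem_conj_smul_iff] at hx
      have := hMnorm l hl _ (hHM hx)
      have e : l * (l⁻¹ * x * l) * l⁻¹ = x := by group
      rwa [e] at this
    have hBcard : Nat.card (MulAut.conj l • H : Subgroup G) = Nat.card H :=
      Nat.card_congr (Subgroup.equivSMul (MulAut.conj l) H).toEquiv.symm
    have hsolv : Group.IsSolvable Q :=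
      Group.isSolvable_of_comm (fun a b => Subtype.ext (hQcomm a a.2 b b.2))
    obtain ⟨k, hkQ, hk⟩ := Cfsg.Agent.Lead.sz_conj_rel (K := Q) (A := H)
      (B := MulAut.conj l • H) hHL hcopHQ (Or.inr hsolv) hB hBcard
    refine ⟨k, hkQ, Subgroup.mem_inf.mpr ⟨mul_mem (inv_mem (hQL hkQ)) hl, ?_⟩⟩
    rw [mem_normalizer_iff]
    intro x
    constructor
    · intro hx
      have h1 : l * x * l⁻¹ ∈ MulAut.conj l • H := by
        rw [mem_conj_smul_iff]
        have e : l⁻¹ * (l * x * l⁻¹) * l = x := by group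
        rw [e]; exact hx
      rw [← hk, mem_conj_smul_iff] at h1
      have e : k⁻¹ * l * x * (k⁻¹ * l)⁻¹ = k⁻¹ * (l * x * l⁻¹) * k := by group
      rw [e]; exact h1
    · intro hx
      have h1 : k * (k⁻¹ * l * x * (k⁻¹ * l)⁻¹) * k⁻¹ ∈ MulAut.conj k • H := by
        rw [mem_conj_smul_iff]
        have e : k⁻¹ * (k * (k⁻¹ * l * x * (k⁻¹ * l)⁻¹) * k⁻¹) * k =
            k⁻¹ * l * x * (k⁻¹ * l)⁻¹ := by group
        rw [e]; exact hx
      rw [hk, mem_conj_smul_iff] at h1
      have e : l⁻¹ * (k * (k⁻¹ * l * x * (k⁻¹ * l)⁻¹) * k⁻¹) * l = x := by group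
      rw [e] at h1; exact h1
  -- Step E
  have hE : ∀ x ∈ Q, x ∈ normalizer (H : Set G) → x = 1 := by
    intro x hxQ hxH
    have hxc : x ∈ centralizer (H : Set G) :=
      Cfsg.Agent.Lead.mem_centralizer_of_mem_normalizer hHL (by rw [inf_comm]; exact hHQ) hxQ hxH
    have hxM : ∀ m ∈ N ⊓ normalizer (Q : Set G), m * x = x * m := by
      intro m hm
      rw [← hQH] at hm
      have hle : Q ⊔ H ≤ centralizer ({x} : Set G) :=
        sup_le (fun q hq => mem_centralizer_singleton_iff.mpr (hQcomm q hq x hxQ))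
          (fun h' hh' => mem_centralizer_singleton_iff.mpr (hxc h' hh'))
      exact mem_centralizer_singleton_iff.mp (hle hm)
    rw [← hQdef] at hxQ
    obtain ⟨x', hx', rfl⟩ := hxQ
    have hmem : x' ∈ (Q' : Subgroup N) ⊓
        centralizer (normalizer ((Q' : Subgroup N) : Set N) : Set N) := by
      refine ⟨hx', ?_⟩
      intro n' hn'
      have h1 : (n' : G) ∈ normalizer (Q : Set G) := by
        have := Subgroup.le_normalizer_map N.subtype (H := (Q' : Subgroup N)) ⟨n', hn', rfl⟩
        rw [hQdef] at this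
        exact this
      have h2 := hxM (n' : G) (Subgroup.mem_inf.mpr ⟨n'.2, h1⟩)
      exact Subtype.ext h2
    rw [hA, mem_bot] at hmem
    rw [hmem]; simp
  -- Step F
  have hTN : (normalizer (Q : Set G) ⊓ normalizer (H : Set G)) ⊓ N ≤ H := by
    intro x hx
    have hxT : x ∈ normalizer (Q : Set G) ⊓ normalizer (H : Set G) := (Subgroup.mem_inf.mp hx).1
    have hxN : x ∈ N := (Subgroup.mem_inf.mp hx).2
    have hxT1 : x ∈ normalizer (Q : Set G) := (Subgroup.mem_inf.mp hxT).1
    have hxT2 : x ∈ normalizer (H : Set G) := (Subgroup.mem_inf.mp hxT).2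
    have hxM : x ∈ N ⊓ normalizer (Q : Set G) := Subgroup.mem_inf.mpr ⟨hxN, hxT1⟩
    rw [← hQH, ← SetLike.mem_coe, Subgroup.coe_mul_of_right_le_normalizer_left Q H hHL,
      Set.mem_mul] at hxM
    obtain ⟨q, hq, h', hh', rfl⟩ := hxM
    have hqn : q ∈ normalizer (H : Set G) := by
      have := mul_mem hxT2 (inv_mem (le_normalizer (H := H) hh'))
      have e : q * h' * h'⁻¹ = q := by group
      rwa [e] at this
    rw [hE q hq hqn, one_mul]
    exact hh'
  have hHT : H ≤ normalizer (Q : Set G) ⊓ normalizer (H : Set G) := le_inf hHL le_normalizer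
  have hHTN : (normalizer (Q : Set G) ⊓ normalizer (H : Set G)) ⊓ N = H :=
    le_antisymm hTN (le_inf hHT (hHM.trans inf_le_left))
  have hNT : N ⊔ (normalizer (Q : Set G) ⊓ normalizer (H : Set G)) = ⊤ := by
    rw [eq_top_iff, ← hfrat]
    apply sup_le _ le_sup_left
    intro l hl
    obtain ⟨k, hkQ, hkT⟩ := hD l hl
    have e : l = k * (k⁻¹ * l) := by group
    rw [e]
    exact mul_mem ((le_sup_left : N ≤ N ⊔ _) (hQN hkQ)) ((le_sup_right : _ ≤ N ⊔ _) hkT)
  -- cardinalities
  have hc1 := Cfsg.Agent.Helper17.card_sup_mul_card_inf_of_normal N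
    (normalizer (Q : Set G) ⊓ normalizer (H : Set G))
  rw [hNT, inf_comm, hHTN, Subgroup.card_top] at hc1
  have hHnT : normalizer (Q : Set G) ⊓ normalizer (H : Set G) ≤ normalizer (H : Set G) :=
    inf_le_right
  have hr := Cfsg.Agent.Helper17.relIndex_mul_card_inf H
    (normalizer (Q : Set G) ⊓ normalizer (H : Set G))
  rw [inf_eq_left.mpr hHT] at hr
  have hidx := Subgroup.card_mul_index N
  have hrel : H.relIndex (normalizer (Q : Set G) ⊓ normalizer (H : Set G)) = N.index := by
    have : N.index * (Nat.card N * Nat.card H) =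
        H.relIndex (normalizer (Q : Set G) ⊓ normalizer (H : Set G)) *
          (Nat.card N * Nat.card H) := by
      calc N.index * (Nat.card N * Nat.card H) = (Nat.card N * N.index) * Nat.card H := by ring
        _ = Nat.card G * Nat.card H := by rw [hidx]
        _ = Nat.card N *
            Nat.card (normalizer (Q : Set G) ⊓ normalizer (H : Set G) : Subgroup G) := hc1
        _ = Nat.card N * (H.relIndex (normalizer (Q : Set G) ⊓ normalizer (H : Set G)) *
            Nat.card H) := by rw [hr]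
        _ = H.relIndex (normalizer (Q : Set G) ⊓ normalizer (H : Set G)) *
            (Nat.card N * Nat.card H) := by ring
    exact (Nat.eq_of_mul_eq_mul_right (Nat.mul_pos Nat.card_pos Nat.card_pos) this).symm
  obtain ⟨a, ha⟩ := hidxp
  have hcop2 : Nat.Coprime (Nat.card H)
      (H.relIndex (normalizer (Q : Set G) ⊓ normalizer (H : Set G))) := by
    rw [hrel, ha, hHcard]
    exact Nat.Coprime.pow_right _
      (Nat.Coprime.symm ((Nat.Prime.coprime_iff_not_dvd hp).mpr hndvd))
  obtain ⟨K, hKT, hKcard, hKH, -⟩ := exists_relative_complement H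
    (normalizer (Q : Set G) ⊓ normalizer (H : Set G)) hHT hHnT hcop2
  refine ⟨K, ?_⟩
  apply Subgroup.isComplement'_of_card_mul_and_disjoint
  · rw [hKcard, hrel, mul_comm]; exact hidx
  · rw [disjoint_iff]
    apply le_antisymm _ bot_le
    intro x hx
    have hxK : x ∈ K := (Subgroup.mem_inf.mp hx).1
    have hxN : x ∈ N := (Subgroup.mem_inf.mp hx).2
    have : x ∈ K ⊓ H := Subgroup.mem_inf.mpr ⟨hxK, hTN (Subgroup.mem_inf.mpr ⟨hKT hxK, hxN⟩)⟩
    rw [hKH] at this
    exact this

end Cfsg.Agent.Helper9
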