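import Mathlib

set_option autoImplicit false

/-!
# An equivariant alternating form on a "one-dimensional" module is trivial

`V` is an elementary abelian 2-group on which the cyclic group generated by `y` acts
transitively on the non-identity elements, with `y ^ (2 * m) = y`.  Any bimultiplicative
alternating `y`-equivariant map `V × V → V` is trivial.
-/

namespace Cfsg.Agent.Helper9.SuzukiForm

variable {V : Type*} [Group V]

theorem inv_eq_self_of_sq (hexp : ∀ v : V, v ^ 2 = 1) (v : V) : v⁻¹ = v := by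
  have h := hexp v
  rw [pow_two] at h
  exact inv_eq_of_mul_eq_one_left h

theorem eq_of_mul_eq_one_of_sq (hexp : ∀ v : V, v ^ 2 = 1) {a b : V} (h : a * b = 1) : a = b := by
  have h1 : a = b⁻¹ := eq_inv_of_mul_eq_one_left h
  rw [h1, inv_eq_self_of_sq hexp]

theorem comm_of_sq (hexp : ∀ v : V, v ^ 2 = 1) (a b : V) : a * b = b * a := by
  have h1 := hexp (a * b)
  rw [pow_two] at h1
  have h2 : a * b = (a * b)⁻¹ := (inv_eq_self_of_sq hexp (a * b)).symm
  rw [h2, mul_inv_rev, inv_eq_self_of_sq hexp a, inv_eq_self_of_sq hexp b]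

theorem form_trivial (hexp : ∀ v : V, v ^ 2 = 1)
    (y : Monoid.End V) (v₀ : V) (htrans : ∀ v : V, v ≠ 1 → ∃ i : ℕ, v = (y ^ i) v₀)
    (m : ℕ) (hm : y ^ (2 * m) = y)
    (b : V → V → V) (hbl : ∀ v v' w, b (v * v') w = b v w * b v' w)
    (hbr : ∀ v w w', b v (w * w') = b v w * b v w')
    (hbd : ∀ v, b v v = 1)
    (hby : ∀ v w, b (y v) (y w) = y (b v w)) : ∀ v w, b v w = 1 := by
  have hcomm := comm_of_sq hexp
  have heq : ∀ {a c : V}, a * c = 1 → a = c := fun h => eq_of_mul_eq_one_of_sq hexp h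
  -- action of powers
  have hpow_add : ∀ (i j : ℕ) (v : V), (y ^ (i + j)) v = (y ^ i) ((y ^ j) v) := by
    intro i j v
    rw [pow_add]; rfl
  have hpow_comm : ∀ (i j : ℕ) (v : V), (y ^ i) ((y ^ j) v) = (y ^ j) ((y ^ i) v) := by
    intro i j v
    rw [← hpow_add, ← hpow_add, add_comm]
  have hb1l : ∀ w, b 1 w = 1 := by
    intro w
    have h := hbl 1 1 w
    rw [mul_one] at h
    exact (mul_eq_left (a := b 1 w)).mp h.symm
  have hb1r : ∀ v, b v 1 = 1 := by
    intro v
    have h := hbr v 1 1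
    rw [mul_one] at h
    exact (mul_eq_left (a := b v 1)).mp h.symm
  -- equivariance for powers
  have hbyi : ∀ (i : ℕ) (v w : V), b ((y ^ i) v) ((y ^ i) w) = (y ^ i) (b v w) := by
    intro i
    induction i with
    | zero => intro v w; simp
    | succ i ih =>
      intro v w
      have e1 : ∀ x : V, (y ^ (i + 1)) x = y ((y ^ i) x) := by
        intro x
        rw [add_comm, hpow_add, pow_one]
      rw [e1, e1, e1, hby, ih]
  -- closure of the powers under "addition"
  have hclos : ∀ i j : ℕ, (∀ v, (y ^ i) v * (y ^ j) v = 1) ∨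
      ∃ k : ℕ, ∀ v, (y ^ i) v * (y ^ j) v = (y ^ k) v := by
    intro i j
    by_cases hw : (y ^ i) v₀ * (y ^ j) v₀ = 1
    · left
      intro v
      by_cases hv : v = 1
      · rw [hv, map_one, map_one, mul_one]
      · obtain ⟨l, rfl⟩ := htrans v hv
        rw [hpow_comm i l, hpow_comm j l, ← map_mul, hw, map_one]
    · right
      obtain ⟨k, hk⟩ := htrans _ hw
      refine ⟨k, ?_⟩
      intro v
      by_cases hv : v = 1
      · rw [hv, map_one, map_one, map_one, mul_one]
      · obtain ⟨l, rfl⟩ := htrans v hv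
        rw [hpow_comm i l, hpow_comm j l, ← map_mul, hk, hpow_comm k l]
  -- the swap identity
  have hswap : ∀ (i j : ℕ) (a c : V), b ((y ^ i) a) ((y ^ j) c) = b ((y ^ j) a) ((y ^ i) c) := by
    intro i j a c
    rcases hclos i j with h | ⟨k, hk⟩
    · have e : ∀ v, (y ^ i) v = (y ^ j) v := fun v => heq (h v)
      rw [e a, e c]
    · apply heq
      have h1 : b ((y ^ k) a) ((y ^ k) c) = (y ^ k) (b a c) := hbyi k a c
      rw [← hk a, ← hk c, ← hk (b a c), hbl, hbr, hbr, hbyi, hbyi] at h1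
      -- h1 : (y^i)(b a c) * b (y^i a) (y^j c) * (b (y^j a) (y^i c) * (y^j) (b a c)) = ...
      have h2 : (y ^ i) (b a c) * b ((y ^ i) a) ((y ^ j) c) *
          (b ((y ^ j) a) ((y ^ i) c) * (y ^ j) (b a c)) =
          (b ((y ^ i) a) ((y ^ j) c) * b ((y ^ j) a) ((y ^ i) c)) *
            ((y ^ i) (b a c) * (y ^ j) (b a c)) := by
        rw [hcomm ((y ^ i) (b a c)) (b ((y ^ i) a) ((y ^ j) c)), mul_assoc, mul_assoc,
          ← mul_assoc ((y ^ i) (b a c)), hcomm ((y ^ i) (b a c)) (b ((y ^ j) a) ((y ^ i) c)),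
          mul_assoc]
      rw [h2] at h1
      exact mul_eq_right.mp h1
  have hadj : ∀ (i : ℕ) (a c : V), b ((y ^ i) a) c = b a ((y ^ i) c) := by
    intro i a c
    have h := hswap i 0 a c
    simpa using h
  have hsq : ∀ (i : ℕ) (a c : V), b a ((y ^ (2 * i)) c) = (y ^ i) (b a c) := by
    intro i a c
    rw [two_mul, hpow_add, ← hadj, hbyi]
  have hone : ∀ (a c : V), b a (y c) = (y ^ m) (b a c) := by
    intro a c
    have h := hsq m a c
    rw [hm] at h
    exact h
  have hright : ∀ (i : ℕ) (a c : V), b a ((y ^ i) c) = (y ^ (m * i)) (b a c) := by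
    intro i
    induction i with
    | zero => intro a c; simp
    | succ i ih =>
      intro a c
      have e1 : (y ^ (i + 1)) c = y ((y ^ i) c) := by
        rw [add_comm, hpow_add, pow_one]
      rw [e1, hone, ih, ← hpow_add]
      congr 2
      ring
  intro v w
  by_cases hv : v = 1
  · rw [hv]; exact hb1l w
  by_cases hw : w = 1
  · rw [hw]; exact hb1r v
  obtain ⟨i, rfl⟩ := htrans v hv
  obtain ⟨j, rfl⟩ := htrans w hw
  rw [hadj, ← hpow_add, hright, hbd, map_one]

end Cfsg.Agent.Helper9.SuzukiForm
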