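import Mathlib

/-! Matrix algebra for "incidence matrix" arguments: matrices of the form `u•1 + w•J`. -/

set_option linter.unusedSectionVars false

namespace Cfsg.Agent.Helper9.TTA

open Matrix

variable {Ω : Type*} [Fintype Ω] [DecidableEq Ω]

/-- The all-ones matrix. -/
def J : Matrix Ω Ω ℤ := Matrix.of fun _ _ => 1

@[simp] theorem J_apply (x y : Ω) : (J : Matrix Ω Ω ℤ) x y = 1 := rfl

theorem transpose_J : (J : Matrix Ω Ω ℤ)ᵀ = J := by
  ext x y; simp

theorem J_mul_J : (J : Matrix Ω Ω ℤ) * J = (Fintype.card Ω : ℤ) • (J : Matrix Ω Ω ℤ) := by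
  ext x y
  simp [Matrix.mul_apply]

theorem mul_J_apply (A : Matrix Ω Ω ℤ) (x y : Ω) :
    (A * (J : Matrix Ω Ω ℤ)) x y = ∑ z, A x z := by
  simp [Matrix.mul_apply]

theorem J_mul_apply (A : Matrix Ω Ω ℤ) (x y : Ω) :
    ((J : Matrix Ω Ω ℤ) * A) x y = ∑ z, A z y := by
  simp [Matrix.mul_apply]

theorem pow_mul_J {A : Matrix Ω Ω ℤ} {k : ℤ} (h : A * J = k • (J : Matrix Ω Ω ℤ)) (j : ℕ) :
    A ^ j * J = k ^ j • (J : Matrix Ω Ω ℤ) := by
  induction j with
  | zero => simp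
  | succ j ih =>
    rw [pow_succ, Matrix.mul_assoc, h, Matrix.mul_smul, ih, smul_smul, pow_succ, mul_comm]

theorem J_mul_transpose {A : Matrix Ω Ω ℤ} {k : ℤ} (h : A * J = k • (J : Matrix Ω Ω ℤ)) :
    J * Aᵀ = k • (J : Matrix Ω Ω ℤ) := by
  have := congrArg Matrix.transpose h
  rw [Matrix.transpose_mul, transpose_J, Matrix.transpose_smul, transpose_J] at this
  exact this

theorem transpose_mul_J {A : Matrix Ω Ω ℤ} {k : ℤ} (h : J * A = k • (J : Matrix Ω Ω ℤ)) :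
    Aᵀ * J = k • (J : Matrix Ω Ω ℤ) := by
  have := congrArg Matrix.transpose h
  rw [Matrix.transpose_mul, transpose_J, Matrix.transpose_smul, transpose_J] at this
  exact this

theorem J_mul_pow {A : Matrix Ω Ω ℤ} {k : ℤ} (h : J * A = k • (J : Matrix Ω Ω ℤ)) (j : ℕ) :
    J * A ^ j = k ^ j • (J : Matrix Ω Ω ℤ) := by
  induction j with
  | zero => simp
  | succ j ih =>
    rw [pow_succ', ← Matrix.mul_assoc, h, Matrix.smul_mul, ih, smul_smul, pow_succ, mul_comm]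

theorem pow_mul_transpose_pow {A : Matrix Ω Ω ℤ} {k v l : ℤ}
    (hJ : A * J = k • (J : Matrix Ω Ω ℤ))
    (hAA : A * Aᵀ = v • (1 : Matrix Ω Ω ℤ) + l • (J : Matrix Ω Ω ℤ)) (j : ℕ) :
    ∃ c : ℤ, A ^ j * Aᵀ ^ j = v ^ j • (1 : Matrix Ω Ω ℤ) + c • (J : Matrix Ω Ω ℤ) := by
  induction j with
  | zero => exact ⟨0, by simp⟩
  | succ j ih =>
    obtain ⟨c, hc⟩ := ih
    refine ⟨v * c + l * k ^ j * k ^ j, ?_⟩
    have h1 : A ^ (j + 1) * Aᵀ ^ (j + 1) = A ^ j * (A * Aᵀ) * Aᵀ ^ j := by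
      rw [pow_succ, pow_succ']
      simp only [Matrix.mul_assoc]
    rw [h1, hAA, Matrix.mul_add, Matrix.add_mul, Matrix.mul_smul, Matrix.mul_one,
      Matrix.smul_mul, hc, Matrix.mul_smul, Matrix.smul_mul, pow_mul_J hJ,
      Matrix.smul_mul, J_mul_pow (J_mul_transpose hJ)]
    module

theorem smul_one_add_smul_J_apply (a b : ℤ) (x y : Ω) :
    (a • (1 : Matrix Ω Ω ℤ) + b • (J : Matrix Ω Ω ℤ)) x y = if x = y then a + b else b := by
  rw [Matrix.add_apply, Matrix.smul_apply, Matrix.smul_apply, Matrix.one_apply, J_apply]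
  by_cases h : x = y
  · simp [h]
  · simp [h]

/-- Comparing coefficients, when there are two distinct points. -/
theorem coeff_eq {a b c d : ℤ} {x y : Ω} (hxy : x ≠ y)
    (h : a • (1 : Matrix Ω Ω ℤ) + b • (J : Matrix Ω Ω ℤ) =
      c • (1 : Matrix Ω Ω ℤ) + d • (J : Matrix Ω Ω ℤ)) : a = c ∧ b = d := by
  have h1 := congrFun (congrFun h x) y
  have h2 := congrFun (congrFun h x) x
  rw [smul_one_add_smul_J_apply, smul_one_add_smul_J_apply] at h1 h2
  simp only [hxy, if_false, if_true] at h1 h2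
  constructor
  · linarith
  · exact h1

/-- The main algebraic consequence. -/
theorem main_identities {A : Matrix Ω Ω ℤ} {k v l u w : ℤ} {m : ℕ} (x : Ω)
    (hAJ : A * J = k • (J : Matrix Ω Ω ℤ)) (hJA : J * A = k • (J : Matrix Ω Ω ℤ))
    (hAA : A * Aᵀ = v • (1 : Matrix Ω Ω ℤ) + l • (J : Matrix Ω Ω ℤ))
    (hAm : A ^ m = u • (1 : Matrix Ω Ω ℤ) + w • (J : Matrix Ω Ω ℤ)) :
    ((∃ y : Ω, x ≠ y) → u ^ 2 = v ^ m) ∧ k ^ m = u + w * (Fintype.card Ω : ℤ) ∧
      k ^ 2 = v + l * (Fintype.card Ω : ℤ) := by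
  have hJne : ∀ a b : ℤ, a • (J : Matrix Ω Ω ℤ) = b • (J : Matrix Ω Ω ℤ) → a = b := by
    intro a b h
    have := congrFun (congrFun h x) x
    simpa using this
  refine ⟨?_, ?_, ?_⟩
  · rintro ⟨y, hxy⟩
    obtain ⟨c, hc⟩ := pow_mul_transpose_pow hAJ hAA m
    have h1 : A ^ m * Aᵀ ^ m =
        (u ^ 2) • (1 : Matrix Ω Ω ℤ) +
          (2 * u * w + w * w * (Fintype.card Ω : ℤ)) • (J : Matrix Ω Ω ℤ) := by
      rw [← Matrix.transpose_pow, hAm]
      rw [Matrix.transpose_add, Matrix.transpose_smul, Matrix.transpose_smul, transpose_J,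
        Matrix.transpose_one]
      rw [Matrix.mul_add, Matrix.add_mul, Matrix.add_mul]
      simp only [Matrix.smul_mul, Matrix.mul_smul, Matrix.mul_one, Matrix.one_mul, J_mul_J,
        smul_smul]
      rw [add_add_add_comm]
      simp only [← add_smul]
      rw [add_assoc, ← add_smul]
      congr 1
      · congr 1; ring
      · congr 1; ring
    rw [h1] at hc
    exact (coeff_eq hxy hc).1
  · have h1 := pow_mul_J hAJ m
    rw [hAm, Matrix.add_mul, Matrix.smul_mul, Matrix.smul_mul, Matrix.one_mul, J_mul_J,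
      smul_smul, ← add_smul] at h1
    exact (hJne _ _ h1).symm
  · have h1 : A * Aᵀ * J = (k ^ 2) • (J : Matrix Ω Ω ℤ) := by
      rw [Matrix.mul_assoc, transpose_mul_J hJA, Matrix.mul_smul, hAJ, smul_smul, pow_two]
    rw [hAA, Matrix.add_mul, Matrix.smul_mul, Matrix.smul_mul, Matrix.one_mul, J_mul_J,
      smul_smul, ← add_smul] at h1
    exact (hJne _ _ h1).symm

end Cfsg.Agent.Helper9.TTA
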