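import Mathlib

/-! Number-theoretic endgame for the incidence matrix argument. -/

namespace Cfsg.Agent.Helper9.TTA

theorem nt_end {n k l u w v : ℤ} {m : ℕ} (hm : Odd m) (hn : 2 ≤ n) (hk1 : 1 ≤ k) (hkn : k ≤ n)
    (hl : 0 ≤ l) (hv : v = k - l) (hcop : IsCoprime k n)
    (h1 : u ^ 2 = v ^ m) (h2 : k ^ m = u + w * n) (h3 : k ^ 2 = v + l * n) :
    k = 1 ∨ k = n - 1 := by
  obtain ⟨e, rfl⟩ := hm
  -- v ≠ 0
  have hv0 : v ≠ 0 := by
    intro h0
    have hlk : l = k := by linarith
    rw [h0, hlk] at h3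
    have hkn' : k = n := by
      have : k * (k - n) = 0 := by ring_nf; ring_nf at h3; linarith
      rcases mul_eq_zero.mp this with h | h
      · omega
      · linarith
    rw [hkn'] at hcop
    have := isCoprime_self.mp hcop
    have h4 := Int.isUnit_iff.mp this
    omega
  -- u = v^e * t
  have hdiv : (v ^ e) ^ 2 ∣ u ^ 2 := by
    rw [h1]
    exact ⟨v, by ring⟩
  have hdiv' : v ^ e ∣ u := (Int.pow_dvd_pow_iff (by norm_num)).mp hdiv
  obtain ⟨t, ht⟩ := hdiv'
  have hve : v ^ e ≠ 0 := pow_ne_zero _ hv0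
  have htv : t ^ 2 = v := by
    have h5 : (v ^ e) ^ 2 * t ^ 2 = (v ^ e) ^ 2 * v := by
      have : u ^ 2 = (v ^ e) ^ 2 * t ^ 2 := by rw [ht]; ring
      rw [← this, h1]; ring
    exact mul_left_cancel₀ (pow_ne_zero 2 hve) h5
  have hut : u = t ^ (2 * e + 1) := by
    rw [ht, ← htv]; ring
  have ht0 : t ≠ 0 := by
    intro h; rw [h] at htv; exact hv0 (by rw [← htv]; ring)
  -- congruences
  have hd1 : n ∣ k ^ 2 - t ^ 2 := ⟨l, by rw [htv]; linarith⟩
  have hd2 : n ∣ k ^ (2 * e + 1) - t ^ (2 * e + 1) := ⟨w, by rw [← hut]; linarith⟩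
  have hd3 : n ∣ (k ^ 2) ^ e - (t ^ 2) ^ e := dvd_trans hd1 (sub_dvd_pow_sub_pow _ _ e)
  have hd4 : n ∣ t ^ (2 * e) * (k - t) := by
    have e1 : t ^ (2 * e) * (k - t) =
        (k ^ (2 * e + 1) - t ^ (2 * e + 1)) - k * ((k ^ 2) ^ e - (t ^ 2) ^ e) := by
      rw [← pow_mul, ← pow_mul]; ring
    rw [e1]
    exact dvd_sub hd2 (Dvd.dvd.mul_left hd3 k)
  have hcop_t : IsCoprime t n := by
    have h5 : IsCoprime (k ^ 2) n := hcop.pow_left
    have h6 : IsCoprime (t ^ 2) n := by
      have : t ^ 2 = k ^ 2 + (-l) * n := by rw [htv]; linarith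
      rw [this]
      exact (IsCoprime.add_mul_right_left_iff).mpr h5
    exact (IsCoprime.pow_left_iff (by norm_num)).mp h6
  have hd5 : n ∣ k - t := (hcop_t.pow_left (m := 2 * e)).symm.dvd_of_dvd_mul_left hd4
  -- size considerations
  have hvk : t ^ 2 ≤ k := by rw [htv, hv]; linarith
  rcases lt_or_gt_of_ne ht0 with hneg | hpos
  · -- t < 0
    right
    set s := -t with hs
    have hs1 : 1 ≤ s := by omega
    have hs2 : s ^ 2 ≤ k := by rw [hs]; simpa using hvk
    have hsk : s ≤ k := by nlinarith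
    have hd6 : n ∣ k + s := by rw [hs, ← sub_eq_add_neg]; exact hd5
    obtain ⟨c, hc⟩ := hd6
    have hc1 : 0 < c := by
      by_contra hcon
      rw [not_lt] at hcon
      have : n * c ≤ 0 := mul_nonpos_of_nonneg_of_nonpos (by linarith) hcon
      linarith
    have hc2 : c ≤ 2 := by
      by_contra hcon
      rw [not_le] at hcon
      have : n * 3 ≤ n * c := mul_le_mul_of_nonneg_left (by linarith) (by linarith)
      linarith
    have hc' : c = 1 ∨ c = 2 := by omega
    rcases hc' with rfl | rfl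
    · -- k + s = n
      have hkn1 : k + s = n := by linarith
      have hl' : l = k - s ^ 2 := by
        have : t ^ 2 = s ^ 2 := by rw [hs]; ring
        rw [← this, htv, hv]; ring
      have h7 : k ^ 2 - k = l * (n - 1) := by rw [h3, hv]; ring
      rw [hl', ← hkn1] at h7
      have h8 : s * ((1 - s) * (k + s)) = 0 := by ring_nf; ring_nf at h7; linarith
      have hs' : s = 1 := by
        rcases mul_eq_zero.mp h8 with h | h
        · omega
        · rcases mul_eq_zero.mp h with h | h
          · linarith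
          · linarith
      rw [hs'] at hkn1
      linarith
    · -- k + s = 2n: impossible
      exfalso
      have hks : k = n ∧ s = n := by constructor <;> linarith
      have : s ^ 2 ≤ s := by rw [hks.2]; rw [hks.2, ← hks.1] at hs2; rw [hks.1] at hs2; exact hs2
      have hs' : s = 1 := by nlinarith
      linarith [hks.2]
  · -- t > 0
    left
    have ht1 : 1 ≤ t := by omega
    have htk : t ≤ k := by nlinarith
    obtain ⟨c, hc⟩ := hd5
    have hc0 : c = 0 := by
      by_contra hcon
      rcases lt_or_gt_of_ne hcon with h | h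
      · have : n * c ≤ n * (-1) := mul_le_mul_of_nonneg_left (by omega) (by linarith)
        linarith
      · have : n * 1 ≤ n * c := mul_le_mul_of_nonneg_left (by omega) (by linarith)
        linarith
    rw [hc0, mul_zero] at hc
    have hkt : k = t := by linarith
    rw [hkt] at hvk
    have : t = 1 := by nlinarith
    rw [hkt, this]

end Cfsg.Agent.Helper9.TTA
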