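import Mathlib
import Cfsg.Agent.Helper9.TTA
import Cfsg.Agent.Helper9.TTB

/-! Incidence matrix of a twisted orbital of a 2-transitive group. -/

set_option linter.unusedSectionVars false

namespace Cfsg.Agent.Helper9.TTA

open Matrix MulAction

variable {Ω : Type*} [Fintype Ω] [DecidableEq Ω] (G : Subgroup (Equiv.Perm Ω))

/-- Matrices invariant under a 2-transitive group are of the form `u•1 + w•J`. -/
theorem invariant_form (h2 : IsMultiplyPretransitive G Ω 2) (M : Matrix Ω Ω ℤ)
    (hM : ∀ (g : G) (x y : Ω), M (g • x) (g • y) = M x y) (o : Ω) :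
    ∃ u w : ℤ, M = u • (1 : Matrix Ω Ω ℤ) + w • (J : Matrix Ω Ω ℤ) := by
  have htr : IsPretransitive G Ω := isPretransitive_of_is_two_pretransitive
  by_cases h : ∃ o' : Ω, o ≠ o'
  · obtain ⟨o', ho'⟩ := h
    refine ⟨M o o - M o o', M o o', ?_⟩
    ext x y
    rw [smul_one_add_smul_J_apply]
    by_cases hxy : x = y
    · subst hxy
      obtain ⟨g, hg⟩ := exists_smul_eq G o x
      rw [if_pos rfl, ← hg, hM]; ring
    · rw [if_neg hxy]
      obtain ⟨g, hg1, hg2⟩ := is_two_pretransitive_iff.mp h2 ho' hxy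
      rw [← hg1, ← hg2, hM]
  · have hall : ∀ x : Ω, x = o := by
      intro x
      by_contra hx
      exact h ⟨x, fun h' => hx h'.symm⟩
    refine ⟨M o o, 0, ?_⟩
    ext x y
    rw [smul_one_add_smul_J_apply, hall x, hall y]
    simp

variable (α : MulAut G) (o ω : Ω)

/-- The twisted orbital relation. -/
def Rel (x y : Ω) : Prop := ∃ g : G, x = α g • ω ∧ y = g • o

theorem rel_smul_iff (g : G) (x y : Ω) : Rel G α o ω (α g • x) (g • y) ↔ Rel G α o ω x y := by
  constructor
  · rintro ⟨g', h1, h2⟩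
    refine ⟨g⁻¹ * g', ?_, ?_⟩
    · rw [map_mul, map_inv, mul_smul, ← h1, inv_smul_smul]
    · rw [mul_smul, ← h2, inv_smul_smul]
  · rintro ⟨g', h1, h2⟩
    exact ⟨g * g', by rw [map_mul, mul_smul, ← h1], by rw [mul_smul, ← h2]⟩

open Classical in
/-- The incidence matrix. -/
noncomputable def inc : Matrix Ω Ω ℤ :=
  Matrix.of fun x y => if Rel G α o ω x y then 1 else 0

open Classical in
theorem inc_apply (x y : Ω) :
    inc G α o ω x y = if Rel G α o ω x y then 1 else 0 := rfl

theorem inc_smul (g : G) (x y : Ω) : inc G α o ω (α g • x) (g • y) = inc G α o ω x y := by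
  rw [inc_apply, inc_apply]
  have := rel_smul_iff G α o ω g x y
  by_cases h : Rel G α o ω x y
  · rw [if_pos h, if_pos (this.mpr h)]
  · rw [if_neg h, if_neg (fun h' => h (this.mp h'))]

theorem inc_sq (x y : Ω) : inc G α o ω x y * inc G α o ω x y = inc G α o ω x y := by
  rw [inc_apply]
  split_ifs <;> simp

theorem inc_nonneg (x y : Ω) : 0 ≤ inc G α o ω x y := by
  rw [inc_apply]
  split_ifs <;> simp

/-- column sums are invariant -/
theorem colsum_smul (g : G) (y : Ω) :
    ∑ x, inc G α o ω x (g • y) = ∑ x, inc G α o ω x y := by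
  rw [← Equiv.sum_comp (MulAction.toPerm (α g)) (fun x => inc G α o ω x (g • y))]
  apply Finset.sum_congr rfl
  intro x _
  exact inc_smul G α o ω g x y

/-- row sums are invariant -/
theorem rowsum_smul (g : G) (x : Ω) :
    ∑ y, inc G α o ω (α g • x) y = ∑ y, inc G α o ω x y := by
  rw [← Equiv.sum_comp (MulAction.toPerm g) (fun y => inc G α o ω (α g • x) y)]
  apply Finset.sum_congr rfl
  intro y _
  exact inc_smul G α o ω g x y

theorem colsum_eq [IsPretransitive G Ω] (y : Ω) :
    ∑ x, inc G α o ω x y = ∑ x, inc G α o ω x o := by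
  obtain ⟨g, hg⟩ := exists_smul_eq G o y
  rw [← hg, colsum_smul]

theorem rowsum_eq [IsPretransitive G Ω] (x : Ω) :
    ∑ y, inc G α o ω x y = ∑ y, inc G α o ω ω y := by
  obtain ⟨g, hg⟩ := exists_smul_eq G ω x
  have : g = α (α.symm g) := by simp
  rw [← hg, this, rowsum_smul]

theorem rowsum_eq_colsum [IsPretransitive G Ω] :
    ∑ y, inc G α o ω ω y = ∑ x, inc G α o ω x o := by
  have h1 : ∑ x, ∑ y, inc G α o ω x y = (Fintype.card Ω : ℤ) * ∑ y, inc G α o ω ω y := by
    rw [Finset.sum_congr rfl (fun x _ => rowsum_eq G α o ω x)]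
    simp
  have h2 : ∑ x, ∑ y, inc G α o ω x y = (Fintype.card Ω : ℤ) * ∑ x, inc G α o ω x o := by
    have h3 : ∑ x, ∑ y, inc G α o ω x y = ∑ y, ∑ x, inc G α o ω x y := Finset.sum_comm
    rw [h3, Finset.sum_congr rfl (fun y _ => colsum_eq G α o ω y)]
    simp
  have hn : (Fintype.card Ω : ℤ) ≠ 0 := by
    have : 0 < Fintype.card Ω := Fintype.card_pos_iff.mpr ⟨o⟩
    exact_mod_cast this.ne'
  exact mul_left_cancel₀ hn (h1.symm.trans h2)

theorem inc_mul_J [IsPretransitive G Ω] :
    inc G α o ω * J = (∑ x, inc G α o ω x o) • (J : Matrix Ω Ω ℤ) := by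
  ext x y
  rw [mul_J_apply, rowsum_eq, rowsum_eq_colsum]
  simp

theorem J_mul_inc [IsPretransitive G Ω] :
    J * inc G α o ω = (∑ x, inc G α o ω x o) • (J : Matrix Ω Ω ℤ) := by
  ext x y
  rw [J_mul_apply, colsum_eq]
  simp

/-- powers of the incidence matrix are twisted-invariant -/
theorem inc_pow_smul (j : ℕ) : ∀ (g : G) (x z : Ω),
    (inc G α o ω ^ j) ((α ^ j) g • x) (g • z) = (inc G α o ω ^ j) x z := by
  induction j with
  | zero =>
    intro g x z
    simp only [pow_zero, MulAut.one_apply, Matrix.one_apply]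
    by_cases h : x = z
    · simp [h]
    · have : g • x ≠ g • z := fun h' => h (smul_left_cancel g h')
      simp [h, this]
  | succ j ih =>
    intro g x z
    rw [pow_succ, Matrix.mul_apply, Matrix.mul_apply]
    rw [← Equiv.sum_comp (MulAction.toPerm (α g))
      (fun y => (inc G α o ω ^ j) ((α ^ (j + 1)) g • x) y * inc G α o ω y (g • z))]
    apply Finset.sum_congr rfl
    intro y _
    have e : (α ^ (j + 1)) g = (α ^ j) (α g) := by
      rw [pow_succ, MulAut.mul_apply]
    simp only [MulAction.toPerm_apply]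
    rw [e, ih (α g) x y, inc_smul]

theorem inc_pow_invariant (g : G) (x z : Ω) :
    (inc G α o ω ^ orderOf α) (g • x) (g • z) = (inc G α o ω ^ orderOf α) x z := by
  have := inc_pow_smul G α o ω (orderOf α) g x z
  rwa [pow_orderOf_eq_one, MulAut.one_apply] at this

theorem inc_mul_transpose_invariant (g : G) (x x' : Ω) :
    (inc G α o ω * (inc G α o ω)ᵀ) (g • x) (g • x') = (inc G α o ω * (inc G α o ω)ᵀ) x x' := by
  obtain ⟨g0, rfl⟩ : ∃ g0, α g0 = g := ⟨α.symm g, by simp⟩
  rw [Matrix.mul_apply, Matrix.mul_apply]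
  rw [← Equiv.sum_comp (MulAction.toPerm g0)
      (fun y => inc G α o ω (α g0 • x) y * (inc G α o ω)ᵀ y (α g0 • x'))]
  apply Finset.sum_congr rfl
  intro y _
  simp only [MulAction.toPerm_apply, Matrix.transpose_apply]
  rw [inc_smul, inc_smul]

end Cfsg.Agent.Helper9.TTA
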