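import Mathlib
import Cfsg.Agent.Helper9.TTC

/-! Odd-order automorphisms of 2-transitive groups: orbit lengths of the image of a point
stabilizer. -/

set_option linter.unusedSectionVars false

namespace Cfsg.Agent.Helper9.TTA

open Matrix MulAction

variable {Ω : Type*} [Fintype Ω] [DecidableEq Ω] (G : Subgroup (Equiv.Perm Ω))
variable (α : MulAut G) (o ω : Ω)

theorem rel_iff_mem_orbit (x : Ω) :
    Rel G α o ω x o ↔ x ∈ orbit ((stabilizer G o).map α.toMonoidHom) ω := by
  constructor
  · rintro ⟨g, hx, ho⟩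
    have hg : g ∈ stabilizer G o := by rw [mem_stabilizer_iff]; exact ho.symm
    have hk : α g ∈ (stabilizer G o).map α.toMonoidHom := ⟨g, hg, rfl⟩
    rw [mem_orbit_iff]
    exact ⟨⟨α g, hk⟩, hx.symm⟩
  · rw [mem_orbit_iff]
    rintro ⟨⟨k, hk⟩, hkx⟩
    obtain ⟨h, hh, rfl⟩ := hk
    exact ⟨h, hkx.symm, (mem_stabilizer_iff.mp hh).symm⟩

theorem colsum_eq_card :
    ∑ x, inc G α o ω x o =
      (Nat.card (orbit ((stabilizer G o).map α.toMonoidHom) ω) : ℤ) := by
  classical
  have h1 : ∑ x, inc G α o ω x o = ((Finset.univ.filter (fun x => Rel G α o ω x o)).card : ℤ) := by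
    simp only [inc_apply]
    rw [Finset.sum_boole]
  rw [h1]
  congr 1
  rw [Nat.card_eq_fintype_card, ← Fintype.card_subtype]
  apply Fintype.card_congr
  exact Equiv.subtypeEquivRight (fun x => rel_iff_mem_orbit G α o ω x)

theorem card_orbit_pos :
    1 ≤ Nat.card (orbit ((stabilizer G o).map α.toMonoidHom) ω) := by
  have : Nonempty (orbit ((stabilizer G o).map α.toMonoidHom) ω) := ⟨⟨ω, mem_orbit_self ω⟩⟩
  exact Nat.one_le_iff_ne_zero.mpr Nat.card_pos.ne'

theorem card_orbit_le :
    Nat.card (orbit ((stabilizer G o).map α.toMonoidHom) ω) ≤ Fintype.card Ω := by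
  rw [← Nat.card_eq_fintype_card]
  exact Nat.card_le_card_of_injective _ Subtype.val_injective

/-- **Orbit lengths**: an orbit of `α(G_o)` of length coprime to the degree has length `1` or
`n - 1`, when `α` has odd order and `G` is 2-transitive. -/
theorem orbit_card (h2 : IsMultiplyPretransitive G Ω 2) (hα : Odd (orderOf α))
    (hk : (Nat.card (orbit ((stabilizer G o).map α.toMonoidHom) ω)).Coprime (Fintype.card Ω)) :
    Nat.card (orbit ((stabilizer G o).map α.toMonoidHom) ω) = 1 ∨
      Nat.card (orbit ((stabilizer G o).map α.toMonoidHom) ω) = Fintype.card Ω - 1 := by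
  have htr : IsPretransitive G Ω := isPretransitive_of_is_two_pretransitive
  set k := Nat.card (orbit ((stabilizer G o).map α.toMonoidHom) ω) with hkdef
  have hk1 : 1 ≤ k := card_orbit_pos G α o ω
  have hkn : k ≤ Fintype.card Ω := card_orbit_le G α o ω
  by_cases hex : ∃ o' : Ω, o ≠ o'
  · obtain ⟨o', ho'⟩ := hex
    have hn2 : 2 ≤ Fintype.card Ω := by
      have : 1 < Fintype.card Ω := Fintype.one_lt_card_iff.mpr ⟨o, o', ho'⟩
      omega
    have hAJ := inc_mul_J G α o ω
    have hJA := J_mul_inc G α o ω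
    rw [colsum_eq_card] at hAJ hJA
    obtain ⟨v, l, hAA⟩ := invariant_form G h2 _ (inc_mul_transpose_invariant G α o ω) o
    obtain ⟨u, w, hAm⟩ := invariant_form G h2 _ (inc_pow_invariant G α o ω) o
    obtain ⟨h1, h2', h3⟩ := main_identities o hAJ hJA hAA hAm
    have h1' := h1 ⟨o', ho'⟩
    -- diagonal entry
    have hdiag : v + l = (k : ℤ) := by
      have e1 := congrFun (congrFun hAA ω) ω
      rw [smul_one_add_smul_J_apply, if_pos rfl, Matrix.mul_apply] at e1
      rw [← e1]
      have e2 : ∑ y, inc G α o ω ω y * (inc G α o ω)ᵀ y ω = ∑ y, inc G α o ω ω y := by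
        apply Finset.sum_congr rfl
        intro y _
        rw [Matrix.transpose_apply, inc_sq]
      rw [e2, rowsum_eq_colsum, colsum_eq_card]
    have hl0 : 0 ≤ l := by
      have e1 := congrFun (congrFun hAA o) o'
      rw [smul_one_add_smul_J_apply, if_neg ho', Matrix.mul_apply] at e1
      rw [← e1]
      apply Finset.sum_nonneg
      intro y _
      rw [Matrix.transpose_apply]
      exact mul_nonneg (inc_nonneg G α o ω o y) (inc_nonneg G α o ω o' y)
    have hcop : IsCoprime (k : ℤ) (Fintype.card Ω : ℤ) := Nat.isCoprime_iff_coprime.mpr hk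
    have := nt_end hα (by exact_mod_cast hn2) (by exact_mod_cast hk1) (by exact_mod_cast hkn)
      hl0 (by linarith) hcop h1' h2' h3
    rcases this with h | h
    · left; exact_mod_cast h
    · right
      have : (k : ℤ) = ((Fintype.card Ω - 1 : ℕ) : ℤ) := by
        rw [h]; push_cast [Nat.cast_sub (by omega : 1 ≤ Fintype.card Ω)]; ring
      exact_mod_cast this
  · left
    have hall : ∀ x : Ω, x = o := by
      intro x
      by_contra hx
      exact hex ⟨x, fun h' => hx h'.symm⟩
    have : Fintype.card Ω ≤ 1 := Fintype.card_le_one_iff.mpr (fun a b => by rw [hall a, hall b])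
    omega

end Cfsg.Agent.Helper9.TTA
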