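import Mathlib
import Cfsg.Agent.Helper9.TTD

/-! Odd-order automorphisms of 2-transitive groups are induced by permutations. -/

set_option linter.unusedSectionVars false

namespace Cfsg.Agent.Helper9.TTA

open MulAction

variable {Ω : Type*} [Fintype Ω] (G : Subgroup (Equiv.Perm Ω))
variable (α : MulAut G) (o : Ω)

/-- If `α` maps a point stabilizer to a point stabilizer, it is induced by a permutation. -/
theorem exists_perm_of_stabilizer [IsPretransitive G Ω] (ω' : Ω)
    (hK : (stabilizer G o).map α.toMonoidHom = stabilizer G ω') :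
    ∃ σ : Equiv.Perm Ω, σ ∈ Subgroup.normalizer (G : Set (Equiv.Perm Ω)) ∧
      ∀ g : G, ((α g : G) : Equiv.Perm Ω) = σ * (g : Equiv.Perm Ω) * σ⁻¹ := by
  classical
  -- the map
  have hex : ∀ x : Ω, ∃ g : G, g • o = x := fun x => exists_smul_eq G o x
  choose c hc using hex
  set f : Ω → Ω := fun x => α (c x) • ω' with hf
  have hwd : ∀ g : G, f (g • o) = α g • ω' := by
    intro g
    have h1 : (c (g • o))⁻¹ * g ∈ stabilizer G o := by
      rw [mem_stabilizer_iff, mul_smul, inv_smul_eq_iff]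
      exact (hc (g • o)).symm
    have h2 : α ((c (g • o))⁻¹ * g) ∈ stabilizer G ω' := by
      rw [← hK]; exact ⟨_, h1, rfl⟩
    rw [mem_stabilizer_iff, map_mul, map_inv, mul_smul] at h2
    exact (inv_smul_eq_iff.mp h2).symm
  have hinj : Function.Injective f := by
    intro x y hxy
    obtain ⟨g, rfl⟩ := exists_smul_eq G o x
    obtain ⟨g', rfl⟩ := exists_smul_eq G o y
    rw [hwd, hwd] at hxy
    have h1 : α (g⁻¹ * g') ∈ stabilizer G ω' := by
      rw [mem_stabilizer_iff, map_mul, map_inv, mul_smul, ← hxy, inv_smul_smul]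
    rw [← hK] at h1
    obtain ⟨h, hh, hh'⟩ := h1
    have h2 : h = g⁻¹ * g' := α.injective hh'
    have hh2 : g⁻¹ * g' ∈ stabilizer G o := by rw [← h2]; exact hh
    rw [mem_stabilizer_iff, mul_smul, inv_smul_eq_iff] at hh2
    exact hh2.symm
  set σ : Equiv.Perm Ω := Equiv.ofBijective f (Finite.injective_iff_bijective.mp hinj) with hσ
  have hσf : ∀ x, σ x = f x := fun x => rfl
  have heq : ∀ (g : G) (x : Ω), σ (g • x) = α g • σ x := by
    intro g x
    obtain ⟨h, rfl⟩ := exists_smul_eq G o x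
    rw [← mul_smul, hσf, hσf, hwd, hwd, map_mul, mul_smul]
  have hconj : ∀ g : G, ((α g : G) : Equiv.Perm Ω) = σ * (g : Equiv.Perm Ω) * σ⁻¹ := by
    intro g
    ext x
    have := heq g (σ⁻¹ x)
    have e : σ (σ⁻¹ x) = x := by simp
    simp only [Equiv.Perm.coe_mul, Function.comp_apply]
    rw [e] at this
    exact this.symm
  refine ⟨σ, ?_, hconj⟩
  rw [Subgroup.mem_normalizer_iff]
  intro h
  constructor
  · intro hh
    rw [← hconj ⟨h, hh⟩]
    exact (α ⟨h, hh⟩).2
  · intro hh
    have h1 := hconj (α.symm ⟨σ * h * σ⁻¹, hh⟩)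
    rw [MulEquiv.apply_symm_apply] at h1
    have h2 : h = ((α.symm ⟨σ * h * σ⁻¹, hh⟩ : G) : Equiv.Perm Ω) := by
      have h3 : σ * h * σ⁻¹ = σ * ((α.symm ⟨σ * h * σ⁻¹, hh⟩ : G) : Equiv.Perm Ω) * σ⁻¹ := h1
      have h4 := mul_right_cancel h3
      exact mul_left_cancel h4
    rw [h2]
    exact (α.symm ⟨σ * h * σ⁻¹, hh⟩).2

/-- A subgroup of the same order as a point stabilizer fixing a point is a point stabilizer. -/
theorem eq_stabilizer_of_fixes [IsPretransitive G Ω] (ω' : Ω)
    (hfix : ∀ k ∈ (stabilizer G o).map α.toMonoidHom, k • ω' = ω') :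
    (stabilizer G o).map α.toMonoidHom = stabilizer G ω' := by
  apply Subgroup.eq_of_le_of_card_ge
  · intro k hk
    rw [mem_stabilizer_iff]
    exact hfix k hk
  · rw [Subgroup.card_map_of_injective α.injective]
    have h1 := Subgroup.card_mul_index (stabilizer G o)
    have h2 := Subgroup.card_mul_index (stabilizer G ω')
    rw [index_stabilizer_of_transitive] at h1 h2
    have hpos : 0 < Nat.card Ω := Nat.card_pos_iff.mpr ⟨⟨o⟩, inferInstance⟩
    have : Nat.card (stabilizer G ω') * Nat.card Ω = Nat.card (stabilizer G o) * Nat.card Ω := by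
      rw [h1, h2]
    exact (Nat.eq_of_mul_eq_mul_right hpos this).le

/-- From an orbit of length `1` or `n - 1` to a fixed point. -/
theorem exists_fixed_of_orbit_card (K : Subgroup G) (ω : Ω)
    (h : Nat.card (orbit K ω) = 1 ∨ Nat.card (orbit K ω) = Fintype.card Ω - 1) :
    ∃ ω' : Ω, ∀ k ∈ K, k • ω' = ω' := by
  classical
  rcases h with h | h
  · refine ⟨ω, ?_⟩
    intro k hk
    have hsub : Subsingleton (orbit K ω) := by
      have : Finite (orbit K ω) := inferInstance
      exact (Nat.card_eq_one_iff_unique.mp h).1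
    have h1 : (⟨k • ω, ⟨⟨k, hk⟩, rfl⟩⟩ : orbit K ω) = ⟨ω, mem_orbit_self ω⟩ :=
      Subsingleton.elim _ _
    exact congrArg Subtype.val h1
  · -- complement is a singleton
    have hcompl : ((orbit K ω)ᶜ : Set Ω).ncard = 1 := by
      have h1 := Set.ncard_add_ncard_compl (orbit K ω)
      rw [← Nat.card_coe_set_eq (orbit K ω), h, Nat.card_eq_fintype_card] at h1
      have : 0 < Fintype.card Ω := Fintype.card_pos_iff.mpr ⟨ω⟩
      omega
    obtain ⟨ω', hω'⟩ := Set.ncard_eq_one.mp hcompl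
    refine ⟨ω', ?_⟩
    intro k hk
    have h1 : k • ω' ∈ ((orbit K ω)ᶜ : Set Ω) := by
      intro hmem
      have h2 : ω' ∈ orbit K ω := by
        have h3 : (⟨k, hk⟩ : K)⁻¹ • (k • ω') ∈ orbit K ω := by
          rw [mem_orbit_iff] at hmem ⊢
          obtain ⟨k', hk'⟩ := hmem
          exact ⟨(⟨k, hk⟩ : K)⁻¹ * k', by rw [mul_smul, hk']⟩
        have h4 : (⟨k, hk⟩ : K)⁻¹ • (k • ω') = ω' := by
          show ((⟨k, hk⟩ : K)⁻¹ : K) • (((⟨k, hk⟩ : K) : G) • ω') = ω'
          exact inv_smul_smul (⟨k, hk⟩ : K) ω'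
        rwa [h4] at h3
      have h5 : ω' ∈ ((orbit K ω)ᶜ : Set Ω) := by rw [hω']; rfl
      exact h5 h2
    rw [hω'] at h1
    exact h1

end Cfsg.Agent.Helper9.TTA
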