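import Mathlib
import Cfsg.Prelude.Def_Balance
import Cfsg.Agent.Helper9.Konvisser
import Cfsg.Agent.Helper26.Thompson

set_option autoImplicit false
set_option linter.style.haveILetI false

/-! A 3-group of 3-rank at least 4 is 2-connected. -/

namespace Cfsg.Agent.Helper9.Konv

open Subgroup

universe u

variable {P : Type u} [Group P]

/-- Set version of the fibre-counting lemma. -/
theorem ncard_le_image_mul [Finite P] (S : Set P) (K : Subgroup P) (f : P → P)
    (hinj : ∀ e ∈ S, ∀ e' ∈ S, f e = f e' → e⁻¹ * e' ∈ K) :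
    S.ncard ≤ (f '' S).ncard * Nat.card K := by
  classical
  rw [← Nat.card_coe_set_eq, ← Nat.card_coe_set_eq, ← Nat.card_prod]
  let r : P → P := fun x => if h : ∃ e ∈ S, f e = x then h.choose else 1
  have hr : ∀ e ∈ S, r (f e) ∈ S ∧ f (r (f e)) = f e := by
    intro e he
    have h : ∃ e' ∈ S, f e' = f e := ⟨e, he, rfl⟩
    simp only [r, dif_pos h]
    exact h.choose_spec
  have hmem : ∀ e ∈ S, (r (f e))⁻¹ * e ∈ K := fun e he =>
    hinj _ (hr e he).1 e he (hr e he).2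
  apply Nat.card_le_card_of_injective
    (fun e : S => ((⟨f e, Set.mem_image_of_mem f e.2⟩ : (f '' S)), (⟨(r (f e))⁻¹ * e, hmem e e.2⟩ : K)))
  intro x y hxy
  have h1 : f x = f y := congrArg (fun z => (z.1 : P)) hxy
  have h2 : (r (f x))⁻¹ * x = (r (f y))⁻¹ * y := congrArg (fun z => (z.2 : P)) hxy
  rw [h1] at h2
  exact Subtype.ext (mul_left_cancel h2)

theorem comm_identity {M : Type*} [CommGroup M] (a b c : M) (hb : b ^ 3 = 1) (hc : c ^ 3 = 1) :
    a * c⁻¹ * (c * b⁻¹)⁻¹ * (c * b⁻¹ * (b * a⁻¹)⁻¹)⁻¹ = 1 := by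
  have : a * c⁻¹ * (c * b⁻¹)⁻¹ * (c * b⁻¹ * (b * a⁻¹)⁻¹)⁻¹ = b ^ 3 * (c ^ 3)⁻¹ := by
    simp only [mul_inv_rev, inv_inv, pow_succ, pow_zero, one_mul]
    have h : a * a⁻¹ = 1 := mul_inv_cancel a
    calc a * c⁻¹ * (b * c⁻¹) * (b * a⁻¹ * (b * c⁻¹))
        = (a * a⁻¹) * (b * b * b * (c⁻¹ * c⁻¹ * c⁻¹)) := by ac_rfl
      _ = b * b * b * (c⁻¹ * (c⁻¹ * c⁻¹)) := by rw [h, one_mul]; ac_rfl
  rw [this, hb, hc]; simp

open scoped IsMulCommutative in
/-- The cube of `x ↦ [f, x]` vanishes on a normal elementary abelian 3-subgroup when `f^3 = 1`. -/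
theorem delta_cube (U : Subgroup P) [U.Normal] (hU : Cfsg.IsElementaryAbelian 3 U) (f : P)
    (hf : f ^ 3 = 1) (x : P) (hx : x ∈ U) :
    (fun y : P => f * y * f⁻¹ * y⁻¹) ((fun y : P => f * y * f⁻¹ * y⁻¹)
      ((fun y : P => f * y * f⁻¹ * y⁻¹) x)) = 1 := by
  haveI := hU.1
  have hbU : f * x * f⁻¹ ∈ U := Subgroup.Normal.conj_mem inferInstance x hx f
  have hcU : f * (f * x * f⁻¹) * f⁻¹ ∈ U := Subgroup.Normal.conj_mem inferInstance _ hbU f
  have hfc : f * (f * (f * x * f⁻¹) * f⁻¹) * f⁻¹ = x := by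
    have hf3 : f * f * f = 1 := by simpa [pow_succ] using hf
    have : f * (f * (f * x * f⁻¹) * f⁻¹) * f⁻¹ = (f * f * f) * x * (f * f * f)⁻¹ := by group
    rw [this, hf3]; group
  have key := comm_identity (⟨x, hx⟩ : U) ⟨_, hbU⟩ ⟨_, hcU⟩
    (Subtype.ext (by simpa using hU.2 _ hbU)) (Subtype.ext (by simpa using hU.2 _ hcU))
  have key' := congrArg Subtype.val key
  simp only [Subgroup.coe_mul, Subgroup.coe_inv, Subgroup.coe_one] at key'
  show f * (f * (f * x * f⁻¹ * x⁻¹) * f⁻¹ * (f * x * f⁻¹ * x⁻¹)⁻¹) * f⁻¹ *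
    (f * (f * x * f⁻¹ * x⁻¹) * f⁻¹ * (f * x * f⁻¹ * x⁻¹)⁻¹)⁻¹ = 1
  have e1 : f * (f * (f * x * f⁻¹ * x⁻¹) * f⁻¹ * (f * x * f⁻¹ * x⁻¹)⁻¹) * f⁻¹ *
      (f * (f * x * f⁻¹ * x⁻¹) * f⁻¹ * (f * x * f⁻¹ * x⁻¹)⁻¹)⁻¹ =
      (f * (f * (f * x * f⁻¹) * f⁻¹) * f⁻¹) * (f * (f * x * f⁻¹) * f⁻¹)⁻¹ *
        ((f * (f * x * f⁻¹) * f⁻¹) * (f * x * f⁻¹)⁻¹)⁻¹ *
        ((f * (f * x * f⁻¹) * f⁻¹) * (f * x * f⁻¹)⁻¹ * ((f * x * f⁻¹) * x⁻¹)⁻¹)⁻¹ := by group
  rw [e1, hfc]
  exact key'


/-- An element of order dividing 3 centralizes a subgroup of order at least 9 of a normal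
elementary abelian subgroup of order 81. -/
theorem nine_le_card_cent [Finite P] (hP : IsPGroup 3 P) (U : Subgroup P) [U.Normal]
    (hU : Cfsg.IsElementaryAbelian 3 U) (hUc : Nat.card U = 3 ^ 4) (f : P) (hf : f ^ 3 = 1) :
    9 ≤ Nat.card (U ⊓ Subgroup.centralizer ({f} : Set P) : Subgroup P) := by
  classical
  haveI : Fact (Nat.Prime 3) := ⟨Nat.prime_three⟩
  set W : Subgroup P := U ⊓ Subgroup.centralizer ({f} : Set P) with hW
  set δ : P → P := fun y => f * y * f⁻¹ * y⁻¹ with hδ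
  have hUcomm := (Cfsg.Agent.Helper26.isElementaryAbelian_iff.mp hU).1
  have hδU : ∀ x ∈ U, δ x ∈ U := by
    intro x hx
    have h1 : f * x * f⁻¹ ∈ U := Subgroup.Normal.conj_mem inferInstance x hx f
    exact U.mul_mem h1 (U.inv_mem hx)
  have hfib : ∀ S : Set P, S ⊆ (U : Set P) →
      ∀ e ∈ S, ∀ e' ∈ S, δ e = δ e' → e⁻¹ * e' ∈ W := by
    intro S hS e he e' he' h
    refine Subgroup.mem_inf.mpr ⟨U.mul_mem (U.inv_mem (hS he)) (hS he'), ?_⟩
    exact inv_mul_mem_centralizer_of_comm_eq h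
  have hstep : ∀ S : Set P, S ⊆ (U : Set P) → S.ncard ≤ (δ '' S).ncard * Nat.card W :=
    fun S hS => ncard_le_image_mul S W δ (hfib S hS)
  have himg : ∀ S : Set P, S ⊆ (U : Set P) → δ '' S ⊆ (U : Set P) := by
    rintro S hS _ ⟨x, hx, rfl⟩
    exact hδU x (hS hx)
  set S0 : Set P := (U : Set P) with hS0
  have h0 : S0 ⊆ (U : Set P) := le_rfl
  have h1 := himg S0 h0
  have h2 := himg _ h1
  have h3sub : δ '' (δ '' (δ '' S0)) ⊆ {1} := by
    rintro _ ⟨_, ⟨_, ⟨x, hx, rfl⟩, rfl⟩, rfl⟩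
    rw [Set.mem_singleton_iff]
    exact delta_cube U hU f hf x hx
  have h3c : (δ '' (δ '' (δ '' S0))).ncard ≤ 1 := by
    have := Set.ncard_le_ncard h3sub (Set.finite_singleton 1)
    simpa using this
  have c0 := hstep S0 h0
  have c1 := hstep _ h1
  have c2 := hstep _ h2
  have hS0c : S0.ncard = 81 := by
    rw [hS0, ← Nat.card_coe_set_eq]
    have : Nat.card ↥(U : Set P) = Nat.card U := rfl
    rw [this, hUc]; norm_num
  rw [hS0c] at c0
  obtain ⟨j, hj⟩ := IsPGroup.iff_card.mp (hP.to_subgroup W)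
  by_contra hlt
  push Not at hlt
  have hj2 : j < 2 := by
    by_contra hcon
    push Not at hcon
    have : 3 ^ 2 ≤ 3 ^ j := Nat.pow_le_pow_right (by norm_num) hcon
    omega
  have hw3 : Nat.card W ≤ 3 := by
    rw [hj]
    calc 3 ^ j ≤ 3 ^ 1 := Nat.pow_le_pow_right (by norm_num) (by omega)
      _ = 3 := by norm_num
  have b2 : (δ '' (δ '' S0)).ncard ≤ 3 := by
    calc (δ '' (δ '' S0)).ncard ≤ (δ '' (δ '' (δ '' S0))).ncard * Nat.card W := c2
      _ ≤ 1 * 3 := Nat.mul_le_mul h3c hw3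
      _ = 3 := by norm_num
  have b1 : (δ '' S0).ncard ≤ 9 := by
    calc (δ '' S0).ncard ≤ (δ '' (δ '' S0)).ncard * Nat.card W := c1
      _ ≤ 3 * 3 := Nat.mul_le_mul b2 hw3
      _ = 9 := by norm_num
  have b0 : 81 ≤ 9 * 3 := by
    calc 81 ≤ (δ '' S0).ncard * Nat.card W := c0
      _ ≤ 9 * 3 := Nat.mul_le_mul b1 hw3
  omega


theorem reflTransGen_symm {α : Type*} {r : α → α → Prop} (hs : ∀ x y, r x y → r y x) {a b : α}
    (h : Relation.ReflTransGen r a b) : Relation.ReflTransGen r b a := by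
  induction h with
  | refl => exact Relation.ReflTransGen.refl
  | tail _ hbc ih => exact Relation.ReflTransGen.head (hs _ _ hbc) ih

/-- **S1338.** A finite 3-group of 3-rank at least 4 is 2-connected. -/
theorem three_connected [Finite P] (hP : IsPGroup 3 P) (hrk : ¬ Cfsg.PRankLE 3 3 P) :
    Cfsg.IsKConnected 3 2 P := by
  classical
  haveI : Fact (Nat.Prime 3) := ⟨Nat.prime_three⟩
  unfold Cfsg.PRankLE at hrk
  push Not at hrk
  obtain ⟨A, hAc, hAe, hAcard⟩ := hrk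
  have hPA : IsPGroup 3 A := hP.to_subgroup A
  obtain ⟨k, hk⟩ := IsPGroup.iff_card.mp hPA
  have hk4 : 4 ≤ k := by
    by_contra hcon
    push Not at hcon
    have : 3 ^ k ≤ 3 ^ 3 := Nat.pow_le_pow_right (by norm_num) (by omega)
    omega
  have h81 : 3 ^ 4 ≤ Nat.card (⊤ : Subgroup A) := by
    rw [Subgroup.card_top, hk]; exact Nat.pow_le_pow_right (by norm_num) hk4
  obtain ⟨B0, -, -, hB0c⟩ := exists_normal_le_card_eq hPA (⊤ : Subgroup A) 4 h81
  set E4 : Subgroup P := B0.map A.subtype with hE4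
  have hE4le : E4 ≤ A := Subgroup.map_subtype_le B0
  have hE4c : Nat.card E4 = 3 ^ 4 := by
    rw [hE4, Subgroup.card_map_of_injective A.subtype_injective]
    exact hB0c
  have hAEA : Cfsg.IsElementaryAbelian 3 A := ⟨hAc, hAe⟩
  have hE4EA : Cfsg.IsElementaryAbelian 3 E4 :=
    Cfsg.Agent.Helper26.isElementaryAbelian_of_le hAEA hE4le
  obtain ⟨U, hUn, hUEA, hUc⟩ := exists_normal_elemAb_four (by norm_num) hP E4 hE4EA hE4c
  haveI := hUn
  have hUne : U ≠ ⊥ := by
    intro h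
    rw [h, Subgroup.card_bot] at hUc
    norm_num at hUc
  obtain ⟨z, hzU, hz1, hzZ⟩ := Cfsg.Agent.Helper10.exists_ne_one_mem_inf_center hP U hUne
  have hzc : ∀ g : P, g * z = z * g := fun g => Subgroup.mem_center_iff.mp hzZ g
  have hz3 : z ^ 3 = 1 := hUEA.2 z hzU
  have hzo : orderOf z = 3 := orderOf_eq_prime hz3 hz1
  have hU9 : 3 ^ 2 ≤ Nat.card U := by rw [hUc]; norm_num
  have hUcomm := (Cfsg.Agent.Helper26.isElementaryAbelian_iff.mp hUEA).1
  -- the chain from any `E` to `U`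
  have hchain : ∀ E : Subgroup P, Cfsg.IsElementaryAbelian 3 E → 3 ^ 2 ≤ Nat.card E →
      Relation.ReflTransGen
        (fun A B : Subgroup P => Cfsg.IsElementaryAbelian 3 A ∧ 3 ^ 2 ≤ Nat.card ↥A ∧
          Cfsg.IsElementaryAbelian 3 B ∧ 3 ^ 2 ≤ Nat.card ↥B ∧ ∀ a ∈ A, ∀ b ∈ B, a * b = b * a)
        E U := by
    intro E hE hE9
    have hEcomm := (Cfsg.Agent.Helper26.isElementaryAbelian_iff.mp hE).1
    -- an element of `E` outside `⟨z⟩`
    have hnle : ¬ E ≤ Subgroup.zpowers z := by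
      intro hle
      have := Subgroup.card_le_of_le hle
      rw [Nat.card_zpowers, hzo] at this
      omega
    obtain ⟨f, hfE, hfz⟩ := SetLike.not_le_iff_exists.mp hnle
    have hf3 : f ^ 3 = 1 := hE.2 f hfE
    set B : Subgroup P := Subgroup.zpowers f ⊔ Subgroup.zpowers z with hB
    set W : Subgroup P := U ⊓ Subgroup.centralizer ({f} : Set P) with hW
    have hBEA : Cfsg.IsElementaryAbelian 3 B := by
      apply Cfsg.Agent.Helper26.isElementaryAbelian_sup
        (Cfsg.Agent.Helper26.isElementaryAbelian_zpowers_of_orderOf_eq hf3)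
        (Cfsg.Agent.Helper26.isElementaryAbelian_zpowers_of_orderOf_eq hz3)
      intro a ha b hb
      obtain ⟨j, rfl⟩ := Subgroup.mem_zpowers_iff.mp hb
      have : Commute a z := hzc a
      exact (this.zpow_right j)
    have hB9 : 3 ^ 2 ≤ Nat.card B := by
      obtain ⟨j, hj⟩ := IsPGroup.iff_card.mp (hP.to_subgroup B)
      rw [hj]
      apply Nat.pow_le_pow_right (by norm_num)
      by_contra hcon
      push Not at hcon
      have h3 : 3 ^ j ≤ 3 ^ 1 := Nat.pow_le_pow_right (by norm_num) (by omega)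
      have hle : Subgroup.zpowers z ≤ B := le_sup_right
      have : Subgroup.zpowers z = B := by
        apply Subgroup.eq_of_le_of_card_ge hle
        rw [hj, Nat.card_zpowers, hzo]
        simpa using h3
      apply hfz
      rw [this]
      exact le_sup_left (b := Subgroup.zpowers z) (Subgroup.mem_zpowers f)
    have hWEA : Cfsg.IsElementaryAbelian 3 W :=
      Cfsg.Agent.Helper26.isElementaryAbelian_of_le hUEA inf_le_left
    have hW9 : 3 ^ 2 ≤ Nat.card W := by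
      have h9 : 9 ≤ Nat.card W := nine_le_card_cent hP U hUEA hUc f hf3
      calc 3 ^ 2 = 9 := by norm_num
        _ ≤ Nat.card W := h9
    -- B centralizes E
    have hBE : ∀ a ∈ E, ∀ b ∈ B, a * b = b * a := by
      intro a ha b hb
      have hle : B ≤ Subgroup.centralizer ({a} : Set P) := by
        apply sup_le
        · rw [Subgroup.zpowers_le, Subgroup.mem_centralizer_iff]
          intro y hy
          rw [Set.mem_singleton_iff] at hy
          subst hy
          exact hEcomm y ha f hfE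
        · rw [Subgroup.zpowers_le, Subgroup.mem_centralizer_iff]
          intro y hy
          rw [Set.mem_singleton_iff] at hy
          subst hy
          exact hzc y
      exact (Subgroup.mem_centralizer_iff.mp (hle hb)) a (Set.mem_singleton a)
    have hBW : ∀ a ∈ B, ∀ b ∈ W, a * b = b * a := by
      intro a ha b hb
      have hle : B ≤ Subgroup.centralizer ({b} : Set P) := by
        apply sup_le
        · rw [Subgroup.zpowers_le, Subgroup.mem_centralizer_iff]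
          intro y hy
          rw [Set.mem_singleton_iff] at hy
          subst hy
          have := (Subgroup.mem_centralizer_iff.mp (Subgroup.mem_inf.mp hb).2) f
            (Set.mem_singleton f)
          exact this.symm
        · rw [Subgroup.zpowers_le, Subgroup.mem_centralizer_iff]
          intro y hy
          rw [Set.mem_singleton_iff] at hy
          subst hy
          exact hzc y
      exact ((Subgroup.mem_centralizer_iff.mp (hle ha)) b (Set.mem_singleton b)).symm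
    have hWU : ∀ a ∈ W, ∀ b ∈ U, a * b = b * a := fun a ha b hb =>
      hUcomm a (Subgroup.mem_inf.mp ha).1 b hb
    exact Relation.ReflTransGen.trans
      (Relation.ReflTransGen.trans
        (Relation.ReflTransGen.single ⟨hE, hE9, hBEA, hB9, hBE⟩)
        (Relation.ReflTransGen.single ⟨hBEA, hB9, hWEA, hW9, hBW⟩))
      (Relation.ReflTransGen.single ⟨hWEA, hW9, hUEA, hU9, hWU⟩)
  intro E E' hE hE9 hE' hE'9
  have h1 := hchain E hE hE9
  have h2 := hchain E' hE' hE'9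
  have hsymm : ∀ X Y : Subgroup P, (Cfsg.IsElementaryAbelian 3 X ∧
      3 ^ 2 ≤ Nat.card ↥X ∧ Cfsg.IsElementaryAbelian 3 Y ∧ 3 ^ 2 ≤ Nat.card ↥Y ∧
      ∀ a ∈ X, ∀ b ∈ Y, a * b = b * a) → (Cfsg.IsElementaryAbelian 3 Y ∧
      3 ^ 2 ≤ Nat.card ↥Y ∧ Cfsg.IsElementaryAbelian 3 X ∧ 3 ^ 2 ≤ Nat.card ↥X ∧
      ∀ a ∈ Y, ∀ b ∈ X, a * b = b * a) := by
    rintro X Y ⟨h1, h2, h3, h4, h5⟩
    exact ⟨h3, h4, h1, h2, fun a ha b hb => (h5 b hb a ha).symm⟩
  have hrev := reflTransGen_symm hsymm h2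
  exact h1.trans hrev

end Cfsg.Agent.Helper9.Konv
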