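import Mathlib
import Cfsg.Agent.S1780

set_option autoImplicit false

namespace Cfsg.Agent.Helper9

/-- Conjugation by a normalizing element, as an automorphism of the subgroup. -/
def conjAutOfMemNormalizer {G : Type*} [Group G] (M : Subgroup G) (x : G)
    (hx : x ∈ Subgroup.normalizer (M : Set G)) : MulAut M where
  toFun m := ⟨x * m * x⁻¹, (Subgroup.mem_normalizer_iff.mp hx m).mp m.2⟩
  invFun m := ⟨x⁻¹ * m * x, by
    have h := (Subgroup.mem_normalizer_iff.mp hx (x⁻¹ * m * x))
    rw [h]
    have : x * (x⁻¹ * (m : G) * x) * x⁻¹ = m := by group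
    rw [this]
    exact m.2⟩
  left_inv m := by
    apply Subtype.ext
    simp only
    group
  right_inv m := by
    apply Subtype.ext
    simp only
    group
  map_mul' a b := by
    apply Subtype.ext
    simp only [Subgroup.coe_mul]
    group

theorem conjAutOfMemNormalizer_apply {G : Type*} [Group G] (M : Subgroup G) (x : G)
    (hx : x ∈ Subgroup.normalizer (M : Set G)) (m : M) :
    ((conjAutOfMemNormalizer M x hx) m : G) = x * m * x⁻¹ := rfl

theorem conjAutOfMemNormalizer_pow_apply {G : Type*} [Group G] (M : Subgroup G) (x : G)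
    (hx : x ∈ Subgroup.normalizer (M : Set G)) (n : ℕ) (m : M) :
    (((conjAutOfMemNormalizer M x hx) ^ n) m : G) = x ^ n * m * (x ^ n)⁻¹ := by
  induction n generalizing m with
  | zero => simp
  | succ n ih =>
    rw [pow_succ, MulAut.mul_apply, ih, conjAutOfMemNormalizer_apply]
    rw [pow_succ]
    group

/-- If an element `x` of `2`-power order normalizes the abelian `2`-subgroup `M` and every element
of `M` centralized by `x ^ 2` is centralized by `x`, then `x` centralizes `M`. -/
theorem centralizes_of_fix_sq {G : Type*} [Group G] [Finite G] (M : Subgroup G)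
    (hM2 : IsPGroup 2 M) (hMc : ∀ a ∈ M, ∀ b ∈ M, a * b = b * a) (x : G)
    (hx : ∃ k : ℕ, orderOf x = 2 ^ k) (hxN : x ∈ Subgroup.normalizer (M : Set G))
    (hfix : ∀ m ∈ M, x ^ 2 * m = m * x ^ 2 → x * m = m * x) :
    ∀ m ∈ M, x * m = m * x := by
  letI : CommGroup M :=
    { (inferInstance : Group M) with
      mul_comm := fun a b => Subtype.ext (hMc a a.2 b b.2) }
  let t : MulAut M := conjAutOfMemNormalizer M x hxN
  have ht : ∃ k : ℕ, orderOf t = 2 ^ k := by
    obtain ⟨k, hk⟩ := hx
    have hpow : t ^ (2 ^ k) = 1 := by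
      ext m
      rw [conjAutOfMemNormalizer_pow_apply, ← hk, pow_orderOf_eq_one]
      simp
    have hdvd : orderOf t ∣ 2 ^ k := orderOf_dvd_of_pow_eq_one hpow
    obtain ⟨j, _, hj⟩ := (Nat.dvd_prime_pow Nat.prime_two).mp hdvd
    exact ⟨j, hj⟩
  have hC : ∀ a : M, t (t a) = a → t a = a := by
    intro a ha
    have ha' : x * (x * (a : G) * x⁻¹) * x⁻¹ = a := congrArg Subtype.val ha
    have h1 : x ^ 2 * (a : G) = a * x ^ 2 := by
      have : x ^ 2 * (a : G) = (x * (x * (a : G) * x⁻¹) * x⁻¹) * x ^ 2 := by
        rw [pow_two]; group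
      rw [this, ha']
    have h2 := hfix a a.2 h1
    apply Subtype.ext
    rw [conjAutOfMemNormalizer_apply, h2]
    group
  have key := Cfsg.Agent.S1780.result (A := M) hM2 t ht hC
  intro m hm
  have := congrArg Subtype.val (key ⟨m, hm⟩)
  rw [conjAutOfMemNormalizer_apply] at this
  simp only at this
  calc x * m = (x * m * x⁻¹) * x := by group
    _ = m * x := by rw [this]

end Cfsg.Agent.Helper9
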