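import Mathlib
import Cfsg.Agent.Helper9.TateNormal
import Cfsg.Agent.Helper1.PGroup
import Cfsg.Prelude.Def_Solvable

set_option autoImplicit false
set_option linter.style.haveILetI false

/-! Groups whose Sylow `p`-subgroup `P` is two-generated with core-free Frattini subgroup:
basic consequences of Tate's theorem. -/

namespace Cfsg.Agent.Helper9.TwoGen

open Subgroup Cfsg

variable {G : Type*} [Group G] [Finite G] {p : ℕ} [Fact p.Prime]

/-- With `O_{p'}(G) = 1`, a normal subgroup meeting `P` inside `Φ(P)` is a `p`-group. -/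
theorem isPGroup_of_inf_le_frattini (P : Sylow p G) (hcore : pPrimeCore p G = ⊥)
    (N : Subgroup G) [N.Normal]
    (h : N ⊓ (P : Subgroup G) ≤ (frattini P).map (P : Subgroup G).subtype) : IsPGroup p N := by
  obtain ⟨PN, M, hMn, hc⟩ := hasNormalPComplement_of_inf_le_frattini P N h
  haveI := hMn
  have hM : M = pResidual p N := normal_complement_eq_pResidual PN M hc
  set K : Subgroup G := (pResidual p N).map N.subtype with hK
  haveI : K.Normal := ConjAct.normal_of_characteristic_of_normal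
  have hcard : Nat.card K = Nat.card M := by
    rw [hM]; exact Subgroup.card_map_of_injective N.subtype_injective
  have hcop : (Nat.card K).Coprime p := by
    rw [hcard, ← hc.index_eq_card]
    exact ((Fact.out : p.Prime).coprime_iff_not_dvd.mpr PN.not_dvd_index).symm
  have hKbot : K = ⊥ := by
    rw [eq_bot_iff, ← hcore]; exact le_sSup ⟨inferInstance, hcop⟩
  have hMbot : M = ⊥ := by
    rw [← Subgroup.card_eq_one, ← hcard, hKbot, Subgroup.card_bot]
  have hPN : (PN : Subgroup N) = ⊤ := by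
    rw [hMbot] at hc
    exact isComplement'_bot_left.mp hc
  have h1 : IsPGroup p (PN : Subgroup N) := PN.isPGroup'
  rw [hPN] at h1
  exact h1.of_equiv Subgroup.topEquiv

/-- **KL1.** A nontrivial normal subgroup does not meet `P` inside `Φ(P)`. -/
theorem not_inf_le_frattini (P : Sylow p G) (hcore : pPrimeCore p G = ⊥)
    (hfrat : ((frattini ↥(P : Subgroup G)).map (P : Subgroup G).subtype).normalCore = ⊥)
    (N : Subgroup G) [hNn : N.Normal] (hN : N ≠ ⊥) :
    ¬ N ⊓ (P : Subgroup G) ≤ (frattini P).map (P : Subgroup G).subtype := by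
  intro h
  have hNp := isPGroup_of_inf_le_frattini P hcore N h
  have hNP : N ≤ (P : Subgroup G) := hNp.le_sylow_of_normal P
  have h2 : N ≤ (frattini P).map (P : Subgroup G).subtype := by
    rwa [inf_eq_left.mpr hNP] at h
  have h3 : N ≤ ((frattini ↥(P : Subgroup G)).map (P : Subgroup G).subtype).normalCore :=
    Subgroup.normal_le_normalCore.mpr h2
  rw [hfrat] at h3
  exact hN (eq_bot_iff.mpr h3)

/-- **KL2.** If `|P : Φ(P)| = p²` and `M ⊴ P` is not inside `Φ(P)`, then `P = ⟨g⟩ M`. -/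
theorem exists_gen_mod (P : Sylow p G) (hgen : (frattini ↥(P : Subgroup G)).index = p ^ 2)
    (M : Subgroup G) (hMn : (P : Subgroup G) ≤ normalizer (M : Set G))
    (hM : ¬ M ⊓ (P : Subgroup G) ≤ (frattini P).map (P : Subgroup G).subtype) :
    ∃ g ∈ (P : Subgroup G), ∀ x ∈ (P : Subgroup G), ∃ k : ℤ, ∃ a ∈ M ⊓ (P : Subgroup G),
      x = g ^ k * a := by
  have hp : p.Prime := Fact.out
  set MP : Subgroup ↥(P : Subgroup G) := M.subgroupOf (P : Subgroup G) with hMP
  haveI hMPn : MP.Normal := by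
    refine ⟨fun n hn g => ?_⟩
    rw [hMP, Subgroup.mem_subgroupOf] at hn ⊢
    have := (Subgroup.mem_normalizer_iff.mp (hMn g.2) (n : G)).mp hn
    simpa using this
  have hMnot : ¬ MP ≤ frattini ↥(P : Subgroup G) := by
    intro hle
    apply hM
    intro x hx
    obtain ⟨hxM, hxP⟩ := Subgroup.mem_inf.mp hx
    exact ⟨⟨x, hxP⟩, hle (Subgroup.mem_subgroupOf.mpr hxM), rfl⟩
  set T : Subgroup ↥(P : Subgroup G) := MP ⊔ frattini ↥(P : Subgroup G) with hT
  haveI hTn : T.Normal := Subgroup.sup_normal _ _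
  have hlt : frattini ↥(P : Subgroup G) < T := by
    refine lt_of_le_of_ne le_sup_right ?_
    intro heq
    apply hMnot
    rw [heq]
    exact le_sup_left
  have hidx : T.index = 1 ∨ T.index = p := by
    have h1 : T.index ∣ p ^ 2 := by
      rw [← hgen]; exact Subgroup.index_dvd_of_le hlt.le
    have h2 : T.index < p ^ 2 := by
      rw [← hgen]; exact Subgroup.index_strictAnti hlt
    obtain ⟨m, hm, hmeq⟩ := (Nat.dvd_prime_pow hp).mp h1
    interval_cases m
    · left; simpa using hmeq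
    · right; simpa using hmeq
    · exact absurd hmeq (ne_of_lt h2)
  haveI hcyc : IsCyclic (↥(P : Subgroup G) ⧸ T) := by
    rcases hidx with h1 | h1
    · haveI : Subsingleton (↥(P : Subgroup G) ⧸ T) := by
        rw [← Finite.card_le_one_iff_subsingleton, ← Subgroup.index_eq_card, h1]
      exact isCyclic_of_subsingleton
    · haveI : Fact p.Prime := ⟨hp⟩
      apply isCyclic_of_prime_card (p := p)
      rw [← Subgroup.index_eq_card, h1]
  obtain ⟨q, hq⟩ := IsCyclic.exists_generator (α := ↥(P : Subgroup G) ⧸ T)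
  obtain ⟨g₀, rfl⟩ := QuotientGroup.mk'_surjective T q
  have hsup : (Subgroup.zpowers g₀ ⊔ MP) ⊔ frattini ↥(P : Subgroup G) = ⊤ := by
    rw [sup_assoc, ← hT, eq_top_iff]
    intro x _
    obtain ⟨k, hk⟩ := Subgroup.mem_zpowers_iff.mp (hq (QuotientGroup.mk' T x))
    rw [← map_zpow] at hk
    have h1 : (g₀ ^ k)⁻¹ * x ∈ T := QuotientGroup.eq.mp hk
    have h2 : x = g₀ ^ k * ((g₀ ^ k)⁻¹ * x) := by group
    rw [h2]
    exact Subgroup.mul_mem_sup (Subgroup.zpow_mem_zpowers g₀ k) h1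
  have htop : Subgroup.zpowers g₀ ⊔ MP = ⊤ := frattini_nongenerating hsup
  refine ⟨(g₀ : G), g₀.2, ?_⟩
  intro x hx
  have hxt : (⟨x, hx⟩ : ↥(P : Subgroup G)) ∈ Subgroup.zpowers g₀ ⊔ MP := by
    rw [htop]; trivial
  obtain ⟨y, hy, z, hz, hyz⟩ := Subgroup.mem_sup_of_normal_right.mp hxt
  obtain ⟨k, rfl⟩ := Subgroup.mem_zpowers_iff.mp hy
  refine ⟨k, (z : G), Subgroup.mem_inf.mpr ⟨Subgroup.mem_subgroupOf.mp hz, z.2⟩, ?_⟩
  have := congrArg (fun u : ↥(P : Subgroup G) => (u : G)) hyz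
  simpa using this.symm

/-- Commutators of elements of `P` lie in `M` in the situation of **KL2**. -/
theorem commutator_mem_of_gen_mod (P : Sylow p G)
    (hgen : (frattini ↥(P : Subgroup G)).index = p ^ 2)
    (M : Subgroup G) (hMn : (P : Subgroup G) ≤ normalizer (M : Set G))
    (hM : ¬ M ⊓ (P : Subgroup G) ≤ (frattini P).map (P : Subgroup G).subtype)
    {y z : G} (hy : y ∈ (P : Subgroup G)) (hz : z ∈ (P : Subgroup G)) :
    y * z * y⁻¹ * z⁻¹ ∈ M := by
  obtain ⟨g, hg, hgx⟩ := exists_gen_mod P hgen M hMn hM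
  obtain ⟨k, a, ha, rfl⟩ := hgx y hy
  obtain ⟨l, b, hb, rfl⟩ := hgx z hz
  have haM := (Subgroup.mem_inf.mp ha).1
  have hbM := (Subgroup.mem_inf.mp hb).1
  have hgk : ∀ j : ℤ, g ^ j ∈ normalizer (M : Set G) := fun j =>
    Subgroup.zpow_mem _ (hMn hg) j
  -- g^k a g^l b a⁻¹ g^-k b⁻¹ g^-l
  have h1 : g ^ k * a * (g ^ l * b) * (g ^ k * a)⁻¹ * (g ^ l * b)⁻¹
      = (g ^ k * (a * (g ^ l * (b * a⁻¹) * (g ^ l)⁻¹)) * (g ^ k)⁻¹)
        * (g ^ l * b⁻¹ * (g ^ l)⁻¹) := by
    have hc : g ^ k * g ^ l = g ^ l * g ^ k := (Commute.zpow_zpow_self g k l).eq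
    have hc' : g ^ l * (g ^ k)⁻¹ = (g ^ k)⁻¹ * g ^ l := by
      rw [← zpow_neg]; exact (Commute.zpow_zpow_self g l (-k)).eq
    calc g ^ k * a * (g ^ l * b) * (g ^ k * a)⁻¹ * (g ^ l * b)⁻¹
        = g ^ k * a * g ^ l * b * a⁻¹ * ((g ^ k)⁻¹ * b⁻¹ * (g ^ l)⁻¹) := by group
      _ = g ^ k * a * g ^ l * b * a⁻¹ * (g ^ l)⁻¹ * (g ^ l * (g ^ k)⁻¹) * b⁻¹ * (g ^ l)⁻¹ := by
          group
      _ = g ^ k * a * g ^ l * b * a⁻¹ * (g ^ l)⁻¹ * ((g ^ k)⁻¹ * g ^ l) * b⁻¹ * (g ^ l)⁻¹ := by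
          rw [hc']
      _ = _ := by group
  rw [h1]
  apply M.mul_mem
  · apply (Subgroup.mem_normalizer_iff.mp (hgk k) _).mp
    apply M.mul_mem haM
    apply (Subgroup.mem_normalizer_iff.mp (hgk l) _).mp
    exact M.mul_mem hbM (M.inv_mem haM)
  · apply (Subgroup.mem_normalizer_iff.mp (hgk l) _).mp
    exact M.inv_mem hbM

/-- **KL3.** Two subgroups normalised by `P`, neither meeting `P` inside `Φ(P)`, cannot meet
trivially when `P` is nonabelian. -/
theorem inf_ne_bot (P : Sylow p G) (hna : ¬ IsMulCommutative (P : Subgroup G))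
    (hgen : (frattini ↥(P : Subgroup G)).index = p ^ 2)
    (M₁ M₂ : Subgroup G) (h₁n : (P : Subgroup G) ≤ normalizer (M₁ : Set G))
    (h₂n : (P : Subgroup G) ≤ normalizer (M₂ : Set G))
    (h₁ : ¬ M₁ ⊓ (P : Subgroup G) ≤ (frattini P).map (P : Subgroup G).subtype)
    (h₂ : ¬ M₂ ⊓ (P : Subgroup G) ≤ (frattini P).map (P : Subgroup G).subtype) :
    M₁ ⊓ M₂ ≠ ⊥ := by
  intro hbot
  apply hna
  refine ⟨⟨fun y z => ?_⟩⟩
  apply Subtype.ext
  have h1 := commutator_mem_of_gen_mod P hgen M₁ h₁n h₁ y.2 z.2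
  have h2 := commutator_mem_of_gen_mod P hgen M₂ h₂n h₂ y.2 z.2
  have h3 : (y : G) * z * (y : G)⁻¹ * (z : G)⁻¹ ∈ M₁ ⊓ M₂ := Subgroup.mem_inf.mpr ⟨h1, h2⟩
  rw [hbot, Subgroup.mem_bot] at h3
  rw [Subgroup.coe_mul, Subgroup.coe_mul]
  have : (y : G) * z = (y : G) * z * (y : G)⁻¹ * (z : G)⁻¹ * (z * y) := by group
  rw [this, h3, one_mul]

end Cfsg.Agent.Helper9.TwoGen
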