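import Mathlib
import Cfsg.Agent.Helper9.TwoGenA
import Cfsg.Agent.Helper7.PConstrained
import Cfsg.Agent.Helper7.Layer
import Cfsg.Agent.Helper14.PCore
import Cfsg.Agent.Lead.Gaschutz

set_option autoImplicit false
set_option linter.style.haveILetI false

/-! Two-generated Sylow with core-free Frattini: the unique minimal normal subgroup, and the
case `F(G) ≠ 1`. -/

namespace Cfsg.Agent.Helper9.TwoGen

open Subgroup Cfsg
open scoped commutatorElement

variable {G : Type*} [Group G] [Finite G] {p : ℕ} [Fact p.Prime]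

/-- **P4.** The unique minimal normal subgroup. -/
theorem exists_min_normal (P : Sylow p G) (hna : ¬ IsMulCommutative (P : Subgroup G))
    (hgen : (frattini ↥(P : Subgroup G)).index = p ^ 2) (hcore : pPrimeCore p G = ⊥)
    (hfrat : ((frattini ↥(P : Subgroup G)).map (P : Subgroup G).subtype).normalCore = ⊥) :
    ∃ N₀ : Subgroup G, N₀.Normal ∧ N₀ ≠ ⊥ ∧
      ∀ K : Subgroup G, K.Normal → K ≠ ⊥ → N₀ ≤ K := by
  let S : Set (Subgroup G) := {N | N.Normal ∧ N ≠ ⊥}
  have hne : S.Nonempty := by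
    refine ⟨⊤, inferInstance, ?_⟩
    intro htop
    apply hna
    refine ⟨⟨fun y z => ?_⟩⟩
    apply Subtype.ext
    have h1 : ∀ x : G, x = 1 := fun x => by
      have : x ∈ (⊤ : Subgroup G) := Subgroup.mem_top x
      rw [htop, Subgroup.mem_bot] at this
      exact this
    rw [h1 ((y * z : ↥(P : Subgroup G)) : G), h1 ((z * y : ↥(P : Subgroup G)) : G)]
  obtain ⟨N₀, ⟨hN₀n, hN₀ne⟩, hmin⟩ := (wellFounded_lt (α := Subgroup G)).has_min S hne
  refine ⟨N₀, hN₀n, hN₀ne, ?_⟩
  intro K hKn hKne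
  haveI := hN₀n
  haveI := hKn
  have hnorm : ∀ N : Subgroup G, N.Normal → (P : Subgroup G) ≤ normalizer (N : Set G) := by
    intro N hN
    rw [Subgroup.normalizer_eq_top_iff.mpr hN]
    exact le_top
  have h1 : N₀ ⊓ K ≠ ⊥ :=
    inf_ne_bot P hna hgen N₀ K (hnorm N₀ hN₀n) (hnorm K hKn)
      (not_inf_le_frattini P hcore hfrat N₀ hN₀ne) (not_inf_le_frattini P hcore hfrat K hKne)
  have h2 : N₀ ⊓ K ∈ S := ⟨inferInstance, h1⟩
  have h3 : ¬ N₀ ⊓ K < N₀ := hmin _ h2
  have h4 : N₀ ⊓ K = N₀ := by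
    by_contra hne'
    exact h3 (lt_of_le_of_ne inf_le_left hne')
  rw [← h4]
  exact inf_le_right

/-- **Lemma T.** A central element of `H` lying in `H'` and in a Sylow subgroup `P` lies in
`P'`. -/
theorem mem_commutator_sylow_of_mem_center {H : Type*} [Group H] [Finite H] (P : Sylow p H) {z : H}
    (hzZ : z ∈ Subgroup.center H) (hzc : z ∈ commutator H) (hzP : z ∈ (P : Subgroup H)) :
    z ∈ ⁅(P : Subgroup H), (P : Subgroup H)⁆ := by
  classical
  have key : ∀ (k : ℕ) (g₀ : H), g₀⁻¹ * z ^ k * g₀ ∈ (P : Subgroup H) →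
      g₀⁻¹ * z ^ k * g₀ = z ^ k := by
    intro k g₀ _
    have hc' : z ^ k ∈ Subgroup.center H := Subgroup.pow_mem _ hzZ k
    have := (Subgroup.mem_center_iff.mp hc') g₀
    rw [mul_assoc, ← this, inv_mul_cancel_left]
  have h1 := MonoidHom.transfer_eq_pow (Abelianization.of (G := (P : Subgroup H))) z key
  have h2 : MonoidHom.transfer (Abelianization.of (G := (P : Subgroup H))) z = 1 := by
    have hle : commutator H ≤ (MonoidHom.transfer (Abelianization.of (G := (P : Subgroup H)))).ker :=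
      Abelianization.commutator_subset_ker _
    exact hle hzc
  rw [h2] at h1
  have h3 : (Abelianization.of (⟨z, hzP⟩ : (P : Subgroup H))) ^ (P : Subgroup H).index = 1 := by
    rw [← map_pow, h1]
    rfl
  have hQ : IsPGroup p (Abelianization (P : Subgroup H)) :=
    P.2.to_quotient _
  obtain ⟨k, hk⟩ := hQ (Abelianization.of (⟨z, hzP⟩ : (P : Subgroup H)))
  have h4 : orderOf (Abelianization.of (⟨z, hzP⟩ : (P : Subgroup H))) ∣ p ^ k :=
    orderOf_dvd_of_pow_eq_one hk
  have h5 : orderOf (Abelianization.of (⟨z, hzP⟩ : (P : Subgroup H))) ∣ (P : Subgroup H).index :=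
    orderOf_dvd_of_pow_eq_one h3
  have hcop : Nat.Coprime (p ^ k) (P : Subgroup H).index :=
    Nat.Coprime.pow_left k ((Fact.out : p.Prime).coprime_iff_not_dvd.mpr P.not_dvd_index)
  have h6 := Nat.eq_one_of_dvd_coprimes hcop h4 h5
  rw [orderOf_eq_one_iff] at h6
  have h7 : (⟨z, hzP⟩ : (P : Subgroup H)) ∈ commutator (P : Subgroup H) := by
    rw [← Abelianization.ker_of, MonoidHom.mem_ker]; exact h6
  rw [← Subgroup.map_subtype_commutator]
  exact ⟨⟨z, hzP⟩, h7, rfl⟩

/-- `P' ≤ Φ(P)` inside `G`. -/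
theorem commutator_sylow_le_frattini (P : Sylow p G) :
    ⁅(P : Subgroup G), (P : Subgroup G)⁆ ≤ (frattini P).map (P : Subgroup G).subtype := by
  rw [← Subgroup.map_subtype_commutator]
  exact Subgroup.map_mono (Cfsg.Agent.Helper1.IsPGroup.commutator_le_frattini (p := p) P.2)

/-- **P5.** If `F(G) ≠ 1` then `E(G) = 1`. -/
theorem layer_eq_bot_of_fitting_ne_bot (P : Sylow p G) (hcore : pPrimeCore p G = ⊥)
    (hfrat : ((frattini ↥(P : Subgroup G)).map (P : Subgroup G).subtype).normalCore = ⊥)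
    (N₀ : Subgroup G) [hN₀n : N₀.Normal] (hN₀ : N₀ ≠ ⊥)
    (hmin : ∀ K : Subgroup G, K.Normal → K ≠ ⊥ → N₀ ≤ K) (hF : fittingSubgroup G ≠ ⊥) :
    layer G = ⊥ := by
  by_contra hE
  set E := layer G with hEdef
  have hRn : (fittingSubgroup G).Normal := by
    rw [Cfsg.Agent.Helper7.fittingSubgroup_eq_pCore_of_pPrimeCore_eq_bot hcore]
    exact Cfsg.pCore_normal p G
  have hN₀E : N₀ ≤ E := hmin E inferInstance hE
  have hN₀R : N₀ ≤ fittingSubgroup G := hmin _ hRn hF
  have hN₀p : IsPGroup p N₀ := by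
    rw [Cfsg.Agent.Helper7.fittingSubgroup_eq_pCore_of_pPrimeCore_eq_bot hcore] at hN₀R
    exact (Cfsg.Agent.Helper14.pCore_isPGroup p).to_le hN₀R
  have hcomm : ∀ a ∈ E, ∀ b ∈ fittingSubgroup G, a * b = b * a :=
    Cfsg.Agent.Helper7.commutator_eq_bot_iff_forall_commute.mp
      Cfsg.Agent.Helper7.layer_commutator_fitting
  have hperf : commutator ↥E = ⊤ := by
    apply Subgroup.map_injective E.subtype_injective
    rw [Subgroup.map_subtype_commutator, Cfsg.Agent.Helper7.layer_commutator_eq,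
      ← MonoidHom.range_eq_map, Subgroup.range_subtype]
  obtain ⟨Q⟩ : Nonempty (Sylow p ↥E) := inferInstance
  haveI hNEn : (N₀.subgroupOf E).Normal := Subgroup.normal_subgroupOf
  have hNEQ : N₀.subgroupOf E ≤ (Q : Subgroup ↥E) :=
    (hN₀p.comap_subtype).le_sylow_of_normal Q
  -- a Sylow subgroup of G containing the image of Q
  have hQG : IsPGroup p ((Q : Subgroup ↥E).map E.subtype) := Q.isPGroup'.map _
  obtain ⟨P', hP'⟩ := hQG.exists_le_sylow
  obtain ⟨g, hg⟩ := MulAction.exists_smul_eq G P P'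
  have hP'coe : (P' : Subgroup G) = (P : Subgroup G).map (MulAut.conj g).toMonoidHom := by
    rw [← hg, Sylow.coe_subgroup_smul]; rfl
  have hstep : ∀ x ∈ N₀, x ∈ ⁅(P' : Subgroup G), (P' : Subgroup G)⁆ := by
    intro x hx
    have hxE : x ∈ E := hN₀E hx
    have h1 : (⟨x, hxE⟩ : ↥E) ∈ Subgroup.center ↥E := by
      rw [Subgroup.mem_center_iff]
      intro y
      apply Subtype.ext
      exact hcomm y y.2 x (hN₀R hx)
    have h2 : (⟨x, hxE⟩ : ↥E) ∈ commutator ↥E := by rw [hperf]; trivial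
    have h3 : (⟨x, hxE⟩ : ↥E) ∈ (Q : Subgroup ↥E) := hNEQ (Subgroup.mem_subgroupOf.mpr hx)
    have h4 := mem_commutator_sylow_of_mem_center Q h1 h2 h3
    have h5 : x ∈ (⁅(Q : Subgroup ↥E), (Q : Subgroup ↥E)⁆).map E.subtype := ⟨_, h4, rfl⟩
    rw [Subgroup.map_commutator] at h5
    exact Subgroup.commutator_mono hP' hP' h5
  have hle : N₀ ≤ ⁅(P : Subgroup G), (P : Subgroup G)⁆ := by
    intro y hy
    have h1 := hstep (g * y * g⁻¹) (hN₀n.conj_mem y hy g)
    rw [hP'coe, ← Subgroup.map_commutator] at h1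
    obtain ⟨w, hw, hwy⟩ := h1
    have : w = y := by
      have h2 : g * w * g⁻¹ = g * y * g⁻¹ := by simpa using hwy
      have h3 := mul_left_cancel (mul_right_cancel h2)
      exact h3
    rwa [← this]
  have h3 : N₀ ≤ ((frattini ↥(P : Subgroup G)).map (P : Subgroup G).subtype).normalCore :=
    Subgroup.normal_le_normalCore.mpr (hle.trans (commutator_sylow_le_frattini P))
  rw [hfrat] at h3
  exact hN₀ (eq_bot_iff.mpr h3)

end Cfsg.Agent.Helper9.TwoGen
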