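import Mathlib
import Cfsg.Agent.Helper9.TwoGenB
import Cfsg.Agent.Helper7.Components

set_option autoImplicit false
set_option linter.style.haveILetI false

/-! Two-generated Sylow with core-free Frattini: `F*(G)` is the minimal normal subgroup. -/

namespace Cfsg.Agent.Helper9.TwoGen

open Subgroup Cfsg
open scoped commutatorElement

variable {G : Type*} [Group G] [Finite G] {p : ℕ} [Fact p.Prime]

omit [Finite G] in
/-- In a cyclic `p`-group `⟨g⟩`, a subgroup missing an element of order `p` is trivial. -/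
theorem zpowers_inf_eq_bot_of_pow {g : G} {e : ℕ} (hg : orderOf g = p ^ e) (N : Subgroup G)
    {k : ℤ} (hc : g ^ k ∉ N) (hcp : (g ^ k) ^ p = 1) : Subgroup.zpowers g ⊓ N = ⊥ := by
  have hp : p.Prime := Fact.out
  rw [eq_bot_iff]
  intro y hy
  obtain ⟨hyz, hyN⟩ := Subgroup.mem_inf.mp hy
  obtain ⟨j, rfl⟩ := Subgroup.mem_zpowers_iff.mp hyz
  rw [Subgroup.mem_bot]
  by_contra hne
  have hd : (Int.gcd j ((p ^ e : ℕ) : ℤ) : ℤ) ∣ ((p ^ e : ℕ) : ℤ) := Int.gcd_dvd_right _ _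
  have hd' : Int.gcd j ((p ^ e : ℕ) : ℤ) ∣ p ^ e := Int.natCast_dvd_natCast.mp hd
  obtain ⟨f, hfe, hdf⟩ := (Nat.dvd_prime_pow hp).mp hd'
  have hgd : g ^ (Int.gcd j ((p ^ e : ℕ) : ℤ) : ℤ) ∈ N := by
    rw [Int.gcd_eq_gcd_ab, zpow_add, zpow_mul, zpow_mul, zpow_natCast g (p ^ e), ← hg,
      pow_orderOf_eq_one, one_zpow, mul_one]
    exact N.zpow_mem hyN _
  rcases Nat.lt_or_ge f e with hlt | hge
  · have h1 : g ^ (k * p) = 1 := by rw [zpow_mul, zpow_natCast]; exact hcp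
    have h2 : ((p ^ e : ℕ) : ℤ) ∣ k * p := by
      rw [← hg]; exact orderOf_dvd_iff_zpow_eq_one.mpr h1
    obtain ⟨e', rfl⟩ : ∃ e', e = e' + 1 := ⟨e - 1, by omega⟩
    have h3 : ((p ^ e' : ℕ) : ℤ) ∣ k := by
      have : ((p ^ e' : ℕ) : ℤ) * (p : ℤ) ∣ k * p := by
        rw [pow_succ] at h2; push_cast at h2 ⊢; exact h2
      exact Int.dvd_of_mul_dvd_mul_right (by exact_mod_cast hp.ne_zero) this
    have h4 : ((p ^ f : ℕ) : ℤ) ∣ k := by
      refine dvd_trans ?_ h3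
      exact_mod_cast pow_dvd_pow p (by omega : f ≤ e')
    rw [← hdf] at h4
    obtain ⟨m, hm⟩ := h4
    apply hc
    rw [hm, zpow_mul]
    exact N.zpow_mem hgd m
  · have hfe' : f = e := le_antisymm hfe hge
    apply hne
    have h1 : ((p ^ e : ℕ) : ℤ) ∣ j := by
      have := Int.gcd_dvd_left j ((p ^ e : ℕ) : ℤ)
      rwa [hdf, hfe'] at this
    rw [← hg] at h1
    exact orderOf_dvd_iff_zpow_eq_one.mp h1

/-- **P6.** If `F(G) ≠ 1` then `F(G)` is the minimal normal subgroup. -/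
theorem fitting_le_min_normal (P : Sylow p G)
    (hgen : (frattini ↥(P : Subgroup G)).index = p ^ 2) (hcore : pPrimeCore p G = ⊥)
    (hfrat : ((frattini ↥(P : Subgroup G)).map (P : Subgroup G).subtype).normalCore = ⊥)
    (N₀ : Subgroup G) [hN₀n : N₀.Normal] (hN₀ : N₀ ≠ ⊥)
    (hmin : ∀ K : Subgroup G, K.Normal → K ≠ ⊥ → N₀ ≤ K) (hF : fittingSubgroup G ≠ ⊥) :
    fittingSubgroup G ≤ N₀ := by
  have hp : p.Prime := Fact.out
  have hReq := Cfsg.Agent.Helper7.fittingSubgroup_eq_pCore_of_pPrimeCore_eq_bot hcore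
  set R := fittingSubgroup G with hR
  have hRn : R.Normal := by rw [hReq]; exact Cfsg.pCore_normal p G
  have hRp : IsPGroup p R := by rw [hReq]; exact Cfsg.Agent.Helper14.pCore_isPGroup p
  have hRP : R ≤ (P : Subgroup G) := hRp.le_sylow_of_normal P
  have hN₀R : N₀ ≤ R := hmin R hRn hF
  have hcore_mem : ∀ a : G,
      (∀ b : G, b * a * b⁻¹ ∈ (frattini ↥(P : Subgroup G)).map (P : Subgroup G).subtype) →
      a = 1 := by
    intro a ha
    have h1 : a ∈ ((frattini ↥(P : Subgroup G)).map (P : Subgroup G).subtype).normalCore := ha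
    rw [hfrat, Subgroup.mem_bot] at h1
    exact h1
  have hexp : ∀ x ∈ R, x ^ p = 1 := by
    intro x hx
    apply hcore_mem
    intro b
    have h1 : b * x * b⁻¹ ∈ (P : Subgroup G) := hRP (hRn.conj_mem x hx b)
    have h2 : b * x ^ p * b⁻¹ = (b * x * b⁻¹) ^ p := by rw [conj_pow]
    rw [h2]
    exact ⟨(⟨b * x * b⁻¹, h1⟩ : ↥(P : Subgroup G)) ^ p,
      Cfsg.Agent.Helper1.IsPGroup.pow_mem_frattini (p := p) P.2 _, rfl⟩
  have hab : ∀ y ∈ R, ∀ z ∈ R, y * z = z * y := by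
    intro y hy z hz
    have h0 : y * z * y⁻¹ * z⁻¹ = 1 := by
      apply hcore_mem
      intro b
      have hy' : b * y * b⁻¹ ∈ (P : Subgroup G) := hRP (hRn.conj_mem y hy b)
      have hz' : b * z * b⁻¹ ∈ (P : Subgroup G) := hRP (hRn.conj_mem z hz b)
      have h2 : b * (y * z * y⁻¹ * z⁻¹) * b⁻¹ = ⁅b * y * b⁻¹, b * z * b⁻¹⁆ := by
        rw [commutatorElement_def]; group
      rw [h2]
      exact commutator_sylow_le_frattini P (Subgroup.commutator_mem_commutator hy' hz')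
    calc y * z = (y * z * y⁻¹ * z⁻¹) * (z * y) := by group
      _ = z * y := by rw [h0, one_mul]
  by_contra hle
  obtain ⟨r, hrR, hrN⟩ := SetLike.not_le_iff_exists.mp hle
  have hnorm : (P : Subgroup G) ≤ normalizer (N₀ : Set G) := by
    rw [Subgroup.normalizer_eq_top_iff.mpr hN₀n]; exact le_top
  have hN₀P : N₀ ≤ (P : Subgroup G) := hN₀R.trans hRP
  obtain ⟨g, hgP, hgx⟩ :=
    exists_gen_mod P hgen N₀ hnorm (not_inf_le_frattini P hcore hfrat N₀ hN₀)
  obtain ⟨k, a, ha, hrk⟩ := hgx r (hRP hrR)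
  have haN := (Subgroup.mem_inf.mp ha).1
  have hcR : g ^ k ∈ R := by
    have : g ^ k = r * a⁻¹ := by rw [hrk]; group
    rw [this]; exact R.mul_mem hrR (R.inv_mem (hN₀R haN))
  have hcN : g ^ k ∉ N₀ := by
    intro h; apply hrN; rw [hrk]; exact N₀.mul_mem h haN
  obtain ⟨e, he⟩ : ∃ e, orderOf g = p ^ e := by
    obtain ⟨e, he⟩ := (IsPGroup.iff_orderOf.mp P.2) ⟨g, hgP⟩
    exact ⟨e, by rw [← he, Subgroup.orderOf_mk]⟩
  have hdisj : Subgroup.zpowers g ⊓ N₀ = ⊥ :=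
    zpowers_inf_eq_bot_of_pow he N₀ hcN (hexp _ hcR)
  have hsup : N₀ ⊔ Subgroup.zpowers g = (P : Subgroup G) := by
    apply le_antisymm
    · exact sup_le hN₀P (Subgroup.zpowers_le.mpr hgP)
    · intro x hx
      obtain ⟨k', a', ha', rfl⟩ := hgx x hx
      exact (N₀ ⊔ Subgroup.zpowers g).mul_mem
        (Subgroup.mem_sup_right (Subgroup.zpow_mem_zpowers g k'))
        (Subgroup.mem_sup_left (Subgroup.mem_inf.mp ha').1)
  haveI : IsMulCommutative N₀ :=
    ⟨⟨fun y z => Subtype.ext (hab y (hN₀R y.2) z (hN₀R z.2))⟩⟩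
  have hcop : (Nat.card N₀).Coprime (P : Subgroup G).index := by
    obtain ⟨n, hn⟩ := IsPGroup.iff_card.mp (hRp.to_le hN₀R)
    rw [hn]; exact Nat.Coprime.pow_left n (hp.coprime_iff_not_dvd.mpr P.not_dvd_index)
  obtain ⟨H, hH⟩ :=
    Cfsg.Agent.Lead.gaschutz_exists N₀ (P : Subgroup G) hN₀P hcop (Subgroup.zpowers g) hdisj hsup
  have hdec : ∀ x : G, ∃ n ∈ N₀, ∃ h ∈ H, x = n * h := by
    intro x
    have hx : x ∈ N₀ ⊔ H := by rw [hH.sup_eq_top]; trivial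
    obtain ⟨n, hn, h, hh, rfl⟩ := Subgroup.mem_sup_of_normal_left.mp hx
    exact ⟨n, hn, h, hh, rfl⟩
  have hZn : (R ⊓ H).Normal := by
    refine ⟨fun z hz x => ?_⟩
    obtain ⟨hzR, hzH⟩ := Subgroup.mem_inf.mp hz
    obtain ⟨n, hn, h, hh, rfl⟩ := hdec x
    have hwR : h * z * h⁻¹ ∈ R := hRn.conj_mem z hzR h
    have hwH : h * z * h⁻¹ ∈ H := H.mul_mem (H.mul_mem hh hzH) (H.inv_mem hh)
    have : n * h * z * (n * h)⁻¹ = h * z * h⁻¹ := by
      have hc := hab n (hN₀R hn) (h * z * h⁻¹) hwR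
      calc n * h * z * (n * h)⁻¹ = n * (h * z * h⁻¹) * n⁻¹ := by group
        _ = (h * z * h⁻¹) * n * n⁻¹ := by rw [hc]
        _ = _ := by group
    rw [this]; exact Subgroup.mem_inf.mpr ⟨hwR, hwH⟩
  have hZne : R ⊓ H ≠ ⊥ := by
    intro hbot
    obtain ⟨n, hn, h, hh, hrnh⟩ := hdec r
    have hhR : h ∈ R := by
      have : h = n⁻¹ * r := by rw [hrnh]; group
      rw [this]; exact R.mul_mem (R.inv_mem (hN₀R hn)) hrR
    have h1 : h ∈ R ⊓ H := Subgroup.mem_inf.mpr ⟨hhR, hh⟩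
    rw [hbot, Subgroup.mem_bot] at h1
    apply hrN; rw [hrnh, h1, mul_one]; exact hn
  have h1 : N₀ ≤ R ⊓ H := hmin _ hZn hZne
  have h2 : N₀ ⊓ H = ⊥ := hH.disjoint.eq_bot
  apply hN₀
  rw [eq_bot_iff, ← h2]
  exact le_inf le_rfl (h1.trans inf_le_right)

/-- **P7.** If `F(G) = 1` then `E(G)` lies in the minimal normal subgroup. -/
theorem layer_le_min_normal (N₀ : Subgroup G) [hN₀n : N₀.Normal] (hN₀ : N₀ ≠ ⊥)
    (hmin : ∀ K : Subgroup G, K.Normal → K ≠ ⊥ → N₀ ≤ K) (hF : fittingSubgroup G = ⊥) :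
    layer G ≤ N₀ := by
  rw [Cfsg.Agent.Helper7.layer_le_iff]
  intro L hL
  rcases Cfsg.Agent.Helper7.component_le_or_commutator_eq_bot hL
    (Subgroup.Normal.isSubnormal hN₀n) with h | h
  · exact h
  · exfalso
    have hLC : L ≤ centralizer (N₀ : Set G) := Subgroup.commutator_eq_bot_iff_le_centralizer.mp h
    have hCn : (centralizer (N₀ : Set G)).Normal := inferInstance
    have hCne : centralizer (N₀ : Set G) ≠ ⊥ := by
      intro hbot
      rw [hbot] at hLC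
      exact Cfsg.Agent.Helper7.IsComponent.ne_bot hL (eq_bot_iff.mpr hLC)
    have hNC : N₀ ≤ centralizer (N₀ : Set G) := hmin _ hCn hCne
    haveI : IsMulCommutative N₀ := by
      refine ⟨⟨fun y z => Subtype.ext ?_⟩⟩
      exact ((Subgroup.mem_centralizer_iff.mp (hNC z.2)) y y.2)
    have hnil : Group.IsNilpotent N₀ := Cfsg.Agent.Helper7.isNilpotent_of_isMulCommutative _
    have h1 : N₀ ≤ fittingSubgroup G := Cfsg.Agent.Helper7.le_fittingSubgroup hN₀n hnil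
    rw [hF] at h1
    exact hN₀ (eq_bot_iff.mpr h1)

end Cfsg.Agent.Helper9.TwoGen
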