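import Mathlib
import Cfsg.Agent.Helper9.TwoGenC
import Cfsg.Agent.Helper9.IsoRankC

set_option autoImplicit false
set_option linter.style.haveILetI false

/-! Two-generated Sylow with core-free Frattini: `P` is transitive on the components. -/

namespace Cfsg.Agent.Helper9.TwoGen

open Subgroup Cfsg
open Cfsg.Agent.Helper7
open scoped commutatorElement

variable {G : Type*} [Group G]

/-- the Frattini subgroup of a subgroup of a subgroup, pushed to the ambient group -/
theorem frattini_map_map_subtype' (K : Subgroup G) (V : Subgroup ↥K) :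
    ((frattini ↥V).map V.subtype).map K.subtype =
      (frattini ↥(V.map K.subtype)).map (V.map K.subtype).subtype := by
  let e : ↥V ≃* ↥(V.map K.subtype) := V.equivMapOfInjective K.subtype K.subtype_injective
  have h1 : (frattini ↥V).map e.toMonoidHom = frattini ↥(V.map K.subtype) :=
    OrderIso.map_radical (MulEquiv.mapSubgroup e)
  rw [← h1, Subgroup.map_map, Subgroup.map_map]
  congr 1

/-- transport of the Frattini image along an equality of subgroups -/
theorem frattini_map_subtype_congr' {V V' : Subgroup G} (h : V = V') :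
    (frattini ↥V).map V.subtype = (frattini ↥V').map V'.subtype := by
  subst h; rfl

variable [Finite G] {p : ℕ} [Fact p.Prime]

/-- **Tate's theorem**, relative form: `N ⊴ X ≥ P`. -/
theorem npc_of_inf_le_frattini_rel (P : Sylow p G) (X N : Subgroup G)
    (hPX : (P : Subgroup G) ≤ X) (hNX : N ≤ X) (hXN : X ≤ normalizer (N : Set G))
    (h : N ⊓ (P : Subgroup G) ≤ (frattini P).map (P : Subgroup G).subtype) :
    HasNormalPComplement p ↥N := by
  set PX : Sylow p ↥X := P.subtype hPX with hPXdef
  have hPXcoe : (PX : Subgroup X) = (P : Subgroup G).subgroupOf X := Sylow.coe_subtype P hPX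
  haveI hNn : (N.subgroupOf X).Normal :=
    (Subgroup.normal_subgroupOf_iff_le_normalizer hNX).mpr hXN
  have hmapP : (PX : Subgroup X).map X.subtype = (P : Subgroup G) := by
    rw [hPXcoe, Subgroup.map_subgroupOf_eq_of_le hPX]
  have hfr : ((frattini ↥(PX : Subgroup X)).map (PX : Subgroup X).subtype).map X.subtype
      = (frattini ↥(P : Subgroup G)).map (P : Subgroup G).subtype := by
    rw [frattini_map_map_subtype' X (PX : Subgroup X)]
    exact frattini_map_subtype_congr' hmapP
  have h' : N.subgroupOf X ⊓ (PX : Subgroup X)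
      ≤ (frattini ↥(PX : Subgroup X)).map (PX : Subgroup X).subtype := by
    intro u hu
    obtain ⟨huN, huP⟩ := Subgroup.mem_inf.mp hu
    have h1 : (u : G) ∈ N ⊓ (P : Subgroup G) := by
      refine Subgroup.mem_inf.mpr ⟨Subgroup.mem_subgroupOf.mp huN, ?_⟩
      rw [hPXcoe] at huP; exact Subgroup.mem_subgroupOf.mp huP
    have h2 := h h1
    rw [← hfr] at h2
    obtain ⟨v, hv, hvu⟩ := h2
    have : v = u := Subtype.ext hvu
    rwa [← this]
  have h3 : HasNormalPComplement p ↥(N.subgroupOf X) :=
    hasNormalPComplement_of_inf_le_frattini PX (N.subgroupOf X) h'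
  exact Cfsg.Agent.Helper10.npc_of_equiv (Subgroup.subgroupOfEquivOfLe hNX) h3

/-- The join of the `P`-conjugates of a component does not meet `P` inside `Φ(P)`. -/
theorem not_conjSup_inf_le_frattini (P : Sylow p G) (hcore : pPrimeCore p G = ⊥)
    {K : Subgroup G} (hK : IsComponent K) :
    ¬ conjSup (P : Subgroup G) K ⊓ (P : Subgroup G)
      ≤ (frattini P).map (P : Subgroup G).subtype := by
  intro h
  have h0 := npc_of_inf_le_frattini_rel P (conjSup (P : Subgroup G) K ⊔ (P : Subgroup G))
    (conjSup (P : Subgroup G) K) le_sup_right le_sup_left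
    (sup_le le_normalizer (conjSup_le_normalizer (P : Subgroup G) K)) h
  have h1 : HasNormalPComplement p ↥K :=
    Cfsg.Agent.Helper10.npc_of_le (le_conjSup (P : Subgroup G) K) h0
  exact Cfsg.Agent.Helper9.IsoRank.not_dvd_card_of_perfect_of_npc
    (Group.isPerfect_def.mp hK.2.1) h1 (IsComponent.dvd_card_of_pPrimeCore_eq_bot hcore hK)

/-- **P8.** With `F(G) = 1`, the Sylow subgroup `P` permutes the components transitively. -/
theorem exists_conj_of_components (P : Sylow p G) (hna : ¬ IsMulCommutative (P : Subgroup G))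
    (hgen : (frattini ↥(P : Subgroup G)).index = p ^ 2) (hcore : pPrimeCore p G = ⊥)
    (hF : fittingSubgroup G = ⊥) {K L : Subgroup G} (hK : IsComponent K) (hL : IsComponent L) :
    ∃ x ∈ (P : Subgroup G), L = K.map (MulAut.conj x).toMonoidHom := by
  by_contra hcon
  push Not at hcon
  have hcent : conjSup (P : Subgroup G) L ≤ centralizer (conjSup (P : Subgroup G) K : Set G) := by
    conv_lhs => unfold conjSup
    apply iSup_le
    intro u
    rw [le_centralizer_iff]
    apply conjSup_le_centralizer hK (isComponent_map_conj hL _)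
    intro v hv heq
    apply hcon ((u : G)⁻¹ * v) ((P : Subgroup G).mul_mem ((P : Subgroup G).inv_mem u.2) hv)
    rw [Cfsg.Agent.Helper7.map_conj_mul K, heq, ← Cfsg.Agent.Helper7.map_conj_mul L, inv_mul_cancel,
      map_conj_one_cn]
  have hinf : conjSup (P : Subgroup G) K ⊓ conjSup (P : Subgroup G) L = ⊥ := by
    rw [eq_bot_iff]
    intro x hx
    obtain ⟨hxa, hxb⟩ := Subgroup.mem_inf.mp hx
    have h1 := mem_fitting_inf_layer_of_mem_conjSup hK hxa (hcent hxb)
    rw [hF] at h1
    exact (Subgroup.mem_inf.mp h1).1
  exact inf_ne_bot P hna hgen _ _ (conjSup_le_normalizer (P : Subgroup G) K)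
    (conjSup_le_normalizer (P : Subgroup G) L) (not_conjSup_inf_le_frattini P hcore hK)
    (not_conjSup_inf_le_frattini P hcore hL) hinf

end Cfsg.Agent.Helper9.TwoGen
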