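import Mathlib
import Cfsg.Agent.Helper9.WardA

set_option autoImplicit false
set_option linter.style.haveILetI false
open Pointwise

/-! # Ward's theorem, part B: the abstract norm lemma (Lemma A*). -/

namespace Cfsg.Agent.Helper9.Ward

open Subgroup
open scoped commutatorElement IsMulCommutative
open Cfsg.Agent.Lead

variable {X : Type*} [Group X]

theorem isSolvable_zpowers (c : X) : Group.IsSolvable (zpowers c) :=
  isSolvable_of_isMulCommutative (zpowers c)

/-- **Lemma A\***: abstract norm argument. -/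
theorem lemma_Astar [Finite X] {Z Y N : Subgroup X} {c : X} [IsMulCommutative Z]
    (hYZ : Y ≤ normalizer (Z : Set X)) (hcop : (Nat.card Y).Coprime (Nat.card Z))
    (hcZ : c ∈ normalizer (Z : Set X)) (hcY : c ∈ normalizer (Y : Set X))
    (hcopY : (Nat.card (zpowers c)).Coprime (Nat.card Y))
    (hcopZ : (Nat.card (zpowers c)).Coprime (Nat.card Z))
    (hYc : Y ⊓ centralizer ({c} : Set X) = ⊥)
    (hNZ : N ≤ Z) (hD : ⁅Z, zpowers c⁆ ≤ N)
    (hy : ∀ y ∈ Y, (∀ d ∈ ⁅Z, zpowers c⁆, y * d * y⁻¹ ∈ N) ∨
        (∀ z ∈ Z ⊓ centralizer ({c} : Set X), y * z * y⁻¹ ∈ N)) :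
    ⁅Z, Y⁆ ≤ N := by
  have hCZ : zpowers c ≤ normalizer (Z : Set X) := (zpowers_le).mpr hcZ
  have hCY : zpowers c ≤ normalizer (Y : Set X) := (zpowers_le).mpr hcY
  have hCker : zpowers c ≤ actKer Z N := fun e he =>
    mem_actKer_of hNZ (fun x hx => hD (commutator_mem_commutator hx he))
  have hCN : zpowers c ≤ normalizer (N : Set X) := fun e he => (hCker he).1
  set Stab : Subgroup X := Y ⊓ actKer Z N with hStab
  have hCStab : zpowers c ≤ normalizer (Stab : Set X) := by
    apply le_normalizer_of_conj_mem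
    intro e he y hy
    exact ⟨conj_mem_of_le_normalizer hCY he hy.1, actKer_conj (hCZ he) (hCN he) hy.2⟩
  -- key dichotomy
  have hdich : ∀ y ∈ Y, y ∈ Stab ∨ ∀ z ∈ Z ⊓ centralizer ({c} : Set X), y * z * y⁻¹ ∈ N := by
    intro y hyY
    rcases hy y hyY with h1 | h1
    · left
      have hN'Z : MulAut.conj y⁻¹ • N ≤ Z := by
        intro x hx
        rw [mem_conj_smul, inv_inv] at hx
        have := conj_mem_of_le_normalizer' hYZ hyY (hNZ hx)
        have e : y⁻¹ * (y * x * y⁻¹) * y = x := by group
        rwa [e] at this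
      have hCker' : zpowers c ≤ actKer Z (MulAut.conj y⁻¹ • N) := by
        intro e he
        apply mem_actKer_of hN'Z
        intro x hx
        rw [mem_conj_smul, inv_inv]
        exact h1 _ (commutator_mem_commutator hx he)
      have hfix : ∀ a ∈ zpowers c, a * y * a⁻¹ * y⁻¹ ∈ Stab := by
        intro a ha
        refine ⟨?_, ?_⟩
        · exact Y.mul_mem (conj_mem_of_le_normalizer hCY ha hyY) (Y.inv_mem hyY)
        · have h2 : y * a⁻¹ * y⁻¹ ∈ actKer Z N :=
            actKer_conj' (hYZ hyY) (hCker' ((zpowers c).inv_mem ha))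
          have e : a * y * a⁻¹ * y⁻¹ = a * (y * a⁻¹ * y⁻¹) := by group
          rw [e]
          exact mul_mem (hCker ha) h2
      have hcopS : (Nat.card (zpowers c)).Coprime (Nat.card Stab) :=
        hcopY.coprime_dvd_right (Subgroup.card_dvd_of_le inf_le_left)
      have hsolv : Group.IsSolvable (zpowers c) ∨ Group.IsSolvable Stab :=
        Or.inl (isSolvable_zpowers c)
      obtain ⟨x, hxC, hxy⟩ :=
        coprime_invariant_coset_fixed (zpowers c) Stab hCStab hcopS hsolv y hfix
      have hxY : x ∈ Y := by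
        have : x = (x * y⁻¹) * y := by group
        rw [this]; exact Y.mul_mem hxy.1 hyY
      have hx1 : x = 1 := by
        have : x ∈ Y ⊓ centralizer ({c} : Set X) :=
          ⟨hxY, by rw [← centralizer_zpowers']; exact hxC⟩
        rw [hYc, mem_bot] at this; exact this
      rw [hx1, one_mul] at hxy
      have := Stab.inv_mem hxy
      rwa [inv_inv] at this
    · right; exact h1
  -- norm identity
  have hnorm : ∀ z ∈ Z ⊓ centralizer ({c} : Set X), z ∈ ⁅Z, Y⁆ → z ∈ N := by
    intro z hz hzW
    classical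
    haveI : Fintype Y := Fintype.ofFinite Y
    obtain ⟨w, hw, hwz⟩ := commutator_le_ker_traceMap Z Y hYZ hzW
    have hwz' : (w : X) = z := hwz
    have hw1 : traceMap Z Y hYZ w = 1 := hw
    rw [traceMap_apply] at hw1
    have h2 : QuotientGroup.mk' (N.subgroupOf Z)
        (∏ a : Y, conjEnd Z (inclusion hYZ a) w) = 1 := by rw [hw1, map_one]
    rw [map_prod] at h2
    have h3 : ∀ a : Y, QuotientGroup.mk' (N.subgroupOf Z) (conjEnd Z (inclusion hYZ a) w) =
        if (a : X) ∈ Stab then QuotientGroup.mk' (N.subgroupOf Z) w else 1 := by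
      intro a
      split_ifs with ha
      · symm
        rw [QuotientGroup.mk'_apply, QuotientGroup.mk'_apply, QuotientGroup.eq, mem_subgroupOf]
        have h4 := ha.2.2 (w : X)⁻¹ (Z.inv_mem w.2)
        have e : ((w⁻¹ * conjEnd Z (inclusion hYZ a) w : Z) : X) = ⁅(w : X)⁻¹, (a : X)⁆ := by
          rw [Subgroup.coe_mul, conjEnd_apply, commutatorElement_def]
          simp [mul_assoc]
        rw [e]; exact h4
      · rcases hdich a a.2 with h | h
        · exact absurd h ha
        · rw [QuotientGroup.mk'_apply, QuotientGroup.eq_one_iff, mem_subgroupOf, conjEnd_apply]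
          have := h z hz
          rw [← hwz'] at this
          exact this
    simp only [h3] at h2
    rw [Finset.prod_ite, Finset.prod_const, Finset.prod_const_one, mul_one] at h2
    set k := (Finset.univ.filter (fun a : Y => (a : X) ∈ Stab)).card with hk
    have hkdvd : k ∣ Nat.card Y := by
      have h5 : k = Nat.card (Stab.subgroupOf Y) := by
        rw [hk, Nat.card_eq_fintype_card, Fintype.card_subtype]
        rfl
      rw [h5]
      exact Subgroup.card_subgroup_dvd_card _
    have hzk : z ^ k ∈ N := by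
      rw [← map_pow, QuotientGroup.mk'_apply, QuotientGroup.eq_one_iff, mem_subgroupOf] at h2
      rw [← hwz']
      simpa using h2
    have hord : orderOf z ∣ Nat.card Z := by
      have : orderOf (⟨z, hz.1⟩ : Z) ∣ Nat.card Z := orderOf_dvd_natCard _
      rwa [Subgroup.orderOf_mk] at this
    have hcopk : k.Coprime (orderOf z) :=
      Nat.Coprime.coprime_dvd_left hkdvd (hcop.coprime_dvd_right hord)
    obtain ⟨m, hm⟩ := exists_pow_eq_self_of_coprime hcopk
    rw [← hm]
    exact N.pow_mem hzk m
  -- conclusion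
  have hWZ : ⁅Z, Y⁆ ≤ Z := commutator_le_of_le_normalizer hYZ
  have hCW : zpowers c ≤ normalizer ((⁅Z, Y⁆ : Subgroup X) : Set X) :=
    le_normalizer_commutator hCZ hCY
  have hdec := coprime_commutator_sup_centralizer (zpowers c) ⁅Z, Y⁆ hCW
    (hcopZ.coprime_dvd_right (card_dvd_of_le hWZ)) (Or.inl (isSolvable_zpowers c))
  rw [← hdec]
  apply sup_le
  · exact (commutator_mono hWZ le_rfl).trans hD
  · intro z hz
    have hzc : z ∈ centralizer ({c} : Set X) := by
      rw [← centralizer_zpowers']; exact hz.2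
    exact hnorm z ⟨hWZ hz.1, hzc⟩ hz.1

end Cfsg.Agent.Helper9.Ward
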