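import Mathlib
import Cfsg.Agent.Helper9.WardB
import Cfsg.Agent.S0033
import Cfsg.Agent.Helper23.NilpotentElts

set_option autoImplicit false
set_option linter.style.haveILetI false
open Pointwise

/-! # Ward's theorem, part C: the setup, nilpotent centralizers (Thompson), decomposition of `V`. -/

namespace Cfsg.Agent.Helper9.Ward

open Subgroup
open scoped commutatorElement IsMulCommutative
open Cfsg.Agent.Lead

variable {X : Type*} [Group X]

/-- conjugation by a normalizing element, as an automorphism of the subgroup. -/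
def conjEquiv (H : Subgroup X) (g : X) (hg : g ∈ normalizer (H : Set X)) : H ≃* H where
  toFun h := ⟨g * h * g⁻¹, (mem_normalizer_iff.mp hg h).mp h.2⟩
  invFun h := ⟨g⁻¹ * h * g, by
    have := (mem_normalizer_iff.mp (inv_mem hg) h).mp h.2
    rwa [inv_inv] at this⟩
  left_inv h := by apply Subtype.ext; simp only; group
  right_inv h := by apply Subtype.ext; simp only; group
  map_mul' a b := by apply Subtype.ext; simp only [Subgroup.coe_mul]; group

theorem conjEquiv_apply (H : Subgroup X) (g : X) (hg : g ∈ normalizer (H : Set X)) (h : H) :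
    ((conjEquiv H g hg h : H) : X) = g * h * g⁻¹ := rfl

theorem conjEquiv_pow_apply (H : Subgroup X) (g : X) (hg : g ∈ normalizer (H : Set X)) (n : ℕ)
    (h : H) : (((conjEquiv H g hg) ^ n) h : X) = g ^ n * h * (g ^ n)⁻¹ := by
  induction n generalizing h with
  | zero => simp
  | succ n ih =>
    rw [pow_succ', MulAut.mul_apply, conjEquiv_apply, ih, pow_succ']
    group

/-- **Thompson**: centralizers of nonidentity elements of `A` in an `A`-group without fixed points
are nilpotent. -/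
theorem nilpotent_centralizer [Finite X] {p : ℕ} {A L : Subgroup X} (hA : ElemSq p A)
    (hAL : A ≤ normalizer (L : Set X)) (hfpf : L ⊓ centralizer (A : Set X) = ⊥) {c : X}
    (hc : c ∈ A) (hc1 : c ≠ 1) : Group.IsNilpotent ↥(L ⊓ centralizer ({c} : Set X)) := by
  haveI := hA.comm
  obtain ⟨c', hc', hn⟩ := hA.exists_not_mem_zpowers c
  have hAH : A ≤ normalizer ((L ⊓ centralizer ({c} : Set X) : Subgroup X) : Set X) :=
    le_normalizer_inf hAL
      (le_normalizer_centralizer_singleton (fun b hb => comm_of_mem A hb hc))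
  set φ := conjEquiv (L ⊓ centralizer ({c} : Set X)) c' (hAH hc') with hφ
  have hfp : MonoidHom.FixedPointFree
      (φ : ↥(L ⊓ centralizer ({c} : Set X)) →* ↥(L ⊓ centralizer ({c} : Set X))) := by
    intro h hh
    have h1 : c' * (h : X) * c'⁻¹ = h := congrArg Subtype.val hh
    have h2 : (h : X) ∈ centralizer ({c'} : Set X) := by
      rw [mem_centralizer_iff]
      intro y hy
      rw [Set.mem_singleton_iff] at hy
      subst hy
      calc y * (h : X) = (y * h * y⁻¹) * y := by group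
        _ = h * y := by rw [h1]
    have h3 : (h : X) ∈ L ⊓ centralizer (A : Set X) :=
      ⟨h.2.1, hA.centralizer_inf_le hc hc1 hc' hn ⟨h.2.2, h2⟩⟩
    rw [hfpf, mem_bot] at h3
    exact Subtype.ext h3
  have hpow : φ ^ p = 1 := by
    ext h
    rw [conjEquiv_pow_apply, hA.exp c' hc']
    simp
  have hdvd : orderOf φ ∣ p := orderOf_dvd_of_pow_eq_one hpow
  rcases (Nat.dvd_prime hA.hp).mp hdvd with h1 | h1
  · have hφ1 : φ = 1 := orderOf_eq_one_iff.mp h1
    have : Subsingleton ↥(L ⊓ centralizer ({c} : Set X)) := ⟨fun a b => by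
      have ha := hfp a (by rw [hφ1]; rfl)
      have hb := hfp b (by rw [hφ1]; rfl)
      rw [ha, hb]⟩
    infer_instance
  · exact Cfsg.Agent.S0033.result φ hfp p hA.hp h1

/-- in a nilpotent subgroup, a `q`-element commutes with an element of order prime to `q`. -/
theorem commute_of_nilpotent [Finite X] {L : Subgroup X} (hL : Group.IsNilpotent L) {q : ℕ}
    [Fact q.Prime] {a b : X} (ha : a ∈ L) (hb : b ∈ L) (haq : ∃ n, orderOf a = q ^ n)
    (hbq : (orderOf b).Coprime q) : a * b = b * a := by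
  have h1 : IsPGroup q (zpowers (⟨a, ha⟩ : L)) := by
    obtain ⟨n, hn⟩ := haq
    apply IsPGroup.of_card (n := n)
    rw [Nat.card_zpowers, Subgroup.orderOf_mk, hn]
  have h2 : (orderOf (⟨b, hb⟩ : L)).Coprime q := by rwa [Subgroup.orderOf_mk]
  have := Cfsg.Agent.Helper23.commute_of_isNilpotent_of_coprime (⟨a, ha⟩ : L) ⟨b, hb⟩ h1 h2
  exact congrArg Subtype.val this.eq

theorem exists_orderOf_eq_of_isPGroup [Finite X] {q : ℕ} [Fact q.Prime] {Q : Subgroup X}
    (hQ : IsPGroup q Q) {x : X} (hx : x ∈ Q) : ∃ n, orderOf x = q ^ n := by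
  obtain ⟨n, hn⟩ := hQ ⟨x, hx⟩
  have h1 : x ^ q ^ n = 1 := by simpa using congrArg Subtype.val hn
  obtain ⟨k, -, hk⟩ := (Nat.dvd_prime_pow Fact.out).mp (orderOf_dvd_of_pow_eq_one h1)
  exact ⟨k, hk⟩

/-! ### the setup of Theorem W -/

/-- The setup: `V` a faithful irreducible `F_t[KA]`-module, `A` elementary abelian of order `p²`
acting without fixed points on `VK`. -/
structure WSetup (p t : ℕ) (V K A : Subgroup X) : Prop where
  hA : ElemSq p A
  ht : t.Prime
  htp : t ≠ p
  AK : A ≤ normalizer (K : Set X)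
  KV : K ≤ normalizer (V : Set X)
  AV : A ≤ normalizer (V : Set X)
  Vcomm : IsMulCommutative V
  Vexp : ∀ v ∈ V, v ^ t = 1
  Vne : V ≠ ⊥
  Kp : (Nat.card K).Coprime p
  faith : K ⊓ centralizer (V : Set X) = ⊥
  irr : ∀ U : Subgroup X, U ≤ V → K ≤ normalizer (U : Set X) → A ≤ normalizer (U : Set X) →
    U = ⊥ ∨ U = V
  fpf : (V ⊔ K) ⊓ centralizer (A : Set X) = ⊥

namespace WSetup

variable {p t : ℕ} {V K A : Subgroup X}

theorem fpfK (S : WSetup p t V K A) : K ⊓ centralizer (A : Set X) = ⊥ := by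
  rw [eq_bot_iff, ← S.fpf]
  exact inf_le_inf_right _ le_sup_right

theorem Acomm (S : WSetup p t V K A) {a b : X} (ha : a ∈ A) (hb : b ∈ A) : a * b = b * a := by
  haveI := S.hA.comm
  exact comm_of_mem A ha hb

theorem nil [Finite X] (S : WSetup p t V K A) {c : X} (hc : c ∈ A) (hc1 : c ≠ 1) :
    Group.IsNilpotent ↥((V ⊔ K) ⊓ centralizer ({c} : Set X)) :=
  nilpotent_centralizer S.hA (le_normalizer_sup S.AV S.AK) S.fpf hc hc1

/-- a `q`-element and a `q'`-element of `C_{VK}(c)` commute. -/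
theorem commute [Finite X] (S : WSetup p t V K A) {c : X} (hc : c ∈ A) (hc1 : c ≠ 1) {q : ℕ}
    [Fact q.Prime] {a b : X} (ha : a ∈ V ⊔ K) (hac : a ∈ centralizer ({c} : Set X))
    (hb : b ∈ V ⊔ K) (hbc : b ∈ centralizer ({c} : Set X)) (haq : ∃ n, orderOf a = q ^ n)
    (hbq : (orderOf b).Coprime q) : a * b = b * a :=
  commute_of_nilpotent (S.nil hc hc1) ⟨ha, hac⟩ ⟨hb, hbc⟩ haq hbq

theorem orderOf_V_coprime (S : WSetup p t V K A) {q : ℕ} (hq : q.Prime) (hqt : q ≠ t) {v : X}
    (hv : v ∈ V) : (orderOf v).Coprime q := by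
  have h1 : orderOf v ∣ t := orderOf_dvd_of_pow_eq_one (S.Vexp v hv)
  exact Nat.Coprime.coprime_dvd_left h1 ((Nat.coprime_primes S.ht hq).mpr hqt.symm)

theorem V_isPGroup (S : WSetup p t V K A) : IsPGroup t V := isPGroup_of_exp V S.Vexp

end WSetup


/-! ### an abelian normal `q`-subgroup `Z` -/

/-- `C_V([Z, c])`. -/
def Vc (V Z : Subgroup X) (c : X) : Subgroup X :=
  V ⊓ centralizer ((⁅Z, zpowers c⁆ : Subgroup X) : Set X)

/-- `Z` an abelian normal `q`-subgroup of `KA` inside `K`, `q ≠ t`. -/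
structure ZSetup (p t q : ℕ) (V K A Z : Subgroup X) : Prop extends WSetup p t V K A where
  hq : q.Prime
  hqt : q ≠ t
  ZK : Z ≤ K
  Zq : IsPGroup q Z
  KZ : K ≤ normalizer (Z : Set X)
  AZ : A ≤ normalizer (Z : Set X)
  Zcomm : IsMulCommutative Z
  Zne : Z ≠ ⊥

namespace ZSetup

variable {p t q : ℕ} {V K A Z : Subgroup X}

theorem ZV (S : ZSetup p t q V K A Z) : Z ≤ normalizer (V : Set X) := S.ZK.trans S.KV

theorem ZZ (S : ZSetup p t q V K A Z) : Z ≤ normalizer (Z : Set X) := le_normalizer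

theorem VcZ (S : ZSetup p t q V K A Z) : V ⊓ centralizer (Z : Set X) = ⊥ := by
  rcases S.irr (V ⊓ centralizer (Z : Set X)) inf_le_left
    (le_normalizer_inf S.KV (le_normalizer_centralizer S.KZ))
    (le_normalizer_inf S.AV (le_normalizer_centralizer S.AZ)) with h | h
  · exact h
  · exfalso
    apply S.Zne
    have h1 : V ≤ centralizer (Z : Set X) := by rw [← h]; exact inf_le_right
    have h2 : Z ≤ centralizer (V : Set X) := le_centralizer_iff.mp h1
    rw [eq_bot_iff, ← S.faith]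
    exact le_inf S.ZK h2

theorem copKp (S : ZSetup p t q V K A Z) {H : Subgroup X} (hH : H ≤ K) [Finite X] :
    (Nat.card H).Coprime p :=
  S.Kp.coprime_dvd_left (Subgroup.card_dvd_of_le hH)

theorem copAZ [Finite X] (S : ZSetup p t q V K A Z) : (Nat.card A).Coprime (Nat.card Z) := by
  rw [S.hA.card]
  exact ((S.copKp S.ZK).pow_right 2).symm

theorem cop_zpowers [Finite X] (S : ZSetup p t q V K A Z) {c : X} (hc : c ∈ A) {H : Subgroup X}
    (hH : H ≤ K) : (Nat.card (zpowers c)).Coprime (Nat.card H) := by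
  have h1 : Nat.card (zpowers c) ∣ p ^ 2 := by
    rw [← S.hA.card]; exact Subgroup.card_dvd_of_le (S.hA.zpowers_le_self hc)
  exact Nat.Coprime.coprime_dvd_left h1 ((S.copKp hH).pow_right 2).symm

theorem Zgen [Finite X] (S : ZSetup p t q V K A Z) :
    (⨆ a ∈ {a : X | a ∈ A ∧ a ≠ 1}, Z ⊓ centralizer {a}) = Z := by
  haveI := S.hA.comm
  exact generated_by_centralizers A Z S.hA.not_isCyclic S.AZ S.copAZ

theorem orderOf_Z [Finite X] (S : ZSetup p t q V K A Z) {g : X} (hg : g ∈ Z) :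
    ∃ n, orderOf g = q ^ n := by
  haveI : Fact q.Prime := ⟨S.hq⟩
  exact exists_orderOf_eq_of_isPGroup S.Zq hg

theorem centZ [Finite X] (S : ZSetup p t q V K A Z) {c : X} (hc : c ∈ A) (hc1 : c ≠ 1) :
    Z ⊓ centralizer ({c} : Set X) ≤
      centralizer ((V ⊓ centralizer ({c} : Set X) : Subgroup X) : Set X) := by
  haveI : Fact q.Prime := ⟨S.hq⟩
  intro g hg
  rw [mem_centralizer_iff]
  intro v hv
  exact (S.commute hc hc1 (q := q) (le_sup_right (a := V) (S.ZK hg.1)) hg.2
    (le_sup_left (b := K) hv.1) hv.2 (S.orderOf_Z hg.1)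
    (S.orderOf_V_coprime S.hq S.hqt hv.1)).symm

theorem A_norm_cent (S : ZSetup p t q V K A Z) {c : X} (hc : c ∈ A) :
    A ≤ normalizer ((centralizer ({c} : Set X) : Subgroup X) : Set X) :=
  le_normalizer_centralizer_singleton (fun _ hb => S.Acomm hb hc)

theorem A_norm_zpowers (S : ZSetup p t q V K A Z) {c : X} (hc : c ∈ A) :
    A ≤ normalizer ((zpowers c : Subgroup X) : Set X) :=
  le_normalizer_zpowers (fun _ hb => S.Acomm hb hc)

theorem A_norm_zc (S : ZSetup p t q V K A Z) {c : X} (hc : c ∈ A) :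
    A ≤ normalizer ((Z ⊓ centralizer ({c} : Set X) : Subgroup X) : Set X) :=
  le_normalizer_inf S.AZ (S.A_norm_cent hc)

theorem Z_norm_sub (S : ZSetup p t q V K A Z) {T : Subgroup X} (hT : T ≤ Z) :
    Z ≤ normalizer (T : Set X) := by
  haveI := S.Zcomm
  exact le_normalizer_of_le_comm hT

theorem A_norm_Dc (S : ZSetup p t q V K A Z) {c : X} (hc : c ∈ A) :
    A ≤ normalizer ((⁅Z, zpowers c⁆ : Subgroup X) : Set X) :=
  le_normalizer_commutator S.AZ (S.A_norm_zpowers hc)

theorem Dc_le (S : ZSetup p t q V K A Z) {c : X} (hc : c ∈ A) : ⁅Z, zpowers c⁆ ≤ Z :=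
  commutator_le_of_le_normalizer ((S.hA.zpowers_le_self hc).trans S.AZ)

theorem A_norm_Vc (S : ZSetup p t q V K A Z) {c : X} (hc : c ∈ A) :
    A ≤ normalizer ((Vc V Z c : Subgroup X) : Set X) :=
  le_normalizer_inf S.AV (le_normalizer_centralizer (S.A_norm_Dc hc))

theorem Z_norm_Vc (S : ZSetup p t q V K A Z) {c : X} (hc : c ∈ A) :
    Z ≤ normalizer ((Vc V Z c : Subgroup X) : Set X) :=
  le_normalizer_inf S.ZV (le_normalizer_centralizer (S.Z_norm_sub (S.Dc_le hc)))

theorem Vc_le (V Z : Subgroup X) (c : X) : Vc V Z c ≤ V := inf_le_left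

/-- (L0b) `C_Z(c) ≤ [Z, c']` for `c' ∉ ⟨c⟩`. -/
theorem L0b [Finite X] (S : ZSetup p t q V K A Z) {c c' : X} (hc : c ∈ A) (hc1 : c ≠ 1)
    (hc' : c' ∈ A) (hn : c' ∉ zpowers c) :
    Z ⊓ centralizer ({c} : Set X) ≤ ⁅Z, zpowers c'⁆ := by
  set T := Z ⊓ centralizer ({c} : Set X) with hT
  have hTK : T ≤ K := inf_le_left.trans S.ZK
  have h1 : zpowers c' ≤ normalizer (T : Set X) :=
    (S.hA.zpowers_le_self hc').trans (S.A_norm_zc hc)
  have h2 := coprime_commutator_sup_centralizer (zpowers c') T h1 (S.cop_zpowers hc' hTK)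
    (Or.inl (isSolvable_zpowers c'))
  have h3 : T ⊓ centralizer ((zpowers c' : Subgroup X) : Set X) = ⊥ := by
    rw [eq_bot_iff, ← S.fpfK, centralizer_zpowers']
    intro x hx
    exact ⟨hTK hx.1, S.hA.centralizer_inf_le hc hc1 hc' hn ⟨hx.1.2, hx.2⟩⟩
  rw [h3, sup_bot_eq] at h2
  rw [← h2]
  exact commutator_mono inf_le_left le_rfl

theorem copAZt [Finite X] (S : ZSetup p t q V K A Z) : (Nat.card ↥(A ⊔ Z)).Coprime t := by
  haveI : Fact q.Prime := ⟨S.hq⟩
  have h1 := card_sup_dvd_mul S.AZ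
  apply Nat.Coprime.coprime_dvd_left h1
  apply Nat.Coprime.mul_left
  · rw [S.hA.card]
    exact ((Nat.coprime_primes S.hA.hp S.ht).mpr S.htp.symm).pow_left 2
  · obtain ⟨n, hn⟩ := S.Zq.exists_card_eq
    rw [hn]
    exact ((Nat.coprime_primes S.hq S.ht).mpr S.hqt).pow_left n

/-- (L1) `V` is generated by the subgroups `C_V([Z, c])`. -/
theorem L1 [Finite X] (S : ZSetup p t q V K A Z) :
    (⨆ c ∈ {c : X | c ∈ A ∧ c ≠ 1}, Vc V Z c) = V := by
  haveI := S.Vcomm
  haveI := S.Zcomm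
  haveI : Fact t.Prime := ⟨S.ht⟩
  set V' := ⨆ c ∈ {c : X | c ∈ A ∧ c ≠ 1}, Vc V Z c with hV'
  have hV'V : V' ≤ V := iSup₂_le fun c _ => Vc_le V Z c
  by_contra hne
  set B := A ⊔ Z with hB
  have hBV : B ≤ normalizer (V : Set X) := sup_le S.AV S.ZV
  have hBV' : B ≤ normalizer (V' : Set X) := by
    apply le_normalizer_iSup'
    intro c
    apply le_normalizer_iSup'
    intro hc
    exact sup_le (S.A_norm_Vc hc.1) (S.Z_norm_Vc hc.1)
  obtain ⟨V₁, hV₁V, hBV₁, hinf, hsup⟩ := maschke' S.ht V B V' S.Vexp hBV S.copAZt hV'V hBV'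
  have hV₁ne : V₁ ≠ ⊥ := by
    intro h
    rw [h, sup_bot_eq] at hsup
    exact hne hsup
  obtain ⟨M, hMV₁, hM⟩ := exists_minInv hV₁ne hBV₁
  have hMV : M ≤ V := hMV₁.trans hV₁V
  have hAM : A ≤ normalizer (M : Set X) := le_sup_left.trans hM.2.1
  have hZM : Z ≤ normalizer (M : Set X) := le_sup_right.trans hM.2.1
  have hMnot : ¬ M ≤ V' := by
    intro h
    apply hM.1
    rw [eq_bot_iff, ← hinf]
    exact le_inf h hMV₁
  -- Step 1: some c₀ acts fixed point freely on M
  have hstep1 : ∃ c₀, c₀ ∈ A ∧ c₀ ≠ 1 ∧ M ⊓ centralizer ({c₀} : Set X) = ⊥ := by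
    by_contra hcon
    push Not at hcon
    have hall : ∀ c, c ∈ A → c ≠ 1 →
        Z ⊓ centralizer ({c} : Set X) ≤ centralizer (M : Set X) := by
      intro c hc hc1
      set T := Z ⊓ centralizer ({c} : Set X) with hT
      have hBT : B ≤ normalizer (T : Set X) :=
        sup_le (S.A_norm_zc hc) (S.Z_norm_sub inf_le_left)
      have hM₁ : B ≤ normalizer ((M ⊓ centralizer (T : Set X) : Subgroup X) : Set X) :=
        le_normalizer_inf hM.2.1 (le_normalizer_centralizer hBT)
      rcases hM.2.2 _ inf_le_left hM₁ with h | h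
      · exfalso
        apply hcon c hc hc1
        rw [eq_bot_iff, ← h]
        intro x hx
        refine ⟨hx.1, ?_⟩
        have h2 : V ⊓ centralizer ({c} : Set X) ≤ centralizer (T : Set X) :=
          le_centralizer_iff.mp (S.centZ hc hc1)
        exact h2 ⟨hMV hx.1, hx.2⟩
      · have : M ≤ centralizer (T : Set X) := by rw [← h]; exact inf_le_right
        exact le_centralizer_iff.mp this
    have hZM' : Z ≤ centralizer (M : Set X) := by
      rw [← S.Zgen]
      exact iSup₂_le fun c hc => hall c hc.1 hc.2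
    apply hM.1
    rw [eq_bot_iff, ← S.VcZ]
    exact le_inf hMV (le_centralizer_iff.mp hZM')
  obtain ⟨c₀, hc₀, hc₀1, hMc₀⟩ := hstep1
  -- Step 2: C_Z(c') centralizes M for c' ∉ ⟨c₀⟩
  have hstep2 : ∀ c', c' ∈ A → c' ∉ zpowers c₀ →
      Z ⊓ centralizer ({c'} : Set X) ≤ centralizer (M : Set X) := by
    intro c' hc' hn
    by_contra hcon
    have hcon' : ¬ M ≤ centralizer ((Z ⊓ centralizer ({c'} : Set X) : Subgroup X) : Set X) :=
      fun h => hcon (le_centralizer_iff.mp h)
    haveI : IsMulCommutative M := isMulCommutative_of_le hMV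
    have hT0B : Z ⊓ centralizer ({c'} : Set X) ⊔ zpowers c₀ ≤ B :=
      sup_le (inf_le_left.trans le_sup_right) ((S.hA.zpowers_le_self hc₀).trans le_sup_left)
    have := fix_ne_bot' (N := M) (T0 := Z ⊓ centralizer ({c'} : Set X)) (R := zpowers c₀)
      (isSolvable_of_isMulCommutative M)
      ((S.hA.zpowers_le_self hc₀).trans (S.A_norm_zc hc'))
      ?_ (hT0B.trans hM.2.1) ?_ hcon'
    · apply this
      rw [centralizer_zpowers']; exact hMc₀
    · intro e he he1 u hu heu
      have h1 : zpowers e = zpowers c₀ := S.hA.zpowers_eq_of_mem hc₀ hc₀1 he he1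
      have h2 : u ∈ centralizer ({c₀} : Set X) := by
        rw [← centralizer_singleton_eq_of_zpowers_eq h1, mem_centralizer_iff]
        intro y hy
        rw [Set.mem_singleton_iff] at hy
        subst hy
        exact heu
      have h3 : u ∈ K ⊓ centralizer (A : Set X) :=
        ⟨S.ZK hu.1, S.hA.centralizer_inf_le hc₀ hc₀1 hc' hn ⟨h2, hu.2⟩⟩
      rw [S.fpfK, mem_bot] at h3
      exact h3
    · have h1 : Nat.card ↥(Z ⊓ centralizer ({c'} : Set X) ⊔ zpowers c₀) ∣ Nat.card B :=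
        Subgroup.card_dvd_of_le hT0B
      obtain ⟨n, hn⟩ := (S.V_isPGroup.to_le hMV).exists_card_eq
      rw [hn]
      exact (Nat.Coprime.coprime_dvd_left h1 S.copAZt).symm.pow_left n
  -- Step 3
  set W := Z ⊓ centralizer (M : Set X) with hW
  have hZle : Z ≤ W ⊔ (Z ⊓ centralizer ({c₀} : Set X)) := by
    conv_lhs => rw [← S.Zgen]
    apply iSup₂_le
    intro c hc
    by_cases hcc : c ∈ zpowers c₀
    · rw [centralizer_singleton_eq_of_zpowers_eq (S.hA.zpowers_eq_of_mem hc₀ hc₀1 hcc hc.2)]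
      exact le_sup_right
    · exact le_trans (le_inf inf_le_left (hstep2 c hc.1 hcc)) le_sup_left
  have hDW : ⁅Z, zpowers c₀⁆ ≤ W := by
    apply commutator_le_of_le_sup_centralizer (M := W)
      (D := Z ⊓ centralizer ({c₀} : Set X)) _ _ _ hZle
    · exact (S.hA.zpowers_le_self hc₀).trans
        (le_normalizer_inf S.AZ (le_normalizer_centralizer hAM))
    · exact inf_le_left.trans (S.Z_norm_sub inf_le_left)
    · rw [centralizer_zpowers']; exact inf_le_right
  apply hMnot
  have : M ≤ Vc V Z c₀ := le_inf hMV (le_centralizer_iff.mp (hDW.trans inf_le_right))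
  exact this.trans (le_iSup₂_of_le c₀ ⟨hc₀, hc₀1⟩ le_rfl)

end ZSetup


end Cfsg.Agent.Helper9.Ward
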