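import Mathlib
import Cfsg.Agent.Helper9.WardC

set_option autoImplicit false
set_option linter.style.haveILetI false
open Pointwise

/-! # Ward's theorem, part D: minimal `Z`-submodules and Lemma A (`Y_b` centralizes `Z`). -/

namespace Cfsg.Agent.Helper9.Ward

open Subgroup
open scoped commutatorElement IsMulCommutative
open Cfsg.Agent.Lead

variable {X : Type*} [Group X]

namespace ZSetup

variable {p t q : ℕ} {V K A Z : Subgroup X}

theorem L1'_aux [Finite X] (S : ZSetup p t q V K A Z) {M : Subgroup X} (hM : MinInv Z M) :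
    ∀ F : Finset X, (∀ c ∈ F, c ∈ A ∧ c ≠ 1) → M ≤ (⨆ c ∈ F, Vc V Z c) →
      ∃ c ∈ F, M ≤ Vc V Z c := by
  classical
  haveI := S.Vcomm
  intro F
  induction F using Finset.induction_on with
  | empty =>
    intro _ hle
    simp only [Finset.notMem_empty, not_false_eq_true, iSup_neg, iSup_bot, le_bot_iff] at hle
    exact absurd hle hM.1
  | insert c F hcF ih =>
    intro hF hle
    rw [Finset.iSup_insert] at hle
    set W' := ⨆ x ∈ F, Vc V Z x with hW'
    have hcA : c ∈ A := (hF c (Finset.mem_insert_self c F)).1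
    have hF' : ∀ c ∈ F, c ∈ A ∧ c ≠ 1 := fun x hx => hF x (Finset.mem_insert_of_mem hx)
    have hW'V : W' ≤ V := iSup₂_le fun x _ => Vc_le V Z x
    have hZW' : Z ≤ normalizer (W' : Set X) := by
      apply le_normalizer_iSup'
      intro x
      apply le_normalizer_iSup'
      intro hx
      exact S.Z_norm_Vc (hF' x hx).1
    have hMV : M ≤ V := hle.trans (sup_le (Vc_le V Z c) hW'V)
    by_cases h : M ≤ W'
    · obtain ⟨c', hc', hc'M⟩ := ih hF' h
      exact ⟨c', Finset.mem_insert_of_mem hc', hc'M⟩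
    · refine ⟨c, Finset.mem_insert_self c F, le_inf hMV ?_⟩
      have hbot : M ⊓ W' = ⊥ := by
        rcases hM.2.2 (M ⊓ W') inf_le_left (le_normalizer_inf hM.2.1 hZW') with h1 | h1
        · exact h1
        · exact absurd (h1 ▸ inf_le_right) h
      intro x hx
      rw [mem_centralizer_iff]
      intro z hz
      have hzZ : z ∈ Z := S.Dc_le hcA hz
      have hx' : x ∈ ((Vc V Z c ⊔ W' : Subgroup X) : Set X) := hle hx
      rw [coe_mul_of_left_le_normalizer_right (Vc V Z c) W'
        ((Vc_le V Z c).trans (le_normalizer_of_le_comm hW'V))] at hx'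
      obtain ⟨u, hu, w, hw, rfl⟩ := Set.mem_mul.mp hx'
      have hzu : z * u = u * z := (mem_centralizer_iff.mp hu.2) z hz
      set k := z * w * z⁻¹ * w⁻¹ with hk
      have hkW : k ∈ W' := W'.mul_mem (conj_mem_of_le_normalizer hZW' hzZ hw) (W'.inv_mem hw)
      have hkM : k ∈ M := by
        have h1 : z * (u * w) * z⁻¹ * (u * w)⁻¹ ∈ M :=
          M.mul_mem (conj_mem_of_le_normalizer hM.2.1 hzZ hx) (M.inv_mem hx)
        have e1 : z * (u * w) * z⁻¹ * (u * w)⁻¹ = u * k * u⁻¹ := by
          rw [show z * (u * w) = u * (z * w) by rw [← mul_assoc, hzu, mul_assoc], hk]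
          group
        have e2 : u * k * u⁻¹ = k := by
          rw [comm_of_mem V hu.1 (hW'V hkW), mul_assoc, mul_inv_cancel, mul_one]
        rwa [e1, e2] at h1
      have hk1 : k = 1 := by
        have : k ∈ M ⊓ W' := ⟨hkM, hkW⟩
        rwa [hbot, mem_bot] at this
      have hzw : z * w = w * z := by
        have : z * w * z⁻¹ * w⁻¹ = 1 := hk1
        calc z * w = (z * w * z⁻¹ * w⁻¹) * w * z := by group
          _ = w * z := by rw [this, one_mul]
      rw [← mul_assoc, hzu, mul_assoc, hzw, mul_assoc]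

/-- (L1') a minimal `Z`-invariant subgroup of `V` lies in some `C_V([Z, c])`. -/
theorem L1' [Finite X] (S : ZSetup p t q V K A Z) {M : Subgroup X} (hM : MinInv Z M)
    (hMV : M ≤ V) : ∃ c, c ∈ A ∧ c ≠ 1 ∧ M ≤ Vc V Z c := by
  classical
  have hfin : {c : X | c ∈ A ∧ c ≠ 1}.Finite := Set.toFinite _
  have h1 : (⨆ c ∈ hfin.toFinset, Vc V Z c) = ⨆ c ∈ {c : X | c ∈ A ∧ c ≠ 1}, Vc V Z c := by
    simp only [Set.Finite.mem_toFinset]
  obtain ⟨c, hc, h⟩ := S.L1'_aux hM hfin.toFinset (fun c hc => hfin.mem_toFinset.mp hc)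
    (by rw [h1, S.L1]; exact hMV)
  have := hfin.mem_toFinset.mp hc
  exact ⟨c, this.1, this.2, h⟩

/-- **Lemma A**: an `A`-invariant `q'`-subgroup of `C_K(b)` centralizes `Z`. -/
theorem lemmaA [Finite X] (S : ZSetup p t q V K A Z) {b : X} (hb : b ∈ A) (hb1 : b ≠ 1)
    {Y : Subgroup X} (hYK : Y ≤ K) (hYb : Y ≤ centralizer ({b} : Set X))
    (hAY : A ≤ normalizer (Y : Set X)) (hYq : (Nat.card Y).Coprime q) :
    Y ≤ centralizer (Z : Set X) := by
  haveI := S.Vcomm
  haveI := S.Zcomm
  haveI : Fact q.Prime := ⟨S.hq⟩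
  have hYZ : Y ≤ normalizer (Z : Set X) := hYK.trans S.KZ
  have hYV : Y ≤ normalizer (V : Set X) := hYK.trans S.KV
  set W := ⁅Z, Y⁆ with hW
  have hWZ : W ≤ Z := commutator_le_of_le_normalizer hYZ
  have hYcb : Z ⊓ centralizer ({b} : Set X) ≤ centralizer (Y : Set X) := by
    intro g hg
    rw [mem_centralizer_iff]
    intro y hy
    exact (S.commute hb hb1 (q := q) (le_sup_right (a := V) (S.ZK hg.1)) hg.2
      (le_sup_right (a := V) (hYK hy)) (hYb hy) (S.orderOf_Z hg.1)
      (Nat.Coprime.coprime_dvd_left (Subgroup.orderOf_dvd_natCard Y hy) hYq)).symm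
  have hYDb : Y ≤ normalizer ((⁅Z, zpowers b⁆ : Subgroup X) : Set X) :=
    le_normalizer_commutator hYZ (le_normalizer_zpowers (fun y hy =>
      ((mem_centralizer_iff.mp (hYb hy)) b rfl).symm))
  have heasy : ∀ N : Subgroup X, ⁅Z, zpowers b⁆ ≤ N → W ≤ N := by
    intro N hN
    refine le_trans ?_ hN
    apply commutator_le_of_le_sup_centralizer (M := ⁅Z, zpowers b⁆)
      (D := Z ⊓ centralizer ({b} : Set X)) hYDb
    · exact inf_le_left.trans (le_normalizer_commutator_left Z (zpowers b))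
    · exact hYcb
    · have h := coprime_commutator_sup_centralizer (zpowers b) Z
        ((S.hA.zpowers_le_self hb).trans S.AZ) (S.cop_zpowers hb S.ZK)
        (Or.inl (isSolvable_zpowers b))
      rw [centralizer_zpowers'] at h
      exact h.ge
  have hclaim : ∀ M : Subgroup X, MinInv Z M → M ≤ V → W ≤ centralizer (M : Set X) := by
    intro M hM hMV
    set N := Z ⊓ centralizer (M : Set X) with hN
    suffices W ≤ N from this.trans inf_le_right
    by_cases hbN : ⁅Z, zpowers b⁆ ≤ N
    · exact heasy N hbN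
    obtain ⟨c, hc, hc1, hMc⟩ := S.L1' hM hMV
    have hDN : ⁅Z, zpowers c⁆ ≤ N :=
      le_inf (S.Dc_le hc) (le_centralizer_iff.mp (hMc.trans inf_le_right))
    have hcb : c ∉ zpowers b := by
      intro h
      apply hbN
      rw [← S.hA.zpowers_eq_of_mem hb hb1 h hc1]
      exact hDN
    apply lemma_Astar (c := c) hYZ ?_ (S.AZ hc) (hAY hc) (S.cop_zpowers hc hYK)
      (S.cop_zpowers hc S.ZK) ?_ inf_le_left hDN ?_
    · obtain ⟨n, hn⟩ := S.Zq.exists_card_eq
      rw [hn]; exact hYq.pow_right n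
    · rw [eq_bot_iff, ← S.fpfK]
      intro x hx
      exact ⟨hYK hx.1, S.hA.centralizer_inf_le hb hb1 hc hcb ⟨hYb hx.1, hx.2⟩⟩
    · intro y hy
      have hyZ : y⁻¹ ∈ normalizer (Z : Set X) := inv_mem (hYZ hy)
      have hM'' : MinInv Z (MulAut.conj y⁻¹ • M) := hM.conj hyZ
      have hM''V : MulAut.conj y⁻¹ • M ≤ V := by
        intro x hx
        rw [mem_conj_smul, inv_inv] at hx
        have := conj_mem_of_le_normalizer' hYV hy (hMV hx)
        have e : y⁻¹ * (y * x * y⁻¹) * y = x := by group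
        rwa [e] at this
      obtain ⟨c'', hc'', hc''1, hMc''⟩ := S.L1' hM'' hM''V
      have hkey : ∀ d ∈ ⁅Z, zpowers c''⁆, y * d * y⁻¹ ∈ N := by
        intro d hd
        refine Subgroup.mem_inf.mpr ⟨conj_mem_of_le_normalizer hYZ hy (S.Dc_le hc'' hd), ?_⟩
        rw [mem_centralizer_iff]
        intro m hm
        have hm' : y⁻¹ * m * y ∈ MulAut.conj y⁻¹ • M := by
          rw [mem_conj_smul, inv_inv]
          have e : y * (y⁻¹ * m * y) * y⁻¹ = m := by group
          rw [e]; exact hm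
        have h1 := (mem_centralizer_iff.mp (hMc'' hm').2) d hd
        calc m * (y * d * y⁻¹) = y * ((y⁻¹ * m * y) * d) * y⁻¹ := by group
          _ = y * (d * (y⁻¹ * m * y)) * y⁻¹ := by rw [h1]
          _ = y * d * y⁻¹ * m := by group
      by_cases h1 : c'' ∈ zpowers b
      · exfalso
        apply hbN
        rw [S.hA.zpowers_eq_of_mem hb hb1 h1 hc''1] at hkey
        intro d hd
        have hd' := conj_mem_of_le_normalizer' hYDb hy hd
        have := hkey _ hd'
        have e : y * (y⁻¹ * d * y) * y⁻¹ = d := by group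
        rwa [e] at this
      · by_cases h2 : c'' ∈ zpowers c
        · left
          rw [← S.hA.zpowers_eq_of_mem hc hc1 h2 hc''1]
          exact hkey
        · right
          intro z hz
          exact hkey z (S.L0b hc hc1 hc'' h2 hz)
  -- conclusion: `W` centralizes `V`
  have hWV : W ≤ centralizer (V : Set X) := by
    apply le_centralizer_iff.mp
    have hZU : Z ≤ normalizer ((V ⊓ centralizer (W : Set X) : Subgroup X) : Set X) :=
      le_normalizer_inf S.ZV (le_normalizer_centralizer (S.Z_norm_sub hWZ))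
    have hcopZt : (Nat.card Z).Coprime t := by
      obtain ⟨n, hn⟩ := S.Zq.exists_card_eq
      rw [hn]
      exact ((Nat.coprime_primes S.hq S.ht).mpr S.hqt).pow_left n
    obtain ⟨U₁, hU₁V, hZU₁, hinf, hsup⟩ :=
      maschke' S.ht V Z (V ⊓ centralizer (W : Set X)) S.Vexp S.ZV hcopZt inf_le_left hZU
    by_cases hU₁ : U₁ = ⊥
    · rw [hU₁, sup_bot_eq] at hsup
      rw [← hsup]; exact inf_le_right
    · exfalso
      obtain ⟨M, hMU₁, hM⟩ := exists_minInv hU₁ hZU₁
      have hMV : M ≤ V := hMU₁.trans hU₁V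
      have h1 : M ≤ centralizer (W : Set X) := le_centralizer_iff.mp (hclaim M hM hMV)
      apply hM.1
      rw [eq_bot_iff, ← hinf]
      exact le_inf (le_inf hMV h1) hMU₁
  have hW0 : W = ⊥ := by
    rw [eq_bot_iff, ← S.faith]
    exact le_inf (hWZ.trans S.ZK) hWV
  rw [← commutator_eq_bot_iff_le_centralizer, commutator_comm]
  exact hW0

end ZSetup

end Cfsg.Agent.Helper9.Ward
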