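import Mathlib
import Cfsg.Agent.Helper9.WardD

set_option autoImplicit false
set_option linter.style.haveILetI false
open Pointwise

/-! # Ward's theorem, part E: the Key Lemma (`Y_b` centralizes a normal `q`-subgroup `Q`). -/

namespace Cfsg.Agent.Helper9.Ward

open Subgroup
open scoped commutatorElement IsMulCommutative
open Cfsg.Agent.Lead

variable {X : Type*} [Group X]

/-- the centre of `Q`, as a subgroup of the ambient group. -/
def zOf (Q : Subgroup X) : Subgroup X := Q ⊓ centralizer (Q : Set X)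

theorem zOf_comm (Q : Subgroup X) : IsMulCommutative (zOf Q) := by
  refine ⟨⟨fun a b => Subtype.ext ?_⟩⟩
  have ha := (Subgroup.mem_inf.mp a.2).2
  rw [mem_centralizer_iff] at ha
  exact (ha b (Subgroup.mem_inf.mp b.2).1).symm

theorem zOf_ne_bot [Finite X] {q : ℕ} [Fact q.Prime] {Q : Subgroup X} (hQ : IsPGroup q Q)
    (hQ1 : Q ≠ ⊥) : zOf Q ≠ ⊥ := by
  have : Nontrivial Q := (Subgroup.nontrivial_iff_ne_bot Q).mpr hQ1
  have hcen := hQ.center_nontrivial
  obtain ⟨c, hc1⟩ := exists_ne (1 : Subgroup.center Q)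
  intro hbot
  have hmem : ((c : Q) : X) ∈ zOf Q := by
    refine Subgroup.mem_inf.mpr ⟨(c : Q).2, ?_⟩
    rw [Subgroup.mem_centralizer_iff]
    intro y hy
    have := Subgroup.mem_center_iff.mp c.2 ⟨y, hy⟩
    exact congrArg Subtype.val this
  rw [hbot, Subgroup.mem_bot] at hmem
  exact hc1 (Subtype.ext (Subtype.ext hmem))

/-- `Q` a nontrivial normal `q`-subgroup of `KA` inside `K`, `q ≠ t`. -/
structure QSetup (p t q : ℕ) (V K A Q : Subgroup X) : Prop extends WSetup p t V K A where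
  hq : q.Prime
  hqt : q ≠ t
  QK : Q ≤ K
  Qq : IsPGroup q Q
  KQ : K ≤ normalizer (Q : Set X)
  AQ : A ≤ normalizer (Q : Set X)
  Qne : Q ≠ ⊥

namespace QSetup

variable {p t q : ℕ} {V K A Q : Subgroup X}

theorem toZSetup [Finite X] (S : QSetup p t q V K A Q) : ZSetup p t q V K A (zOf Q) where
  toWSetup := S.toWSetup
  hq := S.hq
  hqt := S.hqt
  ZK := inf_le_left.trans S.QK
  Zq := S.Qq.to_le inf_le_left
  KZ := le_normalizer_inf S.KQ (le_normalizer_centralizer S.KQ)
  AZ := le_normalizer_inf S.AQ (le_normalizer_centralizer S.AQ)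
  Zcomm := zOf_comm Q
  Zne := by
    haveI : Fact q.Prime := ⟨S.hq⟩
    exact zOf_ne_bot S.Qq S.Qne

theorem Q_le_cent_Z (Q : Subgroup X) : Q ≤ centralizer ((zOf Q : Subgroup X) : Set X) :=
  le_centralizer_iff.mp inf_le_right

theorem orderOf_Q [Finite X] (S : QSetup p t q V K A Q) {g : X} (hg : g ∈ Q) :
    ∃ n, orderOf g = q ^ n := by
  haveI : Fact q.Prime := ⟨S.hq⟩
  exact exists_orderOf_eq_of_isPGroup S.Qq hg

/-- anything centralizing `Z(Q)` normalizes `C_V([Z, c])`, provided it normalizes `V`. -/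
theorem norm_Vc_of_cent [Finite X] (S : QSetup p t q V K A Q) {c : X} (hc : c ∈ A)
    {H : Subgroup X} (hHV : H ≤ normalizer (V : Set X))
    (hH : H ≤ centralizer ((zOf Q : Subgroup X) : Set X)) :
    H ≤ normalizer ((Vc V (zOf Q) c : Subgroup X) : Set X) := by
  have h1 : H ≤ centralizer ((⁅zOf Q, zpowers c⁆ : Subgroup X) : Set X) :=
    hH.trans (centralizer_le (S.toZSetup.Dc_le hc))
  exact le_normalizer_inf hHV (le_normalizer_centralizer (h1.trans (centralizer_le_normalizer _)))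

/-- (L3) `C_Q(c')` centralizes `C_V([Z, c])` for `c' ∉ ⟨c⟩`. -/
theorem L3 [Finite X] (S : QSetup p t q V K A Q) {c c' : X} (hc : c ∈ A) (hc1 : c ≠ 1)
    (hc' : c' ∈ A) (hn : c' ∉ zpowers c) :
    Q ⊓ centralizer ({c'} : Set X) ≤ centralizer ((Vc V (zOf Q) c : Subgroup X) : Set X) := by
  have SZ := S.toZSetup
  haveI := S.Vcomm
  haveI := SZ.Zcomm
  haveI : Fact q.Prime := ⟨S.hq⟩
  haveI : Fact t.Prime := ⟨S.ht⟩
  have hc'1 : c' ≠ 1 := fun h => hn (h ▸ one_mem _)
  set Z := zOf Q with hZ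
  set U := Vc V Z c with hU
  have hUV : U ≤ V := ZSetup.Vc_le V Z c
  haveI : IsMulCommutative U := isMulCommutative_of_le hUV
  have hAU : A ≤ normalizer (U : Set X) := SZ.A_norm_Vc hc
  have hZU : Z ≤ normalizer (U : Set X) := SZ.Z_norm_Vc hc
  set G₀ : Set X := {x | ∃ z ∈ Z, ∃ u ∈ U ⊓ centralizer ({c'} : Set X), x = z * u * z⁻¹} with hG₀
  set U₀ := closure G₀ with hU₀
  have hU₀U : U₀ ≤ U := by
    rw [hU₀, closure_le]
    rintro x ⟨z, hz, u, hu, rfl⟩
    exact conj_mem_of_le_normalizer hZU hz hu.1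
  set B := zpowers c' ⊔ Z with hB
  have hBAZ : B ≤ A ⊔ Z := sup_le ((S.hA.zpowers_le_self hc').trans le_sup_left) le_sup_right
  have hcopB : (Nat.card B).Coprime t :=
    Nat.Coprime.coprime_dvd_left (Subgroup.card_dvd_of_le hBAZ) SZ.copAZt
  have hBU : B ≤ normalizer (U : Set X) :=
    sup_le ((S.hA.zpowers_le_self hc').trans hAU) hZU
  have hBU₀ : B ≤ normalizer (U₀ : Set X) := by
    apply sup_le
    · apply le_normalizer_closure
      rintro e he x ⟨z, hz, u, hu, rfl⟩
      have heA : e ∈ A := S.hA.zpowers_le_self hc' he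
      refine ⟨e * z * e⁻¹, conj_mem_of_le_normalizer SZ.AZ heA hz, e * u * e⁻¹,
        ⟨conj_mem_of_le_normalizer hAU heA hu.1,
          conj_mem_of_le_normalizer (SZ.A_norm_cent hc') heA hu.2⟩, ?_⟩
      group
    · apply le_normalizer_closure
      rintro z₁ hz₁ x ⟨z, hz, u, hu, rfl⟩
      exact ⟨z₁ * z, Z.mul_mem hz₁ hz, u, hu, by group⟩
  obtain ⟨U₁, hU₁U, hBU₁, hinf, hsup⟩ := maschke' S.ht U B U₀
    (fun v hv => S.Vexp v (hUV hv)) hBU hcopB hU₀U hBU₀
  have hU₁V : U₁ ≤ V := hU₁U.trans hUV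
  have h1 : U₁ ⊓ centralizer ({c'} : Set X) = ⊥ := by
    rw [eq_bot_iff, ← hinf]
    intro x hx
    refine ⟨subset_closure ⟨1, Z.one_mem, x, ⟨hU₁U hx.1, hx.2⟩, by group⟩, hx.1⟩
  have hD'Z : ⁅Z, zpowers c'⁆ ≤ Z := SZ.Dc_le hc'
  have h2 : U₁ ≤ centralizer ((⁅Z, zpowers c'⁆ : Subgroup X) : Set X) := by
    by_contra hcon
    haveI : IsMulCommutative U₁ := isMulCommutative_of_le hU₁V
    have hT0B : ⁅Z, zpowers c'⁆ ⊔ zpowers c' ≤ B :=
      sup_le (hD'Z.trans le_sup_right) le_sup_left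
    have := fix_ne_bot' (N := U₁) (T0 := ⁅Z, zpowers c'⁆) (R := zpowers c')
      (isSolvable_of_isMulCommutative U₁) (le_normalizer_commutator_right Z (zpowers c'))
      ?_ (hT0B.trans hBU₁) ?_ hcon
    · apply this
      rw [centralizer_zpowers']; exact h1
    · intro e he he1 u hu heu
      have h3 : zpowers e = zpowers c' := S.hA.zpowers_eq_of_mem hc' hc'1 he he1
      have h4 : u ∈ centralizer ((zpowers c' : Subgroup X) : Set X) := by
        rw [← h3, centralizer_zpowers', mem_centralizer_iff]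
        intro y hy
        rw [Set.mem_singleton_iff] at hy
        subst hy
        exact heu
      have h5 := coprime_abelian_inf (zpowers c') Z ((S.hA.zpowers_le_self hc').trans SZ.AZ)
        (SZ.cop_zpowers hc' SZ.ZK)
      have h6 : u ∈ (Z ⊓ centralizer ((zpowers c' : Subgroup X) : Set X)) ⊓ ⁅Z, zpowers c'⁆ :=
        ⟨⟨hD'Z hu, h4⟩, hu⟩
      rw [h5, mem_bot] at h6
      exact h6
    · have h3 : Nat.card ↥(⁅Z, zpowers c'⁆ ⊔ zpowers c') ∣ Nat.card B :=
        Subgroup.card_dvd_of_le hT0B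
      obtain ⟨n, hn⟩ := (S.V_isPGroup.to_le hU₁V).exists_card_eq
      rw [hn]
      exact (Nat.Coprime.coprime_dvd_left h3 hcopB).symm.pow_left n
  have h3 : U₁ ≤ centralizer ((Z ⊓ centralizer ({c'} : Set X) : Subgroup X) : Set X) := by
    have h4 : Z ⊓ centralizer ({c'} : Set X) ≤ ⁅Z, zpowers c⁆ :=
      SZ.L0b hc' hc'1 hc (S.hA.not_mem_symm hc hc1 hc' hc'1 hn)
    exact (hU₁U.trans inf_le_right).trans (centralizer_le h4)
  have hU₁bot : U₁ = ⊥ := by
    rw [eq_bot_iff, ← SZ.VcZ]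
    refine le_inf hU₁V (le_centralizer_iff.mp ?_)
    have h4 := coprime_commutator_sup_centralizer (zpowers c') Z
      ((S.hA.zpowers_le_self hc').trans SZ.AZ) (SZ.cop_zpowers hc' SZ.ZK)
      (Or.inl (isSolvable_zpowers c'))
    rw [centralizer_zpowers'] at h4
    rw [← h4]
    exact sup_le (le_centralizer_iff.mp h2) (le_centralizer_iff.mp h3)
  have hUU₀ : U = U₀ := by
    rw [hU₁bot, sup_bot_eq] at hsup
    exact hsup.symm
  intro g hg
  have : U ≤ centralizer ({g} : Set X) := by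
    rw [hUU₀, hU₀, closure_le]
    rintro x ⟨z, hz, u, hu, rfl⟩
    rw [SetLike.mem_coe, mem_centralizer_iff]
    intro y hy
    rw [Set.mem_singleton_iff] at hy
    subst hy
    have hyz : y * z = z * y := ((mem_centralizer_iff.mp hz.2) y hg.1)
    have hyu : y * u = u * y :=
      S.commute hc' hc'1 (q := q) (le_sup_right (a := V) (S.QK hg.1)) hg.2
        (le_sup_left (b := K) (hUV hu.1)) hu.2 (S.orderOf_Q hg.1)
        (S.orderOf_V_coprime S.hq S.hqt (hUV hu.1))
    have hyz' : y * z⁻¹ = z⁻¹ * y := by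
      rw [eq_inv_mul_iff_mul_eq, ← mul_assoc, ← hyz, mul_assoc, mul_inv_cancel, mul_one]
    calc y * (z * u * z⁻¹) = (y * z) * u * z⁻¹ := by group
      _ = z * (y * u) * z⁻¹ := by rw [hyz]; group
      _ = z * u * (y * z⁻¹) := by rw [hyu]; group
      _ = z * u * z⁻¹ * y := by rw [hyz']; group
  rw [mem_centralizer_iff]
  intro u hu
  have := (mem_centralizer_iff.mp (this hu)) g rfl
  exact this.symm

/-- `R_c = C_Q(C_V([Z, c]))`. -/
def Rc (V Q : Subgroup X) (c : X) : Subgroup X :=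
  Q ⊓ centralizer ((Vc V (zOf Q) c : Subgroup X) : Set X)

theorem copAQ [Finite X] (S : QSetup p t q V K A Q) : (Nat.card A).Coprime (Nat.card Q) := by
  rw [S.hA.card]
  exact ((S.Kp.coprime_dvd_left (Subgroup.card_dvd_of_le S.QK)).pow_right 2).symm

/-- (L4) `Q = C_Q(c) R_c`. -/
theorem L4 [Finite X] (S : QSetup p t q V K A Q) {c : X} (hc : c ∈ A) (hc1 : c ≠ 1) :
    Q ≤ (Q ⊓ centralizer ({c} : Set X)) ⊔ Rc V Q c := by
  haveI := S.hA.comm
  have h := generated_by_centralizers A Q S.hA.not_isCyclic S.AQ S.copAQ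
  conv_lhs => rw [← h]
  apply iSup₂_le
  intro a ha
  by_cases hac : a ∈ zpowers c
  · rw [centralizer_singleton_eq_of_zpowers_eq (S.hA.zpowers_eq_of_mem hc hc1 hac ha.2)]
    exact le_sup_left
  · exact le_trans (le_inf inf_le_left (S.L3 hc hc1 ha.1 hac)) le_sup_right

/-- **Key Lemma**: an `A`-invariant `q'`-subgroup `Y` of `C_K(b)` centralizes `Q`. -/
theorem key [Finite X] (S : QSetup p t q V K A Q) {b : X} (hb : b ∈ A) (hb1 : b ≠ 1)
    {Y : Subgroup X} (hYK : Y ≤ K) (hYb : Y ≤ centralizer ({b} : Set X))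
    (hAY : A ≤ normalizer (Y : Set X)) (hYq : (Nat.card Y).Coprime q) :
    Y ≤ centralizer (Q : Set X) := by
  have SZ := S.toZSetup
  haveI : Fact q.Prime := ⟨S.hq⟩
  have hYZ : Y ≤ centralizer ((zOf Q : Subgroup X) : Set X) := SZ.lemmaA hb hb1 hYK hYb hAY hYq
  have hYQ : Y ≤ normalizer (Q : Set X) := hYK.trans S.KQ
  have hYV : Y ≤ normalizer (V : Set X) := hYK.trans S.KV
  have hQV : Q ≤ normalizer (V : Set X) := S.QK.trans S.KV
  have hmain : ∀ c, c ∈ A → c ≠ 1 → ⁅Q, Y⁆ ≤ Rc V Q c := by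
    intro c hc hc1
    have hYR : Y ≤ normalizer ((Rc V Q c : Subgroup X) : Set X) :=
      le_normalizer_inf hYQ (le_normalizer_centralizer (S.norm_Vc_of_cent hc hYV hYZ))
    have hQR : Q ≤ normalizer ((Rc V Q c : Subgroup X) : Set X) :=
      le_normalizer_inf le_normalizer
        (le_normalizer_centralizer (S.norm_Vc_of_cent hc hQV (Q_le_cent_Z Q)))
    have hAR : A ≤ normalizer ((Rc V Q c : Subgroup X) : Set X) :=
      le_normalizer_inf S.AQ (le_normalizer_centralizer (SZ.A_norm_Vc hc))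
    by_cases hcb : c ∈ zpowers b
    · have hcent : Q ⊓ centralizer ({c} : Set X) ≤ centralizer (Y : Set X) := by
        rw [centralizer_singleton_eq_of_zpowers_eq (S.hA.zpowers_eq_of_mem hb hb1 hcb hc1)]
        intro g hg
        rw [mem_centralizer_iff]
        intro y hy
        exact (S.commute hb hb1 (q := q) (le_sup_right (a := V) (S.QK hg.1)) hg.2
          (le_sup_right (a := V) (hYK hy)) (hYb hy) (S.orderOf_Q hg.1)
          (Nat.Coprime.coprime_dvd_left (Subgroup.orderOf_dvd_natCard Y hy) hYq)).symm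
      exact commutator_le_of_le_sup_centralizer (M := Rc V Q c)
        (D := Q ⊓ centralizer ({c} : Set X)) hYR (inf_le_left.trans hQR) hcent
        (by rw [sup_comm]; exact S.L4 hc hc1)
    · have hCR : zpowers c ≤ normalizer ((Rc V Q c : Subgroup X) : Set X) :=
        (S.hA.zpowers_le_self hc).trans hAR
      have h1 : ⁅Q, zpowers c⁆ ≤ Rc V Q c := by
        apply commutator_le_of_le_sup_centralizer (M := Rc V Q c)
          (D := Q ⊓ centralizer ({c} : Set X)) hCR (inf_le_left.trans hQR)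
        · rw [centralizer_zpowers']; exact inf_le_right
        · rw [sup_comm]; exact S.L4 hc hc1
      have h2 : ⁅Q, ⁅Y, zpowers c⁆⁆ ≤ Rc V Q c := commutator_commutator_le hCR hYQ hYR h1
      have h3 : ⁅Y, zpowers c⁆ = Y := by
        have h4 := coprime_commutator_sup_centralizer (zpowers c) Y
          ((S.hA.zpowers_le_self hc).trans hAY) (SZ.cop_zpowers hc hYK)
          (Or.inl (isSolvable_zpowers c))
        have h5 : Y ⊓ centralizer ((zpowers c : Subgroup X) : Set X) = ⊥ := by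
          rw [eq_bot_iff, ← S.fpfK, centralizer_zpowers']
          intro x hx
          exact ⟨hYK hx.1, S.hA.centralizer_inf_le hb hb1 hc hcb ⟨hYb hx.1, hx.2⟩⟩
        rw [h5, sup_bot_eq] at h4
        exact h4
      rwa [h3] at h2
  have hQYQ : ⁅Q, Y⁆ ≤ Q := commutator_le_of_le_normalizer hYQ
  have hcV : ⁅Q, Y⁆ ≤ centralizer (V : Set X) := by
    apply le_centralizer_iff.mp
    rw [← SZ.L1]
    apply iSup₂_le
    intro c hc
    exact le_centralizer_iff.mp ((hmain c hc.1 hc.2).trans inf_le_right)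
  have h0 : ⁅Q, Y⁆ = ⊥ := by
    rw [eq_bot_iff, ← S.faith]
    exact le_inf (hQYQ.trans S.QK) hcV
  rw [← commutator_eq_bot_iff_le_centralizer, commutator_comm]
  exact h0

end QSetup


end Cfsg.Agent.Helper9.Ward
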