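import Mathlib
import Cfsg.Agent.Helper9.WardE
import Cfsg.Agent.Helper10.PGroupBasic
import Cfsg.Agent.Helper19.OmegaOne
import Cfsg.Agent.Lead.CoprimeSylow2
import Cfsg.Agent.Lead.Fpf3

set_option autoImplicit false
set_option linter.style.haveILetI false
open Pointwise

/-! # Ward's theorem, part F: Theorem W (`K` is nilpotent). -/

namespace Cfsg.Agent.Helper9.Ward

open Subgroup
open scoped commutatorElement IsMulCommutative
open Cfsg.Agent.Lead

variable {X : Type*} [Group X]

/-- the subgroup generated by the `q`-elements of `N`. -/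
def Oq (q : ℕ) (N : Subgroup X) : Subgroup X :=
  closure {x | x ∈ N ∧ ∃ n, orderOf x = q ^ n}

theorem Oq_le (q : ℕ) (N : Subgroup X) : Oq q N ≤ N := by
  rw [Oq, closure_le]
  intro x hx
  exact hx.1

theorem mem_Oq {q : ℕ} {N : Subgroup X} {x : X} (hx : x ∈ N) (hq : ∃ n, orderOf x = q ^ n) :
    x ∈ Oq q N := subset_closure ⟨hx, hq⟩

theorem le_normalizer_Oq {q : ℕ} {N B : Subgroup X} (h : B ≤ normalizer (N : Set X)) :
    B ≤ normalizer ((Oq q N : Subgroup X) : Set X) := by
  apply le_normalizer_closure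
  rintro b hb x ⟨hx, n, hn⟩
  refine ⟨conj_mem_of_le_normalizer h hb hx, n, ?_⟩
  rw [← hn]
  exact (MulAut.conj b).orderOf_eq x

theorem Oq_isPGroup [Finite X] {q : ℕ} [Fact q.Prime] {N : Subgroup X}
    (hN : Group.IsNilpotent N) : IsPGroup q (Oq q N) := by
  obtain ⟨P⟩ : Nonempty (Sylow q N) := inferInstance
  have hle : Oq q N ≤ (P : Subgroup N).map N.subtype := by
    rw [Oq, closure_le]
    rintro x ⟨hx, n, hn⟩
    refine ⟨⟨x, hx⟩, ?_, rfl⟩
    apply Cfsg.Agent.Helper23.mem_sylow_of_isNilpotent P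
    apply IsPGroup.of_card (n := n)
    rw [Nat.card_zpowers, Subgroup.orderOf_mk, hn]
  exact (P.isPGroup'.map N.subtype).to_le hle

namespace WSetup

variable {p t : ℕ} {V K A : Subgroup X}

/-- (0) there is no nontrivial normal `t`-subgroup. -/
theorem no_t_sub [Finite X] (S : WSetup p t V K A) {T : Subgroup X} (hTK : T ≤ K)
    (hT : IsPGroup t T) (hKT : K ≤ normalizer (T : Set X)) (hAT : A ≤ normalizer (T : Set X)) :
    T = ⊥ := by
  haveI : Fact t.Prime := ⟨S.ht⟩
  have hTV : T ≤ normalizer (V : Set X) := hTK.trans S.KV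
  rcases S.irr (V ⊓ centralizer (T : Set X)) inf_le_left
    (le_normalizer_inf S.KV (le_normalizer_centralizer hKT))
    (le_normalizer_inf S.AV (le_normalizer_centralizer hAT)) with h | h
  · exfalso
    have hPt : IsPGroup t ↥(V ⊔ T) := IsPGroup.to_sup_of_normal_left' S.V_isPGroup hT hTV
    have hPV : V ⊔ T ≤ normalizer (V : Set X) := sup_le le_normalizer hTV
    haveI : (V.subgroupOf (V ⊔ T)).Normal := Subgroup.normal_subgroupOf_of_le_normalizer hPV
    have hne : V.subgroupOf (V ⊔ T) ≠ ⊥ := by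
      intro h0
      apply S.Vne
      rw [eq_bot_iff]
      intro v hv
      have : (⟨v, le_sup_left (b := T) hv⟩ : ↥(V ⊔ T)) ∈ V.subgroupOf (V ⊔ T) :=
        mem_subgroupOf.mpr hv
      rw [h0, mem_bot] at this
      rw [mem_bot]
      exact congrArg Subtype.val this
    obtain ⟨z, hzV, hz1, hzc⟩ :=
      Cfsg.Agent.Helper10.exists_ne_one_mem_inf_center hPt (V.subgroupOf (V ⊔ T)) hne
    have : (z : X) ∈ V ⊓ centralizer (T : Set X) := by
      refine Subgroup.mem_inf.mpr ⟨mem_subgroupOf.mp hzV, ?_⟩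
      rw [mem_centralizer_iff]
      intro x hx
      have := Subgroup.mem_center_iff.mp hzc ⟨x, le_sup_right (a := V) hx⟩
      exact congrArg Subtype.val this
    rw [h, mem_bot] at this
    exact hz1 (Subtype.ext this)
  · have h1 : V ≤ centralizer (T : Set X) := by rw [← h]; exact inf_le_right
    rw [eq_bot_iff, ← S.faith]
    exact le_inf hTK (le_centralizer_iff.mp h1)

end WSetup

/-- **Lemma E'**: a nilpotent-by-nilpotent group whose Sylow subgroups commute with the elements of
coprime prime power order of the nilpotent normal subgroup is nilpotent. -/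
theorem nilpotent_of_sylow_commute {G : Type*} [Group G] [Finite G] (N : Subgroup G) [N.Normal]
    (hN : Group.IsNilpotent N) (hGN : Group.IsNilpotent (G ⧸ N))
    (h : ∀ (s : ℕ) [Fact s.Prime], ∃ P : Sylow s G, ∀ x ∈ N, ∀ r : ℕ, r.Prime → r ≠ s →
      (∃ n, orderOf x = r ^ n) → ∀ y ∈ P, x * y = y * x) :
    Group.IsNilpotent G := by
  apply Cfsg.Agent.Lead.Fpf.isNilpotent_of_forall_sylow_normal
  intro s _
  obtain ⟨P, hP⟩ := h s
  refine ⟨P, ?_⟩
  -- `O_s(N) ≤ P`
  have hOsn : (Oq s N).Normal := by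
    rw [← normalizer_eq_top_iff]
    rw [eq_top_iff]
    exact le_normalizer_Oq (B := ⊤) (by rw [normalizer_eq_top_iff.mpr inferInstance])
  have hOsP : Oq s N ≤ P := le_sylow_of_normal_isPGroup P (Oq s N) (Oq_isPGroup hN)
  -- `N ≤ N_G(P)`
  have hNP : N ≤ normalizer ((P : Subgroup G) : Set G) := by
    intro x hx
    apply Cfsg.Agent.Helper19.mem_of_forall_primePow_mem _ (orderOf x) x rfl
    rintro w hw ⟨r, k, hr, hwk⟩
    have hwN : w ∈ N := (zpowers_le.mpr hx) hw
    by_cases hrs : r = s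
    · subst hrs
      exact le_normalizer (hOsP (mem_Oq hwN ⟨k, hwk⟩))
    · apply centralizer_le_normalizer
      rw [mem_centralizer_iff]
      intro y hy
      exact (hP w hwN r hr hrs ⟨k, hwk⟩ y hy).symm
  -- `P N ⊴ G`
  set M : Subgroup G := (P : Subgroup G) ⊔ N with hM
  have hMn : M.Normal := by
    have hsurj := QuotientGroup.mk'_surjective N
    have h1 : ((P.mapSurjective hsurj : Sylow s (G ⧸ N)) : Subgroup (G ⧸ N)).Normal :=
      Sylow.normal_of_normalizerCondition Group.normalizerCondition_of_isNilpotent _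
    rw [Sylow.coe_mapSurjective] at h1
    have h2 := h1.comap (QuotientGroup.mk' N)
    rwa [Subgroup.comap_map_eq, QuotientGroup.ker_mk'] at h2
  have hPM : (P : Subgroup G) ≤ M := le_sup_left
  have hfr := Sylow.normalizer_sup_eq_top (P.subtype hPM)
  rw [Sylow.coe_subtype, Subgroup.map_subgroupOf_eq_of_le hPM] at hfr
  have hMle : M ≤ normalizer ((P : Subgroup G) : Set G) := sup_le le_normalizer hNP
  rw [sup_eq_left.mpr hMle] at hfr
  exact normalizer_eq_top_iff.mp hfr


namespace WSetup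

variable {p t : ℕ} {V K A : Subgroup X}

theorem copAK (S : WSetup p t V K A) : (Nat.card A).Coprime (Nat.card K) := by
  rw [S.hA.card]
  exact (S.Kp.pow_right 2).symm

/-- **Theorem W**: `K` is nilpotent. -/
theorem theoremW [Finite X] (S : WSetup p t V K A) {N : Subgroup X} (hNK : N ≤ K)
    (hKN : K ≤ normalizer (N : Set X)) (hAN : A ≤ normalizer (N : Set X))
    (hNnil : Group.IsNilpotent N) (hKNnil : ∃ k, K.lowerCentralSeries k ≤ N) :
    Group.IsNilpotent K := by
  haveI := S.hA.comm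
  haveI : (N.subgroupOf K).Normal := Subgroup.normal_subgroupOf_of_le_normalizer hKN
  haveI := hNnil
  have hN' : Group.IsNilpotent (N.subgroupOf K) :=
    Group.nilpotent_of_surjective (subgroupOfEquivOfLe hNK).symm.toMonoidHom
      (subgroupOfEquivOfLe hNK).symm.surjective
  have hQuot : Group.IsNilpotent (K ⧸ N.subgroupOf K) := by
    obtain ⟨k, hk⟩ := hKNnil
    rw [Subgroup.nilpotent_iff_lowerCentralSeries]
    refine ⟨k, ?_⟩
    have h1 : (Subgroup.lowerCentralSeries (⊤ : Subgroup K) k).map K.subtype ≤ N := by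
      rw [top_subtype_lowerCentralSeries]; exact hk
    have h2 : Subgroup.lowerCentralSeries (⊤ : Subgroup K) k ≤ N.subgroupOf K := by
      intro x hx
      exact mem_subgroupOf.mpr (h1 (mem_map_of_mem _ hx))
    have h3 := map_lowerCentralSeries (⊤ : Subgroup K) (QuotientGroup.mk' (N.subgroupOf K)) k
    rw [← MonoidHom.range_eq_map,
      MonoidHom.range_eq_top.mpr (QuotientGroup.mk'_surjective _)] at h3
    rw [← h3, Subgroup.map_eq_bot_iff, QuotientGroup.ker_mk']
    exact h2
  apply nilpotent_of_sylow_commute (N.subgroupOf K) hN' hQuot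
  intro s _
  obtain ⟨P, hAP⟩ := coprime_exists_invariant_sylow A K S.AK S.copAK
    (Or.inl (isSolvable_of_isMulCommutative A)) s
  refine ⟨P, ?_⟩
  intro x hx r hr hrs hxr y hy
  have hs : s.Prime := Fact.out
  haveI : Fact r.Prime := ⟨hr⟩
  have hxN : (x : X) ∈ N := mem_subgroupOf.mp hx
  have hxr' : ∃ n, orderOf (x : X) = r ^ n := by
    obtain ⟨n, hn⟩ := hxr
    exact ⟨n, by rw [Subgroup.orderOf_coe, hn]⟩
  have hxQ : (x : X) ∈ Oq r N := mem_Oq hxN hxr'
  have hQK : Oq r N ≤ K := (Oq_le r N).trans hNK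
  have hQr : IsPGroup r (Oq r N) := Oq_isPGroup hNnil
  have hKQ : K ≤ normalizer ((Oq r N : Subgroup X) : Set X) := le_normalizer_Oq hKN
  have hAQ : A ≤ normalizer ((Oq r N : Subgroup X) : Set X) := le_normalizer_Oq hAN
  by_cases hQ1 : Oq r N = ⊥
  · rw [hQ1, mem_bot] at hxQ
    have : x = 1 := Subtype.ext hxQ
    rw [this, one_mul, mul_one]
  have hrt : r ≠ t := by
    intro h
    apply hQ1
    subst h
    exact S.no_t_sub hQK hQr hKQ hAQ
  have SQ : QSetup p t r V K A (Oq r N) :=
    { toWSetup := S, hq := hr, hqt := hrt, QK := hQK, Qq := hQr, KQ := hKQ, AQ := hAQ,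
      Qne := hQ1 }
  set Ss : Subgroup X := (P : Subgroup K).map K.subtype with hSs
  have hSsK : Ss ≤ K := map_subtype_le _
  have hSsp : IsPGroup s Ss := P.isPGroup'.map K.subtype
  have hcopASs : (Nat.card A).Coprime (Nat.card Ss) :=
    S.copAK.coprime_dvd_right (Subgroup.card_dvd_of_le hSsK)
  have hgen := generated_by_centralizers A Ss S.hA.not_isCyclic hAP hcopASs
  have hSsQ : Ss ≤ centralizer ((Oq r N : Subgroup X) : Set X) := by
    rw [← hgen]
    apply iSup₂_le
    intro b hb
    have hcopY : (Nat.card ↥(Ss ⊓ centralizer ({b} : Set X))).Coprime r := by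
      obtain ⟨n, hn⟩ := hSsp.exists_card_eq
      have h1 : Nat.card ↥(Ss ⊓ centralizer ({b} : Set X)) ∣ s ^ n :=
        hn ▸ Subgroup.card_dvd_of_le inf_le_left
      exact Nat.Coprime.coprime_dvd_left h1
        (((Nat.coprime_primes hs hr).mpr (Ne.symm hrs)).pow_left n)
    exact SQ.key hb.1 hb.2 (inf_le_left.trans hSsK) inf_le_right
      (le_normalizer_inf hAP (le_normalizer_centralizer_singleton
        (fun a ha => S.Acomm ha hb.1))) hcopY
  have hyS : (y : X) ∈ Ss := ⟨y, hy, rfl⟩
  have := (mem_centralizer_iff.mp (hSsQ hyS)) (x : X) hxQ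
  exact Subtype.ext this

end WSetup

end Cfsg.Agent.Helper9.Ward
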