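import Mathlib
import Cfsg.Agent.Helper9.WardF
import Cfsg.Agent.Lead.Coprime2

set_option autoImplicit false
set_option linter.style.haveILetI false
open Pointwise

/-! # Ward's theorem, part G: transport to the semidirect product `V ⋊ X / C_G(V)`. -/

namespace Cfsg.Agent.Helper9.Ward

open Subgroup
open scoped commutatorElement IsMulCommutative
open Cfsg.Agent.Lead

variable {X : Type*} [Group X]

theorem card_map_of_inf_ker {Y : Type*} [Group Y] (f : X →* Y) (A : Subgroup X)
    (h : A ⊓ f.ker = ⊥) : Nat.card (A.map f) = Nat.card A := by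
  have hinj : Function.Injective (f.comp A.subtype) := by
    rw [injective_iff_map_eq_one]
    intro a ha
    have : (a : X) ∈ A ⊓ f.ker := Subgroup.mem_inf.mpr ⟨a.2, MonoidHom.mem_ker.mpr ha⟩
    rw [h, mem_bot] at this
    exact Subtype.ext this
  have hr : (f.comp A.subtype).range = A.map f := by
    rw [MonoidHom.range_comp, Subgroup.range_subtype]
  rw [← hr]
  exact (Nat.card_congr (MonoidHom.ofInjective hinj).toEquiv).symm

namespace Transport

open SemidirectProduct

variable (G V : Subgroup X) [hG : G.Normal] [hV : V.Normal]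

/-- the kernel `C_G(V)`. -/
def ker : Subgroup X := G ⊓ centralizer (V : Set X)

instance ker_normal : (ker G V).Normal := by
  unfold ker; infer_instance

/-- the action of `X / C_G(V)` on `V`. -/
def phi : X ⧸ ker G V →* MulAut V :=
  QuotientGroup.lift (ker G V) (MulAut.conjNormal (H := V)) (by
    intro x hx
    rw [MonoidHom.mem_ker]
    ext v
    rw [MulAut.conjNormal_apply]
    have := (mem_centralizer_iff.mp hx.2) v v.2
    simp only [MulAut.one_apply]
    rw [← this]; group)

/-- the semidirect product `V ⋊ X / C_G(V)`. -/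
abbrev TX : Type _ := V ⋊[phi G V] (X ⧸ ker G V)

instance [Finite X] : Finite (TX G V) :=
  Finite.of_equiv _ (SemidirectProduct.equivProd).symm

/-- the map `X → V ⋊ X / C_G(V)`. -/
def psi : X →* TX G V := SemidirectProduct.inr.comp (QuotientGroup.mk' (ker G V))

theorem psi_conj_inl (x : X) (v : V) :
    psi G V x * inl v * (psi G V x)⁻¹ = inl ⟨x * v * x⁻¹, hV.conj_mem v v.2 x⟩ := by
  unfold psi
  rw [MonoidHom.comp_apply, ← map_inv, ← inl_aut]
  congr 1

theorem ker_psi : (psi G V).ker = ker G V := by
  ext x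
  rw [MonoidHom.mem_ker]
  unfold psi
  rw [MonoidHom.comp_apply, ← map_one (inr : X ⧸ ker G V →* TX G V), inr_inj,
    QuotientGroup.mk'_apply, QuotientGroup.eq_one_iff]

end Transport


section

open SemidirectProduct

variable [Finite X] {p t : ℕ} {G A V : Subgroup X} [hG : G.Normal] [hV : V.Normal]

/-- **Transport**: `G / C_G(V)` is nilpotent. -/
theorem transport (hA : ElemSq p A) (hGA : G ⊔ A = ⊤)
    (hcop : (Nat.card G).Coprime p) (hfpf : G ⊓ centralizer (A : Set X) = ⊥) (hVG : V ≤ G)
    (hVne : V ≠ ⊥) (hVcomm : IsMulCommutative V) (ht : t.Prime) (htp : t ≠ p)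
    (hVexp : ∀ v ∈ V, v ^ t = 1)
    (hVmin : ∀ U : Subgroup X, U.Normal → U ≤ V → U = ⊥ ∨ U = V)
    {N₁ : Subgroup X} [hN₁ : N₁.Normal] (hN₁G : N₁ ≤ G)
    (hN₁nil : ∃ k, N₁.lowerCentralSeries k ≤ V) (hGN₁ : ∃ k, G.lowerCentralSeries k ≤ N₁) :
    ∃ k, G.lowerCentralSeries k ≤ centralizer (V : Set X) := by
  haveI := hA.comm
  haveI := hVcomm
  set ψ := Transport.psi G V with hψ
  set V' : Subgroup (Transport.TX G V) := (inl : V →* Transport.TX G V).range with hV'
  set K' := G.map ψ with hK'
  set A' := A.map ψ with hA'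
  have hVn' : V'.Normal := by
    rw [hV', range_inl_eq_ker_rightHom]; infer_instance
  have hNV' : ∀ B : Subgroup (Transport.TX G V), B ≤ normalizer (V' : Set _) := fun B => by
    rw [normalizer_eq_top_iff.mpr hVn']; exact le_top
  have hker : ψ.ker = Transport.ker G V := Transport.ker_psi G V
  have hVker : V ≤ Transport.ker G V := le_inf hVG (le_centralizer_of_isMulCommutative V)
  have hcopA : (Nat.card A).Coprime (Nat.card G) := by
    rw [hA.card]; exact (hcop.pow_right 2).symm
  have hAG : A ⊓ G = ⊥ := (Subgroup.disjoint_of_coprime_natCard hcopA).eq_bot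
  have hsolv : Group.IsSolvable A ∨ Group.IsSolvable G :=
    Or.inl (isSolvable_of_isMulCommutative A)
  have hnorm : ∀ {H B : Subgroup X}, H.Normal → B ≤ normalizer (H : Set X) := fun hH => by
    rw [normalizer_eq_top_iff.mpr hH]; exact le_top
  have hconj : ∀ (x : X) (v : V),
      ψ x * inl v * (ψ x)⁻¹ = inl ⟨x * v * x⁻¹, hV.conj_mem v v.2 x⟩ :=
    Transport.psi_conj_inl G V
  have hψ1 : ∀ x, x ∈ Transport.ker G V → ψ x = 1 := fun x hx => by
    have : x ∈ ψ.ker := by rw [hker]; exact hx
    exact MonoidHom.mem_ker.mp this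
  have hψ1' : ∀ x, ψ x = 1 → x ∈ Transport.ker G V := fun x hx => by
    rw [← hker]; exact MonoidHom.mem_ker.mpr hx
  -- fixed points in the quotient
  have hfix : ∀ g ∈ G, (∀ a ∈ A, a * g * a⁻¹ * g⁻¹ ∈ Transport.ker G V) →
      g ∈ Transport.ker G V := by
    intro g hg h
    obtain ⟨c, hc, hgc⟩ := coprime_fixed_points_quotient A G (hnorm hG) hcopA hsolv
      (Transport.ker G V) inf_le_left (hnorm (Transport.ker_normal G V))
      (hnorm (Transport.ker_normal G V)) g hg h
    rw [hfpf, mem_bot] at hc
    rw [hc, mul_one] at hgc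
    have := (Transport.ker G V).inv_mem hgc
    rwa [inv_inv] at this
  have hA'comm : ∀ x ∈ A', ∀ y ∈ A', x * y = y * x := by
    rintro _ ⟨a, ha, rfl⟩ _ ⟨b, hb, rfl⟩
    rw [← map_mul, ← map_mul, comm_of_mem A ha hb]
  have hV'comm : ∀ x ∈ V', ∀ y ∈ V', x * y = y * x := by
    rintro _ ⟨v, rfl⟩ _ ⟨w, rfl⟩
    rw [← map_mul, ← map_mul, mul_comm' v w]
  have S : WSetup p t V' K' A' :=
    { hA :=
        { hp := hA.hp
          comm := ⟨⟨fun a b => Subtype.ext (hA'comm a a.2 b b.2)⟩⟩
          exp := by
            rintro _ ⟨a, ha, rfl⟩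
            rw [← map_pow, hA.exp a ha, map_one]
          card := by
            rw [hA', card_map_of_inf_ker ψ A, hA.card]
            rw [eq_bot_iff, ← hAG, hker]
            exact inf_le_inf_left A inf_le_left }
      ht := ht
      htp := htp
      AK := by
        apply le_normalizer_of_conj_mem
        rintro _ ⟨a, ha, rfl⟩ _ ⟨g, hg, rfl⟩
        exact ⟨a * g * a⁻¹, hG.conj_mem g hg a, by simp⟩
      KV := hNV' _
      AV := hNV' _
      Vcomm := ⟨⟨fun a b => Subtype.ext (hV'comm a a.2 b b.2)⟩⟩
      Vexp := by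
        rintro _ ⟨v, rfl⟩
        have : v ^ t = 1 := Subtype.ext (by simpa using hVexp v v.2)
        rw [← map_pow, this, map_one]
      Vne := by
        intro h
        apply hVne
        rw [eq_bot_iff]
        intro v hv
        have h1 : (inl (⟨v, hv⟩ : V) : Transport.TX G V) ∈ V' := ⟨_, rfl⟩
        rw [h, mem_bot] at h1
        have h2 := inl_injective (h1.trans (map_one inl).symm)
        rw [mem_bot]
        exact congrArg Subtype.val h2
      Kp := hcop.coprime_dvd_left (Subgroup.card_map_dvd G ψ)
      faith := by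
        rw [eq_bot_iff]
        rintro x ⟨⟨g, hg, rfl⟩, hx⟩
        rw [mem_bot]
        apply hψ1
        refine Subgroup.mem_inf.mpr ⟨hg, ?_⟩
        rw [mem_centralizer_iff]
        intro v hv
        have h1 := (mem_centralizer_iff.mp hx) (inl ⟨v, hv⟩) ⟨_, rfl⟩
        have h2 : ψ g * inl (⟨v, hv⟩ : V) * (ψ g)⁻¹ = inl ⟨v, hv⟩ := by
          rw [← h1, mul_assoc, mul_inv_cancel, mul_one]
        rw [hconj] at h2
        have h3 := congrArg Subtype.val (inl_injective h2)
        simp only at h3
        calc v * g = (g * v * g⁻¹) * g := by rw [h3]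
          _ = g * v := by group
      irr := by
        intro U' hU'V hKU hAU
        set U : Subgroup X := (U'.comap inl).map V.subtype with hU
        have hmemU : ∀ (x : X) (hx : x ∈ V), x ∈ U ↔ (inl (⟨x, hx⟩ : V) : Transport.TX G V) ∈ U' := by
          intro x hx
          constructor
          · rintro ⟨v, hv, rfl⟩
            exact hv
          · intro h
            exact ⟨⟨x, hx⟩, h, rfl⟩
        have hUV : U ≤ V := by
          rintro _ ⟨v, -, rfl⟩
          exact v.2
        have hstep : ∀ x : X, ψ x ∈ normalizer (U' : Set _) → ∀ u ∈ U, x * u * x⁻¹ ∈ U := by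
          intro x hx u hu
          have huV : u ∈ V := hUV hu
          rw [hmemU _ (hV.conj_mem u huV x), ← hconj x ⟨u, huV⟩]
          exact (mem_normalizer_iff.mp hx _).mp ((hmemU u huV).mp hu)
        have hUn : U.Normal := by
          rw [← normalizer_eq_top_iff, eq_top_iff, ← hGA]
          apply sup_le
          · apply le_normalizer_of_conj_mem
            intro g hg u hu
            exact hstep g (hKU ⟨g, hg, rfl⟩) u hu
          · apply le_normalizer_of_conj_mem
            intro a ha u hu
            exact hstep a (hAU ⟨a, ha, rfl⟩) u hu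
        have hU'eq : U' = (U'.comap inl).map inl := by
          rw [Subgroup.map_comap_eq_self hU'V]
        rcases hVmin U hUn hUV with h | h
        · left
          have h1 : U'.comap (inl : V →* Transport.TX G V) = ⊥ := by
            rw [hU] at h
            exact (Subgroup.map_eq_bot_iff_of_injective _ V.subtype_injective).mp h
          rw [hU'eq, h1, Subgroup.map_bot]
        · right
          have h1 : U'.comap (inl : V →* Transport.TX G V) = ⊤ := by
            rw [eq_top_iff]
            intro v _
            have : (v : X) ∈ U := by rw [h]; exact v.2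
            exact (hmemU v v.2).mp this
          rw [hU'eq, h1, ← MonoidHom.range_eq_map]
      fpf := by
        rw [eq_bot_iff]
        rintro x ⟨hxVK, hxA⟩
        rw [mem_bot]
        have hx' : x ∈ ((V' ⊔ K' : Subgroup (Transport.TX G V)) : Set (Transport.TX G V)) := hxVK
        rw [Subgroup.normal_mul] at hx'
        obtain ⟨_, ⟨v, rfl⟩, _, ⟨g, hg, rfl⟩, rfl⟩ := Set.mem_mul.mp hx'
        -- conjugation by `ψ a`
        have hkey : ∀ a ∈ A, a * (v : X) * a⁻¹ = v ∧ a * g * a⁻¹ * g⁻¹ ∈ Transport.ker G V := by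
          intro a ha
          have h1 := (mem_centralizer_iff.mp hxA) (ψ a) ⟨a, ha, rfl⟩
          have h2 : ψ a * (inl v * ψ g) * (ψ a)⁻¹ = inl v * ψ g := by
            rw [h1, mul_assoc, mul_inv_cancel, mul_one]
          have h3 : ψ a * (inl v * ψ g) * (ψ a)⁻¹ =
              inl ⟨a * v * a⁻¹, hV.conj_mem v v.2 a⟩ * ψ (a * g * a⁻¹) := by
            rw [← hconj, map_mul, map_mul, map_inv]; group
          rw [h3] at h2
          have h4 := congrArg SemidirectProduct.left h2
          have h5 := congrArg SemidirectProduct.right h2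
          simp only [hψ, Transport.psi, MonoidHom.comp_apply, mul_left, left_inl, right_inl,
            map_one, left_inr, mul_one, mul_right, right_inr, one_mul] at h4 h5
          refine ⟨congrArg Subtype.val h4, ?_⟩
          have h6 : QuotientGroup.mk' (Transport.ker G V) (a * g * a⁻¹ * g⁻¹) = 1 := by
            rw [map_mul, h5, ← map_mul, mul_inv_cancel, map_one]
          rwa [QuotientGroup.mk'_apply, QuotientGroup.eq_one_iff] at h6
        have hv1 : v = 1 := by
          have : (v : X) ∈ G ⊓ centralizer (A : Set X) := by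
            refine Subgroup.mem_inf.mpr ⟨hVG v.2, ?_⟩
            rw [mem_centralizer_iff]
            intro a ha
            have := (hkey a ha).1
            calc a * (v : X) = (a * v * a⁻¹) * a := by group
              _ = v * a := by rw [this]
          rw [hfpf, mem_bot] at this
          exact Subtype.ext this
        have hg1 : ψ g = 1 := hψ1 g (hfix g hg (fun a ha => (hkey a ha).2))
        rw [hv1, hg1, map_one, one_mul] }
  -- apply Theorem W
  have hNK : N₁.map ψ ≤ K' := Subgroup.map_mono hN₁G
  have hconjmap : ∀ {B H : Subgroup X}, H.Normal →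
      B.map ψ ≤ normalizer ((H.map ψ : Subgroup (Transport.TX G V)) : Set (Transport.TX G V)) := by
    intro B H hH
    apply le_normalizer_of_conj_mem
    rintro _ ⟨b, hb, rfl⟩ _ ⟨h, hh, rfl⟩
    exact ⟨b * h * b⁻¹, hH.conj_mem h hh b, by simp⟩
  have hNnil : Group.IsNilpotent (N₁.map ψ) := by
    obtain ⟨k, hk⟩ := hN₁nil
    apply isNilpotent_of_lowerCentralSeries_eq_bot (n := k)
    rw [← map_lowerCentralSeries, eq_bot_iff]
    calc (N₁.lowerCentralSeries k).map ψ ≤ V.map ψ := Subgroup.map_mono hk
      _ ≤ ⊥ := by rw [le_bot_iff, Subgroup.map_eq_bot_iff, hker]; exact hVker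
  have hKN : ∃ k, K'.lowerCentralSeries k ≤ N₁.map ψ := by
    obtain ⟨k, hk⟩ := hGN₁
    exact ⟨k, by rw [hK', ← map_lowerCentralSeries]; exact Subgroup.map_mono hk⟩
  have hKnil := S.theoremW hNK (hconjmap hN₁) (hconjmap hN₁) hNnil hKN
  obtain ⟨k, hk⟩ := (isNilpotent_iff_lowerCentralSeries K').mp hKnil
  refine ⟨k, ?_⟩
  rw [hK', ← map_lowerCentralSeries, Subgroup.map_eq_bot_iff, hker] at hk
  exact hk.trans inf_le_right

end

end Cfsg.Agent.Helper9.Ward
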