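import Mathlib
import Cfsg.Agent.Helper9.WardG
import Cfsg.Agent.Helper1.MinNormal

set_option autoImplicit false
set_option linter.style.haveILetI false
open Pointwise

/-! # Ward's theorem, part H: the main induction. -/

namespace Cfsg.Agent.Helper9.Ward

open Subgroup
open scoped commutatorElement IsMulCommutative
open Cfsg.Agent.Lead

universe u

theorem main_aux (n : ℕ) : ∀ {X : Type u} [Group X] [Finite X] (p : ℕ) (G A : Subgroup X)
    [G.Normal], Nat.card X = n → ElemSq p A → G ⊔ A = ⊤ → (Nat.card G).Coprime p →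
    Group.IsSolvable G → G ⊓ centralizer (A : Set X) = ⊥ →
    ∃ N : Subgroup X, N ≤ G ∧ N.Normal ∧ (∃ k, N.lowerCentralSeries k = ⊥) ∧
      ∃ k, G.lowerCentralSeries k ≤ N := by
  induction n using Nat.strong_induction_on with
  | _ n ih =>
    intro X _ _ p G A hG hn hA hGA hcop hsolvG hfpf
    haveI := hA.comm
    by_cases hG1 : G = ⊥
    · exact ⟨⊥, bot_le, inferInstance, ⟨0, rfl⟩, ⟨0, by rw [hG1]; exact le_rfl⟩⟩
    -- a minimal normal subgroup
    obtain ⟨V, hVG, hVmin'⟩ := Finite.exists_le_minimal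
      (p := fun V : Subgroup X => V ≠ ⊥ ∧ V.Normal) (a := G) ⟨hG1, hG⟩
    have hVne : V ≠ ⊥ := hVmin'.prop.1
    haveI hVn : V.Normal := hVmin'.prop.2
    have hVmin : ∀ U : Subgroup X, U.Normal → U ≤ V → U = ⊥ ∨ U = V := by
      intro U hU hUV
      by_cases h : U = ⊥
      · exact Or.inl h
      · exact Or.inr (le_antisymm hUV (hVmin'.le_of_le ⟨h, hU⟩ hUV))
    have hVsolv : Group.IsSolvable V :=
      Group.isSolvable_of_isSolvable_injective (f := Subgroup.inclusion hVG)
        (Subgroup.inclusion_injective hVG)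
    obtain ⟨hVcomm, t, ht, hVexp⟩ :=
      Cfsg.Agent.Helper1.minNormal_elementary V hVne hVsolv hVmin
    haveI : Fact t.Prime := ⟨ht⟩
    have hcopA : (Nat.card A).Coprime (Nat.card G) := by
      rw [hA.card]; exact (hcop.pow_right 2).symm
    have hsolv : Group.IsSolvable A ∨ Group.IsSolvable G :=
      Or.inl (isSolvable_of_isMulCommutative A)
    have hnorm : ∀ {H B : Subgroup X}, H.Normal → B ≤ normalizer (H : Set X) := fun hH => by
      rw [normalizer_eq_top_iff.mpr hH]; exact le_top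
    have htp : t ≠ p := by
      intro h
      subst h
      obtain ⟨m, hm⟩ := (isPGroup_of_exp V hVexp).exists_card_eq
      have hm0 : m ≠ 0 := by
        intro h0
        rw [h0, pow_zero] at hm
        exact hVne (Subgroup.card_eq_one.mp hm)
      have h1 : t ∣ Nat.card G :=
        (dvd_pow_self t hm0).trans (hm ▸ Subgroup.card_dvd_of_le hVG)
      have h2 : t ∣ 1 := by
        have := Nat.dvd_gcd h1 (dvd_refl t)
        rwa [hcop] at this
      exact ht.one_lt.ne' (Nat.dvd_one.mp h2)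
    -- the quotient
    set π := QuotientGroup.mk' V with hπdef
    have hπ : Function.Surjective π := QuotientGroup.mk'_surjective V
    have hkerπ : π.ker = V := QuotientGroup.ker_mk' V
    have hlt : Nat.card (X ⧸ V) < n := hn ▸ Cfsg.Agent.Lead.Fpf.card_quotient_lt hVne
    haveI hGn' : (G.map π).Normal := hG.map π hπ
    have hAG : A ⊓ G = ⊥ := (Subgroup.disjoint_of_coprime_natCard hcopA).eq_bot
    have hA' : ElemSq p (A.map π) :=
      { hp := hA.hp
        comm := ⟨⟨fun a b => Subtype.ext (by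
          obtain ⟨a₀, ha₀, ha⟩ := a.2
          obtain ⟨b₀, hb₀, hb⟩ := b.2
          rw [Subgroup.coe_mul, Subgroup.coe_mul, ← ha, ← hb, ← map_mul, ← map_mul,
            comm_of_mem A ha₀ hb₀])⟩⟩
        exp := by
          rintro _ ⟨a, ha, rfl⟩
          rw [← map_pow, hA.exp a ha, map_one]
        card := by
          rw [card_map_of_inf_ker π A, hA.card]
          rw [eq_bot_iff, ← hAG, hkerπ]
          exact inf_le_inf_left A hVG }
    have hGA' : G.map π ⊔ A.map π = ⊤ := by
      rw [← Subgroup.map_sup, hGA, Subgroup.map_top_of_surjective π hπ]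
    have hcop' : (Nat.card (G.map π)).Coprime p :=
      hcop.coprime_dvd_left (Subgroup.card_map_dvd G π)
    have hsolv' : Group.IsSolvable (G.map π) :=
      Group.isSolvable_of_surjective (f := π.subgroupMap G) (π.subgroupMap_surjective G)
    have hfpf' : G.map π ⊓ centralizer ((A.map π : Subgroup (X ⧸ V)) : Set (X ⧸ V)) = ⊥ := by
      rw [eq_bot_iff]
      rintro x ⟨⟨g, hg, rfl⟩, hx⟩
      rw [mem_bot]
      have h : ∀ a ∈ A, a * g * a⁻¹ * g⁻¹ ∈ V := by
        intro a ha
        have h1 := (mem_centralizer_iff.mp hx) (π a) ⟨a, ha, rfl⟩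
        rw [← hkerπ, MonoidHom.mem_ker, map_mul, map_mul, map_mul, h1, map_inv, map_inv]
        group
      obtain ⟨c, hc, hgc⟩ := coprime_fixed_points_quotient A G (hnorm hG) hcopA hsolv
        V hVG (hnorm hVn) (hnorm hVn) g hg h
      rw [hfpf, mem_bot] at hc
      rw [hc, mul_one] at hgc
      have hgV : g ∈ V := by
        have := V.inv_mem hgc
        rwa [inv_inv] at this
      rw [← hkerπ] at hgV
      exact MonoidHom.mem_ker.mp hgV
    obtain ⟨N₁', hN₁'G, hN₁'n, ⟨k₁, hk₁⟩, ⟨k₂, hk₂⟩⟩ :=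
      ih _ hlt p (G.map π) (A.map π) rfl hA' hGA' hcop' hsolv' hfpf'
    -- pull back
    set N₁ := N₁'.comap π with hN₁
    haveI hN₁n : N₁.Normal := hN₁'n.comap π
    have hN₁G : N₁ ≤ G := by
      intro x hx
      have h1 : π x ∈ G.map π := hN₁'G hx
      have h2 : x ∈ (G.map π).comap π := h1
      rw [Subgroup.comap_map_eq, hkerπ, sup_eq_left.mpr hVG] at h2
      exact h2
    have hN₁V : ∃ k, N₁.lowerCentralSeries k ≤ V := by
      refine ⟨k₁, ?_⟩
      rw [← hkerπ, ← Subgroup.map_eq_bot_iff, map_lowerCentralSeries, eq_bot_iff, ← hk₁]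
      exact lowerCentralSeries_mono k₁ (Subgroup.map_comap_le π N₁')
    have hGN₁ : ∃ k, G.lowerCentralSeries k ≤ N₁ := by
      refine ⟨k₂, ?_⟩
      rw [hN₁, ← Subgroup.map_le_iff_le_comap, map_lowerCentralSeries]
      exact hk₂
    obtain ⟨k₃, hk₃⟩ := transport hA hGA hcop hfpf hVG hVne hVcomm ht htp hVexp hVmin hN₁G
      hN₁V hGN₁
    obtain ⟨k₄, hk₄⟩ := hN₁V
    obtain ⟨k₅, hk₅⟩ := hGN₁
    refine ⟨N₁ ⊓ centralizer (V : Set X), inf_le_left.trans hN₁G, inferInstance, ⟨k₄ + 1, ?_⟩,
      ⟨max k₅ k₃, ?_⟩⟩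
    · rw [Subgroup.lowerCentralSeries_succ, eq_bot_iff]
      calc ⁅(N₁ ⊓ centralizer (V : Set X)).lowerCentralSeries k₄, N₁ ⊓ centralizer (V : Set X)⁆
          ≤ ⁅V, centralizer (V : Set X)⁆ :=
            commutator_mono ((lowerCentralSeries_mono k₄ inf_le_left).trans hk₄) inf_le_right
        _ ≤ ⊥ := by
            rw [le_bot_iff, commutator_comm, commutator_eq_bot_iff_le_centralizer]
    · exact le_inf ((G.lowerCentralSeries_antitone (le_max_left k₅ k₃)).trans hk₅)
        ((G.lowerCentralSeries_antitone (le_max_right k₅ k₃)).trans hk₃)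

end Cfsg.Agent.Helper9.Ward
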